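import Cfsg.Prelude.Def_OddOrderLocal
import Cfsg.Agent.Lib.PGroups.ElemAb
import Mathlib.GroupTheory.NoncommCoprod

/-!
# Ranks of subgroups in terms of elementary abelian subgroups of the ambient group
-/

set_option autoImplicit false

namespace Cfsg.Agent.Lib.OddOrder.Rank

open Cfsg.Agent.Lib.PGroups

universe u

variable {G : Type u} [Group G] {p k : ℕ}

theorem prankLE_subgroup_iff {H : Subgroup G} :
    Cfsg.PRankLE p k H ↔ ∀ E : Subgroup G, E ≤ H → Cfsg.IsElementaryAbelian p E →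
      Nat.card E ≤ p ^ k := by
  constructor
  · intro h E hE he
    have he' := elemAb_subgroupOf he H
    rw [← Nat.card_congr (Subgroup.subgroupOfEquivOfLe hE).toEquiv]
    exact h _ he'.1 he'.2
  · intro h A hA1 hA2
    rw [← Subgroup.card_map_of_injective H.subtype_injective]
    exact h _ (Subgroup.map_subtype_le _) (elemAb_map H.subtype ⟨hA1, hA2⟩)

theorem exists_elemAb_of_not_prankLE {H : Subgroup G} (h : ¬ Cfsg.PRankLE p k H) :
    ∃ E : Subgroup G, E ≤ H ∧ Cfsg.IsElementaryAbelian p E ∧ p ^ k < Nat.card E := by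
  rw [prankLE_subgroup_iff] at h
  push Not at h
  exact h

theorem not_prankLE_of_elemAb {H E : Subgroup G} (hE : E ≤ H)
    (he : Cfsg.IsElementaryAbelian p E) (hc : p ^ k < Nat.card E) : ¬ Cfsg.PRankLE p k H :=
  fun h => absurd (prankLE_subgroup_iff.1 h E hE he) (not_le.2 hc)

theorem exists_of_not_rankLE {H : Subgroup G} (h : ¬ Cfsg.RankLE k H) :
    ∃ p : ℕ, p.Prime ∧ ∃ E : Subgroup G, E ≤ H ∧ Cfsg.IsElementaryAbelian p E ∧
      p ^ k < Nat.card E := by
  simp only [Cfsg.RankLE, not_forall] at h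
  obtain ⟨p, hp, h⟩ := h
  exact ⟨p, hp, exists_elemAb_of_not_prankLE h⟩

theorem prankLE_mono {H K : Subgroup G} (hHK : H ≤ K) (h : Cfsg.PRankLE p k K) :
    Cfsg.PRankLE p k H :=
  prankLE_subgroup_iff.2 fun E hE he => prankLE_subgroup_iff.1 h E (hE.trans hHK) he

theorem rankLE_mono {H K : Subgroup G} (hHK : H ≤ K) (h : Cfsg.RankLE k K) : Cfsg.RankLE k H :=
  fun p hp => prankLE_mono hHK (h p hp)

theorem prankLE_mono_right {k' : ℕ} (hp : 0 < p) (hk : k ≤ k') {H : Type u} [Group H]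
    (h : Cfsg.PRankLE p k H) : Cfsg.PRankLE p k' H :=
  fun A h1 h2 => (h A h1 h2).trans (Nat.pow_le_pow_right hp hk)

theorem elemAb_prime_dvd [Finite G] [Fact p.Prime] {E : Subgroup G}
    (he : Cfsg.IsElementaryAbelian p E) (hc : 1 < Nat.card E) : p ∣ Nat.card E := by
  obtain ⟨n, hn⟩ := elemAb_card_eq_pow he
  rw [hn] at hc ⊢
  exact dvd_pow_self p (by rintro rfl; simp at hc)

theorem elemAb_not_isCyclic [Finite G] [hp : Fact p.Prime] {E : Subgroup G}
    (he : Cfsg.IsElementaryAbelian p E) (hc : p < Nat.card E) : ¬ IsCyclic E := by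
  intro h
  haveI := h
  exact absurd (Nat.le_of_dvd hp.out.pos (elemAb_card_dvd_of_isCyclic he)) (not_le.2 hc)

/-- The join of two elementwise commuting subgroups has order at most the product. -/
theorem card_sup_le_of_commute [Finite G] {A B : Subgroup G}
    (h : ∀ a ∈ A, ∀ b ∈ B, a * b = b * a) :
    Nat.card ↥(A ⊔ B) ≤ Nat.card A * Nat.card B := by
  let f := MonoidHom.noncommCoprod A.subtype B.subtype fun a b => h a a.2 b b.2
  have hr : A ⊔ B ≤ f.range :=
    sup_le (fun a ha => ⟨(⟨a, ha⟩, 1), by show a * 1 = a; rw [mul_one]⟩)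
      (fun b hb => ⟨(1, ⟨b, hb⟩), by show 1 * b = b; rw [one_mul]⟩)
  rw [← Nat.card_prod]
  exact (Subgroup.card_le_of_le hr).trans (Finite.card_range_le f)

/-- A hyperplane (cyclic quotient) of an elementary abelian group has index at most `p`. -/
theorem card_le_of_sup_zpowers [Finite G] [hp : Fact p.Prime] {E B : Subgroup G} {a : G}
    (he : Cfsg.IsElementaryAbelian p E) (hB : B ≤ E) (ha : a ∈ E)
    (h : B ⊔ Subgroup.zpowers a = E) : Nat.card E ≤ Nat.card B * p := by
  rw [← h]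
  refine (card_sup_le_of_commute fun x hx y hy =>
    elemAb_comm he (hB hx) (Subgroup.zpowers_le.2 ha hy)).trans (Nat.mul_le_mul_left _ ?_)
  rw [Nat.card_zpowers]
  exact Nat.le_of_dvd hp.out.pos (orderOf_dvd_of_pow_eq_one (elemAb_pow he ha))

end Cfsg.Agent.Lib.OddOrder.Rank
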