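import Cfsg.Agent.S0100
import Cfsg.Agent.Lib.PGroups.UniqueInvolution
import Cfsg.Agent.Lib.OddOrder.Rank
import Cfsg.Prelude.Def_OddOrderLocal

/-!
# Self-centralizing normal subgroups of rank three
-/

set_option autoImplicit false
set_option linter.style.haveILetI false

open scoped Pointwise

namespace Cfsg.Agent.Lib.OddOrder.SCN

universe u

variable {R : Type u} [Group R] [Finite R] {p : ℕ} [hp : Fact p.Prime]

theorem elemAb_sup {A B : Subgroup R} (hA : Cfsg.IsElementaryAbelian p A)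
    (hB : Cfsg.IsElementaryAbelian p B) (hc : A ≤ Subgroup.centralizer (B : Set R)) :
    Cfsg.IsElementaryAbelian p (A ⊔ B : Subgroup R) := by
  have hAA : A ≤ Subgroup.centralizer (A : Set R) :=
    Subgroup.le_centralizer_iff_isMulCommutative.mpr hA.1
  have hBB : B ≤ Subgroup.centralizer (B : Set R) :=
    Subgroup.le_centralizer_iff_isMulCommutative.mpr hB.1
  have h1 : A ⊔ B ≤ Subgroup.centralizer (B : Set R) := sup_le hc hBB
  have h2 : A ⊔ B ≤ Subgroup.centralizer (A : Set R) :=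
    sup_le hAA (Subgroup.le_centralizer_iff.1 hc)
  refine ⟨Subgroup.le_centralizer_iff_isMulCommutative.mp ?_, fun x hx => ?_⟩
  · rw [Subgroup.le_centralizer_iff]
    exact sup_le (Subgroup.le_centralizer_iff.1 h2) (Subgroup.le_centralizer_iff.1 h1)
  · have hn : A ≤ Subgroup.normalizer (B : Set R) :=
      hc.trans (Subgroup.centralizer_le_normalizer _)
    obtain ⟨a, ha, b, hb, rfl⟩ : ∃ a ∈ A, ∃ b ∈ B, a * b = x := by
      have hset : (↑(A ⊔ B) : Set R) = (A : Set R) * (B : Set R) :=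
        Subgroup.coe_mul_of_left_le_normalizer_right A B hn
      have hx' : x ∈ (A : Set R) * (B : Set R) := hset ▸ hx
      obtain ⟨a, ha, b, hb, e⟩ := Set.mem_mul.1 hx'
      exact ⟨a, ha, b, hb, e⟩
    have hab : Commute a b := (Subgroup.mem_centralizer_iff.1 (hc ha) b hb).symm
    rw [hab.mul_pow, hA.2 a ha, hB.2 b hb, one_mul]

/-- A normal elementary abelian subgroup of order `p²` lies in a normal one of order at least
`p³` once the rank is at least three. -/
theorem exists_elemAb_ge (hp2 : p ≠ 2) (hR : IsPGroup p R) (hr : ¬ Cfsg.PRankLE p 2 R)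
    (E : Subgroup R) [E.Normal] (hE : Cfsg.IsElementaryAbelian p E) (hE2 : Nat.card E = p ^ 2) :
    ∃ M : Subgroup R, M.Normal ∧ Cfsg.IsElementaryAbelian p M ∧ E ≤ M ∧ p ^ 2 < Nat.card M := by
  obtain ⟨M, hMn, hMc, hMe, hM3⟩ : ∃ M : Subgroup R, M.Normal ∧ IsMulCommutative M ∧
      (∀ a ∈ M, a ^ p = 1) ∧ Nat.card M = p ^ 3 := by
    by_contra h
    push Not at h
    exact hr fun A hA hAe => Cfsg.Agent.S0100.result hp2 hR h A hA hAe
  haveI := hMn
  set C := Subgroup.centralizer (E : Set R) with hC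
  have hidx : C.index ≤ p := by
    refine (PGroups.index_centralizer_le hR 2 E inferInstance hE2).trans ?_
    simp
  have hM0 : p ^ 2 ≤ Nat.card (M ⊓ C : Subgroup R) := by
    have h1 : C.relIndex M ≤ p := (Nat.le_of_dvd
      (Nat.pos_of_ne_zero Subgroup.index_ne_zero_of_finite)
      (Subgroup.relIndex_dvd_index_of_normal C M)).trans hidx
    have h2 := Subgroup.card_mul_index ((M ⊓ C).subgroupOf M)
    rw [Nat.card_congr (Subgroup.subgroupOfEquivOfLe (inf_le_left : M ⊓ C ≤ M)).toEquiv,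
      show ((M ⊓ C).subgroupOf M).index = C.relIndex M from Subgroup.inf_relIndex_left M C] at h2
    refine Nat.le_of_mul_le_mul_right (?_ : p ^ 2 * p ≤ Nat.card (M ⊓ C : Subgroup R) * p) hp.out.pos
    rw [← pow_succ, ← hM3, ← h2]
    exact Nat.mul_le_mul_left _ h1
  have hM0e : Cfsg.IsElementaryAbelian p (M ⊓ C : Subgroup R) :=
    ⟨⟨⟨fun a b => Subtype.ext
      (congrArg Subtype.val (hMc.is_comm.comm ⟨a, a.2.1⟩ ⟨b, b.2.1⟩) :)⟩⟩, fun x hx => hMe x hx.1⟩
  have hN := elemAb_sup hM0e hE inf_le_right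
  by_cases hEM : M ⊓ C ≤ E
  · -- then `E = M ∩ C ≤ M`, so `M` centralizes `E`
    have he : M ⊓ C = E := Subgroup.eq_of_le_of_card_ge hEM (hE2 ▸ hM0)
    refine ⟨M, hMn, ⟨hMc, hMe⟩, he ▸ inf_le_left, ?_⟩
    rw [hM3]
    exact Nat.pow_lt_pow_right hp.out.one_lt (by norm_num)
  · refine ⟨(M ⊓ C) ⊔ E, inferInstance, hN, le_sup_right, ?_⟩
    have hlt : E < (M ⊓ C) ⊔ E := lt_of_le_of_ne le_sup_right fun h =>
      hEM (h.ge.trans' le_sup_left)
    rw [← hE2]
    by_contra hle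
    exact hlt.ne (Subgroup.eq_of_le_of_card_ge hlt.le (not_lt.1 hle))

/-- An abelian normal subgroup lies in a self-centralizing one. -/
theorem exists_scn_ge (hR : IsPGroup p R) (M : Subgroup R) [M.Normal] (hM : IsMulCommutative M) :
    ∃ A : Subgroup R, M ≤ A ∧ A.Normal ∧ Subgroup.centralizer (A : Set R) = A := by
  obtain ⟨A, hMA, hAn, hAc, hmax⟩ := PGroups.exists_maximal_normal_abelian M hM
  haveI := hAn
  exact ⟨A, hMA, hAn, PGroups.centralizer_eq_self_of_maximal hR hAc hmax⟩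

/-- S1452. -/
theorem exists_scn_rank_three (hp2 : p ≠ 2) (hR : IsPGroup p R) (hr : ¬ Cfsg.PRankLE p 2 R)
    (E : Subgroup R) [E.Normal] (hE : Cfsg.IsElementaryAbelian p E) (hE2 : Nat.card E = p ^ 2) :
    ∃ A : Subgroup R, E ≤ A ∧ A.Normal ∧ Subgroup.centralizer (A : Set R) = A ∧
      ¬ Cfsg.PRankLE p 2 A := by
  obtain ⟨M, hMn, hMe, hEM, hMc⟩ := exists_elemAb_ge hp2 hR hr E hE hE2
  haveI := hMn
  obtain ⟨A, hMA, hAn, hAA⟩ := exists_scn_ge hR M hMe.1
  exact ⟨A, hEM.trans hMA, hAn, hAA, Rank.not_prankLE_of_elemAb hMA hMe hMc⟩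

section Ambient

variable {G : Type u} [Group G] [Finite G]

/-- From a self-centralizing normal subgroup of the group `P` to `IsSCN`. -/
theorem isSCN_map {P : Subgroup G} {A : Subgroup P} [A.Normal]
    (hA : Subgroup.centralizer (A : Set P) = A) : Cfsg.IsSCN P (A.map P.subtype) := by
  refine ⟨Subgroup.map_subtype_le _, fun g hg => ?_, le_antisymm ?_ ?_⟩
  · rw [Subgroup.mem_normalizer_iff]
    intro x
    constructor
    · rintro ⟨a, ha, rfl⟩
      exact ⟨_, Subgroup.Normal.conj_mem ‹_› a ha ⟨g, hg⟩, rfl⟩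
    · rintro ⟨a, ha, e⟩
      refine ⟨_, Subgroup.Normal.conj_mem' ‹_› a ha ⟨g, hg⟩, ?_⟩
      show g⁻¹ * (a : G) * g = x
      rw [show (a : G) = g * x * g⁻¹ from e]
      group
  · rintro x ⟨hxP, hxc⟩
    refine ⟨⟨x, hxP⟩, hA.le ?_, rfl⟩
    rw [Subgroup.mem_centralizer_iff]
    exact fun a ha => Subtype.ext (Subgroup.mem_centralizer_iff.1 hxc (a : G) ⟨a, ha, rfl⟩)
  · rintro _ ⟨a, ha, rfl⟩
    refine ⟨a.2, Subgroup.mem_centralizer_iff.2 ?_⟩
    rintro _ ⟨b, hb, rfl⟩
    exact congrArg Subtype.val (Subgroup.mem_centralizer_iff.1 (hA.ge ha) b hb)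

theorem prankLE_map_iff {k : ℕ} {P : Subgroup G} (A : Subgroup P) :
    Cfsg.PRankLE p k ↥(A.map P.subtype) ↔ Cfsg.PRankLE p k ↥A := by
  rw [Rank.prankLE_subgroup_iff, Rank.prankLE_subgroup_iff]
  constructor
  · intro h E hE he
    have := h (E.map P.subtype) (Subgroup.map_mono hE) (PGroups.elemAb_map P.subtype he)
    rwa [Subgroup.card_map_of_injective P.subtype_injective] at this
  · intro h E hE he
    have hEP : E ≤ P := hE.trans (Subgroup.map_subtype_le A)
    have he' : Cfsg.IsElementaryAbelian p (E.subgroupOf P) :=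
      ⟨⟨⟨fun a b => Subtype.ext (Subtype.ext (congrArg Subtype.val
        (he.1.is_comm.comm ⟨_, a.2⟩ ⟨_, b.2⟩) :))⟩⟩,
        fun a ha => Subtype.ext (he.2 _ ha)⟩
    have := h (E.subgroupOf P) (fun x hx => by
      obtain ⟨a, ha, e⟩ := hE hx
      rwa [← P.subtype_injective e]) he'
    rwa [Nat.card_congr (Subgroup.subgroupOfEquivOfLe hEP).toEquiv] at this

/-- A Sylow subgroup of rank at least three has a member of `SCN₃`. -/
theorem exists_scn3 (hp2 : p ≠ 2) {P : Subgroup G} (hP : IsPGroup p P)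
    (hr : ¬ Cfsg.PRankLE p 2 P) :
    ∃ A : Subgroup G, Cfsg.IsSCN P A ∧ ¬ Cfsg.PRankLE p 2 A := by
  have hnc : ¬ IsCyclic P := by
    intro hc
    refine hr fun A hA hAe => ?_
    haveI : IsCyclic A := inferInstance
    obtain ⟨g, hg⟩ := IsCyclic.exists_generator (α := A)
    rw [← orderOf_eq_card_of_forall_mem_zpowers hg]
    exact (Nat.le_of_dvd hp.out.pos (orderOf_dvd_of_pow_eq_one (Subtype.ext (hAe g g.2)))).trans
      (Nat.le_self_pow two_ne_zero p)
  obtain ⟨E, hEn, hE, hE2⟩ := PGroups.exists_normal_elemAb_sq hp2 hP hnc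
  haveI := hEn
  obtain ⟨A, -, hAn, hA, hA3⟩ := exists_scn_rank_three hp2 hP hr E hE hE2
  haveI := hAn
  exact ⟨_, isSCN_map hA, fun h => hA3 ((prankLE_map_iff A).1 h)⟩

/-- Some self-centralizing normal subgroup exists in any `p`-group. -/
theorem exists_scn {P : Subgroup G} (hP : IsPGroup p P) :
    ∃ A : Subgroup G, Cfsg.IsSCN P A := by
  obtain ⟨A, -, hAn, hA⟩ := exists_scn_ge hP (⊥ : Subgroup P)
    (Subgroup.le_centralizer_iff_isMulCommutative.mp (by simp))
  haveI := hAn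
  exact ⟨_, isSCN_map hA⟩

end Ambient

end Cfsg.Agent.Lib.OddOrder.SCN
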