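import Cfsg.Agent.Lib.OddOrder.UniqueScnMain
import Cfsg.Agent.Lib.OddOrder.SCN

/-!
# BG 9.6: the Uniqueness Theorem
-/

set_option autoImplicit false
set_option linter.style.haveILetI false
set_option linter.unusedSectionVars false

namespace Cfsg.Agent.Lib.OddOrder.UniquenessTheorem

open Cfsg.Agent.Lib.OddOrder.MinSimple

universe u

variable {G : Type u} [Group G] [Finite G]

/-- An abelian `p`-subgroup of rank at least three lies in exactly one maximal subgroup. -/
theorem of_abelian (hG : Cfsg.IsMinSimpleOddOrder G) {p : ℕ} [hp : Fact p.Prime] {A : Subgroup G}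
    (hAp : IsPGroup p A) (hAc : IsMulCommutative A) (hA3 : ¬ Cfsg.PRankLE p 2 A) :
    Cfsg.InUniqueMaximal A := by
  obtain ⟨P, hP⟩ := hAp.exists_le_sylow
  have hP3 : ¬ Cfsg.PRankLE p 2 (P : Subgroup G) := fun h => hA3 (Rank.prankLE_mono hP h)
  obtain ⟨A₀, hA₀, h03⟩ := SCN.exists_scn3 (UniqueFittingRank.ne_two_of_rank hG hA3) P.2 hP3
  exact UniqueRank.of_abelian_rank_three hG (P.2.to_le hA₀.1)
    (Uniqueness.isMulCommutative_of_scn hA₀) h03 (UniqueScnMain.inUniqueMaximal hG P hA₀ h03) hAp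
    (UniqueFittingRank.not_isCyclic_of_rank hA3)
    fun h => hA3 (Rank.prankLE_mono (Subgroup.le_centralizer_iff_isMulCommutative.2 hAc) h)

/-- A proper subgroup of rank at least three lies in exactly one maximal subgroup. -/
theorem of_rank (hG : Cfsg.IsMinSimpleOddOrder G) {K : Subgroup G} (hK : K ≠ ⊤)
    (hr : ¬ Cfsg.RankLE 2 K) : Cfsg.InUniqueMaximal K := by
  obtain ⟨p, hp, E, hEK, hE, hEc⟩ := Rank.exists_of_not_rankLE hr
  haveI := Fact.mk hp
  exact UniqueRank.mono hG (of_abelian hG (fun x => ⟨1, Subtype.ext (by simpa using hE.2 x x.2)⟩)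
    hE.1 (Rank.not_prankLE_of_elemAb le_rfl hE hEc)) hEK hK

/-- A subgroup of rank two whose centralizer has rank three lies in exactly one maximal
subgroup. -/
theorem of_centralizer_rank (hG : Cfsg.IsMinSimpleOddOrder G) {K : Subgroup G}
    (hK2 : ¬ Cfsg.RankLE 1 K) (hr : ¬ Cfsg.RankLE 2 (Subgroup.centralizer (K : Set G))) :
    Cfsg.InUniqueMaximal K := by
  obtain ⟨p, hp, E, hEC, hE, hEc⟩ := Rank.exists_of_not_rankLE hr
  haveI := Fact.mk hp
  exact UniqueRank.of_le_centralizer hG (of_abelian hG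
    (fun x => ⟨1, Subtype.ext (by simpa using hE.2 x x.2)⟩) hE.1
    (Rank.not_prankLE_of_elemAb le_rfl hE hEc)) (Subgroup.le_centralizer_iff.1 hEC) hK2

end Cfsg.Agent.Lib.OddOrder.UniquenessTheorem
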