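import Cfsg.Agent.Lib.OddOrder.Basic
import Mathlib.GroupTheory.NoncommCoprod
import Mathlib.GroupTheory.SpecificGroups.Cyclic

/-!
# Products of commuting subgroups, subgroups of cyclic groups
-/

set_option autoImplicit false

namespace Cfsg.Agent.Lib.OddOrder.Cyclic

universe u

variable {G : Type u} [Group G]

/-- Two subgroups commuting elementwise and meeting trivially are complements in their join. -/
theorem isComplIn_sup_of_commute {A B : Subgroup G} (h : ∀ a ∈ A, ∀ b ∈ B, a * b = b * a)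
    (hAB : A ⊓ B = ⊥) : Cfsg.IsComplIn A B (A ⊔ B) := by
  refine ⟨le_sup_left, le_sup_right, hAB, fun m hm => ?_⟩
  let f := MonoidHom.noncommCoprod A.subtype B.subtype fun a b => h a a.2 b b.2
  have hr : A ⊔ B ≤ f.range :=
    sup_le (fun a ha => ⟨(⟨a, ha⟩, 1), by show a * 1 = a; rw [mul_one]⟩) (fun b hb => ⟨(1, ⟨b, hb⟩), by show 1 * b = b; rw [one_mul]⟩)
  obtain ⟨⟨a, b⟩, rfl⟩ := hr hm
  exact ⟨a, a.2, b, b.2, rfl⟩

/-- A finite cyclic group has at most one subgroup of each order. -/
theorem eq_of_card_eq_of_isCyclic [Finite G] {W A B : Subgroup G} [IsCyclic W] (hA : A ≤ W)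
    (hB : B ≤ W) (h : Nat.card A = Nat.card B) : A = B := by
  have key : ∀ C : Subgroup G, C ≤ W → Nat.card C = Nat.card A →
      {x : W | (x : G) ∈ C} = {x : W | x ^ Nat.card A = 1} := by
    intro C hC hc
    refine Set.eq_of_subset_of_ncard_le ?_ ?_ (Set.toFinite _)
    · intro x hx
      apply Subtype.ext
      rw [SubmonoidClass.coe_pow, OneMemClass.coe_one, ← hc]
      exact congrArg Subtype.val (pow_card_eq_one' (x := (⟨x, hx⟩ : C)))
    · classical
      haveI := Fintype.ofFinite W
      have h1 : {x : W | (x : G) ∈ C}.ncard = Nat.card A := by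
        rw [← Nat.card_coe_set_eq, ← hc]
        exact Nat.card_congr (Subgroup.subgroupOfEquivOfLe hC).toEquiv
      rw [h1, ← Nat.card_coe_set_eq, Nat.card_eq_fintype_card, Fintype.card_subtype]
      exact IsCyclic.card_pow_eq_one_le Nat.card_pos
  have e := (key A hA rfl).trans (key B hB h.symm).symm
  ext x
  exact ⟨fun hx => (Set.ext_iff.1 e ⟨x, hA hx⟩).1 hx, fun hx => (Set.ext_iff.1 e ⟨x, hB hx⟩).2 hx⟩

end Cfsg.Agent.Lib.OddOrder.Cyclic
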