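import Cfsg.Agent.Lib.OddOrder.PLengthProper
import Cfsg.Agent.S1444

/-!
# BG 10.6: proper subgroups have `p`-length one
-/

set_option autoImplicit false

namespace Cfsg.Agent.Lib.OddOrder.PLengthOne

universe u

theorem criterion : PLengthProper.Criterion.{u} := by
  intro H _ _ _ hodd K R R₀ _ h1 h2 h3 h4 h5 p _
  exact Cfsg.Agent.S1444.result hodd K R R₀ h1 h2 h3 h4 h5 p

theorem of_ne_top {G : Type u} [Group G] [Finite G] (hG : Cfsg.IsMinSimpleOddOrder G) (p : ℕ)
    [Fact p.Prime] (H : Subgroup G) (hH : H ≠ ⊤) : Cfsg.PLengthLE p 1 H :=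
  PLengthProper.pLengthLE_one criterion hG hH

end Cfsg.Agent.Lib.OddOrder.PLengthOne
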