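import Cfsg.Agent.Lib.OddOrder.UniqueAux
import Cfsg.Agent.Lib.Coprime.Commutator
import Mathlib.GroupTheory.Transfer
import Mathlib.GroupTheory.SpecificGroups.ZGroup

/-!
# Cyclic Sylow subgroups and the derived subgroup
-/

set_option autoImplicit false
set_option linter.style.haveILetI false
set_option linter.unusedSectionVars false

open scoped commutatorElement

namespace Cfsg.Agent.Lib.OddOrder.CyclicSylow

universe u

variable {E : Type u} [Group E] [Finite E] {p : ℕ} [hp : Fact p.Prime]

/-- A cyclic Sylow subgroup for an odd prime dividing `|E'|` lies in `E'`. -/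
theorem le_commutator_of_dvd (hp2 : p ≠ 2) (P : Sylow p E) (hPc : IsCyclic P)
    (hd : p ∣ Nat.card (commutator E)) : (P : Subgroup E) ≤ commutator E := by
  haveI := hPc
  by_cases hNC : Subgroup.normalizer ((P : Subgroup E) : Set E) ≤
      Subgroup.centralizer ((P : Subgroup E) : Set E)
  · exfalso
    set K := (MonoidHom.transferSylow P hNC).ker with hK
    have hle : commutator E ≤ K := Subgroup.commutator_le.2 fun a _ b _ => by
      rw [hK, MonoidHom.mem_ker, map_commutatorElement]
      exact commutatorElement_eq_one_iff_mul_comm.2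
        (IsMulCommutative.is_comm.comm _ _)
    have h1 := (MonoidHom.ker_transferSylow_isComplement' P hNC).index_eq_card
    exact P.not_dvd_index ((hd.trans (Subgroup.card_dvd_of_le hle)).trans h1.symm.dvd)
  obtain ⟨n, hn, hnC⟩ := SetLike.not_le_iff_exists.1 hNC
  obtain ⟨a, b, ha, hb, hab, hcomm, ⟨k, hk⟩, hbc⟩ :=
    Transfer.PResidual.exists_pPart_mul_pPrimePart (p := p) n (isOfFinOrder_of_finite n)
  have han : a ∈ Subgroup.normalizer ((P : Subgroup E) : Set E) := Subgroup.zpowers_le.2 hn ha
  have hbn : b ∈ Subgroup.normalizer ((P : Subgroup E) : Set E) := Subgroup.zpowers_le.2 hn hb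
  have haP : a ∈ (P : Subgroup E) := by
    have haP' : IsPGroup p (Subgroup.zpowers a) := IsPGroup.of_card_dvd_pow (n := k)
      (by rw [Nat.card_zpowers]; exact orderOf_dvd_of_pow_eq_one hk)
    have h1 := haP'.to_sup_of_normal_right' P.2
      (fun x hx => Subgroup.zpowers_le.2 han hx)
    exact (P.is_maximal' h1 le_sup_right) ▸ Subgroup.mem_sup_left (Subgroup.mem_zpowers a)
  have hbC : b ∉ Subgroup.centralizer ((P : Subgroup E) : Set E) := fun h => hnC (by
    rw [← hab]
    refine mul_mem (Subgroup.mem_centralizer_iff.2 fun x hx => ?_) h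
    exact congrArg Subtype.val (IsMulCommutative.is_comm.comm
      (⟨x, hx⟩ : (P : Subgroup E)) ⟨a, haP⟩))
  set B := Subgroup.zpowers b with hB
  have hBn : B ≤ Subgroup.normalizer ((P : Subgroup E) : Set E) := Subgroup.zpowers_le.2 hbn
  obtain ⟨j, hj⟩ := IsPGroup.iff_card.1 P.2
  have hcop : (Nat.card B).Coprime (Nat.card (P : Subgroup E)) := by
    rw [Nat.card_zpowers, hj]
    exact hbc.pow_right j
  have hfix : (P : Subgroup E) ⊓ Subgroup.centralizer (B : Set E) = ⊥ := by
    by_contra hne
    obtain ⟨c, hc, hc1⟩ := (Subgroup.bot_or_exists_ne_one _).resolve_left hne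
    refine hbC (Subgroup.mem_centralizer_iff.2 fun x hx => ?_)
    exact (UniqueAux.centralizes_cyclic_of_fixed hp2 hPc P.2 hbn hbc hc.1 hc1
      (Subgroup.mem_centralizer_iff.1 hc.2 b (Subgroup.mem_zpowers b)) x hx).eq.symm
  have h := Coprime.commutator_sup_centralizer hBn hcop (Or.inl inferInstance)
  rw [hfix, sup_bot_eq] at h
  rw [← h]
  exact Subgroup.commutator_mono le_top le_top

/-- A nilpotent group with cyclic Sylow subgroups is cyclic. -/
theorem isCyclic_of_sylow_cyclic {H : Type u} [Group H] [Finite H] [Group.IsNilpotent H]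
    (h : ∀ q : ℕ, q.Prime → ∀ Q : Sylow q H, IsCyclic Q) : IsCyclic H := by
  haveI : IsZGroup H := ⟨h⟩
  infer_instance

end Cfsg.Agent.Lib.OddOrder.CyclicSylow
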