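import Cfsg.Agent.Lib.OddOrder.SigmaHall
import Cfsg.Agent.Lib.OddOrder.CyclicSylow

/-!
# BG 12.1: complements of `M_σ`
-/

set_option autoImplicit false
set_option linter.style.haveILetI false
set_option linter.unusedSectionVars false

open scoped commutatorElement Pointwise

namespace Cfsg.Agent.Lib.OddOrder.SigmaCompl

open Cfsg.Agent.Lib.OddOrder.MinSimple

universe u

variable {G : Type u} [Group G] [Finite G]

/-- Every element of `M'` is an element of `E'` times one of `M_σ`. -/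
theorem derived_le {M E : Subgroup G} (hE : Cfsg.IsComplIn E (Cfsg.sigmaCore M) M) :
    ⁅M, M⁆ ≤ ⁅E, E⁆ ⊔ Cfsg.sigmaCore M := by
  set K := (Cfsg.piCore (Cfsg.sigma M) M) with hK
  let f := QuotientGroup.mk' K
  have htop : (⊤ : Subgroup M).map f = (E.subgroupOf M).map f := by
    refine le_antisymm ?_ (Subgroup.map_mono le_top)
    rw [Subgroup.map_le_map_iff, QuotientGroup.ker_mk']
    intro m _
    obtain ⟨a, ha, b, hb, hab⟩ := hE.2.2.2 (m : G) m.2
    obtain ⟨b', hb', rfl⟩ := hb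
    have : m = ⟨a, hE.1 ha⟩ * b' := Subtype.ext hab
    rw [this]
    exact Subgroup.mul_mem_sup (show (⟨a, hE.1 ha⟩ : M) ∈ E.subgroupOf M from ha) hb'
  have h1 : commutator M ≤ ⁅E.subgroupOf M, E.subgroupOf M⁆ ⊔ K := by
    have h2 : (commutator M).map f ≤ (⁅E.subgroupOf M, E.subgroupOf M⁆).map f := by
      rw [commutator_def, Subgroup.map_commutator, Subgroup.map_commutator, htop]
    rw [Subgroup.map_le_map_iff, QuotientGroup.ker_mk'] at h2
    exact h2
  have h3 := Subgroup.map_mono (f := M.subtype) h1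
  rw [Subgroup.map_subtype_commutator, Subgroup.map_sup, Subgroup.map_commutator,
    Subgroup.map_subgroupOf_eq_of_le hE.1] at h3
  exact h3

theorem dvd_derived {M E : Subgroup G} (hE : Cfsg.IsComplIn E (Cfsg.sigmaCore M) M) {p : ℕ}
    (hp : p.Prime) (hps : p ∉ Cfsg.sigma M) :
    p ∣ Nat.card ↥⁅M, M⁆ ↔ p ∣ Nat.card ↥⁅E, E⁆ := by
  refine ⟨fun h => ?_, fun h => h.trans (Subgroup.card_dvd_of_le (Subgroup.commutator_mono hE.1 hE.1))⟩
  have hn : ⁅E, E⁆ ≤ Subgroup.normalizer (Cfsg.sigmaCore M : Set G) :=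
    (Subgroup.map_subtype_commutator E ▸ Subgroup.map_subtype_le _).trans
      (hE.1.trans (Basic.le_normalizer_map_subtype M _))
  have hd : Disjoint ⁅E, E⁆ (Cfsg.sigmaCore M) := by
    refine Disjoint.mono_left (Subgroup.map_subtype_commutator E ▸ Subgroup.map_subtype_le _) ?_
    exact disjoint_iff.2 hE.2.2.1
  have h1 := h.trans (Subgroup.card_dvd_of_le (derived_le hE))
  rw [Coprime.card_sup_of_disjoint hn hd] at h1
  exact (hp.dvd_mul.1 h1).resolve_right fun h2 =>
    hps (Cores.piCore_isPiGroup _ p hp (h2.trans (Subgroup.card_map_dvd _ _)))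

theorem isNilpotent_derived (hG : Cfsg.IsMinSimpleOddOrder G) {M E : Subgroup G}
    (hM : IsCoatom M) (hE : Cfsg.IsComplIn E (Cfsg.sigmaCore M) M) :
    Group.IsNilpotent ↥⁅E, E⁆ := by
  obtain ⟨-, -, hασ, -, hnil⟩ := AlphaCore.alphaCore_spec hG hM
  haveI := hnil
  set K := Cfsg.piCore (Cfsg.alpha M) M with hK
  let f : ↥⁅E, E⁆ →* ↥((commutator M).map (QuotientGroup.mk' K)) :=
    ((QuotientGroup.mk' K).comp (Subgroup.inclusion
      ((Subgroup.map_subtype_commutator E ▸ Subgroup.map_subtype_le _ : ⁅E, E⁆ ≤ E).trans hE.1))).codRestrict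
      _ fun x => by
        have hx : (x : G) ∈ ⁅M, M⁆ := Subgroup.commutator_mono hE.1 hE.1 x.2
        rw [← Subgroup.map_subtype_commutator] at hx
        obtain ⟨y, hy, e⟩ := hx
        exact ⟨y, hy, congrArg (QuotientGroup.mk' K) (Subtype.ext e)⟩
  have hf : Function.Injective f := by
    rw [← MonoidHom.ker_eq_bot_iff, Subgroup.eq_bot_iff_forall]
    intro x hx
    have h1 : Subgroup.inclusion _ x ∈ K :=
      (QuotientGroup.eq_one_iff _).1 (congrArg Subtype.val (MonoidHom.mem_ker.1 hx))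
    have h2 : (x : G) ∈ Cfsg.sigmaCore M := hασ ⟨_, h1, rfl⟩
    have h3 : (x : G) ∈ E ⊓ Cfsg.sigmaCore M :=
      ⟨(Subgroup.map_subtype_commutator E ▸ Subgroup.map_subtype_le _ : ⁅E, E⁆ ≤ E) x.2, h2⟩
    rw [hE.2.2.1, Subgroup.mem_bot] at h3
    exact Subtype.ext h3
  exact Group.nilpotent_of_mulEquiv (MonoidHom.ofInjective hf).symm

/-- Subgroups of `p`-rank one `p`-groups are cyclic. -/
theorem isCyclic_of_prankLE_one (hG : Cfsg.IsMinSimpleOddOrder G) {p : ℕ} [hp : Fact p.Prime]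
    {M Q : Subgroup G} (hQM : Q ≤ M) (hr : Cfsg.PRankLE p 1 M) (hQ : IsPGroup p Q) :
    IsCyclic Q := by
  by_cases hQ1 : Q = ⊥
  · subst hQ1; infer_instance
  haveI : Nontrivial Q := (Subgroup.nontrivial_iff_ne_bot Q).2 hQ1
  obtain ⟨n, hn, hc⟩ := hQ.nontrivial_iff_card.1 inferInstance
  have hp2 := ne_two_of_dvd hG
    (((dvd_pow_self p hn.ne').trans hc.symm.dvd).trans Q.card_subgroup_dvd_card)
  by_contra hnc
  obtain ⟨B, -, hB, hB2⟩ := PGroups.exists_normal_elemAb_sq hp2 hQ hnc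
  have h := Rank.prankLE_subgroup_iff.1 hr (B.map Q.subtype)
    ((Subgroup.map_subtype_le _).trans hQM) (PGroups.elemAb_map _ hB)
  rw [Subgroup.card_map_of_injective Q.subtype_injective, hB2, pow_one] at h
  exact absurd h (not_le.2 (lt_self_pow₀ hp.out.one_lt one_lt_two))

theorem sylow_cyclic (hG : Cfsg.IsMinSimpleOddOrder G) {M H : Subgroup G} (hHM : H ≤ M)
    {π : Set ℕ} (hH : ∀ p : ℕ, p.Prime → p ∣ Nat.card H → p ∈ π)
    (hπ : ∀ p ∈ π, Cfsg.PRankLE p 1 M) (q : ℕ) (hq : q.Prime) (Q : Sylow q H) : IsCyclic Q := by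
  haveI := Fact.mk hq
  by_cases hd : q ∣ Nat.card H
  · have := isCyclic_of_prankLE_one hG ((Subgroup.map_subtype_le _).trans hHM)
      (hπ q (hH q hq hd)) (Q.2.map H.subtype)
    exact (Subgroup.equivMapOfInjective _ _ H.subtype_injective).isCyclic.2 this
  · have hbot : (Q : Subgroup H) = ⊥ := by
      obtain ⟨n, hn⟩ := IsPGroup.iff_card.1 Q.2
      rcases n with _ | n
      · exact Subgroup.card_eq_one.1 (hn.trans (pow_zero q))
      · exact absurd (((dvd_pow_self q n.succ_ne_zero).trans hn.symm.dvd).trans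
          (Subgroup.card_subgroup_dvd_card _)) hd
    show IsCyclic (Q : Subgroup H)
    rw [hbot]
    infer_instance

/-- BG 12.1. -/
theorem spec (hG : Cfsg.IsMinSimpleOddOrder G) {M E : Subgroup G} (hM : IsCoatom M)
    (hE : Cfsg.IsComplIn E (Cfsg.sigmaCore M) M) :
    Group.IsNilpotent ↥⁅E, E⁆ ∧
      (∀ E₁ : Subgroup G, Cfsg.IsPiHallOf (Cfsg.tau1 M) E₁ E → IsCyclic E₁) ∧
      ∀ E₃ : Subgroup G, Cfsg.IsPiHallOf (Cfsg.tau3 M) E₃ E →
        IsCyclic E₃ ∧ E₃ ≤ ⁅E, E⁆ ∧ E ≤ Subgroup.normalizer (E₃ : Set G) := by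
  have hnil := isNilpotent_derived hG hM hE
  haveI := hnil
  haveI := solvable_of_ne_top hG hM.1
  have hEE : ⁅E, E⁆ ≤ E := Subgroup.map_subtype_commutator E ▸ Subgroup.map_subtype_le _
  refine ⟨hnil, fun E₁ h₁ => ?_, fun E₃ h₃ => ?_⟩
  · have hsyl := sylow_cyclic hG (h₁.1.trans hE.1) h₁.2.1 (fun p hp => hp.2.2.2.2)
    have hab : IsMulCommutative E₁ := by
      refine ⟨⟨fun a b => Subtype.ext ?_⟩⟩
      refine commutatorElement_eq_one_iff_mul_comm.1 ?_
      have h1 : ⁅(a : G), (b : G)⁆ ∈ E₁ ⊓ ⁅E, E⁆ := by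
        refine Subgroup.mem_inf.2 ⟨?_, Subgroup.commutator_mem_commutator (h₁.1 a.2) (h₁.1 b.2)⟩
        rw [commutatorElement_def]
        exact mul_mem (mul_mem (mul_mem a.2 b.2) (inv_mem a.2)) (inv_mem b.2)
      rwa [Basic.inf_eq_bot_of_coprime, Subgroup.mem_bot] at h1
      refine Nat.coprime_of_dvd fun q hq hd1 hd2 => ?_
      obtain ⟨-, -, -, hnd, -⟩ := h₁.2.1 q hq hd1
      exact hnd (hd2.trans (Subgroup.card_dvd_of_le (Subgroup.commutator_mono hE.1 hE.1)))
    haveI : Group.IsNilpotent E₁ := by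
      letI : CommGroup E₁ := { mul_comm := hab.is_comm.comm }
      infer_instance
    exact CyclicSylow.isCyclic_of_sylow_cyclic hsyl
  · have hsyl := sylow_cyclic hG (h₃.1.trans hE.1) h₃.2.1 (fun p hp => hp.2.2.2)
    have hle : E₃ ≤ ⁅E, E⁆ := by
      refine Coprime.le_of_forall_sylow fun q hq => ?_
      haveI := Fact.mk hq
      obtain ⟨Q⟩ : Nonempty (Sylow q E₃) := inferInstance
      refine ⟨Q, ?_⟩
      set Q₁ := (Q : Subgroup E₃).map E₃.subtype with hQ₁
      have hQp : IsPGroup q Q₁ := Q.2.map _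
      by_cases hd : q ∣ Nat.card E₃
      · obtain ⟨-, hqs, hqd, hr⟩ := h₃.2.1 q hq hd
        have hQE : Q₁ ≤ E := (Subgroup.map_subtype_le _).trans h₃.1
        obtain ⟨P, hP⟩ := (hQp.comap_subtype (K := E)).exists_le_sylow
        have hq2 := ne_two_of_dvd hG (hd.trans E₃.card_subgroup_dvd_card)
        have hPc : IsCyclic P := (Subgroup.equivMapOfInjective _ _ E.subtype_injective).isCyclic.2
          (isCyclic_of_prankLE_one hG ((Subgroup.map_subtype_le _).trans hE.1) hr (P.2.map E.subtype))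
        have hdE : q ∣ Nat.card (commutator E) := by
          have := (dvd_derived hE hq hqs).1 hqd
          rwa [← Subgroup.map_subtype_commutator,
            Subgroup.card_map_of_injective E.subtype_injective] at this
        intro x hx
        rw [← Subgroup.map_subtype_commutator]
        exact ⟨⟨x, hQE hx⟩, CyclicSylow.le_commutator_of_dvd hq2 P hPc hdE
          (hP (show _ ∈ Q₁.comap E.subtype from hx)), rfl⟩
      · obtain ⟨n, hn⟩ := IsPGroup.iff_card.1 Q.2
        rcases n with _ | n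
        · rw [hQ₁, Subgroup.card_eq_one.1 (hn.trans (pow_zero q)), Subgroup.map_bot]
          exact bot_le
        · exact absurd (((dvd_pow_self q n.succ_ne_zero).trans hn.symm.dvd).trans
            (Subgroup.card_subgroup_dvd_card _)) hd
    haveI : Group.IsNilpotent E₃ := Group.nilpotent_of_mulEquiv (Subgroup.subgroupOfEquivOfLe hle)
    refine ⟨CyclicSylow.isCyclic_of_sylow_cyclic hsyl, hle, ?_⟩
    set C := (Cfsg.piCore (Cfsg.tau3 M) ↥⁅E, E⁆).map ⁅E, E⁆.subtype with hC
    have heq : E₃ = C := by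
      have hE₃C : E₃ ≤ C := by
        refine Coprime.le_of_forall_sylow fun q hq => ?_
        haveI := Fact.mk hq
        obtain ⟨Q⟩ : Nonempty (Sylow q E₃) := inferInstance
        refine ⟨Q, ?_⟩
        intro x hx
        have hx3 : x ∈ E₃ := Subgroup.map_subtype_le _ hx
        refine ⟨⟨x, hle hx3⟩, ?_, rfl⟩
        obtain ⟨k, hk⟩ := (Q.2.map E₃.subtype) ⟨x, hx⟩
        by_cases hx1 : x = 1
        · subst hx1
          exact one_mem _
        obtain ⟨i, -, hi⟩ := (Nat.dvd_prime_pow hq).1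
          (orderOf_dvd_of_pow_eq_one (by simpa using congrArg Subtype.val hk : x ^ q ^ k = 1))
        have hd : q ∣ Nat.card E₃ := by
          refine (dvd_pow_self q ?_).trans (hi ▸ E₃.orderOf_dvd_natCard hx3)
          rintro rfl
          exact hx1 (orderOf_eq_one_iff.1 (by rw [hi, pow_zero]))
        have h1 : (⟨x, hle hx3⟩ : ↥⁅E, E⁆) ∈ Cfsg.pCore q ↥⁅E, E⁆ :=
          OddLocal.DerivedFitting.mem_pCore_of_mem_fitting
            (Cores.le_fittingSubgroup (N := ⊤) (Group.nilpotent_of_mulEquiv Subgroup.topEquiv.symm)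
              (Subgroup.mem_top _)) ⟨i, by rw [Subgroup.orderOf_mk, hi]⟩
        rw [Cores.pCore_eq_piCore] at h1
        refine Cores.piCore_mono ?_ h1
        intro r hr
        rw [Set.mem_singleton_iff] at hr
        exact hr ▸ h₃.2.1 q hq hd
      refine Subgroup.eq_of_le_of_card_ge hE₃C (Nat.le_of_dvd Nat.card_pos ?_)
      have hcop : (Nat.card C).Coprime (E₃.relIndex E) := Nat.coprime_of_dvd fun q hq h1 h2 =>
        h₃.2.2 q hq (Cores.piCore_isPiGroup _ q hq (h1.trans (Subgroup.card_map_dvd _ _))) h2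
      refine hcop.dvd_of_dvd_mul_right ?_
      have hmul : Nat.card E₃ * E₃.relIndex E = Nat.card E := by
        have h := Subgroup.relIndex_mul_relIndex (⊥ : Subgroup G) E₃ E bot_le h₃.1
        rwa [Subgroup.relIndex_bot_left, Subgroup.relIndex_bot_left] at h
      rw [hmul]
      exact Subgroup.card_dvd_of_le ((Subgroup.map_subtype_le _).trans hEE)
    have hn : E ≤ Subgroup.normalizer ((⁅E, E⁆ : Subgroup G) : Set G) := Coprime.left_le_normalizer_commutator E E
    rw [heq]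
    exact hn.trans (CharP.normalizer_le_normalizer_map_char _)

end Cfsg.Agent.Lib.OddOrder.SigmaCompl
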