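import Cfsg.Agent.Lib.OddOrder.RankTwoCentralizer
import Cfsg.Agent.Lib.OddOrder.PLengthOne
import Cfsg.Agent.Lib.OddOrder.SigmaCompl
import Cfsg.Agent.Lib.OddOrder.Cyclic

/-!
# BG 12.2, 12.10(d), 12.15(a)-(c): `σ(M)`-subgroups and maximal subgroups over their normalizers
-/

set_option autoImplicit false
set_option linter.style.haveILetI false
set_option linter.unusedSectionVars false

open scoped Pointwise

namespace Cfsg.Agent.Lib.OddOrder.SigmaEmbedding

open Cfsg.Agent.Lib.OddOrder.MinSimple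

universe u

variable {G : Type u} [Group G] [Finite G] {p : ℕ} [hp : Fact p.Prime]

theorem ne_one_of_pgroup {X : Subgroup G} (hXp : IsPGroup p X) (hX1 : X ≠ ⊥) :
    p ∣ Nat.card X := by
  haveI : Nontrivial X := (Subgroup.nontrivial_iff_ne_bot X).2 hX1
  obtain ⟨n, hn, hnc⟩ := hXp.nontrivial_iff_card.1 inferInstance
  exact hnc ▸ dvd_pow_self p hn.ne'

/-- BG 12.10(d): for `p ∈ σ(M)` a noncyclic `p`-subgroup of `M` has its centralizer in `M`. -/
theorem centralizer_le_of_not_isCyclic (hG : Cfsg.IsMinSimpleOddOrder G) {M : Subgroup G}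
    (hM : IsCoatom M) {P : Subgroup G} (hP : IsPGroup p P) (hPM : P ≤ M) (hnc : ¬ IsCyclic P) :
    Subgroup.centralizer (P : Set G) ≤ M := by
  have hP1 : P ≠ ⊥ := fun e => hnc (by rw [e]; infer_instance)
  have hp2 := ne_two_of_dvd hG ((ne_one_of_pgroup hP hP1).trans P.card_subgroup_dvd_card)
  obtain ⟨E, -, hE, hE2⟩ := PGroups.exists_normal_elemAb_sq hp2 hP hnc
  have hEc : Nat.card (E.map P.subtype) = p ^ 2 := by
    rw [Subgroup.card_map_of_injective P.subtype_injective, hE2]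
  exact (Subgroup.centralizer_le (SetLike.coe_subset_coe.2 (Subgroup.map_subtype_le E))).trans
    (RankTwoCentralizer.spec hG (fun q _ => PLengthOne.of_ne_top hG q) hM
      ((Subgroup.map_subtype_le E).trans hPM) (PGroups.elemAb_map _ hE) hEc).1

/-- BG 12.10(d): for `p ∈ σ(M)` a noncyclic `p`-subgroup of `M` has its normalizer in `M`. -/
theorem normalizer_le_of_not_isCyclic (hG : Cfsg.IsMinSimpleOddOrder G) {M : Subgroup G}
    (hM : IsCoatom M) (hσ : p ∈ Cfsg.sigma M) {P : Subgroup G} (hP : IsPGroup p P) (hPM : P ≤ M)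
    (hnc : ¬ IsCyclic P) : Subgroup.normalizer (P : Set G) ≤ M := by
  rw [(Sigma.fusion_and_normalizer hG hM hσ hP (fun e => hnc (by rw [e]; infer_instance)) hPM).2]
  exact sup_le inf_le_left (centralizer_le_of_not_isCyclic hG hM hP hPM hnc)

theorem conj_smul_eq_self {M : Subgroup G} {m : G} (hm : m ∈ M) : MulAut.conj m • M = M :=
  Coprime.conj_smul_eq_self_of_mem_normalizer (Subgroup.le_normalizer hm)

/-- A maximal subgroup other than `M` over a `σ(M)`-subgroup and its centralizer is not conjugate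
to `M`. -/
theorem not_conj (hG : Cfsg.IsMinSimpleOddOrder G) {M L : Subgroup G} (hM : IsCoatom M)
    (hσ : p ∈ Cfsg.sigma M) {X : Subgroup G} (hXp : IsPGroup p X) (hX1 : X ≠ ⊥) (hXM : X ≤ M)
    (hXL : X ≤ L) (hCL : Subgroup.centralizer (X : Set G) ≤ L) (hne : L ≠ M) (g : G) :
    L ≠ M.map (MulAut.conj g).toMonoidHom := by
  intro he
  replace he : L = MulAut.conj g • M := he
  obtain ⟨m, hm, c, hc, hgc⟩ := Sigma.fusion hG hM hσ _ X rfl hXp hX1 hXM g⁻¹ (by
    rintro _ ⟨x, hx, rfl⟩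
    have h1 := hXL hx
    rw [he, Coprime.mem_conj_smul] at h1
    simpa [mul_assoc] using h1)
  have hg : g = c⁻¹ * m⁻¹ := by rw [← inv_inv g, hgc, mul_inv_rev]
  rw [hg, Coprime.conj_smul_mul, conj_smul_eq_self (inv_mem hm)] at he
  refine hne ?_
  rw [he, map_inv]
  have h2 : MulAut.conj c • L = L := conj_smul_eq_self (hCL hc)
  rw [he, map_inv, smul_inv_smul] at h2
  exact h2.symm

/-- A prime of `σ(M) ∩ α(H)` forces `M` and `H` to be conjugate. -/
theorem conj_of_sigma_alpha (hG : Cfsg.IsMinSimpleOddOrder G) {M H : Subgroup G} (hM : IsCoatom M)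
    (hH : IsCoatom H) (hσ : p ∈ Cfsg.sigma M) (hα : p ∈ Cfsg.alpha H) :
    ∃ g : G, M = H.map (MulAut.conj g).toMonoidHom := by
  obtain ⟨Q, -, hQH, -⟩ := Sigma.exists_sylow_ge (AlphaCore.alpha_subset_sigma hG hH hα)
    (X := ⊥) IsPGroup.of_bot bot_le
  obtain ⟨P, -, hPM, -⟩ := Sigma.exists_sylow_ge hσ (X := ⊥) IsPGroup.of_bot bot_le
  obtain ⟨g, hg⟩ := MulAction.exists_smul_eq G Q P
  have hQ3 : ¬ Cfsg.PRankLE p 2 (Q : Subgroup G) := fun h =>
    hα.2 (InvariantPrime.prankLE_of_sylow Q h H)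
  have hU := UniqueRank.conj (UniquenessTheorem.of_rank hG (pgroup_ne_top hG Q.2)
    fun h => hQ3 (h p hp.out)) g
  refine ⟨g, UniqueRank.eq_of_le hU hM ?_ (((MulAut.conj g).mapSubgroup.isCoatom_iff H).2 hH)
    (Subgroup.map_mono hQH)⟩
  intro x hx
  refine hPM ?_
  rw [← hg, Sylow.coe_subgroup_smul]
  exact hx

/-- BG 12.2(a): `N(X) ≤ M` forces `p ∈ σ(M) ∪ τ₂(M)`. -/
theorem mem_sigma_or_tau2 (hG : Cfsg.IsMinSimpleOddOrder G) {M : Subgroup G} (hM : IsCoatom M)
    {X : Subgroup G} (hXp : IsPGroup p X) (hX1 : X ≠ ⊥)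
    (hNX : Subgroup.normalizer (X : Set G) ≤ M) : p ∈ Cfsg.sigma M ∨ p ∈ Cfsg.tau2 M := by
  by_contra hcon
  rw [not_or] at hcon
  obtain ⟨hσ, hτ⟩ := hcon
  have hr2 : Cfsg.PRankLE p 2 M := by
    by_contra h
    exact hσ (AlphaCore.alpha_subset_sigma hG hM ⟨hp.out, h⟩)
  have hr1 : Cfsg.PRankLE p 1 M := by
    by_contra h
    exact hτ ⟨hp.out, hσ, hr2, h⟩
  have hXM : X ≤ M := Subgroup.le_normalizer.trans hNX
  obtain ⟨S, hS⟩ := (hXp.comap_subtype (K := M)).exists_le_sylow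
  set S₁ := (S : Subgroup M).map M.subtype with hS₁
  have hS₁M : S₁ ≤ M := Subgroup.map_subtype_le _
  have hXS : X ≤ S₁ := fun x hx => ⟨⟨x, hXM hx⟩, hS (show (⟨x, hXM hx⟩ : M) ∈ X.comap M.subtype from hx), rfl⟩
  haveI : IsCyclic S₁ := SigmaCompl.isCyclic_of_prankLE_one hG hS₁M hr1 (S.2.map _)
  refine hσ ⟨hp.out, (ne_one_of_pgroup hXp hX1).trans (Subgroup.card_dvd_of_le hXM), S,
    fun g hg => hNX (Coprime.mem_normalizer_of_conj_smul_eq ?_)⟩
  refine Cyclic.eq_of_card_eq_of_isCyclic (W := S₁) ?_ hXS (Coprime.card_conj_smul g X)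
  rintro _ ⟨x, hx, rfl⟩
  exact (Subgroup.mem_normalizer_iff.1 hg x).1 (hXS hx)

/-- BG 12.15(b,c): a maximal `p`-subgroup `S` of `M ∩ L` over `X`, `N(X) ≤ L`, has its normalizer in
`M` and is Sylow in `L`. -/
theorem sylow_inf (hG : Cfsg.IsMinSimpleOddOrder G) {M L : Subgroup G} (hM : IsCoatom M)
    (hσ : p ∈ Cfsg.sigma M) {X S : Subgroup G} (hX1 : X ≠ ⊥) (hXS : X ≤ S)
    (hNX : Subgroup.normalizer (X : Set G) ≤ L) (hSp : IsPGroup p S) (hSD : S ≤ M ⊓ L)
    (hmax : ∀ R : Subgroup G, IsPGroup p R → S ≤ R → R ≤ M ⊓ L → R = S) :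
    Subgroup.normalizer (S : Set G) ≤ M ∧ ¬ p ∣ S.relIndex L := by
  have hSM : S ≤ M := hSD.trans inf_le_left
  have hSL : S ≤ L := hSD.trans inf_le_right
  have hNS : Subgroup.normalizer (S : Set G) ≤ M := by
    by_cases hc : IsCyclic S
    swap
    · exact normalizer_le_of_not_isCyclic hG hM hσ hSp hSM hc
    have hNSL : Subgroup.normalizer (S : Set G) ≤ L := by
      refine fun g hg => hNX (Coprime.mem_normalizer_of_conj_smul_eq ?_)
      haveI := hc
      refine Cyclic.eq_of_card_eq_of_isCyclic (W := S) ?_ hXS (Coprime.card_conj_smul g X)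
      rintro _ ⟨x, hx, rfl⟩
      exact (Subgroup.mem_normalizer_iff.1 hg x).1 (hXS hx)
    obtain ⟨T, hT⟩ := (hSp.comap_subtype (K := M)).exists_le_sylow
    have hST : S ≤ (T : Subgroup M).map M.subtype := fun x hx =>
      ⟨⟨x, hSM hx⟩, hT (show (⟨x, hSM hx⟩ : M) ∈ S.comap M.subtype from hx), rfl⟩
    have heq : (T : Subgroup M).map M.subtype = S := by
      by_contra hne
      have hlt := Sigma.exists_gt_inf_normalizer (T.2.map M.subtype)
        (lt_of_le_of_ne hST (Ne.symm hne))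
      exact hlt.ne' (hmax _ ((T.2.map M.subtype).to_le inf_le_left) hlt.le
        (le_inf (inf_le_left.trans (Subgroup.map_subtype_le _)) (inf_le_right.trans hNSL)))
    exact heq ▸ Sigma.normalizer_le hσ T
  refine ⟨hNS, ?_⟩
  obtain ⟨T, hT⟩ := (hSp.comap_subtype (K := L)).exists_le_sylow
  have hST : S ≤ (T : Subgroup L).map L.subtype := fun x hx =>
    ⟨⟨x, hSL hx⟩, hT (show (⟨x, hSL hx⟩ : L) ∈ S.comap L.subtype from hx), rfl⟩
  have heq : (T : Subgroup L).map L.subtype = S := by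
    by_contra hne
    have hlt := Sigma.exists_gt_inf_normalizer (T.2.map L.subtype)
      (lt_of_le_of_ne hST (Ne.symm hne))
    exact hlt.ne' (hmax _ ((T.2.map L.subtype).to_le inf_le_left) hlt.le
      (le_inf (inf_le_right.trans hNS) (inf_le_left.trans (Subgroup.map_subtype_le _))))
  rw [← heq, Basic.relIndex_map_subtype]
  exact T.not_dvd_index

omit hp in
/-- A Sylow subgroup of `D` is maximal among the `p`-subgroups of `D`. -/
theorem eq_of_sylow_of_le {D : Subgroup G} (S : Sylow p D) {R : Subgroup G} (hR : IsPGroup p R)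
    (hSR : (S : Subgroup D).map D.subtype ≤ R) (hRD : R ≤ D) :
    R = (S : Subgroup D).map D.subtype := by
  refine le_antisymm ?_ hSR
  have h : R.subgroupOf D = (S : Subgroup D) := S.3 (hR.comap_subtype)
    fun x hx => hSR ⟨x, hx, rfl⟩
  rw [← h, Subgroup.map_subgroupOf_eq_of_le hRD]

end Cfsg.Agent.Lib.OddOrder.SigmaEmbedding
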