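import Cfsg.Agent.Lib.OddOrder.Basic
import Cfsg.Agent.Lib.Cores.Pi

/-!
# Minimal simple groups of odd order: basic facts
-/

set_option autoImplicit false

open scoped Pointwise commutatorElement

namespace Cfsg.Agent.Lib.OddOrder.MinSimple

open Cfsg.Agent.Lib.OddOrder.Basic

universe u

variable {G : Type u} [Group G]

theorem isSimpleGroup (hG : Cfsg.IsMinSimpleOddOrder G) : IsSimpleGroup G := hG.2.1

theorem solvable_of_ne_top (hG : Cfsg.IsMinSimpleOddOrder G) {H : Subgroup G} (h : H ≠ ⊤) :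
    Group.IsSolvable H := hG.2.2.2 H h

theorem eq_bot_or_top (hG : Cfsg.IsMinSimpleOddOrder G) {N : Subgroup G} (hN : N.Normal) :
    N = ⊥ ∨ N = ⊤ := by
  haveI := isSimpleGroup hG
  exact hN.eq_bot_or_eq_top

theorem center_eq_bot (hG : Cfsg.IsMinSimpleOddOrder G) : Subgroup.center G = ⊥ := by
  rcases eq_bot_or_top hG (N := Subgroup.center G) inferInstance with h | h
  · exact h
  · exfalso
    refine hG.2.2.1 ⟨⟨fun a b => ?_⟩⟩
    have ha : a ∈ Subgroup.center G := h ▸ Subgroup.mem_top a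
    exact (Subgroup.mem_center_iff.1 ha b).symm

theorem commutator_eq_top (hG : Cfsg.IsMinSimpleOddOrder G) : ⁅(⊤ : Subgroup G), (⊤ : Subgroup G)⁆ = (⊤ : Subgroup G) := by
  rcases eq_bot_or_top hG (N := ⁅(⊤ : Subgroup G), (⊤ : Subgroup G)⁆) inferInstance with h | h
  · exfalso
    refine hG.2.2.1 ⟨⟨fun a b => ?_⟩⟩
    have hm := Subgroup.commutator_mem_commutator (Subgroup.mem_top a) (Subgroup.mem_top b)
    rw [h, Subgroup.mem_bot] at hm
    exact commutatorElement_eq_one_iff_mul_comm.1 hm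
  · exact h

theorem normalizer_ne_top (hG : Cfsg.IsMinSimpleOddOrder G) {X : Subgroup G} (h1 : X ≠ ⊥)
    (h2 : X ≠ ⊤) : Subgroup.normalizer (X : Set G) ≠ ⊤ := by
  intro h
  rcases eq_bot_or_top hG (Subgroup.normalizer_eq_top_iff.1 h) with h' | h'
  · exact h1 h'
  · exact h2 h'

theorem centralizer_ne_top (hG : Cfsg.IsMinSimpleOddOrder G) {S : Set G}
    (h : ∃ s ∈ S, s ≠ 1) : Subgroup.centralizer S ≠ ⊤ := by
  obtain ⟨s, hs, hs1⟩ := h
  intro ht
  apply hs1
  rw [← Subgroup.mem_bot, ← center_eq_bot hG, Subgroup.mem_center_iff]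
  intro g
  have hg : g ∈ Subgroup.centralizer S := ht ▸ Subgroup.mem_top g
  exact (Subgroup.mem_centralizer_iff.1 hg s hs).symm

theorem centralizer_subgroup_ne_top (hG : Cfsg.IsMinSimpleOddOrder G) {X : Subgroup G}
    (h : X ≠ ⊥) : Subgroup.centralizer (X : Set G) ≠ ⊤ := by
  obtain ⟨x, hx, hx1⟩ := X.bot_or_exists_ne_one.resolve_left h
  exact centralizer_ne_top hG ⟨x, hx, hx1⟩

theorem centralizer_singleton_ne_top (hG : Cfsg.IsMinSimpleOddOrder G) {x : G}
    (h : x ≠ 1) : Subgroup.centralizer ({x} : Set G) ≠ ⊤ :=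
  centralizer_ne_top hG ⟨x, Set.mem_singleton x, h⟩

theorem odd_card (hG : Cfsg.IsMinSimpleOddOrder G) (H : Subgroup G) : Odd (Nat.card H) :=
  hG.1.of_dvd_nat H.card_subgroup_dvd_card

theorem ne_two_of_dvd (hG : Cfsg.IsMinSimpleOddOrder G) {p : ℕ} (h : p ∣ Nat.card G) : p ≠ 2 := by
  rintro rfl
  exact (Nat.not_even_iff_odd.2 hG.1) (even_iff_two_dvd.2 h)

theorem not_isSolvable (hG : Cfsg.IsMinSimpleOddOrder G) : ¬ Group.IsSolvable G := by
  intro h
  haveI := h
  haveI := isSimpleGroup hG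
  exact hG.2.2.1 ⟨⟨fun a b => IsSimpleGroup.comm_iff_isSolvable.2 h a b⟩⟩

theorem ne_top_of_solvable (hG : Cfsg.IsMinSimpleOddOrder G) {H : Subgroup G}
    (h : Group.IsSolvable H) : H ≠ ⊤ := by
  rintro rfl
  exact not_isSolvable hG (solvable_of_surjective (f := (Subgroup.topEquiv (G := G)).toMonoidHom)
    (Subgroup.topEquiv (G := G)).surjective)

variable [Finite G]

theorem pgroup_ne_top (hG : Cfsg.IsMinSimpleOddOrder G) {p : ℕ} [Fact p.Prime] {P : Subgroup G}
    (h : IsPGroup p P) : P ≠ ⊤ := by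
  haveI := h.isNilpotent
  exact ne_top_of_solvable hG inferInstance

theorem exists_coatom_ge (hG : Cfsg.IsMinSimpleOddOrder G) {H : Subgroup G} (h : H ≠ ⊤) :
    ∃ M : Subgroup G, IsCoatom M ∧ H ≤ M := by
  haveI := isSimpleGroup hG
  rcases eq_top_or_exists_le_coatom H with h' | h'
  · exact absurd h' h
  · exact h'

theorem coatom_ne_bot (hG : Cfsg.IsMinSimpleOddOrder G) {M : Subgroup G} (hM : IsCoatom M) :
    M ≠ ⊥ := by
  rintro rfl
  haveI := isSimpleGroup hG
  obtain ⟨g, hg⟩ := exists_ne (1 : G)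
  have htop : Subgroup.zpowers g = ⊤ := hM.2 _ (bot_lt_iff_ne_bot.2 (by simpa using hg))
  exact ne_top_of_solvable hG (H := Subgroup.zpowers g) inferInstance htop

/-- The normalizer of a nontrivial normal subgroup of a maximal subgroup `M` is `M`. -/
theorem normalizer_eq_of_coatom (hG : Cfsg.IsMinSimpleOddOrder G) {M X : Subgroup G}
    (hM : IsCoatom M) (hX : X ≤ M) (hX1 : X ≠ ⊥) (hn : M ≤ Subgroup.normalizer (X : Set G)) :
    Subgroup.normalizer (X : Set G) = M := by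
  by_contra h
  exact normalizer_ne_top hG hX1 (fun h' => hM.1 (top_le_iff.1 (h' ▸ hX)))
    (hM.2 _ (lt_of_le_of_ne hn (Ne.symm h)))

theorem normalizer_coatom (hG : Cfsg.IsMinSimpleOddOrder G) {M : Subgroup G} (hM : IsCoatom M) :
    Subgroup.normalizer (M : Set G) = M :=
  normalizer_eq_of_coatom hG hM le_rfl (coatom_ne_bot hG hM) Subgroup.le_normalizer

theorem fittingOf_ne_bot (hG : Cfsg.IsMinSimpleOddOrder G) {M : Subgroup G} (hM : IsCoatom M) :
    Cfsg.fittingOf M ≠ ⊥ := by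
  haveI := solvable_of_ne_top hG hM.1
  haveI : Nontrivial M := (Subgroup.nontrivial_iff_ne_bot M).2 (coatom_ne_bot hG hM)
  rw [Cfsg.fittingOf, Ne, Subgroup.map_eq_bot_iff_of_injective _ (Subgroup.subtype_injective M)]
  exact Cfsg.Agent.Lib.Cores.fittingSubgroup_ne_bot

/-! ### `O_π(X)` inside `G` -/

theorem piCoreOf_le (π : Set ℕ) (X : Subgroup G) : Cfsg.piCoreOf π X ≤ X :=
  Subgroup.map_subtype_le _

theorem piCoreOf_normal (π : Set ℕ) (X : Subgroup G) :
    X ≤ Subgroup.normalizer (Cfsg.piCoreOf π X : Set G) :=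
  le_normalizer_map_subtype X _

theorem piCoreOf_isPiGroup (π : Set ℕ) (X : Subgroup G) :
    ∀ p : ℕ, p.Prime → p ∣ Nat.card (Cfsg.piCoreOf π X) → p ∈ π := fun p hp h =>
  Cfsg.Agent.Lib.Cores.piCore_isPiGroup (G := X) π p hp (h.trans (Subgroup.card_map_dvd _ _))

theorem le_piCoreOf {π : Set ℕ} {X N : Subgroup G} (hN : N ≤ X)
    (hn : X ≤ Subgroup.normalizer (N : Set G))
    (h : ∀ p : ℕ, p.Prime → p ∣ Nat.card N → p ∈ π) : N ≤ Cfsg.piCoreOf π X := by
  haveI : (N.subgroupOf X).Normal := (Subgroup.normal_subgroupOf_iff_le_normalizer hN).2 hn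
  rw [← Subgroup.map_subgroupOf_eq_of_le hN]
  refine Subgroup.map_mono (Cfsg.Agent.Lib.Cores.le_piCore fun p hp hd => h p hp ?_)
  rwa [Nat.card_congr (Subgroup.subgroupOfEquivOfLe hN).toEquiv] at hd

end Cfsg.Agent.Lib.OddOrder.MinSimple
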