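import Cfsg.Prelude.Def_OddOrderLocal
import Cfsg.Agent.Lib.Cores.Basic
import Cfsg.Agent.Lib.Transfer.Frobenius

/-!
# Odd order local analysis: basic vocabulary

`IsComplIn`, `fittingHallOf`, `fittingOf`.
-/

set_option autoImplicit false

open scoped Pointwise commutatorElement

namespace Cfsg.Agent.Lib.OddOrder.Basic

universe u

variable {G : Type u} [Group G]

/-! ### IsComplIn -/

theorem isComplIn_le_left {A B M : Subgroup G} (h : Cfsg.IsComplIn A B M) : A ≤ M := h.1

theorem isComplIn_le_right {A B M : Subgroup G} (h : Cfsg.IsComplIn A B M) : B ≤ M := h.2.1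

theorem isComplIn_sup {A B M : Subgroup G} (h : Cfsg.IsComplIn A B M) : A ⊔ B = M := by
  refine le_antisymm (sup_le h.1 h.2.1) fun m hm => ?_
  obtain ⟨a, ha, b, hb, rfl⟩ := h.2.2.2 m hm
  exact mul_mem (Subgroup.mem_sup_left ha) (Subgroup.mem_sup_right hb)

theorem isComplIn_symm {A B M : Subgroup G} (h : Cfsg.IsComplIn A B M) :
    Cfsg.IsComplIn B A M := by
  refine ⟨h.2.1, h.1, by rw [inf_comm]; exact h.2.2.1, fun m hm => ?_⟩
  obtain ⟨a, ha, b, hb, e⟩ := h.2.2.2 m⁻¹ (inv_mem hm)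
  exact ⟨b⁻¹, inv_mem hb, a⁻¹, inv_mem ha, by rw [← mul_inv_rev, ← e, inv_inv]⟩

/-- In a complemented pair the product map is a bijection, so orders multiply. -/
theorem isComplIn_card {A B M : Subgroup G} (h : Cfsg.IsComplIn A B M) :
    Nat.card A * Nat.card B = Nat.card M := by
  rw [← Nat.card_prod]
  refine Nat.card_congr (Equiv.ofBijective
    (fun x : A × B => (⟨x.1 * x.2, mul_mem (h.1 x.1.2) (h.2.1 x.2.2)⟩ : M)) ⟨?_, ?_⟩)
  · rintro ⟨a, b⟩ ⟨a', b'⟩ e
    simp only [Subtype.mk.injEq] at e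
    have e1 : (a' : G)⁻¹ * a = b' * (b : G)⁻¹ := by
      rw [eq_mul_inv_iff_mul_eq, mul_assoc, e, inv_mul_cancel_left]
    have hm : (a' : G)⁻¹ * a ∈ A ⊓ B :=
      ⟨A.mul_mem (A.inv_mem a'.2) a.2, e1 ▸ B.mul_mem b'.2 (B.inv_mem b.2)⟩
    rw [h.2.2.1, Subgroup.mem_bot] at hm
    have ha : a = a' := Subtype.ext (inv_mul_eq_one.1 hm).symm
    subst ha
    simp only [Prod.mk.injEq, true_and]
    exact Subtype.ext (mul_left_cancel e)
  · rintro ⟨m, hm⟩
    obtain ⟨a, ha, b, hb, rfl⟩ := h.2.2.2 m hm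
    exact ⟨⟨⟨a, ha⟩, ⟨b, hb⟩⟩, rfl⟩

theorem isComplIn_relIndex [Finite G] {A B M : Subgroup G} (h : Cfsg.IsComplIn A B M) :
    A.relIndex M = Nat.card B := by
  have h1 := Subgroup.relIndex_mul_relIndex (⊥ : Subgroup G) A M bot_le h.1
  rw [Subgroup.relIndex_bot_left, Subgroup.relIndex_bot_left, ← isComplIn_card h] at h1
  exact Nat.eq_of_mul_eq_mul_left Nat.card_pos h1

/-- A subgroup between `A` and `M` splits over the complement. -/
theorem isComplIn_of_le {A B M X : Subgroup G} (h : Cfsg.IsComplIn A B M) (hA : A ≤ X)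
    (hX : X ≤ M) : Cfsg.IsComplIn A (X ⊓ B) X := by
  refine ⟨hA, inf_le_left, le_bot_iff.1 (le_trans (inf_le_inf_left _ inf_le_right) h.2.2.1.le),
    fun x hx => ?_⟩
  obtain ⟨a, ha, b, hb, rfl⟩ := h.2.2.2 x (hX hx)
  exact ⟨a, ha, b, ⟨(mul_mem_cancel_left (hA ha)).1 hx, hb⟩, rfl⟩

/-- `IsComplIn` from trivial intersection and the order. -/
theorem isComplIn_of_card [Finite G] {A B M : Subgroup G} (hA : A ≤ M) (hB : B ≤ M)
    (hAB : A ⊓ B = ⊥) (hc : Nat.card M = Nat.card A * Nat.card B) : Cfsg.IsComplIn A B M := by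
  refine ⟨hA, hB, hAB, fun m hm => ?_⟩
  let f : A × B → M := fun x => ⟨x.1 * x.2, mul_mem (hA x.1.2) (hB x.2.2)⟩
  have hinj : Function.Injective f := by
    rintro ⟨a, b⟩ ⟨a', b'⟩ e
    simp only [f, Subtype.mk.injEq] at e
    have e1 : (a' : G)⁻¹ * a = b' * (b : G)⁻¹ := by
      rw [eq_mul_inv_iff_mul_eq, mul_assoc, e, inv_mul_cancel_left]
    have hm' : (a' : G)⁻¹ * a ∈ A ⊓ B :=
      ⟨A.mul_mem (A.inv_mem a'.2) a.2, e1 ▸ B.mul_mem b'.2 (B.inv_mem b.2)⟩
    rw [hAB, Subgroup.mem_bot] at hm'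
    have ha : a = a' := Subtype.ext (inv_mul_eq_one.1 hm').symm
    subst ha
    simp only [Prod.mk.injEq, true_and]
    exact Subtype.ext (mul_left_cancel e)
  have hsurj : Function.Surjective f :=
    ((Nat.bijective_iff_injective_and_card f).2 ⟨hinj, by rw [Nat.card_prod, hc]⟩).2
  obtain ⟨⟨a, b⟩, e⟩ := hsurj ⟨m, hm⟩
  exact ⟨a, a.2, b, b.2, (congrArg Subtype.val e).symm⟩

/-! ### Coprime orders -/

theorem inf_eq_bot_of_coprime {A B : Subgroup G} (h : (Nat.card A).Coprime (Nat.card B)) :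
    A ⊓ B = ⊥ := by
  rw [Subgroup.eq_bot_iff_forall]
  intro x hx
  exact orderOf_eq_one_iff.1 (Nat.eq_one_of_dvd_coprimes h
    (Subgroup.orderOf_dvd_natCard _ hx.1) (Subgroup.orderOf_dvd_natCard _ hx.2))

/-- Subgroups of coprime orders of a nilpotent subgroup centralize each other. -/
theorem le_centralizer_of_nilpotent {N A B : Subgroup G} (hN : Group.IsNilpotent N) (hA : A ≤ N)
    (hB : B ≤ N) (h : (Nat.card A).Coprime (Nat.card B)) :
    A ≤ Subgroup.centralizer (B : Set G) := by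
  intro a ha
  rw [Subgroup.mem_centralizer_iff]
  intro b hb
  have := Cfsg.Agent.Lib.Transfer.Frobenius.commute_of_coprime_of_isNilpotent
    (G := N) (a := ⟨b, hB hb⟩) (b := ⟨a, hA ha⟩) (by
      rw [Subgroup.orderOf_mk, Subgroup.orderOf_mk]
      exact Nat.Coprime.coprime_dvd_left (Subgroup.orderOf_dvd_natCard _ hb)
        (h.symm.coprime_dvd_right (Subgroup.orderOf_dvd_natCard _ ha)))
  exact congrArg Subtype.val this

/-! ### The largest normal nilpotent Hall subgroup -/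

theorem fittingHall_spec (M : Type u) [Group M] [Finite M] :
    Group.IsNilpotent (Cfsg.fittingHall M) ∧
      (Nat.card (Cfsg.fittingHall M)).Coprime (Cfsg.fittingHall M).index := by
  refine Cfsg.Agent.Lib.Cores.sSup_normal_mem
    (P := fun N : Subgroup M => Group.IsNilpotent N ∧ (Nat.card N).Coprime N.index)
    ⟨inferInstance, by simp⟩ ?_
  intro H K hH hK h1 h2
  refine ⟨Cfsg.Agent.Lib.Cores.isNilpotent_sup h1.1 h2.1, ?_⟩
  refine Nat.Coprime.coprime_dvd_left (Cfsg.Agent.Lib.Cores.card_sup_dvd_mul H K) ?_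
  exact (h1.2.coprime_dvd_right (Subgroup.index_dvd_of_le le_sup_left)).mul_left
    (h2.2.coprime_dvd_right (Subgroup.index_dvd_of_le le_sup_right))

theorem le_fittingHall {M : Type u} [Group M] {N : Subgroup M} [hN : N.Normal]
    (h : Group.IsNilpotent N) (h' : (Nat.card N).Coprime N.index) : N ≤ Cfsg.fittingHall M :=
  le_sSup ⟨hN, h, h'⟩

theorem fittingHall_le_fittingSubgroup (M : Type u) [Group M] :
    Cfsg.fittingHall M ≤ Cfsg.fittingSubgroup M :=
  sSup_le fun _ hN => le_sSup ⟨hN.1, hN.2.1⟩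

variable [Finite G]

theorem fittingHallOf_le (M : Subgroup G) : Cfsg.fittingHallOf M ≤ M :=
  Subgroup.map_subtype_le _

theorem fittingHallOf_le_fittingOf (M : Subgroup G) :
    Cfsg.fittingHallOf M ≤ Cfsg.fittingOf M :=
  Subgroup.map_mono (fittingHall_le_fittingSubgroup M)

theorem fittingHallOf_isNilpotent (M : Subgroup G) :
    Group.IsNilpotent (Cfsg.fittingHallOf M) :=
  Cfsg.Agent.Lib.Cores.isNilpotent_map _ (fittingHall_spec M).1

theorem fittingOf_isNilpotent (M : Subgroup G) : Group.IsNilpotent (Cfsg.fittingOf M) :=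
  Cfsg.Agent.Lib.Cores.isNilpotent_map _ Cfsg.Agent.Lib.Cores.fittingSubgroup_isNilpotent

theorem le_normalizer_map_subtype (M : Subgroup G) (N : Subgroup M) [N.Normal] :
    M ≤ Subgroup.normalizer ((N.map M.subtype : Subgroup G) : Set G) := by
  intro m hm
  rw [Subgroup.mem_normalizer_iff]
  intro x
  constructor
  · rintro ⟨n, hn, rfl⟩
    exact ⟨_, (‹N.Normal›).conj_mem n hn ⟨m, hm⟩, rfl⟩
  · rintro ⟨n, hn, e⟩
    refine ⟨_, (‹N.Normal›).conj_mem' n hn ⟨m, hm⟩, ?_⟩
    change m⁻¹ * (n : G) * m = x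
    rw [show (n : G) = m * x * m⁻¹ from e]
    group

theorem fittingHallOf_normal (M : Subgroup G) :
    M ≤ Subgroup.normalizer (Cfsg.fittingHallOf M : Set G) :=
  le_normalizer_map_subtype M _

theorem fittingOf_normal (M : Subgroup G) :
    M ≤ Subgroup.normalizer (Cfsg.fittingOf M : Set G) := by
  haveI := Cfsg.Agent.Lib.Cores.fittingSubgroup_normal (G := M)
  exact le_normalizer_map_subtype M _

theorem relIndex_map_subtype (M : Subgroup G) (N : Subgroup M) :
    (N.map M.subtype).relIndex M = N.index := by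
  rw [Subgroup.relIndex, Subgroup.subgroupOf,
    Subgroup.comap_map_eq_self_of_injective (Subgroup.subtype_injective M)]

theorem fittingHallOf_coprime (M : Subgroup G) :
    (Nat.card (Cfsg.fittingHallOf M)).Coprime ((Cfsg.fittingHallOf M).relIndex M) := by
  rw [Cfsg.fittingHallOf, relIndex_map_subtype,
    Subgroup.card_map_of_injective (Subgroup.subtype_injective M)]
  exact (fittingHall_spec M).2

/-- A normal nilpotent Hall subgroup of `M` lies in `M_F`. -/
theorem le_fittingHallOf {M N : Subgroup G} (hle : N ≤ M)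
    (hn : M ≤ Subgroup.normalizer (N : Set G)) (h : Group.IsNilpotent N)
    (h' : (Nat.card N).Coprime (N.relIndex M)) : N ≤ Cfsg.fittingHallOf M := by
  haveI : (N.subgroupOf M).Normal := Subgroup.normal_subgroupOf_iff_le_normalizer hle |>.2 hn
  rw [← Subgroup.map_subgroupOf_eq_of_le hle]
  refine Subgroup.map_mono (le_fittingHall ?_ ?_)
  · haveI := h
    exact Group.nilpotent_of_mulEquiv (Subgroup.subgroupOfEquivOfLe hle).symm
  · rw [Nat.card_congr (Subgroup.subgroupOfEquivOfLe hle).toEquiv]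
    exact h'

end Cfsg.Agent.Lib.OddOrder.Basic
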