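import Cfsg.Agent.Lib.OddOrder.Basic

/-!
# Type P data: elementary consequences
-/

set_option autoImplicit false

open scoped Pointwise commutatorElement

namespace Cfsg.Agent.Lib.OddOrder.TypeP

open Cfsg.Agent.Lib.OddOrder.Basic

universe u

variable {G : Type u} [Group G] [Finite G] {M W₁ U W₂ : Subgroup G}

theorem derived_le (M : Subgroup G) : ⁅M, M⁆ ≤ M :=
  Subgroup.commutator_le.2 fun a ha b hb =>
    mul_mem (mul_mem (mul_mem ha hb) (inv_mem ha)) (inv_mem hb)

theorem U_le (hP : Cfsg.IsTypePWith M W₁ U W₂) : U ≤ M :=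
  hP.U_compl.2.1.trans (derived_le M)

theorem coprime_H_U (hP : Cfsg.IsTypePWith M W₁ U W₂) :
    (Nat.card (Cfsg.fittingHallOf M)).Coprime (Nat.card U) := by
  refine (fittingHallOf_coprime M).coprime_dvd_right ?_
  rw [← isComplIn_relIndex hP.U_compl, ← Subgroup.relIndex_mul_relIndex _ ⁅M, M⁆ M
    hP.U_compl.1 (derived_le M)]
  exact dvd_mul_right _ _

theorem U_inf_fitting (hP : Cfsg.IsTypePWith M W₁ U W₂) :
    U ⊓ Cfsg.fittingOf M = U ⊓ Subgroup.centralizer (Cfsg.fittingHallOf M : Set G) := by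
  refine le_antisymm (le_inf inf_le_left ?_) (le_inf inf_le_left ?_)
  · exact le_centralizer_of_nilpotent (fittingOf_isNilpotent M) inf_le_right
      (fittingHallOf_le_fittingOf M)
      ((coprime_H_U hP).symm.coprime_dvd_left (Subgroup.card_dvd_of_le inf_le_left))
  · rw [← hP.fitting_eq]
    exact le_trans (le_inf (inf_le_left.trans (U_le hP)) inf_le_right) le_sup_right

theorem fitting_eq_sup (hP : Cfsg.IsTypePWith M W₁ U W₂) :
    Cfsg.fittingOf M = Cfsg.fittingHallOf M ⊔
      (U ⊓ Subgroup.centralizer (Cfsg.fittingHallOf M : Set G)) := by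
  rw [← U_inf_fitting hP, inf_comm]
  exact (isComplIn_sup (isComplIn_of_le hP.U_compl (fittingHallOf_le_fittingOf M)
    hP.fitting_le)).symm

theorem derived_U_le (hP : Cfsg.IsTypePWith M W₁ U W₂) :
    ⁅U, U⁆ ≤ Subgroup.centralizer (Cfsg.fittingHallOf M : Set G) := by
  have h1 : ⁅U, U⁆ ≤ U ⊓ Cfsg.fittingOf M := by
    refine le_inf (derived_le U) ?_
    rw [← hP.fitting_eq]
    exact (Subgroup.commutator_mono hP.U_compl.2.1 hP.U_compl.2.1).trans hP.derived_two_le
  exact (h1.trans (U_inf_fitting hP).le).trans inf_le_right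

theorem U_eq_bot_of_centralizes (hP : Cfsg.IsTypePWith M W₁ U W₂)
    (hU : U ≤ Subgroup.centralizer (Cfsg.fittingHallOf M : Set G)) : U = ⊥ := by
  have hF : ⁅M, M⁆ = Cfsg.fittingOf M := by
    refine le_antisymm ?_ hP.fitting_le
    rw [fitting_eq_sup hP, inf_eq_left.2 hU, isComplIn_sup hP.U_compl]
  have hH : ⁅M, M⁆ ≤ Cfsg.fittingHallOf M := by
    refine le_fittingHallOf (derived_le M) (hF ▸ fittingOf_normal M)
      (hF ▸ fittingOf_isNilpotent M) ?_
    have h := hP.W₁_hall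
    rw [isComplIn_relIndex hP.W₁_compl]
    rw [isComplIn_relIndex (isComplIn_symm hP.W₁_compl)] at h
    exact h.symm
  rw [← inf_eq_right.2 (hP.U_compl.2.1.trans hH), hP.U_compl.2.2.1]

end Cfsg.Agent.Lib.OddOrder.TypeP
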