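import Cfsg.Agent.Lib.OddOrder.CentDerived
import Cfsg.Agent.Lib.OddTau.Nonabelian

/-!
# BG 12.13 plugged into the later sections
-/

set_option autoImplicit false

namespace Cfsg.Agent.Lib.OddOrder.NonabelianFacts

universe u

theorem nonabelianUnique {G : Type u} [Group G] [Finite G] (hG : Cfsg.IsMinSimpleOddOrder G) :
    CentDerived.NonabelianUnique G :=
  fun _ _ _ hP hna => Cfsg.Agent.Lib.OddTau.Nonabelian.inUniqueMaximal hG hP hna

end Cfsg.Agent.Lib.OddOrder.NonabelianFacts
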