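import Cfsg.Agent.Lib.OddOrder.SigmaSubgroup
import Cfsg.Agent.Lib.Transfer.PResidual

/-!
# BG 12.14, 12.17
-/

set_option autoImplicit false
set_option linter.style.haveILetI false
set_option linter.unusedSectionVars false

open scoped Pointwise commutatorElement

namespace Cfsg.Agent.Lib.OddOrder.CentDerived

open Cfsg.Agent.Lib.OddOrder.MinSimple

universe u

/-- BG 12.13, as a hypothesis. -/
def NonabelianUnique (G : Type u) [Group G] : Prop :=
  ∀ (p : ℕ) [Fact p.Prime], ∀ P : Subgroup G, IsPGroup p P → ¬ IsMulCommutative P →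
    Cfsg.InUniqueMaximal P

variable {G : Type u} [Group G] [Finite G] {p : ℕ} [hp : Fact p.Prime]

theorem elemAb_zpowers {x : G} (h : x ^ p = 1) :
    Cfsg.IsElementaryAbelian p (Subgroup.zpowers x) :=
  ⟨inferInstance, by
    rintro _ ⟨i, rfl⟩
    rw [← zpow_natCast, ← zpow_mul, mul_comm, zpow_mul, zpow_natCast, h, one_zpow]⟩

/-- A rank three elementary abelian subgroup commuting with `x` gives uniqueness. -/
theorem unique_of_large (hG : Cfsg.IsMinSimpleOddOrder G) {B : Subgroup G}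
    (hB : Cfsg.IsElementaryAbelian p B) (hBc : p ^ 2 < Nat.card B) : Cfsg.InUniqueMaximal B :=
  UniquenessTheorem.of_rank hG (pgroup_ne_top hG (p := p)
    (fun x => ⟨1, Subtype.ext (by simpa using hB.2 x x.2)⟩))
    fun h => Rank.not_prankLE_of_elemAb le_rfl hB hBc (h p hp.out)

/-- In a Sylow subgroup of rank three, an element of order `p` of the derived group or any element
for an ideal prime centralizes a uniqueness subgroup. -/
theorem exists_unique_of_rank (hG : Cfsg.IsMinSimpleOddOrder G) (P : Sylow p G)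
    (hP3 : ¬ Cfsg.PRankLE p 2 (P : Subgroup G)) {x : G} (hxP : x ∈ (P : Subgroup G))
    (hx : orderOf x = p)
    (h : Cfsg.IsIdealPrime p G ∨ x ∈ ⁅(P : Subgroup G), (P : Subgroup G)⁆) :
    ∃ Q : Subgroup G, Cfsg.InUniqueMaximal Q ∧ Q ≤ (P : Subgroup G) ∧
      Q ≤ Subgroup.centralizer ({x} : Set G) := by
  have hxp : x ^ p = 1 := hx ▸ pow_orderOf_eq_one x
  have hX := elemAb_zpowers (p := p) hxp
  have hXc : Nat.card (Subgroup.zpowers x) = p := by rw [Nat.card_zpowers, hx]
  have hxC : ∀ B : Subgroup G, Cfsg.IsElementaryAbelian p B → x ∈ B →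
      B ≤ Subgroup.centralizer ({x} : Set G) := fun B hB hxB b hb =>
    Subgroup.mem_centralizer_singleton_iff.2
      (congrArg Subtype.val (hB.1.is_comm.comm ⟨b, hb⟩ ⟨x, hxB⟩))
  obtain ⟨U, hUn, hU, hUc⟩ := PConnected.exists_normal_sq P.2 hP3
  haveI := hUn
  set W := U.map (P : Subgroup G).subtype with hW
  have hWP : W ≤ (P : Subgroup G) := Subgroup.map_subtype_le _
  have hWe : Cfsg.IsElementaryAbelian p W := PGroups.elemAb_map _ hU
  have hWc : Nat.card W = p ^ 2 := by
    rw [hW, Subgroup.card_map_of_injective (P : Subgroup G).subtype_injective, hUc]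
  rcases h with hid | hxd
  · -- ideal prime: `x` lies in some subgroup of type `(p, p, p)`
    haveI : Nontrivial (P : Subgroup G) := (Subgroup.nontrivial_iff_ne_bot _).2 fun e => by
      rw [e, Subgroup.mem_bot] at hxP
      rw [hxP, orderOf_one] at hx
      exact hp.out.ne_one hx.symm
    haveI := P.isPGroup'.center_nontrivial
    obtain ⟨n, hn, hnc⟩ := (P.isPGroup'.to_subgroup
      (Subgroup.center (P : Subgroup G))).nontrivial_iff_card.1 inferInstance
    obtain ⟨z, hz⟩ := exists_prime_orderOf_dvd_card' (G := Subgroup.center (P : Subgroup G)) p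
      ((dvd_pow_self p hn.ne').trans hnc.symm.dvd)
    set z' : G := ((z : (P : Subgroup G)) : G) with hz'
    have hzo : orderOf z' = p := by rw [hz', Subgroup.orderOf_coe, Subgroup.orderOf_coe, hz]
    have hzP : ∀ y ∈ (P : Subgroup G), Commute y z' := fun y hy =>
      congrArg Subtype.val (Subgroup.mem_center_iff.1 z.2 ⟨y, hy⟩)
    by_cases hxz : x ∈ Subgroup.zpowers z'
    · refine ⟨(P : Subgroup G), UniquenessTheorem.of_rank hG (pgroup_ne_top hG P.2)
        (fun h => hP3 (h p hp.out)), le_rfl, fun y hy => Subgroup.mem_centralizer_singleton_iff.2 ?_⟩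
      obtain ⟨i, rfl⟩ := hxz
      exact ((hzP y hy).zpow_right i).eq
    have hXz : Subgroup.zpowers x ≤ Subgroup.centralizer (Subgroup.zpowers z' : Set G) :=
      Subgroup.zpowers_le.2 (Subgroup.mem_centralizer_iff.2 (by
        rintro _ ⟨i, rfl⟩
        exact ((hzP x hxP).zpow_right i).eq.symm))
    have hE := SCN.elemAb_sup hX (elemAb_zpowers (p := p) (x := z') (hzo ▸ pow_orderOf_eq_one _)) hXz
    have hEc : Nat.card ↥(Subgroup.zpowers x ⊔ Subgroup.zpowers z') = p ^ 2 := by
      rw [Coprime.card_sup_of_disjoint (hXz.trans (Subgroup.centralizer_le_normalizer _)), hXc,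
        Nat.card_zpowers, hzo, sq]
      rw [disjoint_iff, eq_bot_iff]
      intro y hy
      rw [Subgroup.mem_bot]
      by_contra hy1
      refine hxz ?_
      have h1 : Subgroup.zpowers y = Subgroup.zpowers x := by
        refine Subgroup.eq_of_le_of_card_ge (Subgroup.zpowers_le.2 hy.1) ?_
        rw [hXc, Nat.card_zpowers, orderOf_eq_prime (hX.2 y hy.1) hy1]
      exact Subgroup.zpowers_le.2 hy.2 (h1 ▸ Subgroup.mem_zpowers x)
    obtain ⟨B, hBP, hB, hlt⟩ := hid.2.2 P _ (sup_le (Subgroup.zpowers_le.2 hxP)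
      (Subgroup.zpowers_le.2 (z : (P : Subgroup G)).2)) hE hEc
    refine ⟨B, unique_of_large hG hB ?_, hBP,
      hxC B hB (hlt.le (Subgroup.mem_sup_left (Subgroup.mem_zpowers x)))⟩
    rw [← hEc]
    exact lt_of_le_of_ne (Subgroup.card_le_of_le hlt.le) fun e =>
      hlt.ne (Subgroup.eq_of_le_of_card_ge hlt.le e.ge)
  -- `x ∈ P'` centralizes `W`
  have hidx := PConnected.relIndex_centralizer_le P.2 hU hUc
  have hPC : commutator (P : Subgroup G) ≤ Subgroup.centralizer (U : Set (P : Subgroup G)) := by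
    haveI : (Subgroup.centralizer (U : Set (P : Subgroup G))).Normal := Subgroup.normal_centralizer
    set C := Subgroup.centralizer (U : Set (P : Subgroup G))
    obtain ⟨j, hj⟩ := IsPGroup.iff_card.1 (P.isPGroup'.to_quotient C)
    have hle : Nat.card ((P : Subgroup G) ⧸ C) ≤ p := by rwa [← Subgroup.index_eq_card]
    haveI : IsCyclic ((P : Subgroup G) ⧸ C) := by
      rcases j with _ | j
      · haveI := (Nat.card_eq_one_iff_unique.1 (by simpa using hj)).1
        infer_instance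
      · refine isCyclic_of_prime_card (p := p) (le_antisymm hle ?_)
        rw [hj]
        exact Nat.le_self_pow j.succ_ne_zero p
    rw [commutator_def, Subgroup.commutator_le]
    intro a _ b _
    rw [← QuotientGroup.eq_one_iff, ← QuotientGroup.mk'_apply, map_commutatorElement,
      commutatorElement_eq_one_iff_mul_comm]
    letI := IsCyclic.commGroup (α := (P : Subgroup G) ⧸ C)
    exact mul_comm _ _
  have hxW : W ≤ Subgroup.centralizer ({x} : Set G) := by
    rw [← Subgroup.map_subtype_commutator] at hxd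
    obtain ⟨y, hy, rfl⟩ := hxd
    rintro _ ⟨w, hw, rfl⟩
    exact Subgroup.mem_centralizer_singleton_iff.2
      (congrArg Subtype.val (Subgroup.mem_centralizer_iff.1 (hPC hy) w hw))
  have hXW : Subgroup.zpowers x ≤ Subgroup.centralizer (W : Set G) :=
    Subgroup.zpowers_le.2 (Subgroup.mem_centralizer_iff.2 fun w hw =>
      Subgroup.mem_centralizer_singleton_iff.1 (hxW hw))
  by_cases hxW' : x ∈ W
  swap
  · have hsup := SCN.elemAb_sup hX hWe hXW
    refine ⟨_, unique_of_large hG hsup ?_, sup_le (Subgroup.zpowers_le.2 hxP) hWP,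
      hxC _ hsup (Subgroup.mem_sup_left (Subgroup.mem_zpowers x))⟩
    refine lt_of_le_of_ne (hWc ▸ Subgroup.card_le_of_le le_sup_right) fun e => hxW' ?_
    rw [Subgroup.eq_of_le_of_card_ge (le_sup_right : W ≤ Subgroup.zpowers x ⊔ W) (hWc ▸ e.ge)]
    exact Subgroup.mem_sup_left (Subgroup.mem_zpowers x)
  obtain ⟨E, hEP, hE, hEc⟩ := Rank.exists_elemAb_of_not_prankLE hP3
  have hsq := UniqueRank.sq_le_card_inf_centralizer P.2 hWP (Basic.le_normalizer_map_subtype _ U)
    hWe hWc hEP hE hEc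
  set E' := E ⊓ Subgroup.centralizer (W : Set G) with hE'
  have hsup := SCN.elemAb_sup (PGroups.elemAb_mono hE (inf_le_left : E' ≤ E)) hWe inf_le_right
  refine ⟨E' ⊔ W, unique_of_large hG hsup ?_, sup_le (inf_le_left.trans hEP) hWP,
    hxC _ hsup (Subgroup.mem_sup_right hxW')⟩
  refine lt_of_le_of_ne (hWc ▸ Subgroup.card_le_of_le le_sup_right) fun e => ?_
  have hWeq : W = E' ⊔ W := Subgroup.eq_of_le_of_card_ge le_sup_right (hWc ▸ e.ge)
  have hE'W : E' = W :=
    Subgroup.eq_of_le_of_card_ge (hWeq ▸ le_sup_left) (hWc.le.trans hsq)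
  have hEC : E ≤ Subgroup.centralizer (W : Set G) :=
    Subgroup.le_centralizer_iff.1 ((hE'W.ge.trans inf_le_left).trans
      (Subgroup.le_centralizer_iff_isMulCommutative.2 hE.1))
  rw [hE', inf_eq_left.2 hEC] at hE'W
  rw [hE'W, hWc] at hEc
  exact lt_irrefl _ hEc

/-- In a Sylow subgroup of rank two an element of the derived group is central. -/
theorem le_centralizer_of_rank_two (hG : Cfsg.IsMinSimpleOddOrder G) (P : Sylow p G)
    (hr : Cfsg.PRankLE p 2 (P : Subgroup G)) :
    ⁅(P : Subgroup G), (P : Subgroup G)⁆ ≤ Subgroup.centralizer ((P : Subgroup G) : Set G) := by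
  rcases SylowNormalizer.structure_rank_two hG (PLengthOne.of_ne_top hG p) P hr with
    hab | ⟨P₁, P₂, hP, hcomm, hnc, hc3, -, hcyc, -⟩
  · exact (Subgroup.commutator_eq_bot_iff_le_centralizer.2
      (Subgroup.le_centralizer_iff_isMulCommutative.2 hab)).le.trans bot_le
  have hn : P₁ ≤ Subgroup.normalizer (P₂ : Set G) := fun a ha =>
    Subgroup.centralizer_le_normalizer _
      (Subgroup.mem_centralizer_iff.2 fun b hb => (hcomm a ha b hb).symm)
  have hmem : ∀ g ∈ (P : Subgroup G), ∃ a ∈ P₁, ∃ b ∈ P₂, a * b = g := fun g hg =>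
    Set.mem_mul.1 (by
      rw [← Subgroup.coe_mul_of_left_le_normalizer_right _ _ hn]
      exact hP.ge hg)
  rw [Subgroup.commutator_le]
  intro g hg k hk
  obtain ⟨a, ha, b, hb, rfl⟩ := hmem g hg
  obtain ⟨c, hc, d, hd, rfl⟩ := hmem k hk
  haveI := hcyc
  letI := IsCyclic.commGroup (α := P₂)
  have hbd : b * d = d * b := congrArg Subtype.val (mul_comm (⟨b, hb⟩ : P₂) ⟨d, hd⟩)
  have hac : ⁅a, c⁆ ∈ P₁ ⊓ Subgroup.centralizer (P₁ : Set G) :=
    SylowNormalizer.derived_eq_center hc3 hnc ▸ Subgroup.commutator_mem_commutator ha hc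
  have e : ⁅a * b, c * d⁆ = ⁅a, c⁆ := by
    have h1 : b * c = c * b := (hcomm c hc b hb).symm
    have h2 : a⁻¹ * d = d * a⁻¹ := hcomm _ (inv_mem ha) d hd
    simp only [commutatorElement_def, mul_inv_rev]
    calc a * b * (c * d) * (b⁻¹ * a⁻¹) * (d⁻¹ * c⁻¹)
        = a * (b * c) * d * b⁻¹ * a⁻¹ * d⁻¹ * c⁻¹ := by group
      _ = a * c * (b * d) * b⁻¹ * a⁻¹ * d⁻¹ * c⁻¹ := by rw [h1]; group
      _ = a * c * (d * a⁻¹) * d⁻¹ * c⁻¹ := by rw [hbd]; group
      _ = a * c * (a⁻¹ * d) * d⁻¹ * c⁻¹ := by rw [h2]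
      _ = a * c * a⁻¹ * c⁻¹ := by group
  rw [e, Subgroup.mem_centralizer_iff]
  intro y hy
  obtain ⟨u, hu, v, hv, rfl⟩ := hmem y hy
  have h3 : Commute u ⁅a, c⁆ := Subgroup.mem_centralizer_iff.1 hac.2 u hu
  have h4 : Commute v ⁅a, c⁆ := (hcomm _ hac.1 v hv).symm
  exact (h3.mul_left h4).eq

/-- BG 12.14. -/
theorem cent_derived (h13 : NonabelianUnique G) (hG : Cfsg.IsMinSimpleOddOrder G) {M : Subgroup G}
    (hM : IsCoatom M) (hσ : p ∈ Cfsg.sigma M) {x : G} (hxM : x ∈ M) (hx : orderOf x = p)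
    (h : p ∈ Cfsg.beta M ∨ x ∈ ⁅Cfsg.sigmaCore M, Cfsg.sigmaCore M⁆) :
    (Subgroup.centralizer ({x} : Set G) ≤ M ∧
      ∀ L : Subgroup G, IsCoatom L → Subgroup.centralizer ({x} : Set G) ≤ L → L = M) ∧
      ∀ Q : Sylow p G, Cfsg.InUniqueMaximal (Q : Subgroup G) := by
  have hx1 : x ≠ 1 := fun e => hp.out.ne_one (by rw [← hx, e, orderOf_one])
  have hXp : IsPGroup p (Subgroup.zpowers x) :=
    IsPGroup.of_card (n := 1) (by rw [Nat.card_zpowers, hx, pow_one])
  obtain ⟨P, hXP, hPM, -⟩ := Sigma.exists_sylow_ge hσ hXp (Subgroup.zpowers_le.2 hxM)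
  have hxP : x ∈ (P : Subgroup G) := hXP (Subgroup.mem_zpowers x)
  have hPσ : (P : Subgroup G) ≤ Cfsg.sigmaCore M := SigmaSubgroup.le_sigmaCore hG hM hPM
    fun r hr hd => Hall.prime_dvd_pgroup hp.out hr P.2 hd ▸ hσ
  have h' : p ∈ Cfsg.beta M ∨ x ∈ ⁅(P : Subgroup G), (P : Subgroup G)⁆ := by
    by_cases hb : p ∈ Cfsg.beta M
    · exact Or.inl hb
    refine Or.inr ?_
    obtain ⟨-, -, -, -, h5⟩ := BetaCore.spec hG (fun q _ => PLengthOne.of_ne_top hG q) hM
    obtain ⟨-, hnc, -⟩ := h5 p hp.out hσ.2.1 hb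
    set Mσ := Cfsg.sigmaCore M with hMσ
    set S : Sylow p Mσ := P.subtype hPσ with hS
    have hcompl := Transfer.PResidual.isComplement'_pResidual hnc S
    have hC : (Nat.card (Cfsg.pResidual p Mσ)).Coprime p :=
      (hp.out.coprime_iff_not_dvd.2 (Transfer.PResidual.hasNormalPComplement_iff_not_dvd.1 hnc)).symm
    have hxd : x ∈ (commutator Mσ).map Mσ.subtype := by
      rw [Subgroup.map_subtype_commutator]
      exact h.resolve_left hb
    obtain ⟨y, hy, hyx⟩ := hxd
    have hyS : y ∈ (S : Subgroup Mσ) := by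
      rw [hS, Sylow.coe_subtype, Subgroup.mem_subgroupOf]
      rw [Subgroup.subtype_apply] at hyx
      rwa [hyx]
    have h1 := UniqueFocal.mem_commutator_of_sup (O := Cfsg.pResidual p Mσ) (X := (S : Subgroup Mσ))
      hC (Transfer.PResidual.sup_sylow_eq_top S) hyS (k := 1)
      (Subtype.ext (by
        rw [SubmonoidClass.coe_pow, pow_one, OneMemClass.coe_one, ← Subgroup.subtype_apply, hyx]
        exact hx ▸ pow_orderOf_eq_one x)) hy
    have h2 := Subgroup.mem_map_of_mem Mσ.subtype h1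
    rwa [Subgroup.map_commutator, hS, Sylow.coe_subtype, Subgroup.map_subgroupOf_eq_of_le hPσ,
      hyx] at h2
  -- a uniqueness subgroup in `P ∩ C(x)`
  obtain ⟨Q, hQU, hQP, hQx⟩ : ∃ Q : Subgroup G, Cfsg.InUniqueMaximal Q ∧ Q ≤ (P : Subgroup G) ∧
      Q ≤ Subgroup.centralizer ({x} : Set G) := by
    by_cases hP3 : Cfsg.PRankLE p 2 (P : Subgroup G)
    · have hxd := h'.resolve_left fun hb =>
        hb.1.2 (InvariantPrime.prankLE_of_sylow P hP3 M)
      refine ⟨(P : Subgroup G), h13 p _ P.2 fun hab => hx1 ?_, le_rfl, fun y hy => ?_⟩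
      · rw [Subgroup.commutator_eq_bot_iff_le_centralizer.2
          (Subgroup.le_centralizer_iff_isMulCommutative.2 hab), Subgroup.mem_bot] at hxd
        exact hxd
      · exact Subgroup.mem_centralizer_singleton_iff.2
          (Subgroup.mem_centralizer_iff.1 (le_centralizer_of_rank_two hG P hP3 hxd) y hy)
    · exact exists_unique_of_rank hG P hP3 hxP hx (h'.imp (fun hb => hb.2) id)
  have hPU : Cfsg.InUniqueMaximal (P : Subgroup G) :=
    UniqueRank.mono hG hQU hQP (pgroup_ne_top hG P.2)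
  refine ⟨?_, fun R => ?_⟩
  · obtain ⟨L, hL, hCL⟩ := exists_coatom_ge hG (centralizer_singleton_ne_top hG hx1)
    have hu : ∀ L : Subgroup G, IsCoatom L → Subgroup.centralizer ({x} : Set G) ≤ L → L = M :=
      fun L hL hCL => UniqueRank.eq_of_le hQU hL (hQx.trans hCL) hM (hQP.trans hPM)
    exact ⟨hu L hL hCL ▸ hCL, hu⟩
  · obtain ⟨g, hg⟩ := MulAction.exists_smul_eq G P R
    rw [← hg, Sylow.coe_subgroup_smul]
    exact UniqueRank.conj hPU g

end Cfsg.Agent.Lib.OddOrder.CentDerived
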