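import Cfsg.Agent.Lib.OddOrder.CentTauOne
import Cfsg.Agent.Lib.OddOrder.CentDerived
import Cfsg.Agent.Lib.OddOrder.CyclicSylow
import Cfsg.Agent.Lib.OddTau.Exceptional

/-!
# BG 13.9: the sets `σ(M)` of non-conjugate maximal subgroups are disjoint
-/

set_option autoImplicit false
set_option linter.style.haveILetI false
set_option linter.unusedSectionVars false

open scoped Pointwise commutatorElement

namespace Cfsg.Agent.Lib.OddOrder.SigmaDisjoint

open Cfsg.Agent.Lib.OddOrder.MinSimple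

universe u

variable {G : Type u} [Group G] [Finite G]

theorem centralizer_zpowers (x : G) :
    Subgroup.centralizer (Subgroup.zpowers x : Set G) = Subgroup.centralizer ({x} : Set G) := by
  rw [Subgroup.zpowers_eq_closure, Subgroup.centralizer_closure]

theorem zpowers_isPGroup {r : ℕ} [Fact r.Prime] {x : G} (hx : orderOf x = r) :
    IsPGroup r (Subgroup.zpowers x) :=
  IsPGroup.of_card (n := 1) (by rw [Nat.card_zpowers, hx, pow_one])

/-- For a prime of `r_t(M) = 1` dividing `|M'|`, the `t`-subgroups of `M` lie in `M'`. -/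
theorem le_derived_of_rank_one (hG : Cfsg.IsMinSimpleOddOrder G) {M R : Subgroup G} {t : ℕ}
    [ht : Fact t.Prime] (hr : Cfsg.PRankLE t 1 M) (hd : t ∣ Nat.card ↥⁅M, M⁆) (hR : IsPGroup t R)
    (hRM : R ≤ M) : R ≤ ⁅M, M⁆ := by
  obtain ⟨S, hS⟩ := (hR.comap_subtype (K := M)).exists_le_sylow
  haveI hSc : IsCyclic ((S : Subgroup M).map M.subtype) :=
    SigmaCompl.isCyclic_of_prankLE_one hG (Subgroup.map_subtype_le _) hr (S.2.map _)
  have hd' : t ∣ Nat.card (commutator M) := by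
    rwa [← Subgroup.map_subtype_commutator,
      Subgroup.card_map_of_injective M.subtype_injective] at hd
  have h := CyclicSylow.le_commutator_of_dvd (ne_two_of_dvd hG (hd.trans (Subgroup.card_subgroup_dvd_card _)))
    S ((Subgroup.equivMapOfInjective _ _ M.subtype_injective).isCyclic.2 hSc) hd'
  intro x hx
  rw [← Subgroup.map_subtype_commutator]
  exact ⟨⟨x, hRM hx⟩, h (hS (show (⟨x, hRM hx⟩ : M) ∈ R.comap M.subtype from hx)), rfl⟩

/-- Elements of order `r` in a group of `r`-rank one generate conjugate subgroups. -/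
theorem exists_conj_zpowers (hG : Cfsg.IsMinSimpleOddOrder G) {D : Subgroup G} {r : ℕ}
    [hr : Fact r.Prime] (hD : Cfsg.PRankLE r 1 D) {a b : G} (ha : a ∈ D) (hb : b ∈ D)
    (hao : orderOf a = r) (hbo : orderOf b = r) :
    ∃ d ∈ D, (Subgroup.zpowers b).map (MulAut.conj d).toMonoidHom = Subgroup.zpowers a := by
  obtain ⟨A, hA⟩ := ((zpowers_isPGroup hao).comap_subtype (K := D)).exists_le_sylow
  obtain ⟨B, hB⟩ := ((zpowers_isPGroup hbo).comap_subtype (K := D)).exists_le_sylow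
  obtain ⟨g, hg⟩ := MulAction.exists_smul_eq D B A
  refine ⟨(g : G), g.2, ?_⟩
  haveI : IsCyclic ((A : Subgroup D).map D.subtype) :=
    SigmaCompl.isCyclic_of_prankLE_one hG (Subgroup.map_subtype_le _) hD (A.2.map _)
  refine Cyclic.eq_of_card_eq_of_isCyclic (W := (A : Subgroup D).map D.subtype) ?_ ?_ ?_
  · rw [MonoidHom.map_zpowers, Subgroup.zpowers_le]
    have hbB : (⟨b, hb⟩ : D) ∈ (B : Subgroup D) :=
      hB (show (⟨b, hb⟩ : D) ∈ (Subgroup.zpowers b).comap D.subtype from Subgroup.mem_zpowers b)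
    refine ⟨g * ⟨b, hb⟩ * g⁻¹, ?_, rfl⟩
    rw [← hg, SetLike.mem_coe, Sylow.coe_subgroup_smul, Coprime.mem_conj_smul]
    simpa [mul_assoc] using hbB
  · exact Subgroup.zpowers_le.2 ⟨⟨a, ha⟩,
      hA (show (⟨a, ha⟩ : D) ∈ (Subgroup.zpowers a).comap D.subtype from Subgroup.mem_zpowers a), rfl⟩
  · rw [Subgroup.card_map_of_injective (MulAut.conj (g : G)).injective, Nat.card_zpowers,
      Nat.card_zpowers, hao, hbo]

variable {q : ℕ} [hq : Fact q.Prime] {M H : Subgroup G} {S : Sylow q G}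

/-- Two non-conjugate maximal subgroups containing `N(S)`. -/
structure Pair (M H : Subgroup G) (S : Sylow q G) : Prop where
  min : Cfsg.IsMinSimpleOddOrder G
  tau : SigmaSubgroup.TauTwo G
  maxM : IsCoatom M
  maxH : IsCoatom H
  nc : ∀ g : G, H ≠ M.map (MulAut.conj g).toMonoidHom
  sigM : q ∈ Cfsg.sigma M
  sigH : q ∈ Cfsg.sigma H
  comm : IsMulCommutative (S : Subgroup G)
  normM : Subgroup.normalizer ((S : Subgroup G) : Set G) ≤ M
  normH : Subgroup.normalizer ((S : Subgroup G) : Set G) ≤ H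

theorem Pair.symm (h : Pair M H S) : Pair H M S :=
  ⟨h.min, h.tau, h.maxH, h.maxM, MaximalBasics.not_conj_symm h.nc, h.sigH, h.sigM, h.comm,
    h.normH, h.normM⟩

theorem Pair.le_M (h : Pair M H S) : (S : Subgroup G) ≤ M := Subgroup.le_normalizer.trans h.normM

theorem Pair.ne_bot (h : Pair M H S) : (S : Subgroup G) ≠ ⊥ :=
  S.ne_bot_of_dvd_card (Sigma.dvd_card_group h.sigM)

theorem Pair.le_sigmaCore (h : Pair M H S) : (S : Subgroup G) ≤ Cfsg.sigmaCore M :=
  SigmaSubgroup.le_sigmaCore h.min h.maxM h.le_M fun _ hr hd =>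
    Hall.prime_dvd_pgroup hq.out hr S.2 hd ▸ h.sigM

theorem Pair.le_derived (h : Pair M H S) : (S : Subgroup G) ≤ ⁅M, M⁆ :=
  Sigma.le_derived h.min h.maxM h.sigM S.2 h.le_M

theorem Pair.not_alpha (h : Pair M H S) : q ∉ Cfsg.alpha M :=
  MaximalBasics.not_alpha_of_sigma h.min h.maxH h.maxM (MaximalBasics.not_conj_symm h.nc) h.sigH

theorem Pair.derived_centralizes (h : Pair M H S) {d : G} (hd : d ∈ ⁅M, M⁆)
    (hdS : d ∈ Subgroup.normalizer ((S : Subgroup G) : Set G)) (hco : (orderOf d).Coprime q) :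
    d ∈ Subgroup.centralizer ((S : Subgroup G) : Set G) :=
  MaximalBasics.derived_centralizes h.min h.maxM h.not_alpha S.2 h.le_derived hd hdS hco

/-- A prime-power element of `N(S)` moving `S` has its prime in `τ₁(M)`, and so does its
power of prime order move `S`. -/
theorem Pair.moving (h : Pair M H S) {t k : ℕ} [ht : Fact t.Prime] {d : G}
    (hd : d ∈ Subgroup.normalizer ((S : Subgroup G) : Set G)) (hdo : orderOf d = t ^ (k + 1))
    (htq : t ≠ q) (hdS : d ∉ Subgroup.centralizer ((S : Subgroup G) : Set G)) :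
    t ∈ Cfsg.tau1 M ∧ d ^ t ^ k ∉ Subgroup.centralizer ((S : Subgroup G) : Set G) := by
  have hdM : d ∈ M := h.normM hd
  have hdt : IsPGroup t (Subgroup.zpowers d) :=
    IsPGroup.of_card (n := k + 1) (by rw [Nat.card_zpowers, hdo])
  have hco : (orderOf d).Coprime q := hdo ▸ ((Nat.coprime_primes ht.out hq.out).2 htq).pow_left _
  have htM : t ∣ Nat.card M :=
    (hdo ▸ dvd_pow_self t k.succ_ne_zero : t ∣ orderOf d).trans (Subgroup.orderOf_dvd_natCard M hdM)
  have h1 : t ∉ Cfsg.sigma M := fun hσ => hdS (h.derived_centralizes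
    (Sigma.le_derived h.min h.maxM hσ hdt (Subgroup.zpowers_le.2 hdM) (Subgroup.mem_zpowers d))
    hd hco)
  have h1' : t ∉ Cfsg.sigma H := fun hσ => hdS (h.symm.derived_centralizes
    (Sigma.le_derived h.min h.maxH hσ hdt (Subgroup.zpowers_le.2 (h.normH hd))
      (Subgroup.mem_zpowers d)) hd hco)
  have h2 : t ∉ Cfsg.tau2 M := by
    refine SigmaMeet.not_tau2 h.tau h.min h.maxH h.maxM (MaximalBasics.not_conj_symm h.nc)
      ((hdo ▸ dvd_pow_self t k.succ_ne_zero : t ∣ orderOf d).trans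
        (Subgroup.orderOf_dvd_natCard H (h.normH hd))) h1'
      (T := Subgroup.zpowers d) (Subgroup.zpowers_le.2 ⟨h.normH hd, hdM⟩) fun e => hdS ?_
    rw [Subgroup.commutator_eq_bot_iff_le_centralizer, Subgroup.le_centralizer_iff] at e
    exact Subgroup.centralizer_le (SetLike.coe_subset_coe.2 (le_inf h.symm.le_sigmaCore h.le_M))
      (e (Subgroup.mem_zpowers d))
  have hr1 : Cfsg.PRankLE t 1 M := by
    by_contra hn
    refine h2 ⟨ht.out, h1, ?_, hn⟩
    by_contra hn2
    exact h1 (AlphaCore.alpha_subset_sigma h.min h.maxM ⟨ht.out, hn2⟩)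
  refine ⟨⟨ht.out, h1, htM, fun hd' => hdS (h.derived_centralizes
    (le_derived_of_rank_one h.min hr1 hd' hdt (Subgroup.zpowers_le.2 hdM) (Subgroup.mem_zpowers d))
    hd hco), hr1⟩, fun hc => hdS ?_⟩
  have hdo' : orderOf (d ^ t ^ k) = t := by
    rw [orderOf_pow' _ (pow_ne_zero _ ht.out.ne_zero), hdo, pow_succ,
      Nat.gcd_eq_right (dvd_mul_right _ _), Nat.mul_div_cancel_left _ (pow_pos ht.out.pos _)]
  have h3 := SigmaMeet.prime_action h.tau h.min h.maxM h1 hr1 (P := Subgroup.zpowers (d ^ t ^ k))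
    (by rw [Nat.card_zpowers, hdo']) (Subgroup.zpowers_le.2 (pow_mem hdM _)) hdt
    (Subgroup.zpowers_le.2 ⟨hdM, by
      rw [centralizer_zpowers]
      exact Subgroup.mem_centralizer_singleton_iff.2 ((Commute.refl d).pow_right _)⟩)
  rw [centralizer_zpowers] at h3
  exact Subgroup.le_centralizer_iff.1 ((le_inf h.le_sigmaCore (fun s hs =>
    Subgroup.mem_centralizer_singleton_iff.2 (Subgroup.mem_centralizer_iff.1 hc s hs))).trans h3)
      (Subgroup.mem_zpowers d)

theorem Pair.exists_compl (h : Pair M H S) {U : Subgroup G}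
    (hUN : U ≤ Subgroup.normalizer ((S : Subgroup G) : Set G))
    (hU : ∀ s : ℕ, s.Prime → s ∣ Nat.card U → s ≠ q) :
    ∃ V : Subgroup G, Cfsg.IsComplIn (S : Subgroup G) V
        (Subgroup.normalizer ((S : Subgroup G) : Set G)) ∧ U ≤ V ∧
      (∀ v ∈ V, (orderOf v).Coprime q) ∧ ⁅(S : Subgroup G), V⁆ = (S : Subgroup G) := by
  set N := Subgroup.normalizer ((S : Subgroup G) : Set G) with hN
  haveI := solvable_of_ne_top h.min h.maxM.1
  haveI hNs : Group.IsSolvable N := Coprime.isSolvable_of_le h.normM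
  obtain ⟨V, ⟨hVN, hVπ, hVi⟩, -, hUV⟩ := Hall.Coprime.exists_invariant_ge (A := (⊥ : Subgroup G))
    (K := N) bot_le (by rw [Subgroup.card_bot]; exact Nat.coprime_one_left _) hNs
    {s : ℕ | s ≠ q} hUN bot_le hU
  have hSN : (S : Subgroup G) ≤ N := Subgroup.le_normalizer
  have hcopSV : (Nat.card (S : Subgroup G)).Coprime (Nat.card V) :=
    Nat.coprime_of_dvd fun s hs h1 h2 => hVπ s hs h2 (Hall.prime_dvd_pgroup hq.out hs S.2 h1)
  have hVc : Cfsg.IsComplIn (S : Subgroup G) V N := by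
    refine Basic.isComplIn_of_card hSN hVN (Basic.inf_eq_bot_of_coprime hcopSV)
      (Nat.dvd_antisymm ?_ (hcopSV.mul_dvd_of_dvd_of_dvd (Subgroup.card_dvd_of_le hSN)
        (Subgroup.card_dvd_of_le hVN)))
    have h1 := Subgroup.relIndex_mul_relIndex (⊥ : Subgroup G) _ N bot_le hSN
    have h2 := Subgroup.relIndex_mul_relIndex (⊥ : Subgroup G) V N bot_le hVN
    rw [Subgroup.relIndex_bot_left, Subgroup.relIndex_bot_left] at h1 h2
    have h3 : ((S : Subgroup G).relIndex N).Coprime (V.relIndex N) := by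
      refine Nat.coprime_of_dvd fun s hs a b => hVi s hs ?_ b
      rintro rfl
      exact S.not_dvd_index (a.trans (Subgroup.relIndex_mul_index hSN ▸ dvd_mul_right _ _))
    rw [← h1]
    refine Nat.mul_dvd_mul_left _ (h3.dvd_of_dvd_mul_right ?_)
    exact h2.symm ▸ h1 ▸ dvd_mul_left _ _
  refine ⟨V, hVc, hUV, fun v hv => Nat.coprime_comm.1 (hq.out.coprime_iff_not_dvd.2
    fun hd => hVπ q hq.out (hd.trans (Subgroup.orderOf_dvd_natCard V hv)) rfl),
    (SylowNormalizer.commutator_eq h.min (fun K hK => PLengthOne.of_ne_top h.min q K hK) S hVc).symm⟩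

/-- Some element of prime order `r ∈ τ₁(M) ∩ τ₁(H)` moves `S`. -/
theorem Pair.exists_moving (h : Pair M H S) :
    ∃ r : ℕ, ∃ _ : Fact r.Prime, ∃ x : G, orderOf x = r ∧ r ∈ Cfsg.tau1 M ∧ r ∈ Cfsg.tau1 H ∧
      x ∈ Subgroup.normalizer ((S : Subgroup G) : Set G) ∧
      x ∉ Subgroup.centralizer ((S : Subgroup G) : Set G) := by
  obtain ⟨V, hVc, -, hVq, hSV⟩ := h.exists_compl (U := ⊥) bot_le fun s hs hd =>
    absurd (Subgroup.card_bot (G := G) ▸ hd) hs.not_dvd_one
  by_contra hcon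
  refine h.ne_bot ?_
  rw [← hSV, Subgroup.commutator_eq_bot_iff_le_centralizer, Subgroup.le_centralizer_iff]
  refine Coprime.le_of_forall_sylow fun t ht => ?_
  haveI := Fact.mk ht
  obtain ⟨R⟩ : Nonempty (Sylow t V) := inferInstance
  refine ⟨R, ?_⟩
  rintro _ ⟨d, hd, rfl⟩
  by_contra hdS
  obtain ⟨n, hn⟩ := IsPGroup.iff_orderOf.1 R.2 ⟨d, hd⟩
  rw [Subgroup.orderOf_mk] at hn
  have hdo : orderOf (V.subtype d) = t ^ n := by rw [Subgroup.coe_subtype, Subgroup.orderOf_coe, hn]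
  have hn0 : n ≠ 0 := fun e => hdS (by
    rw [e, pow_zero, orderOf_eq_one_iff] at hdo
    rw [hdo]
    exact one_mem _)
  obtain ⟨k, rfl⟩ : ∃ k, n = k + 1 := ⟨n - 1, by omega⟩
  have htq : t ≠ q := fun e => by
    have := hVq _ d.2
    rw [Subgroup.coe_subtype] at hdo
    rw [hdo, e, Nat.coprime_pow_left_iff k.succ_pos, Nat.coprime_self] at this
    exact hq.out.ne_one this
  obtain ⟨h1, h2⟩ := h.moving (hVc.2.1 d.2) hdo htq hdS
  refine hcon ⟨t, inferInstance, (V.subtype d) ^ t ^ k, ?_, h1,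
    (h.symm.moving (hVc.2.1 d.2) hdo htq hdS).1, pow_mem (hVc.2.1 d.2) _, h2⟩
  rw [orderOf_pow' _ (pow_ne_zero _ ht.ne_zero), hdo, pow_succ,
    Nat.gcd_eq_right (dvd_mul_right _ _), Nat.mul_div_cancel_left _ (pow_pos ht.pos _)]

variable {r : ℕ} [hr : Fact r.Prime] {x : G}

/-- An element of prime order moving `S` acts on it without fixed points. -/
theorem Pair.fixed_eq_bot (h : Pair M H S) (hxr : orderOf x = r) (hτ : r ∈ Cfsg.tau1 M)
    (hxN : x ∈ Subgroup.normalizer ((S : Subgroup G) : Set G)) :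
    (S : Subgroup G) ⊓ Subgroup.centralizer ({x} : Set G) = ⊥ := by
  set R := Subgroup.zpowers x with hR
  have hrq : r ≠ q := fun e => hτ.2.1 (e ▸ h.sigM)
  obtain ⟨V, hVc, hRV, hVq, hSV⟩ := h.exists_compl (U := R) (Subgroup.zpowers_le.2 hxN)
    fun s hs hd => by
      rw [Hall.prime_dvd_pgroup hr.out hs (zpowers_isPGroup hxr) hd]
      exact hrq
  have hVM : V ≤ M := hVc.2.1.trans h.normM
  set Z := (S : Subgroup G) ⊓ Subgroup.centralizer ({x} : Set G) with hZ
  have hWS : V ⊓ ⁅M, M⁆ ≤ Subgroup.centralizer ((S : Subgroup G) : Set G) := fun v hv =>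
    h.derived_centralizes hv.2 (hVc.2.1 hv.1) (hVq v hv.1)
  have hSZ : Subgroup.centralizer ((S : Subgroup G) : Set G) ≤ Subgroup.centralizer (Z : Set G) :=
    Subgroup.centralizer_le (SetLike.coe_subset_coe.2 inf_le_left)
  suffices hV : V ≤ Subgroup.centralizer (Z : Set G) by
    haveI := h.comm
    have h0 := Coprime.centralizer_inf_commutator_eq_bot (A := V) (V := (S : Subgroup G))
      hVc.2.1 (Nat.coprime_of_dvd fun s hs h1 h2 => by
        obtain ⟨y, hy⟩ := exists_prime_orderOf_dvd_card' (G := V) (hp := Fact.mk hs) s h1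
        have h3 := hVq y y.2
        rw [Subgroup.orderOf_coe, hy, Hall.prime_dvd_pgroup hq.out hs S.2 h2,
          Nat.coprime_self] at h3
        exact hq.out.ne_one h3)
    rw [hSV] at h0
    exact le_bot_iff.1 (h0 ▸ le_inf (le_inf inf_le_left (Subgroup.le_centralizer_iff.1 hV))
      inf_le_left)
  set W := V ⊓ ⁅M, M⁆ with hW
  have hVW : V ≤ Subgroup.normalizer (W : Set G) := Coprime.le_normalizer_inf Subgroup.le_normalizer
    (hVM.trans (by rw [← Subgroup.map_subtype_commutator]; exact Basic.le_normalizer_map_subtype M _))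
  have hY : R ⊔ W ≤ V := sup_le hRV inf_le_left
  have hVY : V ≤ Subgroup.normalizer ((R ⊔ W : Subgroup G) : Set G) := by
    intro v hv
    refine Subgroup.mem_normalizer_iff_map_conj_eq.2 (Subgroup.eq_of_le_of_card_ge ?_
      (Subgroup.card_map_of_injective (MulAut.conj v).injective).ge)
    rw [Subgroup.map_sup, Subgroup.mem_normalizer_iff_map_conj_eq.1 (hVW hv)]
    refine sup_le ?_ le_sup_right
    rintro _ ⟨z, hz, rfl⟩
    show v * z * v⁻¹ ∈ R ⊔ W
    rw [show v * z * v⁻¹ = ⁅v, z⁆ * z by rw [commutatorElement_def]; group]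
    refine mul_mem (Subgroup.mem_sup_right (Subgroup.mem_inf.2 ⟨?_,
      Subgroup.commutator_mem_commutator (hVM hv) (hVM (hRV hz))⟩)) (Subgroup.mem_sup_left hz)
    rw [commutatorElement_def]
    exact mul_mem (mul_mem (mul_mem hv (hRV hz)) (inv_mem hv)) (inv_mem (hRV hz))
  have hidx : ¬ r ∣ R.relIndex (R ⊔ W) := by
    intro hd
    have h1 := Subgroup.relIndex_mul_relIndex (⊥ : Subgroup G) R (R ⊔ W) bot_le le_sup_left
    rw [Subgroup.relIndex_bot_left, Subgroup.relIndex_bot_left] at h1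
    haveI : (W.subgroupOf (R ⊔ W)).Normal :=
      (Subgroup.normal_subgroupOf_iff_le_normalizer le_sup_right).2 (hY.trans hVW)
    have h2 := Hall.card_sup_dvd (R.subgroupOf (R ⊔ W)) (W.subgroupOf (R ⊔ W))
    rw [← Subgroup.subgroupOf_sup le_sup_left le_sup_right, Subgroup.subgroupOf_self,
      Subgroup.card_top, NormedConstrained.card_subgroupOf_eq le_sup_left,
      NormedConstrained.card_subgroupOf_eq le_sup_right, ← h1] at h2
    exact hτ.2.2.2.1 ((hd.trans (Nat.dvd_of_mul_dvd_mul_left Nat.card_pos h2)).trans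
      (Subgroup.card_dvd_of_le inf_le_right))
  refine (RankTwoKey.sup_normalizer_of_normal hY hVY le_sup_left (zpowers_isPGroup hxr) hidx).ge.trans
    (sup_le (sup_le ?_ (hWS.trans hSZ)) ?_)
  · refine Subgroup.zpowers_le.2 (Subgroup.mem_centralizer_iff.2 fun z hz => ?_)
    exact Subgroup.mem_centralizer_singleton_iff.1 hz.2
  -- elements of `C_V(x)`
  have hle : V ⊓ Subgroup.normalizer (R : Set G) ≤ V ⊓ Subgroup.centralizer (R : Set G) := by
    rintro v ⟨hvV, hvN⟩
    refine Subgroup.mem_inf.2 ⟨hvV, Subgroup.mem_centralizer_iff.2 fun z hz => ?_⟩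
    have h1 : ⁅v, z⁆ ∈ R ⊓ ⁅M, M⁆ := by
      refine Subgroup.mem_inf.2 ⟨?_, Subgroup.commutator_mem_commutator (hVM hvV) (hVM (hRV hz))⟩
      rw [commutatorElement_def]
      exact mul_mem ((Subgroup.mem_normalizer_iff.1 hvN z).1 hz) (inv_mem hz)
    rw [Basic.inf_eq_bot_of_coprime (by
      rw [hR, Nat.card_zpowers, hxr]
      exact hr.out.coprime_iff_not_dvd.2 hτ.2.2.2.1), Subgroup.mem_bot] at h1
    exact (commutatorElement_eq_one_iff_mul_comm.1 h1).symm
  refine hle.trans (Coprime.le_of_forall_sylow fun t ht => ?_)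
  haveI := Fact.mk ht
  set U := V ⊓ Subgroup.centralizer (R : Set G) with hU
  obtain ⟨T⟩ : Nonempty (Sylow t U) := inferInstance
  refine ⟨T, ?_⟩
  rintro _ ⟨d', hd', rfl⟩
  set d := U.subtype d' with hdd
  have hdU : d ∈ U := d'.2
  by_cases hdS : d ∈ Subgroup.centralizer ((S : Subgroup G) : Set G)
  · exact hSZ hdS
  obtain ⟨n, hn⟩ := IsPGroup.iff_orderOf.1 T.2 ⟨d', hd'⟩
  rw [Subgroup.orderOf_mk] at hn
  have hdo : orderOf d = t ^ n := by rw [hdd, Subgroup.coe_subtype, Subgroup.orderOf_coe, hn]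
  have hn0 : n ≠ 0 := fun e => hdS (by
    rw [e, pow_zero, orderOf_eq_one_iff] at hdo
    rw [hdo]
    exact one_mem _)
  obtain ⟨k, rfl⟩ : ∃ k, n = k + 1 := ⟨n - 1, by omega⟩
  have htq : t ≠ q := fun e => by
    have := hVq d hdU.1
    rw [hdo, e, Nat.coprime_pow_left_iff k.succ_pos, Nat.coprime_self] at this
    exact hq.out.ne_one this
  obtain ⟨htτ, -⟩ := h.moving (hVc.2.1 hdU.1) hdo htq hdS
  have hdM : d ∈ M := hVM hdU.1
  have hdo' : orderOf (d ^ t ^ k) = t := by
    rw [orderOf_pow' _ (pow_ne_zero _ ht.ne_zero), hdo, pow_succ,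
      Nat.gcd_eq_right (dvd_mul_right _ _), Nat.mul_div_cancel_left _ (pow_pos ht.pos _)]
  have hZσ : Z ≤ Cfsg.sigmaCore M ⊓ Subgroup.centralizer (R : Set G) :=
    le_inf (inf_le_left.trans h.le_sigmaCore) (by rw [hR, centralizer_zpowers]; exact inf_le_right)
  have h4 := hZσ.trans (CentTauOne.le_centralizer h.tau h.min h.maxM hτ (P := R)
    (by rw [hR, Nat.card_zpowers, hxr]) (hRV.trans hVM) (pow_mem hdM (t ^ k)) hdo' htτ.2.1
    (pow_mem hdU.2 _))
  have h5 := SigmaMeet.prime_action h.tau h.min h.maxM htτ.2.1 htτ.2.2.2.2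
    (P := Subgroup.zpowers (d ^ t ^ k)) (S := Subgroup.zpowers d)
    (by rw [Nat.card_zpowers, hdo']) (Subgroup.zpowers_le.2 (pow_mem hdM _))
    (IsPGroup.of_card (n := k + 1) (by rw [Nat.card_zpowers, hdo]))
    (Subgroup.zpowers_le.2 ⟨hdM, by
      rw [centralizer_zpowers]
      exact Subgroup.mem_centralizer_singleton_iff.2 ((Commute.refl d).pow_right _)⟩)
  rw [centralizer_zpowers] at h5
  exact Subgroup.le_centralizer_iff.1 ((le_inf (inf_le_left.trans h.le_sigmaCore) h4).trans h5)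
    (Subgroup.mem_zpowers d)

/-- On each side some element of ideal order centralizes `x` but has no conjugate in the other. -/
theorem Pair.exists_bad (h : Pair M H S) (hxr : orderOf x = r) (hτ : r ∈ Cfsg.tau1 M)
    (hτ' : r ∈ Cfsg.tau1 H) (hxN : x ∈ Subgroup.normalizer ((S : Subgroup G) : Set G)) :
    ∃ p : ℕ, ∃ _ : Fact p.Prime, ∃ t : G, p ∈ Cfsg.beta M ∧ orderOf t = p ∧ t ∈ M ∧
      t ∈ Subgroup.centralizer ({x} : Set G) ∧
      ¬ p ∣ Nat.card ↥(H ⊓ Subgroup.centralizer ({x} : Set G)) := by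
  by_contra hcon
  have hrq : r ≠ q := fun e => hτ.2.1 (e ▸ h.sigM)
  set R := Subgroup.zpowers x with hR
  have hxM : x ∈ M := h.normM hxN
  have hxH : x ∈ H := h.normH hxN
  have hzn : R ≤ Subgroup.normalizer ((S : Subgroup G) : Set G) := Subgroup.zpowers_le.2 hxN
  have hcop := FixedCommutes.coprime_zpowers (p := q) (r := r) hxr S.2 hrq
  have hSR : ⁅(S : Subgroup G), R⁆ = (S : Subgroup G) := by
    have h1 := Coprime.commutator_sup_centralizer hzn hcop (Or.inl (Coprime.isSolvable_zpowers x))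
    rwa [hR, centralizer_zpowers, h.fixed_eq_bot hxr hτ hxN, sup_bot_eq] at h1
  haveI := solvable_of_ne_top h.min h.maxM.1
  obtain ⟨⟨hBM, hBπ, hBi⟩, -⟩ :=
    BetaCore.spec h.min (fun s _ => PLengthOne.of_ne_top h.min s) h.maxM
  set B := Cfsg.piCoreOf (Cfsg.beta M) M with hB
  suffices hBS : B ≤ Subgroup.centralizer ((S : Subgroup G) : Set G) by
    have hfr := BetaFrattini.sup_normalizer h.min h.maxM S.2 h.le_derived fun hd => S.not_dvd_index
      (hd.trans (Dvd.intro _ (Subgroup.relIndex_mul_index h.le_derived)))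
    have hMH : M ≤ H := hfr.ge.trans
      (sup_le ((hBS.trans (Subgroup.centralizer_le_normalizer _)).trans h.normH)
        (inf_le_right.trans h.normH))
    refine h.nc 1 ?_
    rw [(h.maxM.le_iff.1 hMH).resolve_left h.maxH.1]
    ext y; simp
  refine Coprime.le_of_forall_sylow fun p hp => ?_
  haveI := Fact.mk hp
  by_cases hpB : p ∣ Nat.card B
  swap
  · obtain ⟨T⟩ : Nonempty (Sylow p B) := inferInstance
    refine ⟨T, ?_⟩
    have hT : (T : Subgroup B) = ⊥ := Subgroup.card_eq_one.1 (by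
      rw [Sylow.card_eq_multiplicity, Nat.factorization_eq_zero_of_not_dvd hpB, pow_zero])
    rw [hT, Subgroup.map_bot]
    exact bot_le
  have hpβ : p ∈ Cfsg.beta M := hBπ p hp hpB
  have hpσ : p ∈ Cfsg.sigma M := AlphaCore.alpha_subset_sigma h.min h.maxM hpβ.1
  have hpσH : p ∉ Cfsg.sigma H := fun hσ =>
    MaximalBasics.not_alpha_of_sigma h.min h.maxH h.maxM (MaximalBasics.not_conj_symm h.nc) hσ hpβ.1
  have hpq : p ≠ q := fun e => h.not_alpha (e ▸ hpβ.1)
  have hrp : r ≠ p := fun e => hτ.2.1 (e ▸ hpσ)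
  set A := (S : Subgroup G) ⊔ R with hA
  have hAM : A ≤ M := sup_le h.le_M (Subgroup.zpowers_le.2 hxM)
  have hAβ : ∀ s : ℕ, s.Prime → s ∣ Nat.card A → s ∉ Cfsg.beta M := fun s hs hd hβ => by
    rcases SigmaSubgroup.relIndex_sup_right_le s hs hd hzn with h1 | h1
    · exact h.not_alpha (Hall.prime_dvd_pgroup hq.out hs S.2 h1 ▸ hβ.1)
    · exact hτ.2.1 (Hall.prime_dvd_pgroup hr.out hs (zpowers_isPGroup hxr) h1 ▸
        AlphaCore.alpha_subset_sigma h.min h.maxM hβ.1)
  have hcopAB : (Nat.card A).Coprime (Nat.card B) :=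
    Nat.coprime_of_dvd fun s hs h1 h2 => hAβ s hs h1 (hBπ s hs h2)
  by_cases hd : p ∣ Nat.card ↥(H ⊓ Subgroup.centralizer ({x} : Set G))
  · -- a fixed element of order `p` in `M ∩ H`
    obtain ⟨s, hs⟩ := exists_prime_orderOf_dvd_card' (G := ↥(H ⊓ Subgroup.centralizer ({x} : Set G))) p hd
    have hso : orderOf (s : G) = p := by rw [Subgroup.orderOf_coe, hs]
    haveI := solvable_of_ne_top h.min h.maxH.1
    set Y := R ⊔ Subgroup.zpowers (s : G) with hY
    have hsR : Subgroup.zpowers (s : G) ≤ Subgroup.normalizer (R : Set G) := by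
      refine le_trans (Subgroup.zpowers_le.2 ?_) (Subgroup.centralizer_le_normalizer _)
      rw [hR, centralizer_zpowers]
      exact s.2.2
    have hfrH : Cfsg.piCoreOf (Cfsg.beta H) H ⊔ (M ⊓ H) = H :=
      le_antisymm (sup_le (piCoreOf_le _ _) inf_le_right)
        ((BetaFrattini.sup_normalizer h.min h.maxH S.2 h.symm.le_derived fun hd => S.not_dvd_index
          (hd.trans (Dvd.intro _ (Subgroup.relIndex_mul_index h.symm.le_derived)))).ge.trans
            (sup_le le_sup_left ((le_inf (inf_le_right.trans h.normM) inf_le_left).trans le_sup_right)))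
    obtain ⟨g, -, hg⟩ := SigmaSubgroup.exists_conj_le_of_sup (π := {a : ℕ | a = r ∨ a = p})
      (solvable_of_ne_top h.min h.maxH.1) (piCoreOf_le _ _) (piCoreOf_normal _ _) inf_le_right
      hfrH (Y := Y) (sup_le (Subgroup.zpowers_le.2 hxH) (Subgroup.zpowers_le.2 s.2.1))
      (fun a ha hd => (SigmaSubgroup.relIndex_sup_right_le a ha hd hsR).imp
        (Hall.prime_dvd_pgroup hr.out ha (zpowers_isPGroup hxr))
        (Hall.prime_dvd_pgroup hp ha (zpowers_isPGroup hso)))
      fun a ha hd hπ => by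
        have hβ := piCoreOf_isPiGroup _ _ a ha hd
        rcases hπ with e | e <;> subst e
        · exact hτ'.2.1 (AlphaCore.alpha_subset_sigma h.min h.maxH hβ.1)
        · exact hpσH (AlphaCore.alpha_subset_sigma h.min h.maxH hβ.1)
    set φ := (MulAut.conj g).toMonoidHom with hφ
    have hgx : φ x ∈ M ⊓ H :=
      hg (Subgroup.mem_map_of_mem φ (Subgroup.mem_sup_left (Subgroup.mem_zpowers x)))
    have hgs : φ (s : G) ∈ M ⊓ H :=
      hg (Subgroup.mem_map_of_mem φ (Subgroup.mem_sup_right (Subgroup.mem_zpowers _)))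
    obtain ⟨d, hd', hde⟩ := exists_conj_zpowers h.min
      (Rank.prankLE_mono (inf_le_left : M ⊓ H ≤ M) hτ.2.2.2.2) ⟨hxM, hxH⟩ hgx hxr
      (by rw [orderOf_injective φ (MulAut.conj g).injective, hxr])
    set t := d * φ (s : G) * d⁻¹ with ht
    have hto : orderOf t = p := by
      have : orderOf t = orderOf (φ (s : G)) :=
        orderOf_injective (MulAut.conj d).toMonoidHom (MulAut.conj d).injective _
      rw [this, orderOf_injective φ (MulAut.conj g).injective, hso]
    have htD : t ∈ M ⊓ H := mul_mem (mul_mem hd' hgs) (inv_mem hd')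
    have htx : x ∈ Subgroup.centralizer ({t} : Set G) := by
      have hle : Subgroup.zpowers x ≤ Subgroup.centralizer ({t} : Set G) := by
        rw [← hde, MonoidHom.map_zpowers, Subgroup.zpowers_le]
        refine Subgroup.mem_centralizer_singleton_iff.2 ?_
        have hc0 : Commute x (s : G) := (Subgroup.mem_centralizer_singleton_iff.1 s.2.2).symm
        have hc : Commute (φ x) (φ (s : G)) := hc0.map φ
        exact hc.map (MulAut.conj d).toMonoidHom
      exact hle (Subgroup.mem_zpowers x)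
    set P := Subgroup.zpowers t with hP
    have hxP : x ∈ Subgroup.centralizer (P : Set G) := by rw [hP, centralizer_zpowers]; exact htx
    have hPS : (S : Subgroup G) ≤ Subgroup.centralizer (P : Set G) :=
      (le_inf h.symm.le_sigmaCore h.le_M).trans (Subgroup.le_centralizer_iff.1
        (SigmaMeet.centralizes h.min h.maxH h.maxM (MaximalBasics.not_conj_symm h.nc) hpσH
          (zpowers_isPGroup hto) (Subgroup.zpowers_le.2 ⟨htD.2, htD.1⟩)
          (Sigma.le_derived h.min h.maxM hpσ (zpowers_isPGroup hto)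
            (Subgroup.zpowers_le.2 htD.1))))
    have hPB : P ≤ B := by
      have h1 : P.subgroupOf M ≤ Cfsg.piCore (Cfsg.beta M) M :=
        Hall.le_of_isPiHall_normal ⟨Cores.piCore_isPiGroup _, fun a ha haβ hd => hBi a ha haβ
          (by rwa [hB, Cfsg.piCoreOf, Basic.relIndex_map_subtype])⟩ fun a ha hd => by
          rw [NormedConstrained.card_subgroupOf_eq (Subgroup.zpowers_le.2 htD.1)] at hd
          rwa [Hall.prime_dvd_pgroup hp ha (zpowers_isPGroup hto) hd]
      have h2 := Subgroup.map_mono (f := M.subtype) h1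
      rwa [Subgroup.map_subgroupOf_eq_of_le (Subgroup.zpowers_le.2 htD.1 : P ≤ M)] at h2
    obtain ⟨T, hPT, hAT⟩ := Coprime.exists_invariant_sylow_ge (hAM.trans (piCoreOf_normal _ _))
      hcopAB (Or.inr (Coprime.isSolvable_of_le hBM)) p P hPB (zpowers_isPGroup hto)
      ((sup_le hPS (Subgroup.zpowers_le.2 hxP)).trans (Subgroup.centralizer_le_normalizer _))
    exact ⟨T, Subgroup.le_centralizer_iff.1
      (CentTauOne.centralizes_sylow h.min h.maxM hpβ.1 hpβ.2 hrp hpq.symm hrq.symm hxr hxM hτ.2.1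
        (fun hh => hh.2.2.2 hτ.2.2.2.2) (by rw [hP, Nat.card_zpowers, hto]) hPT (T.2.map _)
        ((Subgroup.map_subtype_le _).trans hBM) S.2 h.le_M (le_sup_left.trans hAT)
        (hAT (Subgroup.mem_sup_right (Subgroup.mem_zpowers x))) hxN hSR hxP hPS)⟩
  · obtain ⟨T, hT⟩ := Coprime.exists_invariant_sylow (hAM.trans (piCoreOf_normal _ _)) hcopAB
      (Or.inr (Coprime.isSolvable_of_le hBM)) p
    refine ⟨T, Subgroup.le_centralizer_iff.1 ?_⟩
    refine FixedCommutes.le_centralizer (p := p) (q := q) (r := r)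
      (ne_two_of_dvd h.min (Sigma.dvd_card_group hpσ)) hpq hrp.symm hrq.symm
      (solvable_of_ne_top h.min h.maxM.1) (odd_card h.min M) _ _ x hxr (T.2.map _) S.2
      (le_sup_left.trans hT) (hT (Subgroup.mem_sup_right (Subgroup.mem_zpowers x))) hxN hSR
      ((Subgroup.map_subtype_le _).trans hBM) h.le_M hxM fun t ht hxt htp => ?_
    rcases eq_or_ne t 1 with rfl | ht1
    · exact one_mem _
    exact absurd ⟨p, inferInstance, t, hpβ, orderOf_eq_prime htp ht1,
      hBM (Subgroup.map_subtype_le _ ht), Subgroup.mem_centralizer_singleton_iff.2 hxt.symm, hd⟩ hcon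

theorem centralizer_conj {c y : G} {M : Subgroup G} (hc : c ∈ Subgroup.centralizer ({y} : Set G)) :
    (M ⊓ Subgroup.centralizer ({y} : Set G)).map (MulAut.conj c).toMonoidHom =
      M.map (MulAut.conj c).toMonoidHom ⊓ Subgroup.centralizer ({y} : Set G) := by
  rw [Subgroup.map_inf _ _ _ (MulAut.conj c).injective]
  exact congrArg _ (Subgroup.mem_normalizer_iff_map_conj_eq.1 (Subgroup.le_normalizer hc))

theorem mem_alpha_of_ideal {p : ℕ} [Fact p.Prime] (hσ : p ∈ Cfsg.sigma H)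
    (hi : Cfsg.IsIdealPrime p G) : p ∈ Cfsg.alpha H :=
  ⟨(Fact.out : p.Prime), fun h1 => hi.2.1 (by
    obtain ⟨P, -, hPH, -⟩ := Sigma.exists_sylow_ge hσ (X := ⊥) IsPGroup.of_bot bot_le
    have h2 := InvariantPrime.prankLE_of_sylow P (Rank.prankLE_mono hPH h1) (⊤ : Subgroup G)
    intro A hA1 hA2
    exact Rank.prankLE_subgroup_iff.1 h2 A le_top ⟨hA1, hA2⟩)⟩

/-- The two ideal elements centralizing `x` cannot normalize one another. -/
theorem Pair.cross (h : Pair M H S) (hnu : CentDerived.NonabelianUnique G) (hxr : orderOf x = r)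
    (hτ : r ∈ Cfsg.tau1 M) (hτ' : r ∈ Cfsg.tau1 H) (hxM : x ∈ M) (hxH : x ∈ H)
    {L : Subgroup G} (hL : IsCoatom L) (hNL : Subgroup.normalizer (Subgroup.zpowers x : Set G) ≤ L)
    {p : ℕ} [hp : Fact p.Prime] {t : G} (hpβ : p ∈ Cfsg.beta M) (hto : orderOf t = p) (htM : t ∈ M)
    (htx : t ∈ Subgroup.centralizer ({x} : Set G))
    (hnd : ¬ p ∣ Nat.card ↥(H ⊓ Subgroup.centralizer ({x} : Set G)))
    {p' : ℕ} [hp' : Fact p'.Prime] {t' : G} (hpβ' : p' ∈ Cfsg.beta H) (hto' : orderOf t' = p')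
    (htH : t' ∈ H) (htx' : t' ∈ Subgroup.centralizer ({x} : Set G)) {y : G}
    (hyo : orderOf y = p') (hyx : y ∈ Subgroup.centralizer ({x} : Set G))
    (hyt : y ∈ Subgroup.normalizer (Subgroup.zpowers t : Set G)) : False := by
  have hG := h.min
  set R := Subgroup.zpowers x with hR
  have hRp : IsPGroup r R := zpowers_isPGroup hxr
  have hR1 : R ≠ ⊥ := by
    rw [hR, Ne, Subgroup.zpowers_eq_bot]
    intro e
    rw [e, orderOf_one] at hxr
    exact hr.out.ne_one hxr.symm
  have hncM := MaximalBasics.not_conj_of_normalizer hG h.maxM hτ.2.1 (fun hh => hh.2.2.2 hτ.2.2.2.2)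
    hRp hR1 hNL
  have hncH := MaximalBasics.not_conj_of_normalizer hG h.maxH hτ'.2.1
    (fun hh => hh.2.2.2 hτ'.2.2.2.2) hRp hR1 hNL
  have hCL : Subgroup.centralizer ({x} : Set G) ≤ L := by
    rw [← centralizer_zpowers]
    exact (Subgroup.centralizer_le_normalizer _).trans hNL
  have hrk' : Cfsg.PRankLE p' 1 L := by
    have hσL : p' ∉ Cfsg.sigma L := fun hh =>
      MaximalBasics.not_alpha_of_sigma hG hL h.maxH (MaximalBasics.not_conj_symm hncH) hh hpβ'.1
    by_contra h1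
    refine RankTwoPrime.not_ideal hG hL ?_ h1 hpβ'.2
    by_contra h3
    exact hσL (AlphaCore.alpha_subset_sigma hG hL ⟨hp'.out, h3⟩)
  have hpσ : p ∈ Cfsg.sigma M := AlphaCore.alpha_subset_sigma hG h.maxM hpβ.1
  have hpp' : p ≠ p' := fun e =>
    MaximalBasics.not_alpha_of_sigma hG h.maxM h.maxH h.nc hpσ (e ▸ hpβ'.1)
  obtain ⟨⟨hCtM, hCtu⟩, -⟩ := CentDerived.cent_derived hnu hG h.maxM hpσ htM hto (Or.inl hpβ)
  have hNtM : Subgroup.normalizer (Subgroup.zpowers t : Set G) ≤ M := by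
    have ht1 : Subgroup.zpowers t ≠ ⊥ := by
      rw [Ne, Subgroup.zpowers_eq_bot]
      intro e
      rw [e, orderOf_one] at hto
      exact hp.out.ne_one hto.symm
    obtain ⟨L', hL', hle⟩ := exists_coatom_ge hG
      (normalizer_ne_top hG ht1 (pgroup_ne_top hG (zpowers_isPGroup hto)))
    rwa [hCtu L' hL' (by
      rw [← centralizer_zpowers]
      exact (Subgroup.centralizer_le_normalizer _).trans hle)] at hle
  have hyM : y ∈ M := hNtM hyt
  by_cases hcy : Commute t y
  · -- `t` lies in a conjugate of `H` by an element of `C(x)`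
    obtain ⟨c, hc, hce⟩ := exists_conj_zpowers hG (Rank.prankLE_mono hCL hrk') hyx htx' hyo hto'
    obtain ⟨⟨hCtH, -⟩, -⟩ := CentDerived.cent_derived hnu hG h.maxH
      (AlphaCore.alpha_subset_sigma hG h.maxH hpβ'.1) htH hto' (Or.inl hpβ')
    apply hnd
    have ht1 : c⁻¹ * t * c ∈ H ⊓ Subgroup.centralizer ({x} : Set G) := by
      refine Subgroup.mem_inf.2 ⟨hCtH (Subgroup.mem_centralizer_singleton_iff.2 ?_),
        mul_mem (mul_mem (inv_mem hc) htx) hc⟩
      have hm : c * t' * c⁻¹ ∈ Subgroup.zpowers y := hce ▸ ⟨t', Subgroup.mem_zpowers t', rfl⟩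
      obtain ⟨i, hi⟩ := hm
      have h1 : Commute t (c * t' * c⁻¹) := by
        rw [← hi]
        exact hcy.zpow_right i
      calc c⁻¹ * t * c * t' = c⁻¹ * (t * (c * t' * c⁻¹)) * c := by group
        _ = c⁻¹ * (c * t' * c⁻¹ * t) * c := by rw [h1.eq]
        _ = t' * (c⁻¹ * t * c) := by group
    have ho : orderOf (c⁻¹ * t * c) = p := by
      rw [← hto]
      conv_lhs => rw [show c⁻¹ * t * c = (MulAut.conj c⁻¹).toMonoidHom t by simp]
      exact orderOf_injective _ (MulAut.conj c⁻¹).injective t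
    exact ho ▸ Subgroup.orderOf_dvd_natCard _ ht1
  -- `r` becomes an ideal prime in `σ(L)`
  set K := Subgroup.zpowers t with hK
  set Y := Subgroup.zpowers y with hY
  have hKY : Y ≤ Subgroup.normalizer (K : Set G) := Subgroup.zpowers_le.2 hyt
  have hne : ⁅K, Y⁆ ≠ ⊥ := fun e => hcy (commutatorElement_eq_one_iff_mul_comm.1
    (Subgroup.mem_bot.1 (e ▸ Subgroup.commutator_mem_commutator (Subgroup.mem_zpowers t)
      (Subgroup.mem_zpowers y))))
  have hKeq : ⁅K, Y⁆ = K := by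
    have hle : ⁅K, Y⁆ ≤ K := Coprime.commutator_le_of_le_normalizer hKY
    refine Subgroup.eq_of_le_of_card_ge hle ?_
    rcases (Nat.dvd_prime hp.out).1 ((Subgroup.card_dvd_of_le hle).trans
      (by rw [hK, Nat.card_zpowers, hto])) with h1 | h1
    · exact absurd (Subgroup.card_eq_one.1 h1) hne
    · rw [h1, hK, Nat.card_zpowers, hto]
  have hKσ : K ≤ Cfsg.sigmaCore M := SigmaSubgroup.le_sigmaCore hG h.maxM (Subgroup.zpowers_le.2 htM)
    fun a ha hd => Hall.prime_dvd_pgroup hp.out ha (zpowers_isPGroup hto) hd ▸ hpσ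
  have hYD : Y ≤ M ⊓ L := Subgroup.zpowers_le.2 ⟨hyM, hCL hyx⟩
  have hne' : ⁅Cfsg.sigmaCore M ⊓ L, Y⁆ ≠ ⊥ := fun e => hne (le_bot_iff.1
    (e ▸ Subgroup.commutator_mono (le_inf hKσ (Subgroup.zpowers_le.2 (hCL htx))) le_rfl))
  have hrL : r ∈ Cfsg.sigma L :=
    (SigmaEmbedding.mem_sigma_or_tau2 hG hL hRp hR1 hNL).resolve_right
      (SigmaMeet.not_tau2 h.tau hG h.maxM hL hncM hτ.2.2.1 hτ.2.1 hYD hne')
  have hRL : R ≤ L := Subgroup.le_normalizer.trans hNL
  have hRd : R ≤ ⁅L, L⁆ := Sigma.le_derived hG hL hrL hRp hRL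
  have hcardR : Nat.card R = r := by rw [hR, Nat.card_zpowers, hxr]
  have hideal := SigmaMeet.mem_ideal h.tau hG h.maxM hL hncM hτ
    (hcardR ▸ Subgroup.card_dvd_of_le hRd) hYD hne'
  have hrβ : r ∈ Cfsg.beta L := ⟨mem_alpha_of_ideal hrL hideal, hideal⟩
  have hpσL : p ∉ Cfsg.sigma L := fun hh =>
    MaximalBasics.not_alpha_of_sigma hG hL h.maxM (MaximalBasics.not_conj_symm hncM) hh hpβ.1
  have hpσL' : p' ∉ Cfsg.sigma L := fun hh =>
    MaximalBasics.not_alpha_of_sigma hG hL h.maxH (MaximalBasics.not_conj_symm hncH) hh hpβ'.1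
  have hcl : ∀ {z : G}, z ∈ Subgroup.centralizer ({x} : Set G) →
      Subgroup.zpowers z ≤ Subgroup.centralizer (R : Set G) := fun {z} hz => by
    rw [hR, centralizer_zpowers]
    exact Subgroup.zpowers_le.2 hz
  obtain ⟨T, hTp, hRT, hTL, hAT, hT3⟩ := CentTauOne.exists_sylow_inv hG hL hrβ hRp hRL
    (A := K ⊔ Y) (sup_le (Subgroup.zpowers_le.2 (hCL htx)) (Subgroup.zpowers_le.2 (hCL hyx)))
    ((sup_le (hcl htx) (hcl hyx)).trans (Subgroup.centralizer_le_normalizer _))
    fun a ha hd hβ => by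
      rcases SigmaSubgroup.relIndex_sup_right_le a ha hd hKY with h1 | h1
      · exact hpσL (Hall.prime_dvd_pgroup hp.out ha (zpowers_isPGroup hto) h1 ▸
          AlphaCore.alpha_subset_sigma hG hL hβ.1)
      · exact hpσL' (Hall.prime_dvd_pgroup hp'.out ha (zpowers_isPGroup hyo) h1 ▸
          AlphaCore.alpha_subset_sigma hG hL hβ.1)
  have hrp : r ≠ p := fun e => hτ.2.1 (e ▸ hpσ)
  have hrp' : r ≠ p' := fun e =>
    hτ'.2.1 (e ▸ AlphaCore.alpha_subset_sigma hG h.maxH hpβ'.1)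
  have hKT : K ≤ Subgroup.centralizer (T : Set G) :=
    CentTauOne.centralizes_sylow hG hL hrβ.1 hideal hrp'.symm hrp.symm hpp' hyo (hCL hyx) hpσL'
      (fun hh => hh.2.2.2 hrk') hcardR hRT hTp hTL (zpowers_isPGroup hto)
      (Subgroup.zpowers_le.2 (hCL htx)) (le_sup_left.trans hAT)
      (hAT (Subgroup.mem_sup_right (Subgroup.mem_zpowers y))) hyt hKeq (hcl hyx (Subgroup.mem_zpowers y))
      (hcl htx)
  have hTM : T ≤ M := (Subgroup.le_centralizer_iff.1 hKT).trans (by
    rw [hK, centralizer_zpowers]; exact hCtM)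
  exact hT3 (Rank.prankLE_mono hTM (Rank.prankLE_mono_right hr.out.pos one_le_two hτ.2.2.2.2))

/-- No pair of non-conjugate maximal subgroups shares the normalizer of an abelian Sylow subgroup. -/
theorem Pair.false (h : Pair M H S) (hnu : CentDerived.NonabelianUnique G) : False := by
  have hG := h.min
  obtain ⟨r, _, x, hxr, hτ, hτ', hxN, -⟩ := h.exists_moving
  obtain ⟨p, hpF, t, hpβ, hto, htM, htx, hnd⟩ := h.exists_bad hxr hτ hτ' hxN
  obtain ⟨p', hpF', t', hpβ', hto', htH, htx', hnd'⟩ := h.symm.exists_bad hxr hτ' hτ hxN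
  haveI := hpF
  haveI := hpF'
  have hxM : x ∈ M := h.normM hxN
  have hxH : x ∈ H := h.normH hxN
  have hR1 : Subgroup.zpowers x ≠ ⊥ := by
    rw [Ne, Subgroup.zpowers_eq_bot]
    intro e
    rw [e, orderOf_one] at hxr
    exact (Fact.out : r.Prime).ne_one hxr.symm
  obtain ⟨L, hL, hNL⟩ := exists_coatom_ge hG
    (normalizer_ne_top hG hR1 (pgroup_ne_top hG (zpowers_isPGroup hxr)))
  set C := Subgroup.centralizer ({x} : Set G) with hC
  have hCL : C ≤ L := by
    rw [hC, ← centralizer_zpowers]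
    exact (Subgroup.centralizer_le_normalizer _).trans hNL
  haveI := solvable_of_ne_top hG hL.1
  haveI : Group.IsSolvable C := Coprime.isSolvable_of_le hCL
  have hrank : ∀ {M' : Subgroup G} {s : ℕ}, IsCoatom M' → r ∈ Cfsg.tau1 M' → s ∈ Cfsg.beta M' →
      Cfsg.PRankLE s 1 C := by
    intro M' s hM' hτM hs
    have hnc := MaximalBasics.not_conj_of_normalizer hG hM' hτM.2.1 (fun hh => hh.2.2.2 hτM.2.2.2.2)
      (zpowers_isPGroup hxr) hR1 hNL
    refine Rank.prankLE_mono hCL ?_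
    haveI := Fact.mk hs.1.1
    by_contra h1
    refine RankTwoPrime.not_ideal hG hL ?_ h1 hs.2
    by_contra h3
    exact MaximalBasics.not_alpha_of_sigma hG hL hM' (MaximalBasics.not_conj_symm hnc)
      (AlphaCore.alpha_subset_sigma hG hL ⟨hs.1.1, h3⟩) hs.1
  obtain ⟨D, hDC, hDπ, hDi⟩ := Hall.exists_isPiHallOf {a : ℕ | a = p ∨ a = p'} C
  have hdvd : ∀ {a : ℕ} {z : G}, a.Prime → orderOf z = a → z ∈ C → a = p ∨ a = p' →
      a ∣ Nat.card D := by
    intro a z ha hz hzC hor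
    have h1 : a ∣ Nat.card C := hz ▸ Subgroup.orderOf_dvd_natCard C hzC
    have h2 := Subgroup.relIndex_mul_relIndex (⊥ : Subgroup G) D C bot_le hDC
    rw [Subgroup.relIndex_bot_left, Subgroup.relIndex_bot_left] at h2
    rw [← h2] at h1
    exact (ha.dvd_mul.1 h1).resolve_right (hDi a ha hor)
  haveI : Group.IsSolvable D := Coprime.isSolvable_of_le hDC
  haveI : Nontrivial D := (Subgroup.nontrivial_iff_ne_bot D).2 fun e => by
    have := hdvd (Fact.out : p.Prime) hto htx (Or.inl rfl)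
    rw [e, Subgroup.card_bot] at this
    exact (Fact.out : p.Prime).not_dvd_one this
  obtain ⟨a, N, ha, hNn, hN1, -, hNp⟩ := Hall.exists_normal_abelian_pgroup (G := D)
  haveI := Fact.mk ha
  obtain ⟨z, hz⟩ := exists_prime_orderOf_dvd_card' (G := N) a
    (by
      haveI : Nontrivial N := (Subgroup.nontrivial_iff_ne_bot N).2 hN1
      obtain ⟨k, hk, hkc⟩ := hNp.nontrivial_iff_card.1 inferInstance
      exact hkc ▸ dvd_pow_self a hk.ne')
  have hzo : orderOf ((z : D) : G) = a := by rw [Subgroup.orderOf_coe, Subgroup.orderOf_coe, hz]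
  have hzC : ((z : D) : G) ∈ C := hDC (z : D).2
  have hor : a = p ∨ a = p' := hDπ a ha (hzo ▸ Subgroup.orderOf_dvd_natCard D (z : D).2)
  have hDz : Cfsg.PRankLE a 1 C → D ≤ Subgroup.normalizer (Subgroup.zpowers ((z : D) : G) : Set G) := by
    intro hra d hd
    haveI hNc : IsCyclic (N.map D.subtype) := SigmaCompl.isCyclic_of_prankLE_one hG
      ((Subgroup.map_subtype_le N).trans hDC) hra (hNp.map _)
    refine Subgroup.mem_normalizer_iff_map_conj_eq.2
      (Cyclic.eq_of_card_eq_of_isCyclic (W := N.map D.subtype) ?_ ?_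
        (Subgroup.card_map_of_injective (MulAut.conj d).injective))
    · rw [MonoidHom.map_zpowers, Subgroup.zpowers_le]
      exact ⟨(⟨d, hd⟩ : D) * z * (⟨d, hd⟩ : D)⁻¹, hNn.conj_mem _ z.2 _, rfl⟩
    · exact Subgroup.zpowers_le.2 ⟨z, z.2, rfl⟩
  rcases hor with rfl | rfl
  · obtain ⟨c, hc, hce⟩ := exists_conj_zpowers hG (hrank h.maxM hτ hpβ) hzC htx hzo hto
    obtain ⟨y, hy⟩ := exists_prime_orderOf_dvd_card' (G := D) p'
      (hdvd (Fact.out : p'.Prime) hto' htx' (Or.inr rfl))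
    refine h.cross hnu hxr hτ hτ' hxM hxH hL hNL hpβ hto htM htx hnd hpβ' hto' htH htx'
      (y := c⁻¹ * y * c) ?_ (mul_mem (mul_mem (inv_mem hc) (hDC y.2)) hc) ?_
    · conv_lhs => rw [show c⁻¹ * (y : G) * c = (MulAut.conj c⁻¹).toMonoidHom y by simp]
      rw [orderOf_injective _ (MulAut.conj c⁻¹).injective, Subgroup.orderOf_coe, hy]
    · have h1 := hDz (hrank h.maxM hτ hpβ) y.2
      rw [← hce] at h1
      refine Subgroup.mem_normalizer_iff.2 fun g => ?_
      have h2 := Subgroup.mem_normalizer_iff.1 h1 (c * g * c⁻¹)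
      rw [OddTau.Exceptional.mem_conj, OddTau.Exceptional.mem_conj] at h2
      simpa [mul_assoc] using h2
  · obtain ⟨c, hc, hce⟩ := exists_conj_zpowers hG (hrank h.maxH hτ' hpβ') hzC htx' hzo hto'
    obtain ⟨y, hy⟩ := exists_prime_orderOf_dvd_card' (G := D) p
      (hdvd (Fact.out : p.Prime) hto htx (Or.inl rfl))
    refine h.symm.cross hnu hxr hτ' hτ hxH hxM hL hNL hpβ' hto' htH htx' hnd' hpβ hto htM htx
      (y := c⁻¹ * y * c) ?_ (mul_mem (mul_mem (inv_mem hc) (hDC y.2)) hc) ?_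
    · conv_lhs => rw [show c⁻¹ * (y : G) * c = (MulAut.conj c⁻¹).toMonoidHom y by simp]
      rw [orderOf_injective _ (MulAut.conj c⁻¹).injective, Subgroup.orderOf_coe, hy]
    · have h1 := hDz (hrank h.maxH hτ' hpβ') y.2
      rw [← hce] at h1
      refine Subgroup.mem_normalizer_iff.2 fun g => ?_
      have h2 := Subgroup.mem_normalizer_iff.1 h1 (c * g * c⁻¹)
      rw [OddTau.Exceptional.mem_conj, OddTau.Exceptional.mem_conj] at h2
      simpa [mul_assoc] using h2

/-- BG 13.9. -/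
theorem conj_of_sigma_inter (h5 : SigmaSubgroup.TauTwo G) (hnu : CentDerived.NonabelianUnique G)
    (hG : Cfsg.IsMinSimpleOddOrder G) (hM : IsCoatom M) (hH : IsCoatom H) {q : ℕ}
    (hqM : q ∈ Cfsg.sigma M) (hqH : q ∈ Cfsg.sigma H) :
    ∃ g : G, H = M.map (MulAut.conj g).toMonoidHom := by
  haveI := Fact.mk hqM.1
  by_contra hcon
  push Not at hcon
  obtain ⟨S, -, hSM, hNM⟩ := Sigma.exists_sylow_ge hqM (X := ⊥) IsPGroup.of_bot bot_le
  obtain ⟨S', -, hSH, hNH⟩ := Sigma.exists_sylow_ge hqH (X := ⊥) IsPGroup.of_bot bot_le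
  obtain ⟨g, hg⟩ := MulAction.exists_smul_eq G S' S
  set φ := (MulAut.conj g).toMonoidHom with hφ
  have hinj : Function.Injective φ := (MulAut.conj g).injective
  set H₁ := H.map φ with hH₁
  have hSeq : (S : Subgroup G) = (S' : Subgroup G).map φ := by
    rw [← hg, Sylow.coe_subgroup_smul]; rfl
  have hNH₁ : Subgroup.normalizer ((S : Subgroup G) : Set G) ≤ H₁ := fun n hn => by
    rw [hH₁, OddTau.Exceptional.mem_conj]
    refine hNH (Subgroup.mem_normalizer_iff.2 fun z => ?_)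
    have h1 := Subgroup.mem_normalizer_iff.1 hn (g * z * g⁻¹)
    rw [hSeq, OddTau.Exceptional.mem_conj, OddTau.Exceptional.mem_conj] at h1
    simpa [mul_assoc] using h1
  have hSH₁ : (S : Subgroup G) ≤ H₁ := Subgroup.le_normalizer.trans hNH₁
  have hH₁c : IsCoatom H₁ := ((MulAut.conj g).mapSubgroup.isCoatom_iff H).2 hH
  have hnc : ∀ c : G, H₁ ≠ M.map (MulAut.conj c).toMonoidHom := by
    intro c e
    refine hcon (g⁻¹ * c) ?_
    ext z
    have h1 := SetLike.ext_iff.1 e (g * z * g⁻¹)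
    rw [hH₁, OddTau.Exceptional.mem_conj, OddTau.Exceptional.mem_conj] at h1
    rw [OddTau.Exceptional.mem_conj]
    simpa [mul_assoc] using h1
  have hqH₁ : q ∈ Cfsg.sigma H₁ := by
    refine ⟨hqM.1, ?_, S.subtype hSH₁, ?_⟩
    · exact hqH.2.1.trans (Subgroup.card_map_of_injective hinj).symm.dvd
    · rwa [Sylow.coe_subtype, Subgroup.map_subgroupOf_eq_of_le hSH₁]
  refine Pair.false ⟨hG, h5, hM, hH₁c, hnc, hqM, hqH₁, ?_, hNM, hNH₁⟩ hnu
  by_contra hna
  refine hnc 1 ?_
  rw [UniqueRank.eq_of_le (hnu q (S : Subgroup G) S.2 hna) hH₁c hSH₁ hM hSM]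
  ext z; simp

end Cfsg.Agent.Lib.OddOrder.SigmaDisjoint
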