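import Cfsg.Agent.Lib.OddOrder.SigmaSubgroup
import Cfsg.Agent.S1417

/-!
# BG 12.5 plugged into the later sections
-/

set_option autoImplicit false

namespace Cfsg.Agent.Lib.OddOrder.TauTwoFacts

universe u

theorem tauTwo {G : Type u} [Group G] [Finite G] (hG : Cfsg.IsMinSimpleOddOrder G) :
    SigmaSubgroup.TauTwo G := by
  intro M hM p _ hp A hAM hA hAc
  obtain ⟨-, -, h3, h4, h5, -⟩ := Cfsg.Agent.S1417.result hG M hM p hp A ⟨hAM, hA, hAc⟩
  exact ⟨h3, h4, h5⟩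

end Cfsg.Agent.Lib.OddOrder.TauTwoFacts
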