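import Cfsg.Agent.Lib.OddOrder.TypeOne
import Cfsg.Agent.S1472
import Cfsg.Agent.Lib.OddOrder.PF8.TypeP
import Cfsg.Agent.Lib.CyclicTI.Basic

/-!
# Assembly of the odd order theorem

The statements of S1385 (maximal subgroups), S1541 (not all of type I) and S1544 (final
configuration) together with the proved S1472 leave no minimal simple group of odd order, so
every group of odd order is solvable.
-/

set_option autoImplicit false
set_option linter.style.haveILetI false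

open scoped Pointwise commutatorElement

namespace Cfsg.Agent.Lib.OddOrder.Final

open Cfsg.Agent.Lib.OddOrder.Basic
open Cfsg.Agent.Lib.OddOrder.PF8 (Conj.im)
open Cfsg.Agent.Lib.OddOrder.PF8.TypeP (coprime_W₁ card_W₁ isOfTypeP_of im_conj_self)

universe u

/-- The conclusion of S1385. -/
def StructureStmt (G : Type u) [Group G] : Prop :=
  (∀ M : Subgroup G, IsCoatom M → Cfsg.Agent.Lib.OddOrder.TypeOne.IsTypeI M) ∨
    ∃ W₁ W₂ S T : Subgroup G, Cfsg.IsSelfNormalizingCyclic W₁ W₂ ∧ IsCoatom S ∧ IsCoatom T ∧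
      Cfsg.IsComplIn ⁅S, S⁆ W₁ S ∧ Cfsg.IsComplIn ⁅T, T⁆ W₂ T ∧ S ⊓ T = W₁ ⊔ W₂ ∧
      (Cfsg.IsOfTypeII S ∨ Cfsg.IsOfTypeII T) ∧
      (Cfsg.IsOfTypeII S ∨ Cfsg.IsOfTypeIII S ∨ Cfsg.IsOfTypeIV S ∨ Cfsg.IsOfTypeV S) ∧
      (Cfsg.IsOfTypeII T ∨ Cfsg.IsOfTypeIII T ∨ Cfsg.IsOfTypeIV T ∨ Cfsg.IsOfTypeV T) ∧
      ∀ M : Subgroup G, IsCoatom M → Cfsg.Agent.Lib.OddOrder.TypeOne.IsTypeI M ∨ ∃ g : G,
        M = S.map (MulAut.conj g).toMonoidHom ∨ M = T.map (MulAut.conj g).toMonoidHom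

/-- The conclusion of S1541. -/
def NotAllTypeOne (G : Type u) [Group G] : Prop :=
  ∃ M : Subgroup G, IsCoatom M ∧ ¬ Cfsg.Agent.Lib.OddOrder.TypeOne.IsTypeI M

/-- The statement of S1544, cut down to what the contradiction uses. -/
def FinalConfig (G : Type u) [Group G] : Prop :=
  ∀ S T W₁ W₂ U V : Subgroup G, IsCoatom S → IsCoatom T →
    Cfsg.IsTypePWith S W₁ U W₂ → Cfsg.IsTypePWith T W₂ V W₁ → S ⊓ T = W₁ ⊔ W₂ →
    (Cfsg.IsOfTypeII S ∨ Cfsg.IsOfTypeII T) →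
    (Cfsg.IsOfTypeII S ∨ Cfsg.IsOfTypeIII S ∨ Cfsg.IsOfTypeIV S ∨ Cfsg.IsOfTypeV S) →
    (Cfsg.IsOfTypeII T ∨ Cfsg.IsOfTypeIII T ∨ Cfsg.IsOfTypeIV T ∨ Cfsg.IsOfTypeV T) →
    Nat.card W₁ < Nat.card W₂ →
    (Nat.card W₁).Prime ∧ (Nat.card W₂).Prime ∧
      Cfsg.IsElementaryAbelian (Nat.card W₂) (Cfsg.fittingHallOf S) ∧
      Nat.card (Cfsg.fittingHallOf S) = Nat.card W₂ ^ Nat.card W₁ ∧ IsCyclic U ∧
      Nat.card U * (Nat.card W₂ - 1) = Nat.card W₂ ^ Nat.card W₁ - 1 ∧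
      (∀ u ∈ U, u ≠ 1 → ∀ x ∈ Cfsg.fittingHallOf S, u * x = x * u → x = 1) ∧
      Nat.Coprime ((Nat.card W₂ ^ Nat.card W₁ - 1) / (Nat.card W₂ - 1)) (Nat.card W₂ - 1) ∧
      U ≤ Subgroup.normalizer (Cfsg.fittingHallOf S : Set G) ∧
      (Nat.card (Cfsg.fittingHallOf T)).Coprime (Nat.card W₂) ∧
      Cfsg.IsElementaryAbelian (Nat.card W₁) (Cfsg.fittingHallOf T) ∧
      W₂ ≤ Subgroup.normalizer (Cfsg.fittingHallOf T : Set G) ∧
      ∃ y ∈ Cfsg.fittingHallOf T,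
        W₂.map (MulAut.conj y).toMonoidHom ≤ Subgroup.normalizer (U : Set G) ∧
        ∃ (F : Type) (_ : Field F) (_ : Fintype F) (f : G → F) (ψ : G → F),
          Fintype.card F = Nat.card W₂ ^ Nat.card W₁ ∧
          Set.BijOn f (Cfsg.fittingHallOf S : Set G) Set.univ ∧
          (∀ x ∈ Cfsg.fittingHallOf S, ∀ x' ∈ Cfsg.fittingHallOf S, f (x * x') = f x + f x') ∧
          (∀ u ∈ U, ψ u ≠ 0 ∧ ∀ x ∈ Cfsg.fittingHallOf S, f (u * x * u⁻¹) = ψ u * f x) ∧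
          (∀ u ∈ U, ∀ u' ∈ U, ψ (u * u') = ψ u * ψ u') ∧ Set.InjOn ψ (U : Set G) ∧
          (∀ x ∈ Cfsg.fittingHallOf S, x ∈ W₂ ↔ f x ^ Nat.card W₂ = f x)

variable {G : Type u} [Group G] [Finite G]

omit [Finite G] in
theorem sup_comm_data {W₁ W₂ : Subgroup G} (h : Cfsg.IsSelfNormalizingCyclic W₁ W₂) :
    Cfsg.IsSelfNormalizingCyclic W₂ W₁ := by
  obtain ⟨h1, h2, h3, h4, h5, h6⟩ := h
  refine ⟨h2, h1, by rw [inf_comm]; exact h3, fun a ha b hb => (h4 b hb a ha).symm,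
    by rw [sup_comm]; exact h5, fun X hX hne => ?_⟩
  rw [sup_comm W₂ W₁] at hX ⊢
  exact h6 X (by rwa [Set.union_comm]) hne

/-- A subgroup of type P has data extending a prescribed complement `W₁` of `M'` and a prescribed
self-normalizing cyclic partner `W₂ ≤ M`. -/
theorem exists_typePWith {M W₁ W₂ : Subgroup G} (hM : Cfsg.IsOfTypeP M)
    (hC : Cfsg.IsComplIn ⁅M, M⁆ W₁ M) (hW : Cfsg.IsSelfNormalizingCyclic W₁ W₂) (hW₂ : W₂ ≤ M) :
    ∃ U, Cfsg.IsTypePWith M W₁ U W₂ := by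
  obtain ⟨A, U₀, B₀, hP⟩ := hM
  have := hP.W₁_cyclic
  letI : CommGroup A := IsCyclic.commGroup
  obtain ⟨k, hk, hkW⟩ := Coprime.exists_conj_eq_of_coprime (A := A) (B := W₁) (K := ⁅M, M⁆)
    (hP.W₁_compl.2.1.trans (PF8.TypeP.le_normalizer_derived M)) (coprime_W₁ hP)
    (Or.inl inferInstance) (by rw [sup_comm, isComplIn_sup hP.W₁_compl]; exact hC.2.1)
    (by rw [card_W₁ hP, ← isComplIn_relIndex hC])
  have hkM : k ∈ M := hP.W₁_compl.1 hk
  have h' := PF8.Conj.isTypePWith_im (MulAut.conj k) hP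
  rw [im_conj_self hkM] at h'
  have hkW' : PF8.Conj.im (MulAut.conj k) A = W₁ := hkW
  rw [hkW'] at h'
  refine ⟨_, (?_ : PF8.Conj.im (MulAut.conj k) B₀ = W₂) ▸ h'⟩
  set B := PF8.Conj.im (MulAut.conj k) B₀
  -- `W₂` lies in `M'`, hence in `B`; both pairs have the same join.
  obtain ⟨w, hw, hw1⟩ := W₁.bot_or_exists_ne_one.resolve_left hW.1
  have hcop : (Nat.card W₁).Coprime (Nat.card W₂) := by
    by_contra hnc
    obtain ⟨p, hp, hp1, hp2⟩ := Nat.Prime.not_coprime_iff_dvd.1 hnc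
    have := Fact.mk hp
    obtain ⟨b, hb⟩ := exists_prime_orderOf_dvd_card' (G := W₂) p hp2
    rw [← Subgroup.orderOf_coe] at hb
    have hb1 : (b : G) ∈ W₁ :=
      (CyclicTI.mem_factor_iff hW (le_sup_right (a := W₁) b.2)).1.2
        (orderOf_dvd_iff_pow_eq_one.1 (hb ▸ hp1))
    rw [CyclicTI.eq_one_of_mem hW hb1 b.2, orderOf_one] at hb
    exact hp.ne_one hb.symm
  have hW₂D : W₂ ≤ ⁅M, M⁆ := by
    intro y hy
    haveI : ((⁅M, M⁆ : Subgroup G).subgroupOf M).Normal :=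
      (Subgroup.normal_subgroupOf_iff_le_normalizer hP.W₁_compl.1).2
        (PF8.TypeP.le_normalizer_derived M)
    have hpow := Subgroup.pow_index_mem ((⁅M, M⁆ : Subgroup G).subgroupOf M) ⟨y, hW₂ hy⟩
    rw [← Subgroup.relIndex, isComplIn_relIndex hC, Subgroup.mem_subgroupOf] at hpow
    obtain ⟨m, hm⟩ := exists_pow_eq_self_of_coprime
      (hcop.coprime_dvd_right (W₂.orderOf_dvd_natCard hy))
    rw [← hm]
    exact pow_mem (by simpa using hpow) m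
  have hle : W₂ ≤ B := by
    intro y hy
    rw [← h'.W₂_centralizer w hw hw1]
    exact ⟨hW₂D hy, Subgroup.mem_centralizer_singleton_iff.2 (hW.2.2.2.1 w hw y hy).symm⟩
  obtain ⟨y, hy, hy1⟩ := W₂.bot_or_exists_ne_one.resolve_left hW.2.1
  have hsup : W₁ ⊔ B = W₁ ⊔ W₂ := by
    have hy' : y ∈ B := hle hy
    have out : ∀ {Y : Subgroup G}, W₁ ⊓ Y = ⊥ → y ∈ Y →
        {w * y} ⊆ (↑(W₁ ⊔ Y) : Set G) \ (↑W₁ ∪ ↑Y) := by
      intro Y hY hyY
      rw [Set.singleton_subset_iff]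
      refine ⟨mul_mem (Subgroup.mem_sup_left hw) (Subgroup.mem_sup_right hyY), ?_⟩
      rintro (h | h)
      · exact hy1 (Subgroup.mem_bot.1 (hY ▸ ⟨by simpa using mul_mem (inv_mem hw) h, hyY⟩))
      · exact hw1 (Subgroup.mem_bot.1 (hY ▸ ⟨hw, by simpa using mul_mem h (inv_mem hyY)⟩))
    rw [← h'.selfNormalizing.2.2.2.2.2 {w * y} (out h'.selfNormalizing.2.2.1 hy')
      (Set.singleton_nonempty _), hW.2.2.2.2.2 {w * y} (out hW.2.2.1 hy) (Set.singleton_nonempty _)]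
  refine le_antisymm (fun b hb => ?_) hle
  have hb' : b ∈ W₁ ⊔ W₂ := hsup ▸ Subgroup.mem_sup_right hb
  obtain ⟨π₁, π₂, hπ⟩ := CyclicTI.exists_proj hW
  obtain ⟨e, h1, h2⟩ := hπ ⟨b, hb'⟩
  have e' : b = (π₁ ⟨b, hb'⟩ : G) * (π₂ ⟨b, hb'⟩ : G) := congrArg Subtype.val e
  have hB : (π₁ ⟨b, hb'⟩ : G) ∈ B := by
    rw [eq_mul_inv_of_mul_eq e'.symm]
    exact mul_mem hb (inv_mem (hle h2))
  rw [e', CyclicTI.eq_one_of_mem h'.selfNormalizing h1 hB, one_mul]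
  exact h2

/-- The three inputs exclude a minimal simple group of odd order. -/
theorem no_minSimpleOdd_of (h1385 : StructureStmt G) (h1541 : NotAllTypeOne G)
    (h1544 : FinalConfig G) : False := by
  obtain ⟨M, hM, hMI⟩ := h1541
  rcases h1385 with h | ⟨W₁, W₂, S, T, hW, hS, hT, hSc, hTc, hST, hII, hS25, hT25, -⟩
  · exact hMI (h M hM)
  obtain ⟨U, hSP⟩ := exists_typePWith (isOfTypeP_of hS25) hSc hW
    (le_sup_right.trans (hST.ge.trans inf_le_left))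
  obtain ⟨V, hTP⟩ := exists_typePWith (isOfTypeP_of hT25) hTc (sup_comm_data hW)
    (le_sup_left.trans (hST.ge.trans inf_le_right))
  have key : ∀ S T W₁ W₂ U V : Subgroup G, IsCoatom S → IsCoatom T →
      Cfsg.IsTypePWith S W₁ U W₂ → Cfsg.IsTypePWith T W₂ V W₁ → S ⊓ T = W₁ ⊔ W₂ →
      (Cfsg.IsOfTypeII S ∨ Cfsg.IsOfTypeII T) →
      (Cfsg.IsOfTypeII S ∨ Cfsg.IsOfTypeIII S ∨ Cfsg.IsOfTypeIV S ∨ Cfsg.IsOfTypeV S) →
      (Cfsg.IsOfTypeII T ∨ Cfsg.IsOfTypeIII T ∨ Cfsg.IsOfTypeIV T ∨ Cfsg.IsOfTypeV T) →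
      Nat.card W₁ < Nat.card W₂ → False := by
    intro S T W₁ W₂ U V hS hT hSP hTP hST hII hS25 hT25 hlt
    obtain ⟨hq, hp, hPe, -, -, hUc, -, hA, hUP, hcop, hQe, hW₂Q, y, hy, hyU, F, iF, iFt, f, ψ,
      hF, hbij, hadd, hψ, hmul, hinj, hW₂⟩ := h1544 S T W₁ W₂ U V hS hT hSP hTP hST hII hS25 hT25 hlt
    have := Fact.mk hp
    have := Fact.mk hq
    exact absurd (Cfsg.Agent.S1472.result (Nat.card W₂) (Nat.card W₁) hA F hF (Cfsg.fittingHallOf S)
      U (Cfsg.fittingHallOf T) f ψ hbij hadd hUP hψ hmul hinj hUc hQe.1 hcop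
      (fun x hx e => hW₂Q ((hW₂ x hx).2 e)) y hy
      (fun x hx e => hyU ⟨x, (hW₂ x hx).2 e, rfl⟩)) (not_le.2 hlt)
  rcases lt_trichotomy (Nat.card W₁) (Nat.card W₂) with hlt | heq | hgt
  · exact key S T W₁ W₂ U V hS hT hSP hTP hST hII hS25 hT25 hlt
  · have hc : (Nat.card W₁).Coprime (Nat.card W₂) :=
      (coprime_W₁ hSP).coprime_dvd_right (Subgroup.card_dvd_of_le
        ((hSP.W₂_le.trans inf_le_left).trans hSP.U_compl.1))
    rw [← heq, Nat.coprime_self, Subgroup.card_eq_one] at hc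
    exact hSP.W₁_ne hc
  · exact key T S W₂ W₁ V U hT hS hTP hSP (by rw [inf_comm, hST, sup_comm]) hII.symm hT25 hS25 hgt

omit G in
/-- If there is no minimal simple group of odd order, every group of odd order is solvable. -/
theorem isSolvable_of_odd_card_of
    (hno : ∀ (H : Type u) [Group H] [Finite H], ¬ Cfsg.IsMinSimpleOddOrder H) :
    ∀ (H : Type u) [Group H] [Finite H], Odd (Nat.card H) → Group.IsSolvable H := by
  suffices h : ∀ n, ∀ (H : Type u) [Group H] [Finite H], Nat.card H = n → Odd n → Group.IsSolvable H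
    from fun H _ _ ho => h _ H rfl ho
  intro n
  induction n using Nat.strong_induction_on with
  | _ n ih =>
    intro H _ _ hn ho
    by_contra hns
    have hsub : ∀ K : Subgroup H, K ≠ ⊤ → Group.IsSolvable K := fun K hK => by
      refine ih _ ?_ K rfl (ho.of_dvd_nat (hn ▸ K.card_subgroup_dvd_card))
      rw [← hn]
      exact lt_of_le_of_ne (Subgroup.card_le_card_group K) fun e => hK (Subgroup.card_eq_iff_eq_top K |>.1 e)
    have hcomm : ¬ IsMulCommutative H := fun h => hns (by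
      haveI := h
      exact Group.isSolvable_of_comm fun a b => h.is_comm.comm a b)
    have : Nontrivial H := not_subsingleton_iff_nontrivial.1 fun hs =>
      hcomm ⟨⟨fun a b => Subsingleton.elim _ _⟩⟩
    refine hno H ⟨hn ▸ ho, ⟨fun N hN => ?_⟩, hcomm, hsub⟩
    by_contra hN2
    rw [not_or] at hN2
    haveI := hN
    haveI := hsub N hN2.2
    have hlt : Nat.card (H ⧸ N) < n := by
      rw [← hn, ← Subgroup.index_eq_card, ← Subgroup.card_mul_index N]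
      exact lt_mul_of_one_lt_left (Nat.pos_of_ne_zero Subgroup.index_ne_zero_of_finite)
        ((Subgroup.one_lt_card_iff_ne_bot N).2 hN2.1)
    haveI := ih _ hlt (H ⧸ N) rfl (ho.of_dvd_nat (hn ▸ Subgroup.card_quotient_dvd_card N))
    exact hns (Group.isSolvable_of_ker_le_range N.subtype (QuotientGroup.mk' N) (by simp))

omit G in
/-- The odd order theorem from the three inputs. -/
theorem isSolvable_of_steps
    (h1385 : ∀ (H : Type u) [Group H] [Finite H], Cfsg.IsMinSimpleOddOrder H → StructureStmt H)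
    (h1541 : ∀ (H : Type u) [Group H] [Finite H], Cfsg.IsMinSimpleOddOrder H → NotAllTypeOne H)
    (h1544 : ∀ (H : Type u) [Group H] [Finite H], Cfsg.IsMinSimpleOddOrder H → FinalConfig H) :
    ∀ (H : Type u) [Group H] [Finite H], Odd (Nat.card H) → Group.IsSolvable H :=
  isSolvable_of_odd_card_of fun H _ _ hH =>
    no_minSimpleOdd_of (h1385 H hH) (h1541 H hH) (h1544 H hH)

end Cfsg.Agent.Lib.OddOrder.Final
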