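import Cfsg.Agent.Lib.OddOrder.AlphaCore
import Cfsg.Agent.Lib.Cores.Basic

/-!
# `M_σ` is a Hall subgroup
-/

set_option autoImplicit false
set_option linter.style.haveILetI false
set_option linter.unusedSectionVars false

namespace Cfsg.Agent.Lib.OddOrder.SigmaHall

open Cfsg.Agent.Lib.OddOrder.MinSimple

universe u

variable {G : Type u} [Group G] [Finite G]

theorem not_dvd_index_piCore (hG : Cfsg.IsMinSimpleOddOrder G) {M : Subgroup G} (hM : IsCoatom M)
    {q : ℕ} (hq : q.Prime) (hqσ : q ∈ Cfsg.sigma M) :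
    ¬ q ∣ (Cfsg.piCore (Cfsg.sigma M) M).index := by
  haveI := Fact.mk hq
  haveI := solvable_of_ne_top hG hM.1
  obtain ⟨⟨-, -, hrel⟩, -, -, -, hnil⟩ := AlphaCore.alphaCore_spec hG hM
  set K := Cfsg.piCore (Cfsg.alpha M) M with hK
  set f := QuotientGroup.mk' K with hf
  obtain ⟨S⟩ : Nonempty (Sylow q M) := inferInstance
  suffices hS : (S : Subgroup M) ≤ Cfsg.piCore (Cfsg.sigma M) M from
    fun hd => S.not_dvd_index (hd.trans (Subgroup.index_dvd_of_le hS))
  haveI : ((commutator M).map f).Normal :=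
    Subgroup.Normal.map inferInstance f (QuotientGroup.mk'_surjective K)
  haveI := hnil
  have hF := Cores.le_fittingSubgroup (N := (commutator M).map f) hnil
  set U := (Cfsg.pCore q (M ⧸ K)).comap f with hU
  haveI : U.Normal := Subgroup.Normal.comap inferInstance f
  have hSU : (S : Subgroup M) ≤ U := by
    intro x hx
    obtain ⟨j, hj⟩ := S.2 ⟨x, hx⟩
    obtain ⟨i, -, hi⟩ := (Nat.dvd_prime_pow hq).1 ((orderOf_map_dvd f x).trans
      (orderOf_dvd_of_pow_eq_one (by simpa using congrArg Subtype.val hj : x ^ q ^ j = 1)))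
    exact OddLocal.DerivedFitting.mem_pCore_of_mem_fitting (q := q)
      (hF ⟨x, AlphaCore.sylow_le_commutator hG hM hqσ S hx, rfl⟩) ⟨i, hi⟩
  refine hSU.trans (Cores.le_piCore fun r hr hd => ?_)
  have hKU : K ≤ U := fun x hx => by
    show f x ∈ Cfsg.pCore q (M ⧸ K)
    rw [hf, QuotientGroup.mk'_apply, (QuotientGroup.eq_one_iff x).2 hx]
    exact one_mem _
  rw [← Subgroup.card_mul_index (K.subgroupOf U)] at hd
  rcases hr.dvd_mul.1 hd with h | h
  · exact AlphaCore.alpha_subset_sigma hG hM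
      (Cores.piCore_isPiGroup _ r hr (NormedConstrained.card_subgroupOf_eq hKU ▸ h))
  · obtain ⟨n, hn⟩ := IsPGroup.iff_card.1 (Cores.pCore_isPGroup (G := M ⧸ K) q)
    have h1 : Nat.card (U.map f) = K.relIndex U := by
      rw [← Subgroup.relIndex_ker, hf, QuotientGroup.ker_mk']
    rw [hU, Subgroup.map_comap_eq_self_of_surjective (QuotientGroup.mk'_surjective K)] at h1
    have h2 : r ∣ q ^ n := by rw [← hn, h1]; exact h
    rwa [(Nat.prime_dvd_prime_iff_eq hr hq).1 (hr.dvd_of_dvd_pow h2)]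

theorem sigmaCore_isPiHallOf (hG : Cfsg.IsMinSimpleOddOrder G) {M : Subgroup G} (hM : IsCoatom M) :
    Cfsg.IsPiHallOf (Cfsg.sigma M) (Cfsg.sigmaCore M) M := by
  refine ⟨Subgroup.map_subtype_le _, fun q hq h =>
    Cores.piCore_isPiGroup _ q hq (h.trans (Subgroup.card_map_dvd _ _)), fun q hq hqσ => ?_⟩
  rw [Cfsg.sigmaCore, Basic.relIndex_map_subtype]
  exact not_dvd_index_piCore hG hM hq hqσ

end Cfsg.Agent.Lib.OddOrder.SigmaHall
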