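import Cfsg.Agent.Lib.OddOrder.MaximalBasics
import Cfsg.Agent.Lib.PGroups.UniqueInvolution

/-!
# Small tools for BG 13.10-14.2

`p'`-elements of `M'` normalizing a `p`-subgroup of `M'` centralize it for `p ∉ β(M)`; a subgroup
without primes of `σ(M)` lies in a complement of `M_σ`; `C(X) ≤ L` for `1 ≠ X ≤ M_σ` and `L`
conjugate to `M` forces `L = M`; elements of order `p` of noncyclic `p`-groups lie in planes.
-/

set_option autoImplicit false
set_option linter.style.haveILetI false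
set_option linter.unusedSectionVars false

open scoped Pointwise commutatorElement

namespace Cfsg.Agent.Lib.OddOrder.BetaDerived

open Cfsg.Agent.Lib.OddOrder.MinSimple

universe u

variable {G : Type u} [Group G] [Finite G] {q : ℕ} [hq : Fact q.Prime]

/-- For `q ∉ β(M)` a `q'`-element of `M'` normalizing a `q`-subgroup of `M'` centralizes it. -/
theorem derived_centralizes (hG : Cfsg.IsMinSimpleOddOrder G) {M : Subgroup G} (hM : IsCoatom M)
    (hqβ : q ∉ Cfsg.beta M) {S : Subgroup G} (hS : IsPGroup q S) (hSd : S ≤ ⁅M, M⁆) {a : G}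
    (ha : a ∈ ⁅M, M⁆) (haS : a ∈ Subgroup.normalizer (S : Set G))
    (hco : (orderOf a).Coprime q) : a ∈ Subgroup.centralizer (S : Set G) := by
  refine Subgroup.mem_centralizer_iff.2 fun s hs => commutatorElement_eq_one_iff_mul_comm.1 ?_
  have hcS : ⁅s, a⁆ ∈ S := by
    rw [commutatorElement_def, show s * a * s⁻¹ * a⁻¹ = s * (a * s⁻¹ * a⁻¹) by group]
    exact mul_mem hs ((Subgroup.mem_normalizer_iff.1 haS _).1 (inv_mem hs))
  by_cases hd : q ∣ Nat.card M
  · have hnc := (BetaCore.structure_prime hG (fun H hH => PLengthOne.of_ne_top hG q H hH) hM hd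
      hqβ).1
    set R := Cfsg.pResidual q ↥⁅M, M⁆ with hR
    have hRn : R.Normal := by
      refine ⟨fun x hx g => ?_⟩
      exact Transfer.PResidual.map_pResidual_le (MulAut.conj g).toMonoidHom ⟨x, hx, rfl⟩
    have hca : (⟨a, ha⟩ : ↥⁅M, M⁆) ∈ R :=
      Transfer.PResidual.mem_pResidual (by rwa [← Subgroup.orderOf_coe])
    have hmem : (⁅(⟨s, hSd hs⟩ : ↥⁅M, M⁆), ⟨a, ha⟩⁆ : ↥⁅M, M⁆) ∈ R := by
      rw [commutatorElement_def]
      exact mul_mem (hRn.conj_mem _ hca _) (inv_mem hca)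
    have hnd := Transfer.PResidual.hasNormalPComplement_iff_not_dvd.1 hnc
    obtain ⟨n, hn⟩ := IsPGroup.iff_orderOf.1 hS ⟨⁅s, a⁆, hcS⟩
    rw [Subgroup.orderOf_mk] at hn
    rcases n with _ | n
    · rwa [pow_zero, orderOf_eq_one_iff] at hn
    refine absurd ?_ hnd
    have h1 : orderOf (⁅(⟨s, hSd hs⟩ : ↥⁅M, M⁆), ⟨a, ha⟩⁆ : ↥⁅M, M⁆) = q ^ (n + 1) := by
      rw [← Subgroup.orderOf_coe, ← hn]
      congr 1
    exact ((dvd_pow_self q n.succ_ne_zero).trans h1.symm.dvd).trans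
      (Subgroup.orderOf_dvd_natCard R hmem)
  · have hS1 : S = ⊥ := by
      by_contra hne
      exact hd ((SigmaEmbedding.ne_one_of_pgroup hS hne).trans
        (Subgroup.card_dvd_of_le (hSd.trans (MaximalBasics.derived_le_self M))))
    rw [hS1, Subgroup.mem_bot] at hcS
    exact hcS

omit hq in
/-- A subgroup of `M` without primes of `σ(M)` lies in a complement of `M_σ`. -/
theorem exists_compl_ge (hG : Cfsg.IsMinSimpleOddOrder G) {M Y : Subgroup G} (hM : IsCoatom M)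
    (hYM : Y ≤ M) (hY : ∀ r : ℕ, r.Prime → r ∣ Nat.card Y → r ∉ Cfsg.sigma M) :
    ∃ E : Subgroup G, Cfsg.IsComplIn E (Cfsg.sigmaCore M) M ∧ Y ≤ E := by
  haveI := solvable_of_ne_top hG hM.1
  obtain ⟨E, hE⟩ := MaximalBasics.exists_compl hG hM
  have hσ := SigmaHall.sigmaCore_isPiHallOf hG hM
  obtain ⟨k, hk, hkE⟩ := SigmaSubgroup.exists_conj_le_of_sup (π := {r : ℕ | r ∉ Cfsg.sigma M})
    (solvable_of_ne_top hG hM.1) hσ.1 (Basic.le_normalizer_map_subtype M _) hE.1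
    (by rw [sup_comm]; exact Basic.isComplIn_sup hE) hYM hY
    (fun r hr hd hn => hn (hσ.2.1 r hr hd))
  set φ := (MulAut.conj k⁻¹).toMonoidHom with hφ
  have hMφ : M.map φ = M := SigmaEmbedding.conj_smul_eq_self (inv_mem hk)
  have hσφ : (Cfsg.sigmaCore M).map φ = Cfsg.sigmaCore M :=
    Coprime.conj_smul_eq_self_of_mem_normalizer
      ((Basic.le_normalizer_map_subtype M _) (inv_mem hk))
  have hinj : Function.Injective φ := (MulAut.conj k⁻¹).injective
  refine ⟨E.map φ, ⟨hMφ ▸ Subgroup.map_mono hE.1, hσ.1, ?_, ?_⟩, ?_⟩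
  · rw [← hσφ, ← Subgroup.map_inf _ _ φ hinj, hE.2.2.1, Subgroup.map_bot]
  · intro m hm
    rw [← hMφ] at hm
    obtain ⟨m', hm', rfl⟩ := hm
    obtain ⟨e, he, s, hs, rfl⟩ := hE.2.2.2 m' hm'
    exact ⟨φ e, ⟨e, he, rfl⟩, φ s, hσφ ▸ Subgroup.mem_map_of_mem φ hs, map_mul φ e s⟩
  · intro y hy
    refine ⟨_, hkE ⟨y, hy, rfl⟩, ?_⟩
    show k⁻¹ * (k * y * k⁻¹) * k⁻¹⁻¹ = y
    group

/-- `C(X) ≤ L` for a nontrivial `q`-subgroup `X ≤ M ∩ L`, `q ∈ σ(M)`, and `L` conjugate to `M`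
force `L = M`. -/
theorem eq_of_centralizer_le (hG : Cfsg.IsMinSimpleOddOrder G) {M L : Subgroup G} (hM : IsCoatom M)
    (hσ : q ∈ Cfsg.sigma M) {X : Subgroup G} (hX : IsPGroup q X) (hX1 : X ≠ ⊥) (hXM : X ≤ M)
    (hXL : X ≤ L) (hCL : Subgroup.centralizer (X : Set G) ≤ L)
    (hconj : ∃ g : G, L = M.map (MulAut.conj g).toMonoidHom) : L = M := by
  by_contra hne
  obtain ⟨g, hg⟩ := hconj
  exact SigmaEmbedding.not_conj hG hM hσ hX hX1 hXM hXL hCL hne g hg

/-- An element of order `q` of a noncyclic `q`-group lies in a subgroup of type `(q, q)`. -/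
theorem exists_elemAb_sq_mem (hq2 : q ≠ 2) {S : Subgroup G} (hS : IsPGroup q S)
    (hnc : ¬ IsCyclic S) {x : G} (hx : x ∈ S) (hxo : orderOf x = q) :
    ∃ W : Subgroup G, W ≤ S ∧ Cfsg.IsElementaryAbelian q W ∧ Nat.card W = q ^ 2 ∧ x ∈ W := by
  obtain ⟨B, hBn, hB, hBc⟩ := PGroups.exists_normal_elemAb_sq hq2 hS hnc
  have hinj := S.subtype_injective
  by_cases hxB : (⟨x, hx⟩ : S) ∈ B
  · exact ⟨B.map S.subtype, Subgroup.map_subtype_le _, PGroups.elemAb_map _ hB,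
      by rw [Subgroup.card_map_of_injective hinj, hBc], ⟨⟨x, hx⟩, hxB, rfl⟩⟩
  haveI := hBn
  have hB1 : B ≠ ⊥ := fun e => by
    rw [e, Subgroup.card_bot] at hBc
    nlinarith [hq.out.two_le]
  obtain ⟨Z, hZB, hZc, -, hZcard⟩ := PGroups.exists_central_card_prime hS B hB1
  set Z' := Z.map S.subtype with hZ'
  have hxp : x ^ q = 1 := hxo ▸ pow_orderOf_eq_one x
  have hcomm : Subgroup.zpowers x ≤ Subgroup.centralizer (Z' : Set G) := by
    refine Subgroup.zpowers_le.2 (Subgroup.mem_centralizer_iff.2 ?_)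
    rintro _ ⟨z, hz, rfl⟩
    exact congrArg Subtype.val (Subgroup.mem_center_iff.1 (hZc hz) ⟨x, hx⟩).symm
  have hW := SCN.elemAb_sup (PGroups.elemAb_zpowers hxp)
    (PGroups.elemAb_map S.subtype (PGroups.elemAb_mono hB hZB)) hcomm
  refine ⟨_, sup_le (Subgroup.zpowers_le.2 hx) (Subgroup.map_subtype_le _), hW, ?_,
    Subgroup.mem_sup_left (Subgroup.mem_zpowers x)⟩
  obtain ⟨k, hk⟩ := PGroups.elemAb_card_eq_pow hW
  have hle : Nat.card ↥(Subgroup.zpowers x ⊔ Z') ≤ q ^ 2 := by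
    refine (Rank.card_sup_le_of_commute fun a ha b hb =>
      (Subgroup.mem_centralizer_iff.1 (hcomm ha) b hb).symm).trans (le_of_eq ?_)
    rw [Nat.card_zpowers, hxo, hZ', Subgroup.card_map_of_injective hinj, hZcard, pow_two]
  have hlt : Nat.card Z' < Nat.card ↥(Subgroup.zpowers x ⊔ Z') := by
    refine lt_of_le_of_ne (Subgroup.card_le_of_le le_sup_right) fun e => hxB ?_
    have h1 := Subgroup.eq_of_le_of_card_ge (le_sup_right : Z' ≤ _) e.ge
    obtain ⟨z, hz, hzx⟩ := (h1.ge (Subgroup.mem_sup_left (Subgroup.mem_zpowers x)) : x ∈ Z')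
    have hzeq : z = ⟨x, hx⟩ := Subtype.ext hzx
    exact hzeq ▸ hZB hz
  rw [hZ', Subgroup.card_map_of_injective hinj, hZcard, hk] at hlt
  rw [hk] at hle ⊢
  have h1 : 1 < k := (Nat.pow_lt_pow_iff_right hq.out.one_lt).1 ((pow_one q).symm ▸ hlt)
  have h2 : k ≤ 2 := (Nat.pow_le_pow_iff_right hq.out.one_lt).1 hle
  congr 1
  omega

end Cfsg.Agent.Lib.OddOrder.BetaDerived
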