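import Cfsg.Agent.Lib.OddTau.Basic
import Cfsg.Agent.Lib.OddLocal.PLengthKey

/-!
# A coprime operator whose fixed points of order `p` are centralized

If `x` of prime order normalizes the `q`-group `K` with `[K, x] = K` and `K` centralizes every
element of order `p` of the `p`-group `T` fixed by `x`, then `K` centralizes `T` (odd order).
-/

set_option autoImplicit false
set_option linter.style.haveILetI false
set_option linter.unusedSectionVars false

open scoped commutatorElement

namespace Cfsg.Agent.Lib.OddOrder.FixedCommutes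

open Subgroup

universe u

variable {G : Type u} [Group G] [Finite G] {p q r : ℕ} [hp : Fact p.Prime] [hq : Fact q.Prime]
  [hr : Fact r.Prime]

theorem coprime_zpowers {x : G} (hx : orderOf x = r) {H : Subgroup G} (hH : IsPGroup p H)
    (hne : r ≠ p) : (Nat.card (zpowers x)).Coprime (Nat.card H) := by
  obtain ⟨n, hn⟩ := IsPGroup.iff_card.1 hH
  rw [Nat.card_zpowers, hx, hn]
  exact ((Nat.coprime_primes hr.out hp.out).2 hne).pow_right n

/-- The final step: `T` of exponent `p` over a central Frattini part. -/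
theorem not_minimal [Group.IsSolvable G] (hodd : Odd (Nat.card G)) (hpq : p ≠ q) (hpr : p ≠ r)
    (hqr : q ≠ r) {T F K : Subgroup G} [F.Normal] {x : G} (hx : orderOf x = r)
    (hT : IsPGroup p T) (hK : IsPGroup q K) (hKT : K ≤ normalizer (T : Set G))
    (hxT : x ∈ normalizer (T : Set G)) (hxK : x ∈ normalizer (K : Set G))
    (hKx : ⁅K, zpowers x⁆ = K) (hFT : F ≤ T) (hlt : F ≠ T) (hTK : ⁅T, K⁆ = T)
    (hab : ⁅T, T⁆ ≤ F) (hexp : ∀ t ∈ T, t ^ p = 1)
    (hfix : ∀ t ∈ T, x * t = t * x → t ^ p = 1 → t ∈ centralizer (K : Set G)) : False := by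
  set π := QuotientGroup.mk' F with hπ
  have hπs : Function.Surjective π := QuotientGroup.mk'_surjective F
  haveI : Group.IsSolvable (G ⧸ F) := Group.isSolvable_of_surjective hπs
  have hnorm : ∀ {X : Subgroup G} {g : G}, g ∈ normalizer (X : Set G) →
      π g ∈ normalizer ((X.map π : Subgroup (G ⧸ F)) : Set (G ⧸ F)) := fun hg =>
    le_normalizer_map π (mem_map_of_mem π hg)
  haveI hc : IsMulCommutative (T.map π) := by
    refine ⟨⟨fun a b => Subtype.ext ?_⟩⟩
    obtain ⟨a', ha, hae⟩ := a.2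
    obtain ⟨b', hb, hbe⟩ := b.2
    show (a : G ⧸ F) * b = b * a
    rw [← hae, ← hbe]
    refine commutatorElement_eq_one_iff_mul_comm.1 ?_
    rw [← map_commutatorElement, hπ, QuotientGroup.mk'_apply, QuotientGroup.eq_one_iff]
    exact hab (commutator_mem_commutator ha hb)
  have hKT' : K.map π ≤ normalizer ((T.map π : Subgroup (G ⧸ F)) : Set (G ⧸ F)) := by
    rintro _ ⟨k, hk, rfl⟩
    exact hnorm (hKT hk)
  have hcopKT : (Nat.card (K.map π)).Coprime (Nat.card (T.map π)) :=
    OddLocal.PLengthKey.card_coprime_of_isPGroup hpq.symm (hK.map π) (hT.map π)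
  have h0 : T.map π ⊓ centralizer ((K.map π : Subgroup (G ⧸ F)) : Set (G ⧸ F)) = ⊥ := by
    have h := Coprime.centralizer_inf_commutator_eq_bot hKT' hcopKT
    rw [← map_commutator, hTK] at h
    rw [eq_bot_iff]
    intro y hy
    exact h ▸ mem_inf.2 ⟨hy, hy.1⟩
  have hxF : orderOf (π x) = r := by
    refine orderOf_eq_prime (by rw [← map_pow, ← hx, pow_orderOf_eq_one, map_one]) fun e => ?_
    rw [hπ, QuotientGroup.mk'_apply, QuotientGroup.eq_one_iff] at e
    have := (hT.to_le hFT)
    obtain ⟨n, hn⟩ := IsPGroup.iff_card.1 this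
    have hd : r ∣ p ^ n := hx ▸ hn ▸ F.orderOf_dvd_natCard e
    exact hpr ((Nat.prime_dvd_prime_iff_eq hr.out hp.out).1 (hr.out.dvd_of_dvd_pow hd)).symm
  have hfpf : T.map π ⊓ centralizer ({π x} : Set (G ⧸ F)) = ⊥ := by
    rw [eq_bot_iff]
    rintro _ ⟨⟨t, ht, rfl⟩, htc⟩
    have hcomm : ⁅t, x⁆ ∈ F := by
      rw [← QuotientGroup.eq_one_iff, ← QuotientGroup.mk'_apply, map_commutatorElement,
        commutatorElement_eq_one_iff_mul_comm]
      exact mem_centralizer_singleton_iff.1 htc
    set T₀ := zpowers t ⊔ F with hT₀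
    have hT₀T : T₀ ≤ T := sup_le (zpowers_le.2 ht) hFT
    have hFx : x ∈ normalizer (F : Set G) :=
      le_normalizer_of_normal (H := F) (mem_top x)
    have hT₀x : zpowers x ≤ normalizer (T₀ : Set G) := by
      refine zpowers_le.2 (mem_normalizer_iff_map_conj_eq.2 ?_)
      refine eq_of_le_of_card_ge ?_ (card_map_of_injective (MulAut.conj x).injective).ge
      rw [hT₀, Subgroup.map_sup, mem_normalizer_iff_map_conj_eq.1 hFx, MonoidHom.map_zpowers]
      refine sup_le (zpowers_le.2 ?_) le_sup_right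
      show x * t * x⁻¹ ∈ zpowers t ⊔ F
      rw [show x * t * x⁻¹ = ⁅t, x⁆⁻¹ * t by rw [commutatorElement_def]; group]
      exact mul_mem (mem_sup_right (inv_mem hcomm)) (mem_sup_left (mem_zpowers t))
    have hT₀n : T₀ ≤ normalizer (F : Set G) := le_normalizer_of_normal
    obtain ⟨n, hn, c, hc, htc'⟩ := Coprime.exists_commutator_mul_fixed hT₀x
      (coprime_zpowers hx (hT.to_le hT₀T) hpr.symm) (Or.inl (Coprime.isSolvable_zpowers x))
      (mem_sup_left (mem_zpowers t) : t ∈ T₀)
    have hnF : n ∈ F := by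
      have hle : ⁅T₀, zpowers x⁆ ≤ F := by
        have h1 : (⁅T₀, zpowers x⁆).map π = ⊥ := by
          rw [map_commutator, hT₀, Subgroup.map_sup, hπ, QuotientGroup.map_mk'_self, sup_bot_eq,
            MonoidHom.map_zpowers, MonoidHom.map_zpowers, commutator_eq_bot_iff_le_centralizer,
            zpowers_le, mem_centralizer_iff]
          rintro _ ⟨i, rfl⟩
          exact (Commute.zpow_right (mem_centralizer_singleton_iff.1 htc :
            Commute (QuotientGroup.mk' F t) (QuotientGroup.mk' F x)) i).eq.symm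
        rwa [Subgroup.map_eq_bot_iff, hπ, QuotientGroup.ker_mk'] at h1
      exact hle hn
    have hcT : c ∈ T := hT₀T hc.1
    have hcK : c ∈ centralizer (K : Set G) :=
      hfix c hcT (mem_centralizer_iff.1 hc.2 x (mem_zpowers x)) (hexp c hcT)
    have hmem : π t ∈ T.map π ⊓ centralizer ((K.map π : Subgroup (G ⧸ F)) : Set (G ⧸ F)) := by
      refine mem_inf.2 ⟨mem_map_of_mem π ht, ?_⟩
      rw [htc', map_mul, hπ, QuotientGroup.mk'_apply, (QuotientGroup.eq_one_iff n).2 hnF, one_mul]
      refine mem_centralizer_iff.2 ?_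
      rintro _ ⟨k, hk, rfl⟩
      exact (map_mul _ k c).symm.trans ((congrArg _ (mem_centralizer_iff.1 hcK k hk)).trans (map_mul _ c k))
    rwa [h0] at hmem
  have hoddQ : Odd (Nat.card (G ⧸ F)) := hodd.of_dvd_nat (card_quotient_dvd_card F)
  have h1 := OddTau.Basic.commutator_centralizes_of_fpf hoddQ hqr.symm hpr.symm hpq.symm
    (hT.map π) (hK.map π) hxF hKT' (hnorm hxT) (hnorm hxK) hfpf
  rw [← MonoidHom.map_zpowers, ← map_commutator, hKx, le_centralizer_iff] at h1
  have h2 : T.map π = ⊥ := le_bot_iff.1 ((le_inf le_rfl h1).trans h0.le)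
  rw [Subgroup.map_eq_bot_iff, hπ, QuotientGroup.ker_mk'] at h2
  exact hlt (le_antisymm hFT h2)

/-- `K` centralizes `T` if it centralizes the order-`p` fixed points of `x`. -/
theorem le_centralizer (hp2 : p ≠ 2) (hpq : p ≠ q) (hpr : p ≠ r) (hqr : q ≠ r)
    {H : Subgroup G} (hH : Group.IsSolvable H) (hodd : Odd (Nat.card H)) :
    ∀ (T K : Subgroup G) (x : G), orderOf x = r → IsPGroup p T → IsPGroup q K →
      K ≤ normalizer (T : Set G) → x ∈ normalizer (T : Set G) → x ∈ normalizer (K : Set G) →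
      ⁅K, zpowers x⁆ = K → T ≤ H → K ≤ H → x ∈ H →
      (∀ t ∈ T, x * t = t * x → t ^ p = 1 → t ∈ centralizer (K : Set G)) →
      K ≤ centralizer (T : Set G) := by
  suffices ∀ (n : ℕ) (T K : Subgroup G) (x : G), Nat.card T = n → orderOf x = r → IsPGroup p T →
      IsPGroup q K → K ≤ normalizer (T : Set G) → x ∈ normalizer (T : Set G) →
      x ∈ normalizer (K : Set G) → ⁅K, zpowers x⁆ = K → T ≤ H → K ≤ H → x ∈ H →
      (∀ t ∈ T, x * t = t * x → t ^ p = 1 → t ∈ centralizer (K : Set G)) →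
      K ≤ centralizer (T : Set G) from fun T K x => this _ T K x rfl
  intro n
  induction n using Nat.strong_induction_on with
  | _ n ih =>
  intro T K x hn hx hT hK hKT hxT hxK hKx hTH hKH hxH hfix
  rcases eq_or_ne T ⊥ with hbot | hbot
  · intro k _
    rw [hbot]
    exact mem_centralizer_iff.2 fun t ht => by rw [mem_bot.1 ht]; simp
  have hsmall : ∀ R : Subgroup G, R ≤ T → R ≠ T → x ∈ normalizer (R : Set G) →
      K ≤ normalizer (R : Set G) → K ≤ centralizer (R : Set G) := fun R hle hne hxR hKR =>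
    ih (Nat.card R) (hn ▸ lt_of_le_of_ne (card_le_of_le hle)
      (fun he => hne (eq_of_le_of_card_ge hle he.ge))) R K x rfl hx (hT.to_le hle) hK hKR hxR hxK
      hKx (hle.trans hTH) hKH hxH fun t ht => hfix t (hle ht)
  have hcopTK := OddLocal.PLengthKey.card_coprime_of_isPGroup hpq.symm hK hT
  have hT₀ : ⁅T, K⁆ ≤ T := Coprime.commutator_le_of_le_normalizer hKT
  by_cases hTK : ⁅T, K⁆ = T
  swap
  · refine Coprime.le_centralizer_of_commutator_commutator
      (hcopTK.coprime_dvd_right (card_dvd_of_le hT₀)) ?_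
    rw [commutator_eq_bot_iff_le_centralizer, le_centralizer_iff]
    exact hsmall _ hT₀ hTK (OddLocal.PLengthKey.commutator_normalized hxT hxK)
      (Coprime.right_le_normalizer_commutator T K)
  -- the Frattini subgroup
  haveI : Group.IsNilpotent T := hT.isNilpotent
  haveI : Nontrivial T := (nontrivial_iff_ne_bot T).2 hbot
  set Φ := (frattini T).map T.subtype with hΦ
  have hΦT : Φ ≤ T := map_subtype_le _
  have hΦne : Φ ≠ T := by
    intro he
    have htop : frattini T = ⊤ := map_injective T.subtype_injective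
      (he.trans (by rw [← MonoidHom.range_eq_map, range_subtype]))
    exact bot_ne_top (α := Subgroup T) (frattini_nongenerating (by rw [htop, bot_sup_eq]))
  have hΦn : normalizer (T : Set G) ≤ normalizer (Φ : Set G) := fun g hg =>
    S3736.char_map_invariant (zpowers_le.2 hg) (frattini T) (mem_zpowers g)
  have hKΦ := hsmall Φ hΦT hΦne (hΦn hxT) (hKT.trans hΦn)
  have hΦc : T ≤ centralizer (Φ : Set G) := by
    rw [← hTK, commutator_le]
    intro t ht k hk
    have h := OddLocal.CoprimeFix.comm_mem_centralizer (hKΦ hk) (hΦn (le_normalizer ht))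
    have e : ⁅t, k⁆ = (k * t * k⁻¹ * t⁻¹)⁻¹ := by rw [commutatorElement_def]; group
    exact e ▸ inv_mem h
  have hcent : ∀ a ∈ T, ∀ z ∈ Φ, Commute a z := fun a ha z hz =>
    (mem_centralizer_iff.1 (hΦc ha) z hz).symm
  have hcommΦ : ∀ a ∈ T, ∀ b ∈ T, ⁅a, b⁆ ∈ Φ := fun a ha b hb =>
    ⟨⁅(⟨a, ha⟩ : T), ⟨b, hb⟩⁆, PGroups.commutatorElement_mem_frattini hT _ _, rfl⟩
  have hpowΦ : ∀ a ∈ T, a ^ p ∈ Φ := fun a ha =>
    ⟨(⟨a, ha⟩ : T) ^ p, PGroups.pow_mem_frattini hT _, rfl⟩
  have hcp : ∀ a ∈ T, ∀ b ∈ T, ⁅a, b⁆ ^ p = 1 := by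
    intro a ha b hb
    have hca : Commute ⁅a, b⁆ a := (hcent a ha _ (hcommΦ a ha b hb)).symm
    have h : ∀ n : ℕ, a ^ n * b = ⁅a, b⁆ ^ n * b * a ^ n := by
      intro n
      induction n with
      | zero => simp
      | succ n ih =>
          calc a ^ (n + 1) * b = a * (a ^ n * b) := by rw [pow_succ', mul_assoc]
            _ = ⁅a, b⁆ ^ n * (a * b) * a ^ n := by
              rw [ih]
              simp only [← mul_assoc]
              rw [(hca.pow_left n).symm.eq]
            _ = ⁅a, b⁆ ^ n * (⁅a, b⁆ * b * a) * a ^ n := by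
              rw [commutatorElement_def]; group
            _ = ⁅a, b⁆ ^ (n + 1) * b * a ^ (n + 1) := by
              rw [pow_succ, pow_succ']; simp only [mul_assoc]
    have h1 := h p
    rw [(hcent b hb _ (hpowΦ a ha)).symm.eq, mul_assoc] at h1
    exact right_eq_mul.1 h1
  let E : Subgroup G :=
    { carrier := {a | a ∈ T ∧ a ^ p = 1}
      one_mem' := ⟨one_mem T, one_pow p⟩
      mul_mem' := fun {a b} ha hb => ⟨mul_mem ha.1 hb.1, by
        rw [OddLocal.PLengthKey.pow_mul_class_two hp2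
          (hcent a ha.1 _ (hcommΦ b hb.1 a ha.1)).symm
          (hcent b hb.1 _ (hcommΦ b hb.1 a ha.1)).symm (hcp b hb.1 a ha.1),
          ha.2, hb.2, one_mul]⟩
      inv_mem' := fun {a} ha => ⟨inv_mem ha.1, by rw [inv_pow, ha.2, inv_one]⟩ }
  have hEn : normalizer (T : Set G) ≤ normalizer (E : Set G) := fun g hg =>
    mem_normalizer_fintype fun a ha => ⟨(mem_normalizer_iff.1 hg a).1 ha.1, by
      rw [conj_pow, ha.2, mul_one, mul_inv_cancel]⟩
  by_cases hE : E = T
  swap
  · have hKE := hsmall E (fun a ha => ha.1) hE (hEn hxT) (hKT.trans hEn)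
    intro k hk
    refine mem_centralizer_iff.2 fun t ht => ?_
    refine (OddLocal.CoprimeFix.centralizes_of_omega hp2 ?_ hT (hKT hk)
      (fun h hh ho => (mem_centralizer_iff.1 (hKE hk) h ⟨hh, by
        rw [← ho, pow_orderOf_eq_one]⟩).symm) t ht).symm
    obtain ⟨m, hm⟩ := IsPGroup.iff_orderOf.1 hK ⟨k, hk⟩
    rw [orderOf_mk] at hm
    rw [hm]
    exact ((Nat.coprime_primes hq.out hp.out).2 hpq.symm).pow_left m
  -- exponent `p`: pass to the subgroup generated by `T`, `K`, `x`
  exfalso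
  have hexp : ∀ t ∈ T, t ^ p = 1 := fun t ht => (hE.ge ht : t ∈ E).2
  set L := (T ⊔ K) ⊔ zpowers x with hL
  have hLH : L ≤ H := sup_le (sup_le hTH hKH) (zpowers_le.2 hxH)
  have hTL : T ≤ L := le_sup_left.trans le_sup_left
  have hKL : K ≤ L := le_sup_right.trans le_sup_left
  have hxL : x ∈ L := mem_sup_right (mem_zpowers x)
  haveI : Group.IsSolvable L := Coprime.isSolvable_of_le hLH
  haveI : (Φ.subgroupOf L).Normal := (normal_subgroupOf_iff_le_normalizer (hΦT.trans hTL)).2
    (sup_le (sup_le (le_normalizer.trans hΦn) (hKT.trans hΦn)) (zpowers_le.2 (hΦn hxT)))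
  have hmap : ∀ A B : Subgroup G, A ≤ L → B ≤ L →
      (⁅A.subgroupOf L, B.subgroupOf L⁆).map L.subtype = ⁅A, B⁆ := fun A B hA hB => by
    rw [map_commutator, map_subgroupOf_eq_of_le hA, map_subgroupOf_eq_of_le hB]
  have hnL : ∀ {X : Subgroup G} {g : L}, (g : G) ∈ normalizer (X : Set G) →
      g ∈ normalizer ((X.subgroupOf L : Subgroup L) : Set L) := fun {X g} hg =>
    mem_normalizer_iff.2 fun y => by
      show (y : G) ∈ X ↔ _
      exact mem_normalizer_iff.1 hg y
  refine not_minimal (G := L) (p := p) (q := q) (r := r) (hodd.of_dvd_nat (card_dvd_of_le hLH))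
    hpq hpr hqr (T := T.subgroupOf L) (F := Φ.subgroupOf L) (K := K.subgroupOf L) (x := ⟨x, hxL⟩)
    (by rw [← orderOf_coe]; exact hx) hT.comap_subtype hK.comap_subtype
    (fun k hk => hnL (hKT hk)) (hnL hxT) (hnL hxK) ?_ (fun y hy => hΦT hy) ?_ ?_ ?_
    (fun t ht => Subtype.ext (by simpa using hexp t ht)) ?_
  · refine map_injective L.subtype_injective ?_
    rw [show zpowers (⟨x, hxL⟩ : L) = (zpowers x).subgroupOf L from map_injective
        L.subtype_injective (by
          rw [MonoidHom.map_zpowers, map_subgroupOf_eq_of_le (zpowers_le.2 hxL)]; rfl),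
      hmap _ _ hKL (zpowers_le.2 hxL), map_subgroupOf_eq_of_le hKL, hKx]
  · intro e
    have := congrArg (Subgroup.map L.subtype) e
    rw [map_subgroupOf_eq_of_le (hΦT.trans hTL), map_subgroupOf_eq_of_le hTL] at this
    exact hΦne this
  · refine map_injective L.subtype_injective ?_
    rw [hmap _ _ hTL hKL, map_subgroupOf_eq_of_le hTL, hTK]
  · rw [commutator_le]
    intro a ha b hb
    exact hcommΦ a ha b hb
  · intro t ht hxt htp
    refine mem_centralizer_iff.2 fun k hk => Subtype.ext ?_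
    exact mem_centralizer_iff.1 (hfix t ht (congrArg Subtype.val hxt)
      (by simpa using congrArg Subtype.val htp)) k hk

end Cfsg.Agent.Lib.OddOrder.FixedCommutes
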