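import Cfsg.Agent.Lib.OddOrder.SigmaMeet
import Cfsg.Agent.Lib.OddOrder.FixedCommutes
import Cfsg.Agent.Lib.OddOrder.Cyclic

/-!
# BG 13.4: `C_{M_σ}(P) ≤ C_{M_σ}(R)` for `P` of order `p ∈ τ₁(M)`
-/

set_option autoImplicit false
set_option linter.style.haveILetI false
set_option linter.unusedSectionVars false

open scoped Pointwise commutatorElement

namespace Cfsg.Agent.Lib.OddOrder.CentTauOne

open Cfsg.Agent.Lib.OddOrder.MinSimple

universe u

variable {G : Type u} [Group G] [Finite G] {p : ℕ} [hp : Fact p.Prime] {M H : Subgroup G}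

theorem exists_sylow_le {s : ℕ} [Fact s.Prime] {D U : Subgroup G} (hDU : D ≤ U)
    (h : ¬ s ∣ D.relIndex U) : ∃ S : Sylow s U, (S : Subgroup U).map U.subtype ≤ D := by
  obtain ⟨S⟩ : Nonempty (Sylow s D) := inferInstance
  set R := (S : Subgroup D).map D.subtype with hR
  have hRD : R ≤ D := Subgroup.map_subtype_le _
  have hidx : ¬ s ∣ (R.subgroupOf U).index := by
    show ¬ s ∣ R.relIndex U
    rw [← Subgroup.relIndex_mul_relIndex R D U hRD hDU]
    exact fun hd => ((Fact.out : s.Prime).dvd_mul.1 hd).elim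
      (fun h' => S.not_dvd_index (by rwa [hR, Basic.relIndex_map_subtype] at h')) h
  refine ⟨((S.2.map _).of_equiv (Subgroup.subgroupOfEquivOfLe (hRD.trans hDU)).symm).toSylow hidx, ?_⟩
  rw [IsPGroup.toSylow_coe, Subgroup.map_subgroupOf_eq_of_le (hRD.trans hDU)]
  exact hRD

/-- `C_T(x)` is cyclic and `[K, x]` centralizes `T`. -/
theorem centralizes_sylow (hG : Cfsg.IsMinSimpleOddOrder G) (hH : IsCoatom H)
    (hpα : p ∈ Cfsg.alpha H) (hpi : Cfsg.IsIdealPrime p G) {r q : ℕ} [hr : Fact r.Prime]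
    [hq : Fact q.Prime] (hrp : r ≠ p) (hqp : q ≠ p) (hqr : q ≠ r) {x : G} (hxr : orderOf x = r)
    (hxH : x ∈ H) (hrσ : r ∉ Cfsg.sigma H) (hrτ : r ∉ Cfsg.tau2 H) {P T K : Subgroup G}
    (hPc : Nat.card P = p) (hPT : P ≤ T) (hT : IsPGroup p T) (hTH : T ≤ H) (hK : IsPGroup q K)
    (hKH : K ≤ H) (hKT : K ≤ Subgroup.normalizer (T : Set G))
    (hxT : x ∈ Subgroup.normalizer (T : Set G)) (hxK : x ∈ Subgroup.normalizer (K : Set G))
    (hKx : ⁅K, Subgroup.zpowers x⁆ = K) (hxP : x ∈ Subgroup.centralizer (P : Set G))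
    (hKP : K ≤ Subgroup.centralizer (P : Set G)) :
    K ≤ Subgroup.centralizer (T : Set G) := by
  have hR1 : Subgroup.zpowers x ≠ ⊥ := by
    rw [Ne, Subgroup.zpowers_eq_bot]
    intro e
    rw [e, orderOf_one] at hxr
    exact hr.out.ne_one hxr.symm
  have hRp : IsPGroup r (Subgroup.zpowers x) :=
    IsPGroup.of_card (n := 1) (by rw [Nat.card_zpowers, hxr, pow_one])
  obtain ⟨L, hL, hNL⟩ := exists_coatom_ge hG (normalizer_ne_top hG hR1 (pgroup_ne_top hG hRp))
  have hnc := MaximalBasics.not_conj_of_normalizer hG hH hrσ hrτ hRp hR1 hNL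
  have hCL : Subgroup.centralizer ({x} : Set G) ≤ L := by
    rw [← Subgroup.centralizer_closure, ← Subgroup.zpowers_eq_closure]
    exact (Subgroup.centralizer_le_normalizer _).trans hNL
  have hpσL : p ∉ Cfsg.sigma L := fun h =>
    MaximalBasics.not_alpha_of_sigma hG hL hH (MaximalBasics.not_conj_symm hnc) h hpα
  have hrk : Cfsg.PRankLE p 1 L := by
    by_contra h1
    have h2 : Cfsg.PRankLE p 2 L := by
      by_contra h3
      exact hpσL (AlphaCore.alpha_subset_sigma hG hL ⟨hp.out, h3⟩)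
    exact RankTwoPrime.not_ideal hG hL h2 h1 hpi
  set Q := T ⊓ Subgroup.centralizer ({x} : Set G) with hQ
  haveI : IsCyclic Q :=
    SigmaCompl.isCyclic_of_prankLE_one hG (inf_le_right.trans hCL) hrk (hT.to_le inf_le_left)
  have hPQ : P ≤ Q := le_inf hPT fun a ha =>
    Subgroup.mem_centralizer_singleton_iff.2 (Subgroup.mem_centralizer_iff.1 hxP a ha)
  refine FixedCommutes.le_centralizer (p := p) (q := q) (r := r)
    (ne_two_of_dvd hG (hPc ▸ P.card_subgroup_dvd_card)) hqp.symm hrp.symm hqr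
    (solvable_of_ne_top hG hH.1) (odd_card hG H) T K x hxr hT hK hKT hxT hxK hKx hTH hKH hxH
    fun t ht hxt htp => ?_
  rcases eq_or_ne t 1 with rfl | ht1
  · exact one_mem _
  have htQ : Subgroup.zpowers t ≤ Q := Subgroup.zpowers_le.2
    (Subgroup.mem_inf.2 ⟨ht, Subgroup.mem_centralizer_singleton_iff.2 hxt.symm⟩)
  have hto : orderOf t = p := orderOf_eq_prime htp ht1
  have he := Cyclic.eq_of_card_eq_of_isCyclic (W := Q) htQ hPQ (by rw [Nat.card_zpowers, hto, hPc])
  refine Subgroup.mem_centralizer_iff.2 fun k hk => (Subgroup.mem_centralizer_iff.1 (hKP hk) t ?_).symm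
  exact he ▸ Subgroup.mem_zpowers t

/-- An invariant Sylow `p`-subgroup of `H` over `P`. -/
theorem exists_sylow_inv (hG : Cfsg.IsMinSimpleOddOrder G) (hH : IsCoatom H)
    (hpβ : p ∈ Cfsg.beta H) {P A : Subgroup G} (hP : IsPGroup p P) (hPH : P ≤ H) (hAH : A ≤ H)
    (hAP : A ≤ Subgroup.normalizer (P : Set G))
    (hA : ∀ s : ℕ, s.Prime → s ∣ Nat.card A → s ∉ Cfsg.beta H) :
    ∃ T : Subgroup G, IsPGroup p T ∧ P ≤ T ∧ T ≤ H ∧ A ≤ Subgroup.normalizer (T : Set G) ∧
      ¬ Cfsg.PRankLE p 2 T := by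
  haveI := solvable_of_ne_top hG hH.1
  obtain ⟨⟨hBH, hBπ, hBi⟩, -⟩ :=
    BetaCore.spec hG (fun q _ => PLengthOne.of_ne_top hG q) hH
  set B := Cfsg.piCoreOf (Cfsg.beta H) H with hB
  have hPB : P ≤ B := by
    have h : P.subgroupOf H ≤ Cfsg.piCore (Cfsg.beta H) H :=
      Hall.le_of_isPiHall_normal ⟨Cores.piCore_isPiGroup _, fun s hs hsβ hd => hBi s hs hsβ
        (by rwa [hB, Cfsg.piCoreOf, Basic.relIndex_map_subtype])⟩ fun s hs hd => by
        rw [NormedConstrained.card_subgroupOf_eq hPH] at hd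
        rwa [Hall.prime_dvd_pgroup hp.out hs hP hd]
    rw [← Subgroup.map_subgroupOf_eq_of_le hPH]
    exact Subgroup.map_mono h
  obtain ⟨T, hPT, hAT⟩ := Coprime.exists_invariant_sylow_ge (hAH.trans (piCoreOf_normal _ _))
    (Nat.coprime_of_dvd fun s hs h1 h2 => hA s hs h1 (hBπ s hs h2))
    (Or.inr (Coprime.isSolvable_of_le hBH)) p P hPB hP hAP
  have hTB : (T : Subgroup B).map B.subtype ≤ B := Subgroup.map_subtype_le _
  refine ⟨_, T.2.map _, hPT, hTB.trans hBH, hAT, fun h => ?_⟩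
  have hTH := hTB.trans hBH
  have hidx : ¬ p ∣ (((T : Subgroup B).map B.subtype).subgroupOf H).index := by
    show ¬ p ∣ ((T : Subgroup B).map B.subtype).relIndex H
    rw [← Subgroup.relIndex_mul_relIndex _ B H hTB hBH, Basic.relIndex_map_subtype]
    exact fun hd => (hp.out.dvd_mul.1 hd).elim T.not_dvd_index (hBi p hp.out hpβ)
  have h1 := AlphaCentralizer.not_prankLE_sylow
    (((T.2.map _).of_equiv (Subgroup.subgroupOfEquivOfLe hTH).symm).toSylow hidx) hpβ.1.2
  rw [IsPGroup.toSylow_coe, Subgroup.map_subgroupOf_eq_of_le hTH] at h1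
  exact h1 h

/-- The case of a Sylow `q`-subgroup `S` of `G` with `S` centralized by `P`. -/
theorem false_of_sylow (h5 : SigmaSubgroup.TauTwo G) (hG : Cfsg.IsMinSimpleOddOrder G)
    (hM : IsCoatom M) (hH : IsCoatom H)
    (hnc : ∀ g : G, H ≠ M.map (MulAut.conj g).toMonoidHom) (hτ : p ∈ Cfsg.tau1 M)
    (hpβ : p ∈ Cfsg.beta H) {P : Subgroup G} (hPc : Nat.card P = p) (hPM : P ≤ M) (hPH : P ≤ H)
    {q : ℕ} [hq : Fact q.Prime] (hqM : q ∈ Cfsg.sigma M) (hqH : q ∈ Cfsg.sigma H)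
    (S : Sylow q G) (hSX : (S : Subgroup G) ≤ Cfsg.sigmaCore M ⊓ H)
    (hSP : (S : Subgroup G) ≤ Subgroup.centralizer (P : Set G))
    (hNM : Subgroup.normalizer ((S : Subgroup G) : Set G) ≤ M)
    (hNH : Subgroup.normalizer ((S : Subgroup G) : Set G) ≤ H) : False := by
  set N := Subgroup.normalizer ((S : Subgroup G) : Set G) with hN
  have hSN : (S : Subgroup G) ≤ N := Subgroup.le_normalizer
  have hqG : q ∣ Nat.card G := Sigma.dvd_card_group hqM
  have hS1 : (S : Subgroup G) ≠ ⊥ := S.ne_bot_of_dvd_card hqG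
  haveI := solvable_of_ne_top hG hM.1
  haveI hNs : Group.IsSolvable N := Coprime.isSolvable_of_le hNM
  have hPp : IsPGroup p P := IsPGroup.of_card (n := 1) (by rw [hPc, pow_one])
  have hpq : p ≠ q := fun e => hτ.2.1 (e ▸ hqM)
  have hqαM : q ∉ Cfsg.alpha M :=
    MaximalBasics.not_alpha_of_sigma hG hH hM (MaximalBasics.not_conj_symm hnc) hqH
  have hqαH : q ∉ Cfsg.alpha H := MaximalBasics.not_alpha_of_sigma hG hM hH hnc hqM
  have hSM' : (S : Subgroup G) ≤ M := (hSN.trans hNM)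
  have hSdM : (S : Subgroup G) ≤ ⁅M, M⁆ := Sigma.le_derived hG hM hqM S.2 hSM'
  have hSdH : (S : Subgroup G) ≤ ⁅H, H⁆ := Sigma.le_derived hG hH hqH S.2 (hSN.trans hNH)
  have hPN : P ≤ N := (Subgroup.le_centralizer_iff.1 hSP).trans
    (Subgroup.centralizer_le_normalizer _)
  -- a complement `V ∋ P` of `S` in `N(S)`
  obtain ⟨V, ⟨hVN, hVπ, hVi⟩, -, hPV⟩ := Hall.Coprime.exists_invariant_ge (A := (⊥ : Subgroup G))
    (K := N) bot_le (by rw [Subgroup.card_bot]; exact Nat.coprime_one_left _) hNs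
    {s : ℕ | s ≠ q} hPN bot_le (fun s hs hd e => hpq
      ((Hall.prime_dvd_pgroup hp.out hs hPp hd).symm.trans e))
  have hVM : V ≤ M := hVN.trans hNM
  have hVH : V ≤ H := hVN.trans hNH
  have hcopSV : (Nat.card (S : Subgroup G)).Coprime (Nat.card V) :=
    Nat.coprime_of_dvd fun s hs h1 h2 => hVπ s hs h2 (Hall.prime_dvd_pgroup hq.out hs S.2 h1)
  have hVc : Cfsg.IsComplIn (S : Subgroup G) V N := by
    refine Basic.isComplIn_of_card hSN hVN (Basic.inf_eq_bot_of_coprime hcopSV)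
      (Nat.dvd_antisymm ?_ (hcopSV.mul_dvd_of_dvd_of_dvd (Subgroup.card_dvd_of_le hSN)
        (Subgroup.card_dvd_of_le hVN)))
    have h1 := Subgroup.relIndex_mul_relIndex (⊥ : Subgroup G) _ N bot_le hSN
    have h2 := Subgroup.relIndex_mul_relIndex (⊥ : Subgroup G) V N bot_le hVN
    rw [Subgroup.relIndex_bot_left, Subgroup.relIndex_bot_left] at h1 h2
    have h3 : ((S : Subgroup G).relIndex N).Coprime (V.relIndex N) := by
      refine Nat.coprime_of_dvd fun s hs a b => hVi s hs ?_ b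
      rintro rfl
      exact S.not_dvd_index (a.trans (Subgroup.relIndex_mul_index hSN ▸ dvd_mul_right _ _))
    rw [← h1]
    refine Nat.mul_dvd_mul_left _ (h3.dvd_of_dvd_mul_right ?_)
    exact h2.symm ▸ h1 ▸ dvd_mul_left _ _
  have hSV := SylowNormalizer.commutator_eq hG (fun K hK => PLengthOne.of_ne_top hG q K hK) S hVc
  -- `V ≤ C(S) C_V(P)`
  set U := V ⊓ Subgroup.centralizer (P : Set G) with hU
  have hVU : V ≤ Subgroup.centralizer ((S : Subgroup G) : Set G) ⊔ U := by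
    set W := V ⊓ ⁅M, M⁆ ⊓ Subgroup.centralizer ((S : Subgroup G) : Set G) with hW
    have hVW : V ≤ Subgroup.normalizer (W : Set G) := Coprime.le_normalizer_inf
      (Coprime.le_normalizer_inf Subgroup.le_normalizer
        (hVM.trans (by rw [← Subgroup.map_subtype_commutator]; exact Basic.le_normalizer_map_subtype M _)))
      (hVN.trans (Fitting.normalizer_le_normalizer_centralizer _))
    have hY : P ⊔ W ≤ V := sup_le hPV (inf_le_left.trans inf_le_left)
    have hVY : V ≤ Subgroup.normalizer ((P ⊔ W : Subgroup G) : Set G) := by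
      intro v hv
      refine Subgroup.mem_normalizer_iff_map_conj_eq.2 (Subgroup.eq_of_le_of_card_ge ?_
        (Subgroup.card_map_of_injective (MulAut.conj v).injective).ge)
      rw [Subgroup.map_sup, Subgroup.mem_normalizer_iff_map_conj_eq.1 (hVW hv)]
      refine sup_le ?_ le_sup_right
      rintro _ ⟨z, hz, rfl⟩
      show v * z * v⁻¹ ∈ P ⊔ W
      have hzS : z ∈ Subgroup.centralizer ((S : Subgroup G) : Set G) :=
        Subgroup.le_centralizer_iff.1 hSP hz
      have hw : ⁅v, z⁆ ∈ W := by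
        refine Subgroup.mem_inf.2 ⟨Subgroup.mem_inf.2 ⟨?_, Subgroup.commutator_mem_commutator
          (hVM hv) (hPM hz)⟩, ?_⟩
        · rw [commutatorElement_def]
          exact mul_mem (mul_mem (mul_mem hv (hPV hz)) (inv_mem hv)) (inv_mem (hPV hz))
        · rw [commutatorElement_def]
          exact mul_mem ((Subgroup.mem_normalizer_iff.1
            (Fitting.normalizer_le_normalizer_centralizer _ (hVN hv)) z).1 hzS) (inv_mem hzS)
      rw [show v * z * v⁻¹ = ⁅v, z⁆ * z by rw [commutatorElement_def]; group]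
      exact mul_mem (Subgroup.mem_sup_right hw) (Subgroup.mem_sup_left hz)
    have hidx : ¬ p ∣ P.relIndex (P ⊔ W) := by
      intro hd
      have h1 := Subgroup.relIndex_mul_relIndex (⊥ : Subgroup G) P (P ⊔ W) bot_le le_sup_left
      rw [Subgroup.relIndex_bot_left, Subgroup.relIndex_bot_left] at h1
      haveI : (W.subgroupOf (P ⊔ W)).Normal :=
        (Subgroup.normal_subgroupOf_iff_le_normalizer le_sup_right).2 (hY.trans hVW)
      have h2 := Hall.card_sup_dvd (P.subgroupOf (P ⊔ W)) (W.subgroupOf (P ⊔ W))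
      rw [← Subgroup.subgroupOf_sup le_sup_left le_sup_right, Subgroup.subgroupOf_self,
        Subgroup.card_top, NormedConstrained.card_subgroupOf_eq le_sup_left,
        NormedConstrained.card_subgroupOf_eq le_sup_right, ← h1] at h2
      exact hτ.2.2.2.1 ((hd.trans (Nat.dvd_of_mul_dvd_mul_left Nat.card_pos h2)).trans
        (Subgroup.card_dvd_of_le (inf_le_left.trans inf_le_right)))
    refine (RankTwoKey.sup_normalizer_of_normal hY hVY le_sup_left hPp hidx).ge.trans
      (sup_le (sup_le ?_ ?_) ?_)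
    · refine le_trans (le_inf hPV fun z hz => Subgroup.mem_centralizer_iff.2 fun a ha => ?_) le_sup_right
      haveI : IsCyclic P := isCyclic_of_prime_card hPc
      letI := IsCyclic.commGroup (α := P)
      exact congrArg Subtype.val (mul_comm (⟨a, ha⟩ : P) ⟨z, hz⟩)
    · exact inf_le_right.trans le_sup_left
    · rintro v ⟨hvV, hvN⟩
      refine Subgroup.mem_sup_right (Subgroup.mem_inf.2 ⟨hvV, Subgroup.mem_centralizer_iff.2
        fun z hz => ?_⟩)
      have h1 : ⁅v, z⁆ ∈ P ⊓ ⁅M, M⁆ := by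
        refine Subgroup.mem_inf.2 ⟨?_, Subgroup.commutator_mem_commutator (hVM hvV) (hPM hz)⟩
        rw [commutatorElement_def]
        exact mul_mem ((Subgroup.mem_normalizer_iff.1 hvN z).1 hz) (inv_mem hz)
      rw [Basic.inf_eq_bot_of_coprime (hPc ▸ hp.out.coprime_iff_not_dvd.2 hτ.2.2.2.1),
        Subgroup.mem_bot] at h1
      exact (commutatorElement_eq_one_iff_mul_comm.1 h1).symm
  -- the relevant part of `C_V(P)`
  set π₀ : Set ℕ := {s | s ∉ Cfsg.sigma M ∧ s ∉ Cfsg.sigma H ∧ s ≠ p} with hπ₀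
  haveI : Group.IsSolvable U := Coprime.isSolvable_of_le (inf_le_left.trans hVM)
  obtain ⟨D, hDU, hDπ, hDi⟩ := Hall.exists_isPiHallOf π₀ U
  have hUD : U ≤ Subgroup.centralizer ((S : Subgroup G) : Set G) ⊔ D := by
    refine Coprime.le_of_forall_sylow fun s hs => ?_
    haveI := Fact.mk hs
    by_cases hs0 : s ∈ π₀
    · obtain ⟨R, hR⟩ := exists_sylow_le hDU (hDi s hs hs0)
      exact ⟨R, hR.trans le_sup_right⟩
    obtain ⟨R⟩ : Nonempty (Sylow s U) := inferInstance
    refine ⟨R, le_trans ?_ le_sup_left⟩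
    set R' := (R : Subgroup U).map U.subtype with hR'
    have hR's : IsPGroup s R' := R.2.map _
    have hR'U : R' ≤ U := Subgroup.map_subtype_le _
    have hR'V : R' ≤ V := hR'U.trans inf_le_left
    intro d hd
    have hco : (orderOf d).Coprime q := (Nat.coprime_comm.1 (hq.out.coprime_iff_not_dvd.2
      fun h => hVπ q hq.out (h.trans (Subgroup.orderOf_dvd_natCard V (hR'V hd))) rfl))
    by_cases hsM : s ∈ Cfsg.sigma M
    · exact MaximalBasics.derived_centralizes hG hM hqαM S.2 hSdM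
        (Sigma.le_derived hG hM hsM hR's (hR'V.trans hVM) hd) ((hR'V.trans hVN) hd) hco
    by_cases hsH : s ∈ Cfsg.sigma H
    · exact MaximalBasics.derived_centralizes hG hH hqαH S.2 hSdH
        (Sigma.le_derived hG hH hsH hR's (hR'V.trans hVH) hd) ((hR'V.trans hVN) hd) hco
    have hsp : s = p := by
      by_contra hne
      exact hs0 ⟨hsM, hsH, hne⟩
    subst hsp
    exact Subgroup.le_centralizer_iff.1 ((le_inf (hSX.trans inf_le_left) hSP).trans
      (SigmaMeet.prime_action h5 hG hM hsM hτ.2.2.2.2 hPc hPM hR's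
        (le_inf (hR'V.trans hVM) (hR'U.trans inf_le_right)))) hd
  have hDV : D ≤ V := hDU.trans inf_le_left
  have hDN : D ≤ N := hDV.trans hVN
  -- a Sylow `p`-subgroup of `H` invariant under `S D`
  set A := (S : Subgroup G) ⊔ D with hA
  obtain ⟨T, hTp, hPT, hTH, hAT, hT3⟩ := exists_sylow_inv hG hH hpβ hPp hPH
    (sup_le (hSN.trans hNH) (hDN.trans hNH))
    ((sup_le hSP (hDU.trans inf_le_right)).trans (Subgroup.centralizer_le_normalizer _))
    fun s hs hd hβ => by
      rcases SigmaSubgroup.relIndex_sup_right_le s hs hd hDN with h | h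
      · exact hqαH (Hall.prime_dvd_pgroup hq.out hs S.2 h ▸ hβ.1)
      · exact (hDπ s hs h).2.1 (AlphaCore.alpha_subset_sigma hG hH hβ.1)
  have hST : (S : Subgroup G) ≤ Subgroup.normalizer (T : Set G) := le_sup_left.trans hAT
  set W := (S : Subgroup G) ⊓ Subgroup.centralizer (T : Set G) with hW
  have hDW : D ≤ Subgroup.normalizer (W : Set G) := Coprime.le_normalizer_inf hDN
    ((le_sup_right.trans hAT).trans (Fitting.normalizer_le_normalizer_centralizer _))
  let D₁ : Subgroup G :=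
    { carrier := {d | d ∈ D ∧ ∀ s ∈ (S : Subgroup G), ⁅s, d⁆ ∈ W}
      one_mem' := ⟨one_mem D, fun s _ => by rw [commutatorElement_one_right]; exact one_mem _⟩
      mul_mem' := fun {a b} ha hb => ⟨mul_mem ha.1 hb.1, fun s hs => by
        rw [show ⁅s, a * b⁆ = ⁅s, a⁆ * (a * ⁅s, b⁆ * a⁻¹) by
          simp only [commutatorElement_def]; group]
        exact mul_mem (ha.2 s hs) ((Subgroup.mem_normalizer_iff.1 (hDW ha.1) _).1 (hb.2 s hs))⟩
      inv_mem' := fun {a} ha => ⟨inv_mem ha.1, fun s hs => by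
        rw [show ⁅s, a⁻¹⁆ = a⁻¹ * ⁅s, a⁆⁻¹ * a⁻¹⁻¹ by simp only [commutatorElement_def]; group]
        exact (Subgroup.mem_normalizer_iff.1 (hDW (inv_mem ha.1)) _).1 (inv_mem (ha.2 s hs))⟩ }
  have hD1 : D ≤ D₁ := by
    refine Coprime.le_of_forall_sylow fun t ht => ?_
    haveI := Fact.mk ht
    obtain ⟨R⟩ : Nonempty (Sylow t D) := inferInstance
    refine ⟨R, ?_⟩
    rintro d ⟨d', hd', rfl⟩
    set d := (D.subtype d') with hdd
    have hdD : d ∈ D := d'.2
    refine ⟨hdD, ?_⟩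
    by_cases hdS : d ∈ Subgroup.centralizer ((S : Subgroup G) : Set G)
    · intro s hs
      rw [commutatorElement_eq_one_iff_mul_comm.2 (Subgroup.mem_centralizer_iff.1 hdS s hs)]
      exact one_mem _
    obtain ⟨k, hk⟩ := IsPGroup.iff_orderOf.1 R.2 ⟨d', hd'⟩
    have hdo : orderOf d = t ^ k := by
      rw [hdd, Subgroup.coe_subtype, Subgroup.orderOf_coe, ← Subgroup.orderOf_mk d' hd', hk]
    have hk0 : k ≠ 0 := fun e => hdS (by
      rw [e, pow_zero, orderOf_eq_one_iff] at hdo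
      exact hdo ▸ one_mem _)
    have htd : t ∣ orderOf d := hdo ▸ dvd_pow_self t hk0
    obtain ⟨htM, htH, htp⟩ := hDπ t ht (htd.trans (Subgroup.orderOf_dvd_natCard D hdD))
    have htq : t ≠ q := fun e => htM (e ▸ hqM)
    have hdMH : Subgroup.zpowers d ≤ M ⊓ H :=
      Subgroup.zpowers_le.2 ⟨(hDV.trans hVM) hdD, (hDV.trans hVH) hdD⟩
    have hne : ⁅Cfsg.sigmaCore M ⊓ H, Subgroup.zpowers d⁆ ≠ ⊥ := fun e => hdS (by
      rw [Subgroup.commutator_eq_bot_iff_le_centralizer, Subgroup.le_centralizer_iff] at e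
      exact Subgroup.centralizer_le (SetLike.coe_subset_coe.2 hSX) (e (Subgroup.mem_zpowers d)))
    have htτ := SigmaMeet.not_tau2 h5 hG hM hH hnc
      (htd.trans (Subgroup.orderOf_dvd_natCard M ((hDV.trans hVM) hdD))) htM hdMH hne
    have htr : Cfsg.PRankLE t 1 H := by
      by_contra h1
      refine htτ ⟨ht, htH, ?_, h1⟩
      by_contra h2
      exact htH (AlphaCore.alpha_subset_sigma hG hH ⟨ht, h2⟩)
    obtain ⟨k', rfl⟩ : ∃ k', k = k' + 1 := ⟨k - 1, by omega⟩
    set d₀ := d ^ t ^ k' with hd₀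
    have hd₀o : orderOf d₀ = t := by
      rw [hd₀, orderOf_pow' _ (pow_ne_zero _ ht.ne_zero), hdo, pow_succ,
        Nat.gcd_eq_right (dvd_mul_right _ _), Nat.mul_div_cancel_left _ (pow_pos ht.pos _)]
    have hd₀D : d₀ ∈ D := pow_mem hdD _
    have hfix : ∀ c ∈ (S : Subgroup G), d₀ * c = c * d₀ → c * d = d * c := by
      intro c hc hcd
      have h := SigmaMeet.prime_action h5 hG hH htH htr (P := Subgroup.zpowers d₀)
        (S := Subgroup.zpowers d) (by rw [Nat.card_zpowers, hd₀o])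
        (Subgroup.zpowers_le.2 ((hDV.trans hVH) hd₀D))
        (IsPGroup.of_card (n := k' + 1) (by rw [Nat.card_zpowers, hdo]))
        (Subgroup.zpowers_le.2 ⟨(hDV.trans hVH) hdD, by
          rw [Subgroup.zpowers_eq_closure, Subgroup.centralizer_closure]
          exact Subgroup.mem_centralizer_singleton_iff.2 ((Commute.refl d).pow_right _)⟩)
      have hc1 : c ∈ Cfsg.sigmaCore H ⊓ Subgroup.centralizer (Subgroup.zpowers d₀ : Set G) := by
        refine Subgroup.mem_inf.2 ⟨SigmaSubgroup.le_sigmaCore hG hH (hSN.trans hNH) (fun r hr hd =>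
          Hall.prime_dvd_pgroup hq.out hr S.2 hd ▸ hqH) hc, ?_⟩
        rw [Subgroup.zpowers_eq_closure, Subgroup.centralizer_closure]
        exact Subgroup.mem_centralizer_singleton_iff.2 hcd.symm
      exact (Subgroup.mem_centralizer_iff.1 (h hc1) d (Subgroup.mem_zpowers d)).symm
    have hzS : Subgroup.zpowers d₀ ≤ Subgroup.normalizer ((S : Subgroup G) : Set G) :=
      Subgroup.zpowers_le.2 (hDN hd₀D)
    have hcop := FixedCommutes.coprime_zpowers (p := q) (r := t) hd₀o S.2 htq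
    set K₀ := ⁅(S : Subgroup G), Subgroup.zpowers d₀⁆ with hK₀
    have hK₀S : K₀ ≤ S := Coprime.commutator_le_of_le_normalizer hzS
    have hd₀P : d₀ ∈ Subgroup.centralizer (P : Set G) := (hDU hd₀D).2
    have hK₀T : K₀ ≤ Subgroup.centralizer (T : Set G) :=
      centralizes_sylow hG hH hpβ.1 hpβ.2 htp hpq.symm htq.symm hd₀o ((hDV.trans hVH) hd₀D) htH htτ
        hPc hPT hTp hTH (S.2.to_le hK₀S) (hK₀S.trans (hSN.trans hNH)) (hK₀S.trans hST)
        (hAT (Subgroup.mem_sup_right hd₀D))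
        (Coprime.right_le_normalizer_commutator _ _ (Subgroup.mem_zpowers d₀))
        (Coprime.commutator_commutator_eq hzS hcop (Or.inl (Coprime.isSolvable_zpowers d₀)))
        hd₀P (hK₀S.trans hSP)
    intro s hs
    obtain ⟨n, hn, c, hc, rfl⟩ := Coprime.exists_commutator_mul_fixed hzS hcop
      (Or.inl (Coprime.isSolvable_zpowers d₀)) hs
    have hcd : c * d = d * c := hfix c hc.1
      (Subgroup.mem_centralizer_iff.1 hc.2 d₀ (Subgroup.mem_zpowers d₀))
    rw [show ⁅n * c, d⁆ = n * (c * d * c⁻¹ * d⁻¹) * n⁻¹ * ⁅n, d⁆ by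
      simp only [commutatorElement_def]; group, hcd, show d * c * c⁻¹ * d⁻¹ = 1 by group, mul_one,
      mul_inv_cancel, one_mul, commutatorElement_def,
      show n * d * n⁻¹ * d⁻¹ = n * (d * n⁻¹ * d⁻¹) by group]
    have hnW : n ∈ W := Subgroup.mem_inf.2 ⟨hK₀S hn, hK₀T hn⟩
    exact mul_mem hnW ((Subgroup.mem_normalizer_iff.1 (hDW hdD) _).1 (inv_mem hnW))
  have hSW : (S : Subgroup G) ≤ W := by
    rw [hSV, Subgroup.commutator_le]
    intro s hs v hv
    have hCn : (V : Subgroup G) ≤ Subgroup.normalizer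
        (Subgroup.centralizer ((S : Subgroup G) : Set G) : Set G) :=
      hVN.trans (Fitting.normalizer_le_normalizer_centralizer _)
    have hDn : D ≤ Subgroup.normalizer
        (Subgroup.centralizer ((S : Subgroup G) : Set G) : Set G) := hDV.trans hCn
    have hv' := (hVU.trans (sup_le le_sup_left hUD)) hv
    rw [sup_comm] at hv'
    obtain ⟨d, hd, c, hc, rfl⟩ := Set.mem_mul.1
      (by rw [← Subgroup.coe_mul_of_left_le_normalizer_right _ _ hDn]; exact hv' :
        v ∈ (D : Set G) * (Subgroup.centralizer ((S : Subgroup G) : Set G) : Set G))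
    rw [show ⁅s, d * c⁆ = ⁅s, d⁆ * (d * ⁅s, c⁆ * d⁻¹) by simp only [commutatorElement_def]; group,
      commutatorElement_eq_one_iff_mul_comm.2 (Subgroup.mem_centralizer_iff.1 hc s hs), mul_one,
      mul_inv_cancel, mul_one]
    exact (hD1 hd).2 s hs
  have hTM : T ≤ M := (Subgroup.le_centralizer_iff.1 (hSW.trans inf_le_right)).trans
    ((Subgroup.centralizer_le_normalizer _).trans hNM)
  exact hT3 (Rank.prankLE_mono hTM (Rank.prankLE_mono_right hp.out.pos one_le_two hτ.2.2.2.2))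

/-- BG 13.4. -/
theorem le_centralizer (h5 : SigmaSubgroup.TauTwo G) (hG : Cfsg.IsMinSimpleOddOrder G)
    (hM : IsCoatom M) (hτ : p ∈ Cfsg.tau1 M) {P : Subgroup G} (hPc : Nat.card P = p)
    (hPM : P ≤ M) {r : ℕ} [hr : Fact r.Prime] {x : G} (hxM : x ∈ M) (hxr : orderOf x = r)
    (hrσ : r ∉ Cfsg.sigma M) (hxP : x ∈ Subgroup.centralizer (P : Set G)) :
    Cfsg.sigmaCore M ⊓ Subgroup.centralizer (P : Set G) ≤ Subgroup.centralizer ({x} : Set G) := by
  have hzc : ∀ Y : Subgroup G, Y ≤ Subgroup.centralizer ({x} : Set G) ↔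
      Y ≤ Subgroup.centralizer (Subgroup.zpowers x : Set G) := fun Y => by
    rw [Subgroup.zpowers_eq_closure, Subgroup.centralizer_closure]
  set R := Subgroup.zpowers x with hR
  have hRp : IsPGroup r R := IsPGroup.of_card (n := 1) (by rw [Nat.card_zpowers, hxr, pow_one])
  have hPp : IsPGroup p P := IsPGroup.of_card (n := 1) (by rw [hPc, pow_one])
  rcases eq_or_ne r p with hrp | hrp
  · subst hrp
    exact (hzc _).2 (SigmaMeet.prime_action h5 hG hM hτ.2.1 hτ.2.2.2.2 hPc hPM hRp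
      (Subgroup.zpowers_le.2 ⟨hxM, hxP⟩))
  by_contra hX
  haveI := solvable_of_ne_top hG hM.1
  set X := Cfsg.sigmaCore M ⊓ Subgroup.centralizer (P : Set G) with hXdef
  have hσ := SigmaHall.sigmaCore_isPiHallOf hG hM
  have hP1 : P ≠ ⊥ := fun e => hp.out.ne_one (by rw [← hPc, e, Subgroup.card_bot])
  obtain ⟨H, hH, hNH⟩ := exists_coatom_ge hG (normalizer_ne_top hG hP1 (pgroup_ne_top hG hPp))
  have hnc := MaximalBasics.not_conj_of_normalizer hG hM hτ.2.1 (fun h => h.2.2.2 hτ.2.2.2.2)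
    hPp hP1 hNH
  have hne : H ≠ M := fun e => hnc 1 (by rw [e]; ext y; simp)
  have hCH : Subgroup.centralizer (P : Set G) ≤ H :=
    (Subgroup.centralizer_le_normalizer _).trans hNH
  have hPH : P ≤ H := Subgroup.le_normalizer.trans hNH
  have hxH : x ∈ H := hCH hxP
  have hRD : R ≤ M ⊓ H := Subgroup.zpowers_le.2 ⟨hxM, hxH⟩
  have hXH : X ≤ Cfsg.sigmaCore M ⊓ H := inf_le_inf_left _ hCH
  have hcne : ⁅Cfsg.sigmaCore M ⊓ H, R⁆ ≠ ⊥ := fun e => hX ((hzc _).2
    (hXH.trans (Subgroup.commutator_eq_bot_iff_le_centralizer.1 e)))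
  have hpσH : p ∈ Cfsg.sigma H :=
    (SigmaEmbedding.mem_sigma_or_tau2 hG hH hPp hP1 hNH).resolve_right
      (SigmaMeet.not_tau2 h5 hG hM hH hnc hτ.2.2.1 hτ.2.1 hRD hcne)
  have hPd : P ≤ ⁅H, H⁆ := Sigma.le_derived hG hH hpσH hPp hPH
  have hideal := SigmaMeet.mem_ideal h5 hG hM hH hnc hτ
    (hPc ▸ Subgroup.card_dvd_of_le hPd) hRD hcne
  have hpα : p ∈ Cfsg.alpha H := ⟨hp.out, fun h => hideal.2.1 (by
    obtain ⟨S, -, hSH, -⟩ := Sigma.exists_sylow_ge hpσH hPp hPH
    have h1 := InvariantPrime.prankLE_of_sylow S (Rank.prankLE_mono hSH h) (⊤ : Subgroup G)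
    intro A hA1 hA2
    exact Rank.prankLE_subgroup_iff.1 h1 A le_top ⟨hA1, hA2⟩)⟩
  have hpβ : p ∈ Cfsg.beta H := ⟨hpα, hideal⟩
  -- `M_σ ∩ H = C_{M_σ}(P)`
  have hXeq : Cfsg.sigmaCore M ⊓ H = X := le_antisymm (le_inf inf_le_left
    (Subgroup.le_centralizer_iff.1
      (SigmaMeet.centralizes hG hM hH hnc hτ.2.1 hPp (le_inf hPM hPH) hPd))) hXH
  have hrσH : r ∉ Cfsg.sigma H := fun h => hX ((hzc _).2 (hXH.trans (Subgroup.le_centralizer_iff.1
    (SigmaMeet.centralizes hG hM hH hnc hrσ hRp hRD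
      (Sigma.le_derived hG hH h hRp (hRD.trans inf_le_right))))))
  have hrτH : r ∉ Cfsg.tau2 H := SigmaMeet.not_tau2 h5 hG hM hH hnc
    (hxr ▸ Subgroup.orderOf_dvd_natCard M hxM) hrσ hRD hcne
  -- an `x`-invariant Sylow subgroup of `X` moved by `x`
  have hRX : R ≤ Subgroup.normalizer (X : Set G) := hXeq ▸ SigmaMeet.le_normalizer_inf hRD
  have hcopRX : (Nat.card R).Coprime (Nat.card X) := by
    rw [Nat.card_zpowers, hxr]
    exact hr.out.coprime_iff_not_dvd.2 fun h => hrσ (hσ.2.1 r hr.out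
      (h.trans (Subgroup.card_dvd_of_le inf_le_left)))
  obtain ⟨q, hq, Q, hQn, hQne⟩ : ∃ q : ℕ, ∃ _ : Fact q.Prime, ∃ Q : Sylow q X,
      R ≤ Subgroup.normalizer (((Q : Subgroup X).map X.subtype : Subgroup G) : Set G) ∧
      ⁅(Q : Subgroup X).map X.subtype, R⁆ ≠ ⊥ := by
    by_contra hcon
    push Not at hcon
    refine hX ((hzc _).2 (Coprime.le_of_forall_sylow fun q hq => ?_))
    haveI := Fact.mk hq
    obtain ⟨Q, hQ⟩ := Coprime.exists_invariant_sylow (K := X) hRX hcopRX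
      (Or.inl (Coprime.isSolvable_zpowers x)) q
    exact ⟨Q, Subgroup.commutator_eq_bot_iff_le_centralizer.1 (hcon q inferInstance Q hQ)⟩
  set Q' := (Q : Subgroup X).map X.subtype with hQ'
  have hQp : IsPGroup q Q' := Q.2.map _
  have hQX : Q' ≤ X := Subgroup.map_subtype_le _
  have hQ1 : Q' ≠ ⊥ := fun e => hQne (by rw [e, Subgroup.commutator_bot_left])
  have hqσ : q ∈ Cfsg.sigma M := hσ.2.1 q hq.out ((SigmaEmbedding.ne_one_of_pgroup hQp hQ1).trans
    (Subgroup.card_dvd_of_le (hQX.trans inf_le_left)))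
  have hqp : q ≠ p := fun e => hτ.2.1 (e ▸ hqσ)
  have hqr : q ≠ r := fun e => hrσ (e ▸ hqσ)
  have hqα : q ∉ Cfsg.alpha H := MaximalBasics.not_alpha_of_sigma hG hM hH hnc hqσ
  set K := ⁅Q', R⁆ with hK
  have hKQ : K ≤ Q' := Coprime.commutator_le_of_le_normalizer hQn
  have hKP : K ≤ Subgroup.centralizer (P : Set G) := (hKQ.trans hQX).trans inf_le_right
  have hKH : K ≤ H := hKP.trans hCH
  have hcopQ : (Nat.card R).Coprime (Nat.card Q') :=
    hcopRX.coprime_dvd_right (Subgroup.card_dvd_of_le hQX)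
  obtain ⟨T, hTp, hPT, hTH, hAT, hT3⟩ := exists_sylow_inv hG hH hpβ hPp hPH
    (A := K ⊔ R) (sup_le hKH (hRD.trans inf_le_right))
    ((sup_le hKP (Subgroup.zpowers_le.2 hxP)).trans (Subgroup.centralizer_le_normalizer _))
    fun s hs hd hβ => by
      rcases SigmaSubgroup.relIndex_sup_right_le s hs hd
        (Coprime.right_le_normalizer_commutator Q' R) with h | h
      · exact hqα (Hall.prime_dvd_pgroup hq.out hs (hQp.to_le hKQ) h ▸ hβ.1)
      · exact hrσH (Hall.prime_dvd_pgroup hr.out hs hRp h ▸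
          AlphaCore.alpha_subset_sigma hG hH hβ.1)
  have hKT : K ≤ Subgroup.centralizer (T : Set G) :=
    centralizes_sylow hG hH hpα hideal hrp hqp hqr hxr hxH hrσH hrτH hPc hPT hTp hTH
      (hQp.to_le hKQ) hKH (le_sup_left.trans hAT) (hAT (Subgroup.mem_sup_right (Subgroup.mem_zpowers x)))
      (Coprime.right_le_normalizer_commutator Q' R (Subgroup.mem_zpowers x))
      (Coprime.commutator_commutator_eq hQn hcopQ (Or.inl (Coprime.isSolvable_zpowers x)))
      hxP hKP
  have hT1 : ¬ Cfsg.RankLE 2 T := fun h => hT3 (h p hp.out)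
  have hTM : ¬ T ≤ M := fun h => hT3 (Rank.prankLE_mono h (Rank.prankLE_mono_right hp.out.pos one_le_two hτ.2.2.2.2))
  have hNK : Subgroup.normalizer (K : Set G) ≤ H := by
    have hK1 : K ≠ ⊥ := hQne
    obtain ⟨L, hL, hNL⟩ := exists_coatom_ge hG (normalizer_ne_top hG hK1
      (pgroup_ne_top hG (hQp.to_le hKQ)))
    rwa [UniqueRank.eq_of_le (UniquenessTheorem.of_rank hG (pgroup_ne_top hG hTp) hT1) hL
      ((Subgroup.le_centralizer_iff.1 hKT).trans ((Subgroup.centralizer_le_normalizer _).trans hNL))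
      hH hTH] at hNL
  obtain ⟨hNQ, hQidx⟩ := SigmaEmbedding.sylow_inf hG hM hqσ (X := K) (S := Q') hQne hKQ hNK hQp
    (hQX.trans (hXeq.ge.trans (inf_le_inf_right _ hσ.1))) fun R' hR' hle hR'D =>
      SigmaEmbedding.eq_of_sylow_of_le Q hR' hle (hXeq ▸ le_inf
        (SigmaSubgroup.le_sigmaCore hG hM (hR'D.trans inf_le_left) fun s hs hd =>
          Hall.prime_dvd_pgroup hq.out hs hR' hd ▸ hqσ) (hR'D.trans inf_le_right))
  have hQH : Q' ≤ H := hQX.trans (hXH.trans inf_le_right)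
  let SH : Sylow q H := (hQp.of_equiv (Subgroup.subgroupOfEquivOfLe hQH).symm).toSylow hQidx
  have hSH : (SH : Subgroup H).map H.subtype = Q' := by
    show (Q'.subgroupOf H).map H.subtype = Q'
    exact Subgroup.map_subgroupOf_eq_of_le hQH
  by_cases hqH : q ∈ Cfsg.sigma H
  · have hidx := Sigma.not_dvd_index hqH SH
    rw [hSH] at hidx
    refine false_of_sylow h5 hG hM hH hnc hτ hpβ hPc hPM hPH hqσ hqH
      (hQp.toSylow hidx) ?_ ?_ ?_ ?_
    · rw [IsPGroup.toSylow_coe]; exact hQX.trans hXH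
    · rw [IsPGroup.toSylow_coe]; exact hQX.trans inf_le_right
    · rw [IsPGroup.toSylow_coe]; exact hNQ
    · rw [IsPGroup.toSylow_coe, ← hSH]; exact Sigma.normalizer_le hqH SH
  by_cases hr1 : Cfsg.PRankLE q 1 H
  · haveI : IsCyclic Q' := SigmaCompl.isCyclic_of_prankLE_one hG hQH hr1 hQp
    haveI : IsMulCommutative Q' := ⟨⟨fun a b => (IsCyclic.commGroup (α := Q')).mul_comm a b⟩⟩
    have hsup := Coprime.centralizer_sup_commutator hQn hcopQ
    have hinf := Coprime.centralizer_inf_commutator_eq_bot hQn hcopQ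
    have hC : Q' ⊓ Subgroup.centralizer (R : Set G) = ⊥ := by
      by_contra hC1
      have hd1 := SigmaEmbedding.ne_one_of_pgroup (hQp.to_le inf_le_left) hC1
      have hd2 := SigmaEmbedding.ne_one_of_pgroup (hQp.to_le hKQ) hQne
      obtain ⟨a, ha⟩ := exists_prime_orderOf_dvd_card'
        (G := ↥(Q' ⊓ Subgroup.centralizer (R : Set G))) q hd1
      obtain ⟨b, hb⟩ := exists_prime_orderOf_dvd_card' (G := K) q hd2
      have he := Cyclic.eq_of_card_eq_of_isCyclic (W := Q') (A := Subgroup.zpowers (a : G))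
        (B := Subgroup.zpowers (b : G)) (Subgroup.zpowers_le.2 a.2.1)
        (Subgroup.zpowers_le.2 (hKQ b.2))
        (by rw [Nat.card_zpowers, Nat.card_zpowers, Subgroup.orderOf_coe, Subgroup.orderOf_coe, ha, hb])
      have h1 : (a : G) ∈ Q' ⊓ Subgroup.centralizer (R : Set G) ⊓ K :=
        Subgroup.mem_inf.2 ⟨a.2, Subgroup.zpowers_le.2 b.2 (he ▸ Subgroup.mem_zpowers (a : G))⟩
      rw [hK, hinf, Subgroup.mem_bot] at h1
      rw [← Subgroup.orderOf_coe, h1, orderOf_one] at ha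
      exact hq.out.ne_one ha.symm
    rw [hC, bot_sup_eq] at hsup
    refine hTM ?_
    exact (Subgroup.le_centralizer_iff.1 (hsup ▸ hKT : Q' ≤ Subgroup.centralizer (T : Set G))).trans
      ((Subgroup.centralizer_le_normalizer _).trans hNQ)
  · have hr2 : Cfsg.PRankLE q 2 H := by
      by_contra h2
      exact hqα ⟨hq.out, h2⟩
    have h1 := AlphaCentralizer.not_prankLE_sylow SH hr1
    rw [hSH] at h1
    obtain ⟨B, hBQ, hB, hBc⟩ := RankTwoPrime.exists_elemAb_sq (Rank.prankLE_mono hQH hr2) h1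
    refine hP1 (le_bot_iff.1 ((h5 H hH q ⟨hq.out, hqH, hr2, hr1⟩ B (hBQ.trans hQH) hB hBc).2.1 ▸
      le_inf (SigmaSubgroup.le_sigmaCore hG hH hPH fun s hs hd =>
        Hall.prime_dvd_pgroup hp.out hs hPp hd ▸ hpσH) ?_))
    exact Subgroup.le_centralizer_iff.1 ((hBQ.trans hQX).trans inf_le_right)

end Cfsg.Agent.Lib.OddOrder.CentTauOne
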