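import Cfsg.Agent.Lib.OddOrder.SylowFixed
import Cfsg.Agent.Lib.OddOrder.SigmaDisjoint
import Cfsg.Agent.Lib.OddTau.TauTwoAbelian
import Cfsg.Agent.Lib.PGroups.Omega
import Cfsg.Agent.Lib.OddLocal.DerivedFitting
import Cfsg.Agent.S1420

/-!
# Subgroups of prime order in complements of `M_σ` and the elements moving them
-/

set_option autoImplicit false
set_option linter.style.haveILetI false
set_option linter.unusedSectionVars false

open scoped Pointwise commutatorElement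

namespace Cfsg.Agent.Lib.OddOrder.ComplementLines

open Cfsg.Agent.Lib.OddOrder.MinSimple

universe u

variable {G : Type u} [Group G] [Finite G] {p : ℕ} [hp : Fact p.Prime]

theorem ne_bot_of_card {P : Subgroup G} (hPc : Nat.card P = p) : P ≠ ⊥ :=
  fun e => hp.out.ne_one (by rw [← hPc, e, Subgroup.card_bot])

theorem isPGroup_of_card {P : Subgroup G} (hPc : Nat.card P = p) : IsPGroup p P :=
  IsPGroup.of_card (n := 1) (by rw [hPc, pow_one])

theorem zpowers_eq_of_card {P : Subgroup G} (hPc : Nat.card P = p) {a : G} (ha : a ∈ P)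
    (ha1 : a ≠ 1) : Subgroup.zpowers a = P := by
  refine Subgroup.eq_of_le_of_card_ge (Subgroup.zpowers_le.2 ha) ?_
  rw [Nat.card_zpowers]
  have hd : orderOf a ∣ p := hPc ▸ P.orderOf_dvd_natCard ha
  rcases (Nat.dvd_prime hp.out).1 hd with h | h
  · exact absurd (orderOf_eq_one_iff.1 h) ha1
  · rw [h, hPc]

/-- A `p`-group normalizing a subgroup of order `p` centralizes it. -/
theorem pgroup_centralizes {P Y : Subgroup G} (hPc : Nat.card P = p) (hY : IsPGroup p Y)
    (hYN : Y ≤ Subgroup.normalizer (P : Set G)) : Y ≤ Subgroup.centralizer (P : Set G) := by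
  have hJ : IsPGroup p ↥(P ⊔ Y) :=
    IsPGroup.to_sup_of_normal_left' (isPGroup_of_card hPc) hY hYN
  haveI : (P.subgroupOf (P ⊔ Y)).Normal :=
    (Subgroup.normal_subgroupOf_iff_le_normalizer le_sup_left).2
      (sup_le Subgroup.le_normalizer hYN)
  have hz := PGroups.le_center_of_normal_card_prime hJ (P.subgroupOf (P ⊔ Y))
    (by rw [NormedConstrained.card_subgroupOf_eq le_sup_left, hPc])
  intro y hy
  refine Subgroup.mem_centralizer_iff.2 fun a ha => ?_
  have h1 := Subgroup.mem_center_iff.1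
    (hz (show (⟨a, Subgroup.mem_sup_left ha⟩ : ↥(P ⊔ Y)) ∈ P.subgroupOf (P ⊔ Y) from ha))
    ⟨y, Subgroup.mem_sup_right hy⟩
  exact (congrArg Subtype.val h1).symm

/-- An element moving `P` has a prime-power part moving `P`; its prime is not `p`. -/
theorem exists_primePow_moving {P : Subgroup G} (hPc : Nat.card P = p) {c : G}
    (hcN : c ∈ Subgroup.normalizer (P : Set G)) (hcC : c ∉ Subgroup.centralizer (P : Set G)) :
    ∃ t k : ℕ, ∃ _ : Fact t.Prime, ∃ y : G, y ∈ Subgroup.zpowers c ∧ orderOf y = t ^ (k + 1) ∧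
      t ≠ p ∧ y ∈ Subgroup.normalizer (P : Set G) ∧ y ∉ Subgroup.centralizer (P : Set G) := by
  by_contra hcon
  refine hcC (OddLocal.DerivedFitting.mem_of_primePow_parts fun s hs y hy ⟨k, hk⟩ => ?_)
  haveI := Fact.mk hs
  have hyN : y ∈ Subgroup.normalizer (P : Set G) := Subgroup.zpowers_le.2 hcN hy
  rcases k with _ | k
  · rw [pow_zero, orderOf_eq_one_iff] at hk
    rw [hk]
    exact one_mem _
  by_contra hyC
  refine hcon ⟨s, k, Fact.mk hs, y, hy, hk, fun e => hyC ?_, hyN, hyC⟩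
  exact pgroup_centralizes hPc
    (Y := Subgroup.zpowers y) (IsPGroup.of_card (n := k + 1) (by rw [Nat.card_zpowers, hk, e]))
    (Subgroup.zpowers_le.2 hyN) (Subgroup.mem_zpowers y)

omit hp in
theorem orderOf_pow_prime {t k : ℕ} (ht : t.Prime) {y : G} (hy : orderOf y = t ^ (k + 1)) :
    orderOf (y ^ t ^ k) = t := by
  rw [orderOf_pow' _ (pow_ne_zero _ ht.ne_zero), hy, pow_succ,
    Nat.gcd_eq_right (dvd_mul_right _ _), Nat.mul_div_cancel_left _ (pow_pos ht.pos _)]

omit hp in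
/-- `M'' ≤ M_σ`. -/
theorem derived_derived_le (hG : Cfsg.IsMinSimpleOddOrder G) {M : Subgroup G} (hM : IsCoatom M) :
    ⁅⁅M, M⁆, ⁅M, M⁆⁆ ≤ Cfsg.sigmaCore M := by
  obtain ⟨E, hE⟩ := MaximalBasics.exists_compl hG hM
  have hab := (Cfsg.Agent.S1420.result hG M hM E hE).2.1
  have hEn : ⁅E, E⁆ ≤ Subgroup.normalizer (Cfsg.sigmaCore M : Set G) :=
    (MaximalBasics.derived_le_self E).trans
      (hE.1.trans (Basic.le_normalizer_map_subtype M _))
  refine (Subgroup.commutator_mono (SigmaCompl.derived_le hE) (SigmaCompl.derived_le hE)).trans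
    ((MaximalBasics.derived_le_of_sup le_sup_right (sup_le hEn Subgroup.le_normalizer) le_sup_left
      (sup_comm _ _)).trans (sup_le le_rfl ?_))
  rw [Subgroup.commutator_eq_bot_iff_le_centralizer.2
    (Subgroup.le_centralizer_iff_isMulCommutative.2 hab)]
  exact bot_le

/-- An element of `M'` normalizing a subgroup of order `p` of `M'`, `p ∉ σ(M)`, centralizes it. -/
theorem derived_centralizes_line (hG : Cfsg.IsMinSimpleOddOrder G) {M : Subgroup G}
    (hM : IsCoatom M) (hps : p ∉ Cfsg.sigma M) {P : Subgroup G} (hPc : Nat.card P = p)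
    (hPd : P ≤ ⁅M, M⁆) {y : G} (hy : y ∈ ⁅M, M⁆) (hyN : y ∈ Subgroup.normalizer (P : Set G)) :
    y ∈ Subgroup.centralizer (P : Set G) := by
  refine Subgroup.mem_centralizer_iff.2 fun a ha => commutatorElement_eq_one_iff_mul_comm.1 ?_
  rw [← Subgroup.mem_bot, ← Basic.inf_eq_bot_of_coprime
    (OddTau.Basic.coprime_sigmaCore (isPGroup_of_card hPc) hps)]
  refine Subgroup.mem_inf.2 ⟨?_, derived_derived_le hG hM
    (Subgroup.commutator_mem_commutator (hPd ha) hy)⟩
  rw [commutatorElement_def, show a * y * a⁻¹ * y⁻¹ = a * (y * a⁻¹ * y⁻¹) by group]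
  exact mul_mem ha ((Subgroup.mem_normalizer_iff.1 hyN _).1 (inv_mem ha))

/-- An element of `E ∩ M'` is in `E'`. -/
theorem mem_derived_compl {M E : Subgroup G} (hE : Cfsg.IsComplIn E (Cfsg.sigmaCore M) M) {x : G}
    (hxE : x ∈ E) (hxd : x ∈ ⁅M, M⁆) : x ∈ ⁅E, E⁆ := by
  have hEn : ⁅E, E⁆ ≤ Subgroup.normalizer (Cfsg.sigmaCore M : Set G) :=
    (MaximalBasics.derived_le_self E).trans (hE.1.trans (Basic.le_normalizer_map_subtype M _))
  obtain ⟨e, he, s, hs, hes⟩ := Set.mem_mul.1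
    (by rw [← Subgroup.coe_mul_of_left_le_normalizer_right _ _ hEn]
        exact SigmaCompl.derived_le hE hxd :
      x ∈ ((⁅E, E⁆ : Subgroup G) : Set G) * (Cfsg.sigmaCore M : Set G))
  have hs1 : s ∈ E ⊓ Cfsg.sigmaCore M := by
    refine Subgroup.mem_inf.2 ⟨?_, hs⟩
    have h1 := mul_mem (inv_mem (MaximalBasics.derived_le_self E he)) hxE
    rwa [← hes, inv_mul_cancel_left] at h1
  rw [hE.2.2.1, Subgroup.mem_bot] at hs1
  rw [hs1, mul_one] at hes
  exact hes ▸ he

/-- For `p ∈ τ₃(M)` a subgroup of order `p` of a complement is normal in it and inside `E'`. -/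
theorem compl_le_normalizer (hG : Cfsg.IsMinSimpleOddOrder G) {M E : Subgroup G} (hM : IsCoatom M)
    (hE : Cfsg.IsComplIn E (Cfsg.sigmaCore M) M) (hτ : p ∈ Cfsg.tau3 M) {P : Subgroup G}
    (hPc : Nat.card P = p) (hPE : P ≤ E) :
    E ≤ Subgroup.normalizer (P : Set G) ∧ P ≤ ⁅E, E⁆ := by
  have hPd : P ≤ ⁅E, E⁆ := fun x hx => mem_derived_compl hE (hPE hx)
    (SigmaDisjoint.le_derived_of_rank_one hG hτ.2.2.2 hτ.2.2.1 (isPGroup_of_card hPc)
      (hPE.trans hE.1) hx)
  refine ⟨fun e he => ?_, hPd⟩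
  haveI := SigmaCompl.isNilpotent_derived hG hM hE
  obtain ⟨S, hS⟩ := ((isPGroup_of_card hPc).comap_subtype (K := ⁅E, E⁆)).exists_le_sylow
  haveI hSn : (S : Subgroup ↥⁅E, E⁆).Normal :=
    Sylow.normal_of_normalizerCondition Group.normalizerCondition_of_isNilpotent S
  haveI : IsCyclic ((S : Subgroup ↥⁅E, E⁆).map (⁅E, E⁆ : Subgroup G).subtype) :=
    SigmaCompl.isCyclic_of_prankLE_one hG ((Subgroup.map_subtype_le _).trans
      ((MaximalBasics.derived_le_self E).trans hE.1)) hτ.2.2.2 (S.2.map _)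
  have hmem : ∀ x ∈ ⁅E, E⁆, x ^ p = 1 →
      x ∈ (S : Subgroup ↥⁅E, E⁆).map (⁅E, E⁆ : Subgroup G).subtype := by
    intro x hx hxp
    have hQ : IsPGroup p (Subgroup.zpowers (⟨x, hx⟩ : ↥⁅E, E⁆)) := by
      rcases (Nat.dvd_prime hp.out).1 (orderOf_dvd_of_pow_eq_one (Subtype.ext hxp :
          (⟨x, hx⟩ : ↥⁅E, E⁆) ^ p = 1)) with h | h
      · exact IsPGroup.of_card (n := 0) (by rw [Nat.card_zpowers, h, pow_zero])
      · exact IsPGroup.of_card (n := 1) (by rw [Nat.card_zpowers, h, pow_one])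
    refine ⟨⟨x, hx⟩, ?_, rfl⟩
    have hle : Subgroup.zpowers (⟨x, hx⟩ : ↥⁅E, E⁆) ≤ (S : Subgroup ↥⁅E, E⁆) :=
      le_sup_left.trans (S.is_maximal'
        (IsPGroup.to_sup_of_normal_right hQ S.2) le_sup_right).le
    exact hle (Subgroup.mem_zpowers _)
  have hpow : ∀ x ∈ P, x ^ p = 1 := fun x hx =>
    orderOf_dvd_iff_pow_eq_one.1 (hPc ▸ P.orderOf_dvd_natCard hx)
  refine Subgroup.mem_normalizer_iff_map_conj_eq.2 (Cyclic.eq_of_card_eq_of_isCyclic
    (W := (S : Subgroup ↥⁅E, E⁆).map (⁅E, E⁆ : Subgroup G).subtype) ?_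
    (fun x hx => hmem x (hPd hx) (hpow x hx))
    (Subgroup.card_map_of_injective (MulAut.conj e).injective))
  rintro _ ⟨x, hx, rfl⟩
  have hEn : E ≤ Subgroup.normalizer ((⁅E, E⁆ : Subgroup G) : Set G) :=
    Subgroup.map_subtype_commutator E ▸ Basic.le_normalizer_map_subtype E _
  refine hmem _ ((Subgroup.mem_normalizer_iff.1 (hEn he) x).1 (hPd hx)) ?_
  rw [← map_pow, hpow x hx, map_one]

end Cfsg.Agent.Lib.OddOrder.ComplementLines
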