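import Cfsg.Agent.Lib.OddOrder.SigmaSubgroup

/-!
# Small facts on maximal subgroups used in BG 13
-/

set_option autoImplicit false
set_option linter.style.haveILetI false
set_option linter.unusedSectionVars false

open scoped Pointwise commutatorElement

namespace Cfsg.Agent.Lib.OddOrder.MaximalBasics

open Cfsg.Agent.Lib.OddOrder.MinSimple

universe u

variable {G : Type u} [Group G] [Finite G]

theorem derived_le_self (M : Subgroup G) : ⁅M, M⁆ ≤ M :=
  Subgroup.map_subtype_commutator M ▸ Subgroup.map_subtype_le _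

/-- `M_σ` has a complement in `M`. -/
theorem exists_compl (hG : Cfsg.IsMinSimpleOddOrder G) {M : Subgroup G} (hM : IsCoatom M) :
    ∃ E : Subgroup G, Cfsg.IsComplIn E (Cfsg.sigmaCore M) M := by
  haveI := solvable_of_ne_top hG hM.1
  have hσ := SigmaHall.sigmaCore_isPiHallOf hG hM
  obtain ⟨E, hEM, hEπ, hEi⟩ := Hall.exists_isPiHallOf {r | r ∉ Cfsg.sigma M} M
  have hcop : (Nat.card E).Coprime (Nat.card (Cfsg.sigmaCore M)) :=
    Nat.coprime_of_dvd fun r hr h1 h2 => hEπ r hr h1 (hσ.2.1 r hr h2)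
  refine ⟨E, Basic.isComplIn_of_card hEM hσ.1 (Basic.inf_eq_bot_of_coprime hcop)
    (Nat.dvd_antisymm ?_ (hcop.mul_dvd_of_dvd_of_dvd (Subgroup.card_dvd_of_le hEM)
      (Subgroup.card_dvd_of_le hσ.1)))⟩
  have h1 := Subgroup.relIndex_mul_relIndex (⊥ : Subgroup G) E M bot_le hEM
  have h2 := Subgroup.relIndex_mul_relIndex (⊥ : Subgroup G) _ M bot_le hσ.1
  rw [Subgroup.relIndex_bot_left, Subgroup.relIndex_bot_left] at h1 h2
  have h3 : (E.relIndex M).Coprime ((Cfsg.sigmaCore M).relIndex M) := by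
    refine Nat.coprime_of_dvd fun r hr a b => ?_
    by_cases hrσ : r ∈ Cfsg.sigma M
    · exact hσ.2.2 r hr hrσ b
    · exact hEi r hr hrσ a
  rw [← h1]
  refine Nat.mul_dvd_mul_left _ (h3.dvd_of_dvd_mul_right ?_)
  exact h2.symm ▸ h1 ▸ dvd_mul_left _ _

theorem derived_le_of_sup {L Z D : Subgroup G} (hZL : Z ≤ L)
    (hLZ : L ≤ Subgroup.normalizer (Z : Set G)) (hDL : D ≤ L) (hsup : Z ⊔ D = L) :
    ⁅L, L⁆ ≤ Z ⊔ ⁅D, D⁆ := by
  haveI : (Z.subgroupOf L).Normal := (Subgroup.normal_subgroupOf_iff_le_normalizer hZL).2 hLZ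
  let π := QuotientGroup.mk' (Z.subgroupOf L)
  have htop : (⊤ : Subgroup L).map π = (D.subgroupOf L).map π := by
    refine le_antisymm ?_ (Subgroup.map_mono le_top)
    rw [Subgroup.map_le_map_iff, QuotientGroup.ker_mk', ← Subgroup.subgroupOf_sup hDL hZL,
      sup_comm, hsup, Subgroup.subgroupOf_self]
  have h2 : (commutator L).map π ≤ ⁅D.subgroupOf L, D.subgroupOf L⁆.map π := by
    rw [commutator_def, Subgroup.map_commutator, Subgroup.map_commutator, htop]
  rw [Subgroup.map_le_map_iff, QuotientGroup.ker_mk', sup_comm] at h2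
  have h3 := Subgroup.map_mono (f := L.subtype) h2
  rwa [Subgroup.map_subtype_commutator, Subgroup.map_sup, Subgroup.map_commutator,
    Subgroup.map_subgroupOf_eq_of_le hZL, Subgroup.map_subgroupOf_eq_of_le hDL] at h3

/-- Elements of `M'` of coprime orders commute modulo `M_α`. -/
theorem commutator_mem_alphaCore (hG : Cfsg.IsMinSimpleOddOrder G) {M : Subgroup G}
    (hM : IsCoatom M) {a b : G} (ha : a ∈ ⁅M, M⁆) (hb : b ∈ ⁅M, M⁆)
    (hco : (orderOf a).Coprime (orderOf b)) : ⁅a, b⁆ ∈ Cfsg.alphaCore M := by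
  obtain ⟨-, -, -, -, hnil⟩ := AlphaCore.alphaCore_spec hG hM
  rw [← Subgroup.map_subtype_commutator] at ha hb
  obtain ⟨a', ha', rfl⟩ := ha
  obtain ⟨b', hb', rfl⟩ := hb
  refine ⟨⁅a', b'⁆, ?_, map_commutatorElement M.subtype a' b'⟩
  set f := QuotientGroup.mk' (Cfsg.piCore (Cfsg.alpha M) M) with hf
  rw [SetLike.mem_coe, ← QuotientGroup.eq_one_iff, ← QuotientGroup.mk'_apply, map_commutatorElement,
    commutatorElement_eq_one_iff_mul_comm]
  refine Subgroup.mem_centralizer_iff.1 (Basic.le_centralizer_of_nilpotent hnil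
    (A := Subgroup.zpowers (f b')) (B := Subgroup.zpowers (f a'))
    (Subgroup.zpowers_le.2 (Subgroup.mem_map_of_mem f hb'))
    (Subgroup.zpowers_le.2 (Subgroup.mem_map_of_mem f ha')) ?_ (Subgroup.mem_zpowers _))
    _ (Subgroup.mem_zpowers _)
  rw [Nat.card_zpowers, Nat.card_zpowers]
  refine (hco.symm.coprime_dvd_left ?_).coprime_dvd_right ?_
  · exact (orderOf_map_dvd f b').trans (by rw [Subgroup.coe_subtype, Subgroup.orderOf_coe])
  · exact (orderOf_map_dvd f a').trans (by rw [Subgroup.coe_subtype, Subgroup.orderOf_coe])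

/-- A subgroup of `M` without primes of `α(M)` meets `M_α` trivially. -/
theorem inf_alphaCore_eq_bot (hG : Cfsg.IsMinSimpleOddOrder G) {M X : Subgroup G}
    (hM : IsCoatom M) (h : ∀ r : ℕ, r.Prime → r ∣ Nat.card X → r ∉ Cfsg.alpha M) :
    X ⊓ Cfsg.alphaCore M = ⊥ :=
  Basic.inf_eq_bot_of_coprime (Nat.coprime_of_dvd fun r hr h1 h2 =>
    h r hr h1 ((AlphaCore.alphaCore_spec hG hM).1.2.1 r hr h2))

/-- An `r`-element of `M'` normalizing a `q`-subgroup of `M'`, `q ∉ α(M)`, `q ≠ r`, centralizes it. -/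
theorem derived_centralizes (hG : Cfsg.IsMinSimpleOddOrder G) {M : Subgroup G} (hM : IsCoatom M)
    {q : ℕ} [Fact q.Prime] (hqα : q ∉ Cfsg.alpha M) {S : Subgroup G} (hS : IsPGroup q S)
    (hSd : S ≤ ⁅M, M⁆) {a : G} (ha : a ∈ ⁅M, M⁆) (haS : a ∈ Subgroup.normalizer (S : Set G))
    (hco : (orderOf a).Coprime q) : a ∈ Subgroup.centralizer (S : Set G) := by
  refine Subgroup.mem_centralizer_iff.2 fun s hs => commutatorElement_eq_one_iff_mul_comm.1 ?_
  have h0 : S ⊓ Cfsg.alphaCore M = ⊥ := inf_alphaCore_eq_bot hG hM fun r hr hd => by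
    rwa [Hall.prime_dvd_pgroup Fact.out hr hS hd]
  rw [← Subgroup.mem_bot, ← h0]
  refine Subgroup.mem_inf.2 ⟨?_, commutator_mem_alphaCore hG hM (hSd hs) ha ?_⟩
  · rw [commutatorElement_def, show s * a * s⁻¹ * a⁻¹ = s * (a * s⁻¹ * a⁻¹) by group]
    exact mul_mem hs ((Subgroup.mem_normalizer_iff.1 haS _).1 (inv_mem hs))
  · obtain ⟨n, hn⟩ := IsPGroup.iff_orderOf.1 hS ⟨s, hs⟩
    rw [Subgroup.orderOf_mk] at hn
    rw [hn]
    exact hco.symm.pow_left n

/-- Non-conjugacy is symmetric. -/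
theorem not_conj_symm {M H : Subgroup G} (h : ∀ g : G, H ≠ M.map (MulAut.conj g).toMonoidHom)
    (g : G) : M ≠ H.map (MulAut.conj g).toMonoidHom := by
  intro e
  refine h g⁻¹ ?_
  show H = MulAut.conj g⁻¹ • M
  rw [e, map_inv]
  exact (inv_smul_smul (MulAut.conj g) H).symm

/-- No prime of `σ(M)` lies in `α(H)` when `H` is not conjugate to `M`. -/
theorem not_alpha_of_sigma (hG : Cfsg.IsMinSimpleOddOrder G) {M H : Subgroup G} (hM : IsCoatom M)
    (hH : IsCoatom H) (hnc : ∀ g : G, H ≠ M.map (MulAut.conj g).toMonoidHom) {r : ℕ}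
    (hσ : r ∈ Cfsg.sigma M) : r ∉ Cfsg.alpha H := fun hα => by
  haveI := Fact.mk hσ.1
  obtain ⟨g, hg⟩ := SigmaEmbedding.conj_of_sigma_alpha hG hM hH hσ hα
  exact not_conj_symm hnc g hg

/-- If `N(Q) ≤ H` for a `p`-subgroup `Q ≠ 1` of `M` with `p ∉ σ(M) ∪ τ₂(M)`, then `H` is not
conjugate to `M`. -/
theorem not_conj_of_normalizer (hG : Cfsg.IsMinSimpleOddOrder G) {M H : Subgroup G}
    (hM : IsCoatom M) {p : ℕ} [Fact p.Prime] (hpσ : p ∉ Cfsg.sigma M) (hpτ : p ∉ Cfsg.tau2 M)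
    {X : Subgroup G} (hX : IsPGroup p X) (hX1 : X ≠ ⊥)
    (hNX : Subgroup.normalizer (X : Set G) ≤ H) (g : G) :
    H ≠ M.map (MulAut.conj g).toMonoidHom := by
  intro e
  have hN : Subgroup.normalizer
      ((X.map (MulAut.conj g⁻¹).toMonoidHom : Subgroup G) : Set G) ≤ M := by
    intro x hx
    have h1 : g * x * g⁻¹ ∈ Subgroup.normalizer (X : Set G) := by
      have h := Subgroup.le_normalizer_map (MulAut.conj g).toMonoidHom
        (Subgroup.mem_map_of_mem _ hx)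
      rwa [Subgroup.map_map, show ((MulAut.conj g).toMonoidHom).comp (MulAut.conj g⁻¹).toMonoidHom =
        MonoidHom.id G by ext y; simp [mul_assoc], Subgroup.map_id] at h
    obtain ⟨m, hm, hmx⟩ := (e ▸ hNX) h1
    simp at hmx
    exact hmx ▸ hm
  rcases SigmaEmbedding.mem_sigma_or_tau2 hG hM (hX.map _)
    (by rwa [Ne, Subgroup.map_eq_bot_iff_of_injective _ (MulAut.conj g⁻¹).injective]) hN with h | h
  · exact hpσ h
  · exact hpτ h

end Cfsg.Agent.Lib.OddOrder.MaximalBasics
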