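import Cfsg.Agent.Lib.OddOrder.Assembly.RowsOf
import Cfsg.Agent.Lib.OddOrder.Assembly.Counting14
import Cfsg.Agent.Lib.OddOrder.PF10.Noncoherent
import Cfsg.Agent.Lib.OddOrder.PF10.TypeVCases
import Cfsg.Agent.Lib.OddOrder.PF14.Assemble
import Cfsg.Agent.S1435

/-!
# The odd order theorem (Feit–Thompson)

* `no_minSimpleOdd`: there is no minimal simple group of odd order.
* `isSolvable_of_odd_card`: every finite group of odd order is solvable.
-/

set_option autoImplicit false
set_option linter.style.haveILetI false

namespace Cfsg.Agent.Lib.OddOrder.FeitThompson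

universe u

/-- Everything the chain left open holds. -/
theorem open_holds {G : Type u} [Group G] [Fintype G] (hG : Cfsg.IsMinSimpleOddOrder G) :
    Assembly.Open G := by
  have R : Types.Rows G := Assembly.RowsOf.rows hG (@Cfsg.Agent.S1435.result G _ _ hG)
  have hB := Types.bg16 hG R
  have h14 : Interface.PF8.BG14 G := Assembly.Counting14.bg14 hG
  have hp := PF10.partner hB.structureThm
  have h18 := PF8.Cover.step_8_18 hG hB h14
  refine ⟨R, h14, PF10.Noncoherent.step_10_8 hG hB h18 hp, ?_⟩
  intro M W₁ U W₂ _ hM hP h5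
  rcases PF10.TypeV.coherent_or_key_of_partner ⟨hG, hM, hP, h5⟩ hB hp with h | ⟨ζ, χ, k⟩
  · exact h
  · exact (PF10.Noncoherent.key_false hG hB h18 hp hM hP (Or.inr (Or.inr h5)) k).elim

/-- Peterfalvi (14.11). -/
theorem finalConfig {G : Type u} [Group G] [Fintype G] (hG : Cfsg.IsMinSimpleOddOrder G) :
    Final.FinalConfig G :=
  PF14.finalConfig_of_open hG (open_holds hG)

/-- There is no minimal simple group of odd order. -/
theorem no_minSimpleOdd {G : Type u} [Group G] [Finite G] : ¬ Cfsg.IsMinSimpleOddOrder G := by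
  intro hG
  haveI := Fintype.ofFinite G
  exact PF14.no_minSimpleOdd_of_open hG (open_holds hG)

/-- The odd order theorem: a finite group of odd order is solvable. -/
theorem isSolvable_of_odd_card {G : Type u} [Group G] [Finite G] (h : Odd (Nat.card G)) :
    Group.IsSolvable G :=
  Final.isSolvable_of_odd_card_of (fun _ _ _ => no_minSimpleOdd) G h

end Cfsg.Agent.Lib.OddOrder.FeitThompson
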