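import Cfsg.Agent.Lib.OddOrder.QuadraticAct
import Cfsg.Agent.Lib.OddOrder.MinSimple
import Cfsg.Agent.Lib.CharP.Basic
import Cfsg.Agent.Lib.PSolvable.Basic
import Cfsg.Agent.Lib.PSolvable.HallHigman
import Cfsg.Agent.Lib.PGroups.Frattini

/-!
# Invariant p'-subgroups in p-solvable groups of odd order

* `pPrimeCore_centralizer_le`: O_{p'}(C(B)) ≤ O_{p'}(G) for a p-subgroup B (BG 1.15).
* `le_pPrimeCore_of_setup`: the constrained-subgroup lemma behind BG 7.5.
-/

set_option autoImplicit false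
set_option linter.style.haveILetI false

open scoped Pointwise commutatorElement

namespace Cfsg.Agent.Lib.OddOrder.Constrained

universe u

variable {H : Type u} [Group H] [Finite H] {p : ℕ} [hp : Fact p.Prime]

theorem pPrimeCore_quot (H : Type u) [Group H] [Finite H] (p : ℕ) :
    Cfsg.pPrimeCore p (H ⧸ Cfsg.pPrimeCore p H) = ⊥ :=
  Cores.pPrimeCore_quotient_pPrimeCore p

theorem isPSolvable_quot (h : Cfsg.IsPSolvable p H) :
    Cfsg.IsPSolvable p (H ⧸ Cfsg.pPrimeCore p H) :=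
  PSolvable.isPSolvable_of_surjective (QuotientGroup.mk' _) (QuotientGroup.mk'_surjective _) h

/-- A p'-subgroup and a p-subgroup normalizing each other commute. -/
theorem commute_of_mutual {Y T : Subgroup H} (hY : (Nat.card Y).Coprime p) (hT : IsPGroup p T)
    {y t : H} (hy : y ∈ Y) (ht : t ∈ T) (hyT : y ∈ Subgroup.normalizer (T : Set H))
    (htY : t ∈ Subgroup.normalizer (Y : Set H)) : y * t = t * y := by
  have h1 : ⁅y, t⁆ ∈ T := by
    rw [commutatorElement_def]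
    exact T.mul_mem ((Subgroup.mem_normalizer_iff.1 hyT t).1 ht) (T.inv_mem ht)
  have h2 : ⁅y, t⁆ ∈ Y := by
    rw [commutatorElement_def, show y * t * y⁻¹ * t⁻¹ = y * (t * y⁻¹ * t⁻¹) by group]
    exact Y.mul_mem hy ((Subgroup.mem_normalizer_iff.1 htY y⁻¹).1 (Y.inv_mem hy))
  obtain ⟨n, hn⟩ := IsPGroup.iff_card.1 hT
  exact commutatorElement_eq_one_iff_mul_comm.1 (orderOf_eq_one_iff.1 (Nat.eq_one_of_dvd_coprimes
    (hY.pow_right n) (Subgroup.orderOf_dvd_natCard _ h2) (hn ▸ Subgroup.orderOf_dvd_natCard _ h1)))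

/-- BG 1.15 when `O_{p'} = 1`: a p'-subgroup normalized by `C(B)` and centralizing `B` is trivial. -/
theorem eq_bot_of_centralizes (hsol : Cfsg.IsPSolvable p H) (h1 : Cfsg.pPrimeCore p H = ⊥)
    {B L : Subgroup H} (hB : IsPGroup p B) (hL : (Nat.card L).Coprime p)
    (hLB : L ≤ Subgroup.centralizer (B : Set H))
    (hn : Subgroup.centralizer (B : Set H) ≤ Subgroup.normalizer (L : Set H)) : L = ⊥ := by
  rw [Subgroup.eq_bot_iff_forall]
  intro y hy
  set T := Cfsg.pCore p H with hT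
  have hTn : Subgroup.normalizer (T : Set H) = ⊤ :=
    Subgroup.normalizer_eq_top_iff.2 (Cfsg.pCore_normal p H)
  have hTp : IsPGroup p T := Cores.pCore_isPGroup p
  have hord : (orderOf y).Coprime p := hL.coprime_dvd_left (Subgroup.orderOf_dvd_natCard _ hy)
  have hyB : ∀ b ∈ B, Commute y b := fun b hb =>
    (Subgroup.mem_centralizer_iff.1 (hLB hy) b hb).symm
  have hcomm : ∀ u ∈ T, Commute y u := CharP.commute_of_axb hB hord hyB hTp
    (hTn ▸ le_top) (hTn ▸ Subgroup.mem_top y) fun u hu huB =>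
      commute_of_mutual hL hTp hy hu (hTn ▸ Subgroup.mem_top y)
        (hn (Subgroup.mem_centralizer_iff.2 fun b hb => ((huB b hb).symm).eq))
  have hyT : y ∈ T := PSolvable.centralizer_pCore_le hsol h1
    (Subgroup.mem_centralizer_iff.2 fun u hu => (hcomm u hu).symm.eq)
  obtain ⟨n, hn'⟩ := IsPGroup.iff_card.1 hTp
  exact orderOf_eq_one_iff.1 (Nat.eq_one_of_dvd_coprimes (hord.pow_right n) dvd_rfl
    (hn' ▸ Subgroup.orderOf_dvd_natCard _ hyT))

theorem normalizer_map_le {K : Type u} [Group K] (f : H →* K) {X Y : Subgroup H}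
    (h : X ≤ Subgroup.normalizer (Y : Set H)) :
    X.map f ≤ Subgroup.normalizer ((Y.map f : Subgroup K) : Set K) :=
  (Subgroup.map_mono h).trans (Subgroup.le_normalizer_map f)

/-- BG 1.15. -/
theorem le_pPrimeCore_of_centralizes (hsol : Cfsg.IsPSolvable p H) {B L : Subgroup H}
    (hB : IsPGroup p B) (hL : (Nat.card L).Coprime p)
    (hLB : L ≤ Subgroup.centralizer (B : Set H))
    (hn : Subgroup.centralizer (B : Set H) ≤ Subgroup.normalizer (L : Set H)) :
    L ≤ Cfsg.pPrimeCore p H := by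
  set O := Cfsg.pPrimeCore p H with hO
  have h := eq_bot_of_centralizes (isPSolvable_quot hsol) (pPrimeCore_quot H p)
    (B := B.map (QuotientGroup.mk' O)) (L := L.map (QuotientGroup.mk' O)) (hB.map _)
    (hL.coprime_dvd_left (Subgroup.card_map_dvd _ _))
    (by
      rintro _ ⟨l, hl, rfl⟩
      rw [Subgroup.mem_centralizer_iff]
      rintro _ ⟨b, hb, rfl⟩
      rw [← map_mul, ← map_mul, Subgroup.mem_centralizer_iff.1 (hLB hl) b hb])
    ((PSolvable.centralizer_map_le_map_centralizer O B (Cores.pPrimeCore_coprime p) hB).trans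
      (normalizer_map_le _ hn))
  rw [Subgroup.map_eq_bot_iff, QuotientGroup.ker_mk'] at h
  exact h

/-- The quotient form of the constrained-subgroup lemma. -/
theorem eq_bot_of_setup (hodd : Odd (Nat.card H)) (hsol : Cfsg.IsPSolvable p H)
    (h1 : Cfsg.pPrimeCore p H = ⊥) {R A Q Y : Subgroup H} (hTR : Cfsg.pCore p H ≤ R)
    (hAp : IsPGroup p A) (hAQ : A ≤ Q) (hRQ : R ≤ Subgroup.normalizer (Q : Set H))
    (hQA : Q ≤ Subgroup.normalizer (A : Set H))
    (hC : R ⊓ Subgroup.centralizer (A : Set H) ≤ A)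
    (hY : (Nat.card Y).Coprime p) (hAY : A ≤ Subgroup.normalizer (Y : Set H)) : Y = ⊥ := by
  set T := Cfsg.pCore p H with hT
  have hTp : IsPGroup p T := Cores.pCore_isPGroup p
  have hTn : Subgroup.normalizer (T : Set H) = ⊤ :=
    Subgroup.normalizer_eq_top_iff.2 (Cfsg.pCore_normal p H)
  have hAT : ∀ y ∈ Y, ∀ c ∈ A ⊓ T, y * c = c * y := fun y hy c hc =>
    commute_of_mutual hY hTp hy hc.2 (hTn ▸ Subgroup.mem_top y) (hAY hc.1)
  -- the Frattini quotient of `T`
  set Φ := (frattini T).map T.subtype with hΦ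
  haveI : Φ.Normal := Cores.normal_map_subtype T (frattini T)
  have hΦT : Φ ≤ T := Subgroup.map_subtype_le _
  set f := QuotientGroup.mk' Φ with hf
  set V := T.map f with hV
  haveI : IsMulCommutative V := by
    refine ⟨⟨?_⟩⟩
    rintro ⟨_, u, hu, rfl⟩ ⟨_, w, hw, rfl⟩
    apply Subtype.ext
    show f u * f w = f w * f u
    rw [← commutatorElement_eq_one_iff_mul_comm, ← map_commutatorElement]
    exact (QuotientGroup.eq_one_iff _).2
      ⟨⁅(⟨u, hu⟩ : T), ⟨w, hw⟩⁆, PGroups.commutatorElement_mem_frattini hTp _ _, rfl⟩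
  have hVn : ∀ x, x ∈ Subgroup.normalizer (V : Set (H ⧸ Φ)) := by
    intro x
    obtain ⟨g, rfl⟩ := QuotientGroup.mk'_surjective Φ x
    exact Subgroup.le_normalizer_map f ⟨g, hTn ▸ Subgroup.mem_top g, rfl⟩
  have hcopV : ∀ Z : Subgroup H, (Nat.card Z).Coprime p →
      (Nat.card (Z.map f)).Coprime (Nat.card V) := by
    intro Z hZ
    obtain ⟨n, hn⟩ := IsPGroup.iff_card.1 (hTp.map f)
    rw [hV, hn]
    exact (hZ.coprime_dvd_left (Subgroup.card_map_dvd _ _)).pow_right n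
  set Yb := Y.map f with hYb
  have hYV : Yb ≤ Subgroup.normalizer (V : Set (H ⧸ Φ)) := fun x _ => hVn x
  set V₀ := V ⊓ Subgroup.centralizer (Yb : Set (H ⧸ Φ)) with hV₀
  set V₁ := ⁅V, Yb⁆ with hV₁
  have hV₁V : V₁ ≤ V := Coprime.commutator_le_of_le_normalizer hYV
  haveI : IsMulCommutative V₁ := ⟨⟨fun x y => Subtype.ext
    (congrArg (fun z : V => (z : H ⧸ Φ))
      (mul_comm' (⟨x, hV₁V x.2⟩ : V) ⟨y, hV₁V y.2⟩))⟩⟩
  have hdis : V₀ ⊓ V₁ = ⊥ := Coprime.centralizer_inf_commutator_eq_bot hYV (hcopV Y hY)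
  have hsup : V₀ ⊔ V₁ = V := Coprime.centralizer_sup_commutator hYV (hcopV Y hY)
  have key : ∀ a ∈ A, ∀ y ∈ Y, y * a = a * y := by
    intro a ha y hy
    have haYb : f a ∈ Subgroup.normalizer (Yb : Set (H ⧸ Φ)) :=
      Subgroup.le_normalizer_map f ⟨a, hAY ha, rfl⟩
    have haV₁ : f a ∈ Subgroup.normalizer (V₁ : Set (H ⧸ Φ)) := by
      apply Coprime.mem_normalizer_of_conj_smul_eq
      rw [hV₁, Coprime.conj_smul_eq_map, Subgroup.map_commutator, ← Coprime.conj_smul_eq_map,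
        ← Coprime.conj_smul_eq_map, Coprime.conj_smul_eq_self_of_mem_normalizer (hVn _),
        Coprime.conj_smul_eq_self_of_mem_normalizer haYb]
    have hquad : ∀ v ∈ V₁, f a * (f a * v * (f a)⁻¹ * v⁻¹) * (f a)⁻¹ =
        f a * v * (f a)⁻¹ * v⁻¹ := by
      intro v hv
      set c := f a * v * (f a)⁻¹ * v⁻¹ with hc
      set d := f a * c * (f a)⁻¹ * c⁻¹ with hd
      have hc1 : c ∈ V₁ := V₁.mul_mem ((Subgroup.mem_normalizer_iff.1 haV₁ v).1 hv) (V₁.inv_mem hv)
      have hd1 : d ∈ V₁ := V₁.mul_mem ((Subgroup.mem_normalizer_iff.1 haV₁ c).1 hc1) (V₁.inv_mem hc1)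
      obtain ⟨t, ht, rfl⟩ := hV₁V hv
      set c' := a * t * a⁻¹ * t⁻¹ with hc'
      have hc'T : c' ∈ T :=
        T.mul_mem ((Cfsg.pCore_normal p H).conj_mem t ht a) (T.inv_mem ht)
      have hc'Q : c' ∈ Q := by
        rw [hc', show a * t * a⁻¹ * t⁻¹ = a * (t * a⁻¹ * t⁻¹) by group]
        exact Q.mul_mem (hAQ ha)
          ((Subgroup.mem_normalizer_iff.1 (hRQ (hTR ht)) a⁻¹).1 (Q.inv_mem (hAQ ha)))
      have hd' : a * c' * a⁻¹ * c'⁻¹ ∈ A ⊓ T := by
        refine ⟨?_, T.mul_mem ((Cfsg.pCore_normal p H).conj_mem c' hc'T a) (T.inv_mem hc'T)⟩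
        rw [show a * c' * a⁻¹ * c'⁻¹ = a * (c' * a⁻¹ * c'⁻¹) by group]
        exact A.mul_mem ha ((Subgroup.mem_normalizer_iff.1 (hQA hc'Q) a⁻¹).1 (A.inv_mem ha))
      have hd0 : d ∈ V₀ := by
        refine ⟨hV₁V hd1, Subgroup.mem_centralizer_iff.2 ?_⟩
        rintro _ ⟨y, hy, rfl⟩
        have : d = f (a * c' * a⁻¹ * c'⁻¹) := by
          rw [hd, hc, hc']; simp only [map_mul, map_inv]
        rw [this, ← map_mul, ← map_mul, hAT y hy _ hd']
      have : d = 1 := by
        rw [← Subgroup.mem_bot, ← hdis]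
        exact ⟨hd0, hd1⟩
      rw [hd, mul_inv_eq_one] at this
      exact this
    have hYV₁ : Yb ≤ Subgroup.normalizer (V₁ : Set (H ⧸ Φ)) :=
      Coprime.right_le_normalizer_commutator V Yb
    have hordA : (orderOf (f a)).Coprime (Nat.card Yb) := by
      obtain ⟨n, hn⟩ := IsPGroup.iff_card.1 hAp
      refine Nat.Coprime.coprime_dvd_left ((orderOf_map_dvd f a).trans
        (hn ▸ Subgroup.orderOf_dvd_natCard A ha)) ?_
      exact ((hY.coprime_dvd_left (Subgroup.card_map_dvd _ _)).symm).pow_left n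
    set z := a⁻¹ * y⁻¹ * a * y with hz
    have hzY : z ∈ Y := by
      rw [hz, show a⁻¹ * y⁻¹ * a * y = (a⁻¹ * y⁻¹ * a) * y by group]
      exact Y.mul_mem ((Subgroup.mem_normalizer_iff''.1 (hAY ha) y⁻¹).1 (Y.inv_mem hy)) hy
    have hzV₁ : f z ∈ Subgroup.centralizer (V₁ : Set (H ⧸ Φ)) := by
      have := QuadraticAct.commutator_mem_centralizer
        (hodd.of_dvd_nat (Subgroup.card_quotient_dvd_card Φ)) haV₁ hquad hYV₁ haYb hordA
        ((hcopV Y hY).coprime_dvd_right (Subgroup.card_dvd_of_le hV₁V)) (f y) ⟨y, hy, rfl⟩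
      rwa [hz, map_mul, map_mul, map_mul, map_inv, map_inv]
    have hzV : f z ∈ Subgroup.centralizer (V : Set (H ⧸ Φ)) := by
      rw [← hsup]
      rw [Subgroup.mem_centralizer_iff]
      intro v hv
      have hle : V₀ ⊔ V₁ ≤ Subgroup.centralizer ({f z} : Set (H ⧸ Φ)) := by
        refine sup_le (fun v hv => Subgroup.mem_centralizer_singleton_iff.2 ?_)
          (fun v hv => Subgroup.mem_centralizer_singleton_iff.2 ?_)
        · exact (Subgroup.mem_centralizer_iff.1 hv.2 (f z) ⟨z, hzY, rfl⟩).symm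
        · exact Subgroup.mem_centralizer_iff.1 hzV₁ v hv
      exact Subgroup.mem_centralizer_singleton_iff.1 (hle hv)
    have hzT : z ∈ Subgroup.centralizer (T : Set H) := by
      have hle := Coprime.le_centralizer_of_frattini (A := Subgroup.zpowers z) (K := T)
        (fun x _ => hTn ▸ Subgroup.mem_top x) ?_ ?_
      · exact hle (Subgroup.mem_zpowers z)
      · obtain ⟨n, hn⟩ := IsPGroup.iff_card.1 (hTp.to_subgroup (frattini T))
        rw [hn, Nat.card_zpowers]
        exact (hY.coprime_dvd_left (Subgroup.orderOf_dvd_natCard _ hzY)).pow_right n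
      · intro x hx k hk
        obtain ⟨m, rfl⟩ := Subgroup.mem_zpowers_iff.1 hx
        show z ^ m * k * (z ^ m)⁻¹ * k⁻¹ ∈ Φ
        rw [← QuotientGroup.eq_one_iff]
        have : Commute (f k) (f z) := Subgroup.mem_centralizer_iff.1 hzV _ ⟨k, hk, rfl⟩
        show f (z ^ m * k * (z ^ m)⁻¹ * k⁻¹) = 1
        rw [map_mul, map_mul, map_mul, map_inv, map_inv, map_zpow, (this.symm.zpow_left m).eq]
        group
    have hz1 : z = 1 := by
      obtain ⟨n, hn⟩ := IsPGroup.iff_card.1 hTp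
      exact orderOf_eq_one_iff.1 (Nat.eq_one_of_dvd_coprimes
        ((hY.coprime_dvd_left (Subgroup.orderOf_dvd_natCard _ hzY)).pow_right n) dvd_rfl
        (hn ▸ Subgroup.orderOf_dvd_natCard _ (PSolvable.centralizer_pCore_le hsol h1 hzT)))
    calc y * a = y * a * (a⁻¹ * y⁻¹ * a * y) := by rw [← hz, hz1, mul_one]
      _ = a * y := by group
  rw [Subgroup.eq_bot_iff_forall]
  intro y hy
  have hord : (orderOf y).Coprime p := hY.coprime_dvd_left (Subgroup.orderOf_dvd_natCard _ hy)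
  have hcomm : ∀ u ∈ T, Commute y u := CharP.commute_of_axb hAp hord (fun b hb => key b hb y hy)
    hTp (hTn ▸ le_top) (hTn ▸ Subgroup.mem_top y) fun u hu huA =>
      hAT y hy u ⟨hC ⟨hTR hu, Subgroup.mem_centralizer_iff.2 fun b hb => ((huA b hb).symm).eq⟩, hu⟩
  have hyT : y ∈ T := PSolvable.centralizer_pCore_le hsol h1
    (Subgroup.mem_centralizer_iff.2 fun u hu => (hcomm u hu).symm.eq)
  obtain ⟨n, hn⟩ := IsPGroup.iff_card.1 hTp
  exact orderOf_eq_one_iff.1 (Nat.eq_one_of_dvd_coprimes (hord.pow_right n) dvd_rfl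
    (hn ▸ Subgroup.orderOf_dvd_natCard _ hyT))

/-- The constrained-subgroup lemma: invariant p'-subgroups lie in `O_{p'}`. -/
theorem le_pPrimeCore_of_setup (hodd : Odd (Nat.card H)) (hsol : Cfsg.IsPSolvable p H)
    (R : Sylow p H) {A Q Y : Subgroup H} (hAQ : A ≤ Q) (hQR : Q ≤ (R : Subgroup H))
    (hRQ : (R : Subgroup H) ≤ Subgroup.normalizer (Q : Set H))
    (hQA : Q ≤ Subgroup.normalizer (A : Set H))
    (hC : (R : Subgroup H) ⊓ Subgroup.centralizer (A : Set H) ≤ A)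
    (hY : (Nat.card Y).Coprime p) (hAY : A ≤ Subgroup.normalizer (Y : Set H)) :
    Y ≤ Cfsg.pPrimeCore p H := by
  set O := Cfsg.pPrimeCore p H with hO
  set f := QuotientGroup.mk' O with hf
  have hdis : ∀ r ∈ (R : Subgroup H), f r = 1 → r = 1 := by
    intro r hr hfr
    obtain ⟨n, hn⟩ := IsPGroup.iff_card.1 R.isPGroup'
    exact orderOf_eq_one_iff.1 (Nat.eq_one_of_dvd_coprimes
      ((Cores.pPrimeCore_coprime (G := H) p).pow_right n)
      (Subgroup.orderOf_dvd_natCard _ ((QuotientGroup.eq_one_iff r).1 hfr))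
      (hn ▸ Subgroup.orderOf_dvd_natCard _ hr))
  have h := eq_bot_of_setup (hodd.of_dvd_nat (Subgroup.card_quotient_dvd_card O))
    (isPSolvable_quot hsol) (pPrimeCore_quot H p) (R := (R : Subgroup H).map f)
    (A := A.map f) (Q := Q.map f) (Y := Y.map f)
    (by
      have := Cores.pCore_le_sylow (R.mapSurjective (QuotientGroup.mk'_surjective O))
      rwa [Sylow.coe_mapSurjective] at this)
    ((R.isPGroup'.to_le (hAQ.trans hQR)).map f) (Subgroup.map_mono hAQ) (normalizer_map_le f hRQ)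
    (normalizer_map_le f hQA) ?_ (hY.coprime_dvd_left (Subgroup.card_map_dvd _ _))
    (normalizer_map_le f hAY)
  · rw [Subgroup.map_eq_bot_iff, hf, QuotientGroup.ker_mk'] at h
    exact h
  · rintro _ ⟨⟨r, hr, rfl⟩, hr2⟩
    refine ⟨r, hC ⟨hr, Subgroup.mem_centralizer_iff.2 fun a ha => ?_⟩, rfl⟩
    have := Subgroup.mem_centralizer_iff.1 hr2 (f a) ⟨a, ha, rfl⟩
    rw [← map_mul, ← map_mul] at this
    have h2 := hdis (a * r * (r * a)⁻¹)
      ((R : Subgroup H).mul_mem ((R : Subgroup H).mul_mem (hQR (hAQ ha)) hr)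
        ((R : Subgroup H).inv_mem ((R : Subgroup H).mul_mem hr (hQR (hAQ ha)))))
      (by rw [map_mul, map_inv, this, mul_inv_cancel])
    exact mul_inv_eq_one.1 h2

end Cfsg.Agent.Lib.OddOrder.Constrained
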