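import Cfsg.Agent.Lib.OddOrder.RankTwoAction
import Cfsg.Agent.Lib.OddOrder.Constrained

/-!
# Solvable groups of odd order and `p`-rank at most two (BG 4.18)
-/

set_option autoImplicit false
set_option linter.style.haveILetI false

namespace Cfsg.Agent.Lib.OddOrder.RankTwoGroup

universe u

variable {p : ℕ} [hp : Fact p.Prime]

theorem hasNormalPComplement_of {H : Type u} [Group H] [Finite H] {N : Subgroup H} [N.Normal]
    (hN : (Nat.card N).Coprime p) (hq : IsPGroup p (H ⧸ N)) :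
    Cfsg.HasNormalPComplement p H := by
  obtain ⟨P⟩ : Nonempty (Sylow p H) := inferInstance
  obtain ⟨b, hb⟩ := hq.exists_card_eq
  have hH : Nat.card H = p ^ b * Nat.card N := by
    rw [← hb, ← Subgroup.card_eq_card_quotient_mul_card_subgroup]
  have hN0 : (Nat.card N).factorization p = 0 :=
    Nat.factorization_eq_zero_of_not_dvd ((hp.out.coprime_iff_not_dvd).1 hN.symm)
  have hP : Nat.card P = p ^ b := by
    rw [P.card_eq_multiplicity, hH, Nat.factorization_mul (pow_ne_zero _ hp.out.ne_zero)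
      Nat.card_pos.ne', Finsupp.add_apply, hN0, hp.out.factorization_pow, Finsupp.single_eq_same,
      add_zero]
  exact ⟨P, N, ‹_›, Subgroup.isComplement'_of_coprime (by rw [hP, hH, mul_comm])
    (by rw [hP]; exact hN.pow_right b)⟩

variable {G : Type u} [Group G] [Finite G]

theorem prankLE_quotient {k : ℕ} (N : Subgroup G) [N.Normal] (hN : (Nat.card N).Coprime p)
    (h : Cfsg.PRankLE p k G) {V : Subgroup (G ⧸ N)} (hV : IsPGroup p V) :
    Cfsg.PRankLE p k V := by
  rw [Rank.prankLE_subgroup_iff]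
  intro E hE he
  obtain ⟨P⟩ : Nonempty (Sylow p G) := inferInstance
  set π := QuotientGroup.mk' N with hπ
  obtain ⟨Q, hQ⟩ := hV.exists_le_sylow
  obtain ⟨g, hg⟩ := MulAction.exists_smul_eq (G ⧸ N) Q (P.mapSurjective (QuotientGroup.mk'_surjective N))
  obtain ⟨x, rfl⟩ := QuotientGroup.mk'_surjective N g
  set P₁ := (MulAut.conj x⁻¹ • P : Sylow p G) with hP₁
  have hinj : ∀ a ∈ (P₁ : Subgroup G), π a = 1 → a = 1 := by
    intro a ha h1
    obtain ⟨n, hn⟩ := IsPGroup.iff_card.1 P₁.isPGroup'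
    exact orderOf_eq_one_iff.1 (Nat.eq_one_of_dvd_coprimes (hN.pow_right n)
      (Subgroup.orderOf_dvd_natCard _ ((QuotientGroup.eq_one_iff a).1 h1))
      (hn ▸ Subgroup.orderOf_dvd_natCard _ ha))
  have hQP : (Q : Subgroup (G ⧸ N)) ≤ (P₁ : Subgroup G).map π := by
    intro y hy
    have h1 : π x * y * (π x)⁻¹ ∈ (P.mapSurjective (QuotientGroup.mk'_surjective N) : Subgroup _) := by
      rw [← hg, Sylow.coe_subgroup_smul]
      exact ⟨y, hy, rfl⟩
    rw [Sylow.coe_mapSurjective] at h1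
    obtain ⟨a, ha, e⟩ := h1
    refine ⟨x⁻¹ * a * x, ?_, ?_⟩
    · show x⁻¹ * a * x ∈ (P₁ : Subgroup G)
      rw [hP₁, Sylow.pointwise_smul_def]
      exact ⟨a, ha, by simp [MulAut.smul_def]⟩
    · rw [map_mul, map_mul, map_inv, e]
      group
  set E' := (P₁ : Subgroup G) ⊓ E.comap π with hE'
  have hmap : E'.map π = E := by
    refine le_antisymm ?_ fun y hy => ?_
    · rintro _ ⟨a, ha, rfl⟩; exact ha.2
    · obtain ⟨a, ha, rfl⟩ := hQP (hQ (hE hy))
      exact ⟨a, ⟨ha, hy⟩, rfl⟩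
  have he' : Cfsg.IsElementaryAbelian p E' := by
    refine ⟨⟨⟨fun a b => Subtype.ext ?_⟩⟩, fun a ha => ?_⟩
    · have h1 := congrArg Subtype.val (he.1.is_comm.comm ⟨π a, a.2.2⟩ ⟨π b, b.2.2⟩)
      refine mul_inv_eq_one.1 (hinj _ (mul_mem (mul_mem a.2.1 b.2.1)
        (inv_mem (mul_mem b.2.1 a.2.1))) ?_)
      rw [map_mul, map_inv, Subgroup.coe_mul, Subgroup.coe_mul, map_mul, map_mul]
      exact mul_inv_eq_one.2 h1
    · exact hinj _ (pow_mem ha.1 p) (by rw [map_pow]; exact he.2 _ ha.2)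
  rw [← hmap]
  exact le_trans (Nat.le_of_dvd Nat.card_pos (Subgroup.card_map_dvd E' π)) (h E' he'.1 he'.2)

variable [Group.IsSolvable G]

theorem quotient_setup (hodd : Odd (Nat.card G)) (hp2 : p ≠ 2) (hr : Cfsg.PRankLE p 2 G) :
    IsPGroup p (commutator (G ⧸ Cfsg.pPrimeCore p G)) ∧
      ∀ q : ℕ, q.Prime → q ∣ (Cfsg.pPrimeCore p G).index → q ≤ p := by
  set Q := G ⧸ Cfsg.pPrimeCore p G with hQ
  haveI : Group.IsSolvable Q := Group.isSolvable_of_surjective (QuotientGroup.mk'_surjective _)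
  have hsol : Cfsg.IsPSolvable p Q := PSolvable.isPSolvable_of_isSolvable
  have hV : IsPGroup p (Cfsg.pCore p Q) := Cores.pCore_isPGroup p
  have hrV := prankLE_quotient (Cfsg.pPrimeCore p G) (Cores.pPrimeCore_coprime p) hr hV
  have hn : (⊤ : Subgroup Q) ≤ Subgroup.normalizer (Cfsg.pCore p Q : Set Q) :=
    (Subgroup.normalizer_eq_top_iff.2 (Cfsg.pCore_normal p Q)).ge
  have hC : Subgroup.centralizer (Cfsg.pCore p Q : Set Q) ≤ Cfsg.pCore p Q :=
    PSolvable.centralizer_pCore_le hsol (Constrained.pPrimeCore_quot G p)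
  have hf : IsPGroup p ↥((⊤ : Subgroup Q) ⊓ Subgroup.centralizer (Cfsg.pCore p Q : Set Q)) :=
    hV.to_le (inf_le_right.trans hC)
  have hoQ : Odd (Nat.card (⊤ : Subgroup Q)) := by
    rw [Subgroup.card_top]
    exact hodd.of_dvd_nat (Subgroup.card_quotient_dvd_card _)
  haveI : Group.IsSolvable (⊤ : Subgroup Q) := inferInstance
  refine ⟨RankTwoAction.isPGroup_commutator' hp2 hV hrV hn hoQ hf, fun q hq hd => ?_⟩
  exact RankTwoAction.prime_le_of_action hp2 hV hrV hn hoQ hf hq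
    (by rwa [Subgroup.card_top, hQ, ← Subgroup.index_eq_card])

omit [Group.IsSolvable G] in
theorem map_commutator_mk :
    (commutator G).map (QuotientGroup.mk' (Cfsg.pPrimeCore p G)) ≤
      commutator (G ⧸ Cfsg.pPrimeCore p G) := by
  rw [commutator_def, Subgroup.map_commutator]
  exact Subgroup.commutator_mono le_top le_top

/-- The conclusions of BG 4.18. -/
theorem main (hodd : Odd (Nat.card G)) (hp2 : p ≠ 2) (hr : Cfsg.PRankLE p 2 G) :
    (∀ q : ℕ, q.Prime → q ∣ (Cfsg.pPrimeCore p G).index → q ≤ p) ∧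
    ((p = 3 ∨ ∀ q : ℕ, q.Prime → q ∣ Nat.card G → p ≤ q) → Cfsg.HasNormalPComplement p G) ∧
    Cfsg.HasNormalPComplement p ↥(commutator G) ∧
    (∀ L : Subgroup ↥(commutator G), (Nat.card L).Coprime p →
      L ≤ Cfsg.pPrimeCore p ↥(commutator G)) ∧
    commutator G ≤ Cfsg.pPrimePCore p G ∧ ((Cfsg.pPrimePCore p G).index).Coprime p := by
  obtain ⟨hcomm, hprime⟩ := quotient_setup hodd hp2 hr
  set O := Cfsg.pPrimeCore p G with hO
  set π := QuotientGroup.mk' O with hπ
  have hQp : IsPGroup p (Cfsg.pCore p (G ⧸ O)) := Cores.pCore_isPGroup p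
  have hle : commutator (G ⧸ O) ≤ Cfsg.pCore p (G ⧸ O) := Cores.le_pCore hcomm
  have hGK : commutator G ≤ Cfsg.pPrimePCore p G :=
    Subgroup.map_le_iff_le_comap.1 (map_commutator_mk.trans hle)
  -- the derived subgroup
  set C := commutator G with hC
  set N := O.subgroupOf C with hN
  have hNc : (Nat.card N).Coprime p :=
    (Cores.pPrimeCore_coprime p).coprime_dvd_left (Subgroup.card_comap_dvd_of_injective O C.subtype
      C.subtype_injective)
  have hCq : IsPGroup p (C ⧸ N) := by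
    intro x
    obtain ⟨y, rfl⟩ := QuotientGroup.mk'_surjective N x
    obtain ⟨k, hk⟩ := hcomm ⟨π y, map_commutator_mk ⟨(y : G), y.2, rfl⟩⟩
    refine ⟨k, ?_⟩
    rw [← map_pow]
    apply (QuotientGroup.eq_one_iff _).2
    show ((y ^ p ^ k : C) : G) ∈ O
    have h := congrArg Subtype.val hk
    rw [SubgroupClass.coe_pow, OneMemClass.coe_one, ← map_pow] at h
    rw [SubgroupClass.coe_pow]
    exact (QuotientGroup.eq_one_iff _).1 h
  refine ⟨hprime, fun h => ?_, hasNormalPComplement_of hNc hCq, fun L hL => ?_, hGK, ?_⟩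
  · refine hasNormalPComplement_of (Cores.pPrimeCore_coprime p) ?_
    refine IsPGroup.of_card (n := (O.index).primeFactorsList.length) ?_
    rw [← Subgroup.index_eq_card]
    refine Nat.eq_prime_pow_of_unique_prime_dvd Subgroup.FiniteIndex.index_ne_zero fun {q} hq hd => ?_
    have h1 := hprime q hq hd
    have hqG : q ∣ Nat.card G := hd.trans (Subgroup.index_dvd_card _)
    rcases h with rfl | h
    · rcases (show q = 2 ∨ q = 3 by have := hq.two_le; omega) with rfl | h3
      · exact absurd (even_iff_two_dvd.2 hqG) (Nat.not_even_iff_odd.2 hodd)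
      · exact h3
    · exact le_antisymm h1 (h q hq hqG)
  · haveI : N.Normal := inferInstance
    refine le_trans ?_ (Cores.le_pPrimeCore hNc)
    intro y hy
    obtain ⟨k, hk⟩ := hCq (QuotientGroup.mk' N y)
    apply (QuotientGroup.eq_one_iff y).1
    refine orderOf_eq_one_iff.1 (Nat.eq_one_of_dvd_coprimes (hL.pow_right k) ?_
      (orderOf_dvd_of_pow_eq_one hk))
    exact (orderOf_map_dvd (QuotientGroup.mk' N) y).trans (Subgroup.orderOf_dvd_natCard _ hy)
  · set V := Cfsg.pCore p (G ⧸ O) with hV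
    haveI : IsMulCommutative ((G ⧸ O) ⧸ V) :=
      Subgroup.Normal.quotient_commutative_iff_commutator_le.2 hle
    have hbot : Cfsg.pCore p ((G ⧸ O) ⧸ V) = ⊥ := Cores.pCore_quotient_pCore p
    have hidx : (Cfsg.pPrimePCore p G).index = Nat.card ((G ⧸ O) ⧸ V) := by
      rw [Cfsg.pPrimePCore, Subgroup.index_comap_of_surjective _
        (QuotientGroup.mk'_surjective _), Subgroup.index_eq_card]
    rw [hidx]
    refine Nat.Coprime.symm ((hp.out.coprime_iff_not_dvd).2 fun hd => ?_)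
    obtain ⟨x, hx⟩ := exists_prime_orderOf_dvd_card' p hd
    haveI : (Subgroup.zpowers x).Normal := ⟨fun n hn g => by
      rw [IsMulCommutative.is_comm.comm g n, mul_assoc, mul_inv_cancel, mul_one]; exact hn⟩
    have h1 : Subgroup.zpowers x ≤ Cfsg.pCore p ((G ⧸ O) ⧸ V) := Cores.le_pCore
      (IsPGroup.of_card (n := 1) (by rw [Nat.card_zpowers, hx, pow_one]))
    have h2 : x = 1 := Subgroup.mem_bot.1 (hbot ▸ h1 (Subgroup.mem_zpowers x))
    rw [h2, orderOf_one] at hx
    exact hp.out.ne_one hx.symm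

end Cfsg.Agent.Lib.OddOrder.RankTwoGroup
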