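import Cfsg.Agent.Lib.OddOrder.Uniqueness
import Cfsg.Agent.Lib.OddOrder.RankTwoGroup
import Cfsg.Agent.Lib.OddOrder.SCN
import Cfsg.Agent.S1457

/-!
# BG 9.1: a `p`-group whose invariant `p'`-subgroups lie in one maximal subgroup
-/

set_option autoImplicit false
set_option linter.style.haveILetI false

open scoped Pointwise commutatorElement

namespace Cfsg.Agent.Lib.OddOrder.InvariantPrime

open Cfsg.Agent.Lib.OddOrder.MinSimple Cfsg.Agent.Lib.OddOrder.NormedConstrained
  Cfsg.Agent.Lib.OddOrder.Uniqueness Cfsg.Agent.Lib.Puig.Theorem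

universe u

variable {G : Type u} [Group G] [Finite G] {p : ℕ} [hp : Fact p.Prime]

/-- The constrained-subgroup lemma inside a proper subgroup. -/
theorem le_pO_of_setup (hG : Cfsg.IsMinSimpleOddOrder G) {X : Subgroup G} (hX : X ≠ ⊤)
    (S : Sylow p X) {A Y : Subgroup G} (hAS : A ≤ (S : Subgroup X).map X.subtype)
    (hSA : (S : Subgroup X).map X.subtype ≤ Subgroup.normalizer (A : Set G))
    (hC : (S : Subgroup X).map X.subtype ⊓ Subgroup.centralizer (A : Set G) ≤ A)
    (hYX : Y ≤ X) (hY : (Nat.card Y).Coprime p) (hAY : A ≤ Subgroup.normalizer (Y : Set G)) :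
    Y ≤ pO p X := by
  haveI := solvable_of_ne_top hG hX
  have hAX : A ≤ X := hAS.trans (Subgroup.map_subtype_le _)
  have hmem : ∀ x : X, (x : G) ∈ (S : Subgroup X).map X.subtype → x ∈ (S : Subgroup X) := by
    rintro x ⟨y, hy, e⟩
    rwa [← X.subtype_injective e]
  refine le_pO_of_le hYX (Constrained.le_pPrimeCore_of_setup (odd_card hG X)
    PSolvable.isPSolvable_of_isSolvable S (A := A.subgroupOf X) (Q := A.subgroupOf X) le_rfl
    (fun x hx => hmem x (hAS hx))
    (fun x hx => NormedConstrained.le_normalizer_subgroupOf hSA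
      (show x ∈ ((S : Subgroup X).map X.subtype).subgroupOf X from ⟨x, hx, rfl⟩))
    Subgroup.le_normalizer ?_ (by rwa [card_subgroupOf_eq hYX])
    (NormedConstrained.le_normalizer_subgroupOf hAY))
  rintro x ⟨hxS, hxC⟩
  refine hC ⟨⟨x, hxS, rfl⟩, Subgroup.mem_centralizer_iff.2 fun a ha => ?_⟩
  exact congrArg Subtype.val
    (Subgroup.mem_centralizer_iff.1 hxC ⟨a, hAX ha⟩ (show (⟨a, hAX ha⟩ : X) ∈ A.subgroupOf X from ha))

/-- Overgroups of `A` in `M` have their normalizers normalizing `O_{p'}(M)`. -/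
theorem normalizer_le_normalizer_pO (hG : Cfsg.IsMinSimpleOddOrder G) {M : Subgroup G}
    (hM : IsCoatom M) (S : Sylow p M) {A T : Subgroup G}
    (hAS : A ≤ (S : Subgroup M).map M.subtype)
    (hSA : (S : Subgroup M).map M.subtype ≤ Subgroup.normalizer (A : Set G))
    (hC : (S : Subgroup M).map M.subtype ⊓ Subgroup.centralizer (A : Set G) ≤ A)
    (hinv : ∀ Y : Subgroup G, (Nat.card Y).Coprime p → A ≤ Subgroup.normalizer (Y : Set G) → Y ≤ M)
    (hAT : A ≤ T) (hTM : T ≤ M) :
    Subgroup.normalizer (T : Set G) ≤ Subgroup.normalizer (pO p M : Set G) := by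
  intro g hg
  set U := pO p M with hU
  have hTU : T ≤ Subgroup.normalizer (U : Set G) :=
    hTM.trans (Basic.le_normalizer_map_subtype M _)
  have hgU : A ≤ Subgroup.normalizer ((MulAut.conj g • U : Subgroup G) : Set G) := by
    intro a ha
    have h1 : g⁻¹ * a * g ∈ T := (Subgroup.mem_normalizer_iff''.1 hg a).1 (hAT ha)
    refine Coprime.mem_normalizer_of_conj_smul_eq ?_
    rw [← Coprime.conj_smul_mul, show a * g = g * (g⁻¹ * a * g) by group, Coprime.conj_smul_mul,
      Coprime.conj_smul_eq_self_of_mem_normalizer (hTU h1)]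
  have hc : (Nat.card (MulAut.conj g • U : Subgroup G)).Coprime p := by
    rw [Coprime.card_conj_smul]; exact pO_coprime M
  have hle : MulAut.conj g • U ≤ U :=
    le_pO_of_setup hG hM.1 S hAS hSA hC (hinv _ hc hgU) hc hgU
  exact Coprime.mem_normalizer_of_conj_smul_eq
    (Subgroup.eq_of_le_of_card_ge hle (Coprime.card_conj_smul g U).ge)

/-- A Sylow subgroup all whose invariant `p'`-subgroups lie in `M` has its normalizer in `M`. -/
theorem normalizer_sylow_le (hG : Cfsg.IsMinSimpleOddOrder G) (hp2 : p ≠ 2) {M : Subgroup G}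
    (hM : IsCoatom M) (S : Sylow p M) (hS : (S : Subgroup M).map M.subtype ≠ ⊥)
    (hinv : ∀ Y : Subgroup G, (Nat.card Y).Coprime p →
      (S : Subgroup M).map M.subtype ≤ Subgroup.normalizer (Y : Set G) → Y ≤ M) :
    Subgroup.normalizer (((S : Subgroup M).map M.subtype : Subgroup G) : Set G) ≤ M := by
  by_cases hU : pO p M = ⊥
  · exact (PuigControl.normalizer_le_normalizer_centerIn _).trans
      (normalizer_centerIn_eq hG hp2 hM hU S hS).le
  · exact (normalizer_le_normalizer_pO hG hM S le_rfl Subgroup.le_normalizer inf_le_left hinv le_rfl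
      (Subgroup.map_subtype_le _)).trans
      (normalizer_eq_of_coatom hG hM (pO_le M) hU (Basic.le_normalizer_map_subtype M _)).le

/-- With an `SCN₃` subgroup, the invariant `p'`-subgroups lie in `M` as soon as those of the
Sylow subgroup do. -/
theorem inv_le_of_sylow (hG : Cfsg.IsMinSimpleOddOrder G) (P : Sylow p G) {A M : Subgroup G}
    (hA : Cfsg.IsSCN (P : Subgroup G) A) (hA3 : ¬ Cfsg.PRankLE p 2 A)
    (hP : ∀ Y : Subgroup G, (Nat.card Y).Coprime p →
      (P : Subgroup G) ≤ Subgroup.normalizer (Y : Set G) → Y ≤ M)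
    {Y : Subgroup G} (hY : (Nat.card Y).Coprime p) (hAY : A ≤ Subgroup.normalizer (Y : Set G)) :
    Y ≤ M := by
  haveI hAc : IsMulCommutative A := isMulCommutative_of_scn hA
  have hAp : IsPGroup p A := P.isPGroup'.to_le hA.1
  haveI : Group.IsSolvable A := Coprime.isSolvable_of_isPGroup hAp
  have hTH : Cfsg.TransitivityHypothesis A := of_scn hG hAc P hA
    fun h => hA3 (Rank.prankLE_mono_right hp.out.pos (by norm_num) h)
  obtain ⟨E, hEA, hEe, hEc⟩ := Rank.exists_elemAb_of_not_prankLE hA3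
  have hpA : p ∣ Nat.card A := (Rank.elemAb_prime_dvd hEe
    (lt_of_le_of_lt (Nat.one_le_pow _ _ hp.out.pos) hEc)).trans (Subgroup.card_dvd_of_le hEA)
  have hZr : ¬ Cfsg.RankLE 2 ↥(A ⊓ Subgroup.centralizer (A : Set G)) := fun h =>
    Rank.not_prankLE_of_elemAb
      (le_inf hEA fun x hx => Subgroup.mem_centralizer_iff.2 fun a ha =>
        congrArg Subtype.val (hAc.is_comm.comm ⟨a, ha⟩ ⟨x, hEA hx⟩))
      hEe hEc (h p hp.out)
  obtain ⟨n, hn⟩ := IsPGroup.iff_card.1 hAp
  refine le_of_inv_sylows hAY (hn ▸ hY.symm.pow_left n) fun q hq hqd Q hQY hQq hQA => ?_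
  have hqA : ¬ q ∣ Nat.card A := fun hd => hq.out.ne_one (Nat.eq_one_of_dvd_coprimes
    ((hn ▸ hY.symm.pow_left n : (Nat.card A).Coprime (Nat.card Y))) hd hqd)
  have hPπ : ∀ r : ℕ, r.Prime → r ∣ Nat.card (P : Subgroup G) → r ∣ Nat.card A := by
    intro r hr hrd
    obtain ⟨k, hk⟩ := IsPGroup.iff_card.1 P.isPGroup'
    obtain rfl := (Nat.prime_dvd_prime_iff_eq hr hp.out).1 (hr.dvd_of_dvd_pow (hk ▸ hrd))
    exact hpA
  haveI : Group.IsNilpotent (P : Subgroup G) := P.isPGroup'.isNilpotent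
  have htr := fun Q₁ h₁ Q₂ h₂ =>
    Transitive.trans_of_rank_three hG hTH hZr hqA (Q₁ := Q₁) (Q₂ := Q₂) h₁ h₂
  obtain ⟨R, hR, hPR⟩ := (Subnormal.good_top hG hTH hqA hPπ hA.1
    (SubnormSet.isSubnormal_of_isNilpotent _) htr).ex
  have hRM : R ≤ M := by
    refine hP R (BenderMax.coprime_of_pgroup (fun e : p = q => hqA (by rw [← e]; exact hpA))
      (Transitivity.isPGroup_of_inv hR.1.2.1)) hPR
  have hKM : Transitivity.coreC A ≤ M := by
    refine hP _ ?_ (hA.2.1.trans (Subnormal.normalizer_le_normalizer_core A _))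
    exact Nat.Coprime.symm ((hp.out.coprime_iff_not_dvd).2 fun hd =>
      (piCoreOf_isPiGroup _ _ p hp.out hd).2 hpA)
  obtain ⟨R₁, hR₁, hQR⟩ := Transitivity.exists_max_ge (H := (⊤ : Subgroup G)) (B := A) (π := {q})
    (Transitivity.mem_inv.2 ⟨le_top, hQq, hQA⟩)
  obtain ⟨k, hk, e⟩ := htr R hR R₁ hR₁
  refine hQR.trans ?_
  rw [e]
  intro x hx
  rw [Coprime.mem_conj_smul] at hx
  have := mul_mem (mul_mem (hKM hk) (hRM hx)) (inv_mem (hKM hk))
  simpa [mul_assoc] using this

/-- `r_p(X) ≤ r_p(P)` for a Sylow subgroup `P`. -/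
theorem prankLE_of_sylow {k : ℕ} (P : Sylow p G) (h : Cfsg.PRankLE p k (P : Subgroup G))
    (X : Subgroup G) : Cfsg.PRankLE p k X := by
  rw [Rank.prankLE_subgroup_iff] at h ⊢
  intro E _ he
  have hEp : IsPGroup p E := fun x => ⟨1, Subtype.ext (by simpa using he.2 x x.2)⟩
  obtain ⟨S, hS⟩ := hEp.exists_le_sylow
  obtain ⟨g, hg⟩ := MulAction.exists_smul_eq G S P
  have hle : MulAut.conj g • E ≤ (P : Subgroup G) := by
    rw [← hg, Sylow.coe_subgroup_smul]
    exact Subgroup.map_mono hS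
  have := h (MulAut.conj g • E) hle (PGroups.elemAb_map (MulAut.conj g).toMonoidHom he)
  rwa [Coprime.card_conj_smul] at this

/-- BG 9.1. -/
theorem inUniqueMaximal (hG : Cfsg.IsMinSimpleOddOrder G) {M B : Subgroup G} (hM : IsCoatom M)
    (hBM : B ≤ M) (hBp : IsPGroup p B) (hB1 : B ≠ ⊥)
    (hinv : ∀ Y : Subgroup G, (Nat.card Y).Coprime p → B ≤ Subgroup.normalizer (Y : Set G) →
      Y ≤ M) : Cfsg.InUniqueMaximal B := by
  have hpG : p ∣ Nat.card G := by
    haveI : Nontrivial B := (Subgroup.nontrivial_iff_ne_bot B).2 hB1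
    obtain ⟨k, hk0, hk⟩ := hBp.nontrivial_iff_card.1 inferInstance
    exact (hk ▸ dvd_pow_self p hk0.ne' : p ∣ Nat.card B).trans (Subgroup.card_subgroup_dvd_card B)
  have hp2 : p ≠ 2 := ne_two_of_dvd hG hpG
  refine ⟨M, ⟨hM, hBM⟩, ?_⟩
  by_contra hcon
  push Not at hcon
  obtain ⟨H₀, hH₀, hne⟩ := hcon
  set 𝒮 : Set (Subgroup G) := {D | B ≤ D ∧ IsPGroup p D ∧ D ≤ M ∧
    ∃ L, IsCoatom L ∧ L ≠ M ∧ D ≤ L} with h𝒮
  obtain ⟨R, ⟨hBR, hRp, hRM, H, hH, hHM, hRH⟩, hmax⟩ :=
    (Set.toFinite 𝒮).exists_maximal ⟨B, le_rfl, hBp, hBM, H₀, hH₀.1, hne, hH₀.2⟩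
  have hno : ∀ T : Subgroup G, IsPGroup p T → R < T → T ≤ M →
      ∀ L, IsCoatom L → T ≤ L → L = M := by
    intro T hT hlt hTM L hL hTL
    by_contra hne'
    exact hlt.not_ge (hmax ⟨hBR.trans hlt.le, hT, hTM, L, hL, hne', hTL⟩ hlt.le)
  have hRne : R ≠ ⊥ := ne_bot_of_le_ne_bot hB1 hBR
  obtain ⟨SM, hSM⟩ := (hRp.comap_subtype (K := M)).exists_le_sylow
  obtain ⟨SH, hSH⟩ := (hRp.comap_subtype (K := H)).exists_le_sylow
  set TM := (SM : Subgroup M).map M.subtype with hTM
  set TH := (SH : Subgroup H).map H.subtype with hTH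
  have hRTM : R ≤ TM := fun x hx => ⟨⟨x, hRM hx⟩, hSM hx, rfl⟩
  have hRTH : R ≤ TH := fun x hx => ⟨⟨x, hRH hx⟩, hSH hx, rfl⟩
  have hTMp : IsPGroup p TM := SM.isPGroup'.map _
  have hTHp : IsPGroup p TH := SH.isPGroup'.map _
  have hTMM : TM ≤ M := Subgroup.map_subtype_le _
  have hTHH : TH ≤ H := Subgroup.map_subtype_le _
  have hNTM : R = TM → Subgroup.normalizer (R : Set G) ≤ M := by
    intro e
    rw [e]
    exact normalizer_sylow_le hG hp2 hM SM (ne_bot_of_le_ne_bot hRne hRTM)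
      fun Y hY hn => hinv Y hY ((hBR.trans hRTM).trans hn)
  -- `R` is a Sylow subgroup of `H`
  have hRH' : R = TH := by
    by_contra hne'
    have ltH : R < TH := lt_of_le_of_ne hRTH hne'
    have hgH := Fusion.Alperin.lt_inf_normalizer hTHp ltH
    rcases eq_or_lt_of_le hRTM with eM | ltM
    · exact hHM (hno _ (hTHp.to_le inf_le_left) hgH (inf_le_right.trans (hNTM eM)) H hH
        (inf_le_left.trans hTHH))
    · obtain ⟨L', hL', hNL'⟩ := exists_coatom_ge hG
        (normalizer_ne_top hG hRne (pgroup_ne_top hG hRp))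
      have h1 := hno _ (hTMp.to_le inf_le_left) (Fusion.Alperin.lt_inf_normalizer hTMp ltM)
        (inf_le_left.trans hTMM) L' hL' (inf_le_right.trans hNL')
      exact hHM (hno _ (hTHp.to_le inf_le_left) hgH (h1 ▸ inf_le_right.trans hNL') H hH
        (inf_le_left.trans hTHH))
  set Z := centerIn R with hZ
  have hZne : Z ≠ ⊥ := PuigControl.centerIn_ne_bot hRp hRne
  set X := Subgroup.normalizer (Z : Set G) with hX
  have hXt : X ≠ ⊤ := normalizer_ne_top hG hZne
    (pgroup_ne_top hG (hRp.to_le (PuigControl.centerIn_le R)))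
  have hRX : R ≤ X :=
    Subgroup.le_normalizer.trans (PuigControl.normalizer_le_normalizer_centerIn R)
  have hOM : ∀ L : Subgroup G, B ≤ L → pO p L ≤ M := fun L hBL =>
    hinv _ (pO_coprime L) (hBL.trans (Basic.le_normalizer_map_subtype L _))
  have hXM : ¬ X ≤ M := by
    intro hle
    have hHle : H ≤ M := by
      intro h hh
      obtain ⟨o, ho, m, hm, e⟩ := PuigControl.exists_factor hG hp2 hH.1 SH hh
      rw [e]
      refine mul_mem (hOM H (hBR.trans hRH) ho) (hle ?_)
      have := hm.2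
      rwa [show (SH : Subgroup H).map H.subtype = R from hRH'.symm] at this
    rcases eq_or_lt_of_le hHle with e | lt
    · exact hHM e
    · exact hM.1 (hH.2 M lt)
  -- `R` is a Sylow subgroup of `M` and of `G`
  have hRM' : R = TM := by
    by_contra hne'
    obtain ⟨L', hL', hXL'⟩ := exists_coatom_ge hG hXt
    have h1 := hno _ (hTMp.to_le inf_le_left)
      (Fusion.Alperin.lt_inf_normalizer hTMp (lt_of_le_of_ne hRTM hne'))
      (inf_le_left.trans hTMM) L' hL'
      (inf_le_right.trans ((PuigControl.normalizer_le_normalizer_centerIn R).trans hXL'))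
    exact hXM (h1 ▸ hXL')
  have hidx : ¬ p ∣ R.index := by
    rw [hRM']
    exact not_dvd_index_of_normalizer_le SM
      (by rw [show (SM : Subgroup M).map M.subtype = R from hRM'.symm]; exact hNTM hRM')
  set P : Sylow p G := hRp.toSylow hidx with hP
  have hPR : (P : Subgroup G) = R := rfl
  haveI := solvable_of_ne_top hG hXt
  have hidxX : ¬ p ∣ (R.subgroupOf X).index := fun h =>
    hidx (h.trans (Subgroup.relIndex_dvd_index_of_le hRX))
  set SX : Sylow p X := (hRp.comap_subtype (K := X)).toSylow hidxX with hSX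
  have hSXR : (SX : Subgroup X).map X.subtype = R := Subgroup.map_subgroupOf_eq_of_le hRX
  set K := BenderLocal.pOp p X with hK
  set O := pO p X with hO
  set T := R ⊓ K with hT
  have hcov : K ≤ T ⊔ O := by
    intro k hk
    obtain ⟨k', hk', rfl⟩ := hk
    have h := Cores.pCore_le_sylow (SX.mapSurjective
      (QuotientGroup.mk'_surjective (Cfsg.pPrimeCore p X)))
    rw [Sylow.coe_mapSurjective] at h
    obtain ⟨t, ht, he⟩ := h hk'
    have hto : t⁻¹ * k' ∈ Cfsg.pPrimeCore p X := by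
      rw [← QuotientGroup.eq]; exact he
    have htK : t ∈ Cfsg.pPrimePCore p X := by
      rw [show t = k' * (t⁻¹ * k')⁻¹ by group]
      exact mul_mem hk' (inv_mem (PSolvable.pPrimeCore_le_pPrimePCore hto))
    rw [show X.subtype k' = X.subtype t * X.subtype (t⁻¹ * k') by
      rw [← map_mul, mul_inv_cancel_left]]
    exact mul_mem (Subgroup.mem_sup_left ⟨ht, t, htK, rfl⟩)
      (Subgroup.mem_sup_right ⟨_, hto, rfl⟩)
  have hUne : pO p M ≠ ⊥ := by
    intro hU
    apply hXM
    have := normalizer_centerIn_eq hG hp2 hM hU SM (ne_bot_of_le_ne_bot hRne hRTM)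
    rw [show (SM : Subgroup M).map M.subtype = R from hRM'.symm] at this
    exact this.le
  -- the normalizer of `T`
  have hNT : Subgroup.normalizer (T : Set G) ≤ M := by
    obtain ⟨A, hAT, hAR, hRA, hCA, hAinv⟩ : ∃ A : Subgroup G, A ≤ T ∧ A ≤ R ∧
        R ≤ Subgroup.normalizer (A : Set G) ∧ R ⊓ Subgroup.centralizer (A : Set G) ≤ A ∧
        ∀ Y : Subgroup G, (Nat.card Y).Coprime p →
          A ≤ Subgroup.normalizer (Y : Set G) → Y ≤ M := by
      by_cases hr : Cfsg.PRankLE p 2 (P : Subgroup G)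
      · refine ⟨R, le_inf le_rfl ?_, le_rfl, Subgroup.le_normalizer, inf_le_left,
          fun Y hY hn => hinv Y hY (hBR.trans hn)⟩
        have hmain := RankTwoGroup.main (odd_card hG X) hp2 (prankLE_of_sylow P hr X)
        intro x hx
        refine ⟨⟨x, hRX hx⟩, (QuotientGroup.eq_one_iff _).1 ?_, rfl⟩
        obtain ⟨k, hk⟩ := IsPGroup.iff_card.1 hRp
        apply orderOf_eq_one_iff.1
        refine Nat.eq_one_of_dvd_coprimes (hmain.2.2.2.2.2.pow_right k)
          (by rw [Subgroup.index_eq_card]; exact orderOf_dvd_natCard _) ?_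
        exact (orderOf_map_dvd (QuotientGroup.mk' (Cfsg.pPrimePCore p X)) _).trans
          (by rw [Subgroup.orderOf_mk]; exact hk ▸ Subgroup.orderOf_dvd_natCard _ hx)
      · obtain ⟨A, hA, hA3⟩ := SCN.exists_scn3 hp2 P.isPGroup' hr
        have hA' : Cfsg.IsSCN R A := hA
        refine ⟨A, le_inf hA'.1 ?_, hA'.1, hA'.2.1, hA'.2.2.le,
          fun Y hY hn => inv_le_of_sylow hG P hA hA3
            (fun Y' hY' hn' => hinv Y' hY' (hBR.trans hn')) hY hn⟩
        haveI hAc : IsMulCommutative A := isMulCommutative_of_scn hA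
        intro a ha
        have haX : a ∈ X := hRX (hA'.1 ha)
        have h := Cfsg.Agent.S1457.result (odd_card hG X) p SX (A.subgroupOf X)
          (fun x hx => hA'.1 hx)
          ⟨⟨fun x y => Subtype.ext (Subtype.ext
            (show ((x : X) : G) * (y : X) = (y : X) * (x : X) from congrArg Subtype.val
              (hAc.is_comm.comm ⟨((x : X) : G), x.2⟩ ⟨((y : X) : G), y.2⟩)))⟩⟩
          (fun x hx => NormedConstrained.le_normalizer_subgroupOf hA'.2.1 hx)
        exact ⟨⟨a, haX⟩, h (show (⟨a, haX⟩ : X) ∈ A.subgroupOf X from ha), rfl⟩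
    have hTM' : T ≤ M := inf_le_left.trans hRM
    refine (normalizer_le_normalizer_pO hG hM SM (A := A) ?_ ?_ ?_ hAinv hAT hTM').trans
      (normalizer_eq_of_coatom hG hM (pO_le M) hUne (Basic.le_normalizer_map_subtype M _)).le
    · exact hAR.trans hRTM
    · rw [show (SM : Subgroup M).map M.subtype = R from hRM'.symm]; exact hRA
    · rw [show (SM : Subgroup M).map M.subtype = R from hRM'.symm]; exact hCA
  -- the Frattini argument
  apply hXM
  intro x hx
  have hTp : IsPGroup p T := hRp.to_le inf_le_left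
  obtain ⟨n, hn⟩ := IsPGroup.iff_card.1 hTp
  have hKn : X ≤ Subgroup.normalizer (K : Set G) :=
    Subgroup.le_normalizer.trans (BenderLocal.normalizer_le_normalizer_pOp p X)
  obtain ⟨o, ho, e⟩ := Coprime.exists_conj_eq_of_coprime (A := T) (B := MulAut.conj x • T) (K := O)
    ((inf_le_left.trans hRX).trans (Basic.le_normalizer_map_subtype X _))
    (hn ▸ (pO_coprime X).symm.pow_left n) (Or.inl (Coprime.isSolvable_of_isPGroup hTp))
    (((Subgroup.pointwise_smul_le_pointwise_smul_iff.2 inf_le_right).trans_eq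
      (Coprime.conj_smul_eq_self_of_mem_normalizer (hKn hx))).trans hcov)
    (Coprime.card_conj_smul _ _)
  have hm : o⁻¹ * x ∈ Subgroup.normalizer (T : Set G) := by
    refine Coprime.mem_normalizer_of_conj_smul_eq ?_
    rw [Coprime.conj_smul_mul, ← e, ← Coprime.conj_smul_mul, inv_mul_cancel, map_one, one_smul]
  rw [show x = o * (o⁻¹ * x) by group]
  exact mul_mem (hOM X (hBR.trans hRX) ho) (hNT hm)

end Cfsg.Agent.Lib.OddOrder.InvariantPrime
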