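import Cfsg.Agent.Lib.OddOrder.InvariantPrime
import Cfsg.Agent.Lib.PConnected.Basic
import Cfsg.Agent.S1398

/-!
# BG 9.2, 9.3: spreading uniqueness through centralizers
-/

set_option autoImplicit false
set_option linter.style.haveILetI false

namespace Cfsg.Agent.Lib.OddOrder.UniqueRank

open Cfsg.Agent.Lib.OddOrder.MinSimple

universe u

variable {G : Type u} [Group G] [Finite G]

theorem ne_bot (hG : Cfsg.IsMinSimpleOddOrder G) {L : Subgroup G}
    (hL : Cfsg.InUniqueMaximal L) : L ≠ ⊥ := by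
  rintro rfl
  obtain ⟨M, ⟨hM, -⟩, huniq⟩ := hL
  refine hM.1 (eq_top_iff.2 fun g _ => ?_)
  have h : Subgroup.zpowers g ≠ ⊤ := by
    haveI : IsCyclic (Subgroup.zpowers g) := inferInstance
    exact ne_top_of_solvable hG inferInstance
  obtain ⟨M', hM', hgM'⟩ := exists_coatom_ge hG h
  exact huniq M' ⟨hM', bot_le⟩ ▸ hgM' (Subgroup.mem_zpowers g)

/-- Two maximal subgroups over a uniqueness subgroup coincide. -/
theorem eq_of_le {X M M' : Subgroup G} (h : Cfsg.InUniqueMaximal X) (hM : IsCoatom M)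
    (hX : X ≤ M) (hM' : IsCoatom M') (hX' : X ≤ M') : M = M' := by
  obtain ⟨N, -, huniq⟩ := h
  rw [huniq M ⟨hM, hX⟩, huniq M' ⟨hM', hX'⟩]

theorem mono (hG : Cfsg.IsMinSimpleOddOrder G) {X Y : Subgroup G} (h : Cfsg.InUniqueMaximal X)
    (hXY : X ≤ Y) (hY : Y ≠ ⊤) : Cfsg.InUniqueMaximal Y := by
  obtain ⟨M, hM, hYM⟩ := exists_coatom_ge hG hY
  exact ⟨M, ⟨hM, hYM⟩, fun N hN => eq_of_le h hN.1 (hXY.trans hN.2) hM (hXY.trans hYM)⟩

theorem conj {X : Subgroup G} (h : Cfsg.InUniqueMaximal X) (g : G) :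
    Cfsg.InUniqueMaximal (X.map (MulAut.conj g).toMonoidHom) := by
  set e : Subgroup G ≃o Subgroup G := (MulAut.conj g).mapSubgroup
  obtain ⟨M, ⟨hM, hXM⟩, huniq⟩ := h
  refine ⟨e M, ⟨(e.isCoatom_iff M).2 hM, e.monotone hXM⟩, fun N hN => ?_⟩
  rw [← huniq (e.symm N) ⟨(e.symm.isCoatom_iff N).2 hN.1, ?_⟩, OrderIso.apply_symm_apply]
  exact (e.le_symm_apply).2 hN.2

/-- BG 9.2: a rank two subgroup of the centralizer of a uniqueness subgroup is a uniqueness
subgroup. -/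
theorem of_le_centralizer (hG : Cfsg.IsMinSimpleOddOrder G) {L K : Subgroup G}
    (hL : Cfsg.InUniqueMaximal L) (hK : K ≤ Subgroup.centralizer (L : Set G))
    (hKr : ¬ Cfsg.RankLE 1 K) : Cfsg.InUniqueMaximal K := by
  obtain ⟨p, hp, E, hEK, hE, hEc⟩ := Rank.exists_of_not_rankLE hKr
  haveI := Fact.mk hp
  rw [pow_one] at hEc
  have hEnc := Rank.elemAb_not_isCyclic hE hEc
  have hL1 := ne_bot hG hL
  obtain ⟨M, ⟨hM, hLM⟩, huniq⟩ := hL
  have hC : ∀ b ∈ E, b ≠ 1 → Subgroup.centralizer ({b} : Set G) ≤ M := by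
    intro b hb hb1
    obtain ⟨M', hM', hbM'⟩ := exists_coatom_ge hG (centralizer_singleton_ne_top hG hb1)
    refine hbM'.trans (huniq M' ⟨hM', le_trans (fun l hl => ?_) hbM'⟩).le
    rw [Subgroup.mem_centralizer_singleton_iff]
    exact Subgroup.mem_centralizer_iff.1 (hK (hEK hb)) l hl
  have hEM : E ≤ M := fun b hb => by
    by_cases hb1 : b = 1
    · exact hb1 ▸ one_mem _
    · exact hC b hb hb1 (Subgroup.mem_centralizer_singleton_iff.2 rfl)
  exact mono hG (Cfsg.Agent.S1398.result hG M hM p E hEM hE hEnc (Or.inl hC)) hEK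
    fun h => centralizer_subgroup_ne_top hG hL1 (top_le_iff.1 (h ▸ hK))

theorem not_rankLE_one {p : ℕ} [hp : Fact p.Prime] {K E : Subgroup G} (hEK : E ≤ K)
    (hE : Cfsg.IsElementaryAbelian p E) (hc : p ^ 2 ≤ Nat.card E) : ¬ Cfsg.RankLE 1 K := fun h =>
  Rank.not_prankLE_of_elemAb hEK hE
    ((Nat.pow_lt_pow_right hp.out.one_lt (by norm_num : 1 < 2)).trans_le hc) (h p hp.out)

theorem not_rankLE_one_of_not_isCyclic {p : ℕ} [hp : Fact p.Prime] (hp2 : p ≠ 2) {B : Subgroup G}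
    (hB : IsPGroup p B) (hnc : ¬ IsCyclic B) : ¬ Cfsg.RankLE 1 B := by
  obtain ⟨E, -, hE, hE2⟩ := PGroups.exists_normal_elemAb_sq hp2 hB hnc
  refine not_rankLE_one (Subgroup.map_subtype_le E) (PGroups.elemAb_map B.subtype hE) ?_
  rw [Subgroup.card_map_of_injective B.subtype_injective, hE2]

/-- In a `p`-group the centralizer of a normal subgroup of type `(p, p)` has index at most `p`. -/
theorem sq_le_card_inf_centralizer {p : ℕ} [hp : Fact p.Prime] {P E E₀ : Subgroup G}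
    (hP : IsPGroup p P) (h0P : E₀ ≤ P) (hPn : P ≤ Subgroup.normalizer (E₀ : Set G))
    (h0 : Cfsg.IsElementaryAbelian p E₀) (h0c : Nat.card E₀ = p ^ 2)
    (hEP : E ≤ P) (hE : Cfsg.IsElementaryAbelian p E) (hEc : p ^ 2 < Nat.card E) :
    p ^ 2 ≤ Nat.card ↥(E ⊓ Subgroup.centralizer (E₀ : Set G)) := by
  set C := Subgroup.centralizer (E₀ : Set G) with hC
  haveI : (E₀.subgroupOf P).Normal := (Subgroup.normal_subgroupOf_iff_le_normalizer h0P).2 hPn
  have hU : Cfsg.IsElementaryAbelian p (E₀.subgroupOf P) :=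
    ⟨⟨⟨fun a b => Subtype.ext (Subtype.ext (congrArg Subtype.val
        (h0.1.is_comm.comm ⟨_, a.2⟩ ⟨_, b.2⟩) :))⟩⟩,
      fun a ha => Subtype.ext (h0.2 _ ha)⟩
  have hUc : Nat.card (E₀.subgroupOf P) = p ^ 2 := by
    rw [NormedConstrained.card_subgroupOf_eq h0P, h0c]
  have hidx := PConnected.relIndex_centralizer_le hP hU hUc
  have hle : (Subgroup.centralizer ((E₀.subgroupOf P : Subgroup P) : Set P)) ≤ C.subgroupOf P := by
    intro x hx
    rw [Subgroup.mem_subgroupOf, hC, Subgroup.mem_centralizer_iff]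
    intro e he
    exact congrArg Subtype.val (Subgroup.mem_centralizer_iff.1 hx ⟨e, h0P he⟩ he)
  have h1 : C.relIndex E ≤ p := by
    refine le_trans ?_ hidx
    refine (Nat.le_of_dvd (Nat.pos_of_ne_zero Subgroup.index_ne_zero_of_finite)
      (Subgroup.index_dvd_of_le hle)).trans' ?_
    exact Subgroup.relIndex_le_of_le_right hEP (Subgroup.index_ne_zero_of_finite)
  have h2 : Nat.card ↥(E ⊓ C) * C.relIndex E = Nat.card E := by
    rw [← Subgroup.inf_relIndex_left E C, Subgroup.relIndex,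
      ← NormedConstrained.card_subgroupOf_eq (inf_le_left : E ⊓ C ≤ E), Subgroup.card_mul_index]
  obtain ⟨j, hj⟩ := PGroups.elemAb_card_eq_pow (PGroups.elemAb_mono hE (inf_le_left : E ⊓ C ≤ E))
  have h4 : p ^ 2 < p ^ (j + 1) := by
    rw [pow_succ p j, ← hj]
    calc p ^ 2 < Nat.card E := hEc
      _ = Nat.card ↥(E ⊓ C) * C.relIndex E := h2.symm
      _ ≤ Nat.card ↥(E ⊓ C) * p := Nat.mul_le_mul_left _ h1
  have := (Nat.pow_lt_pow_iff_right hp.out.one_lt).1 h4
  rw [hj]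
  exact Nat.pow_le_pow_right hp.out.pos (by omega)

/-- Every Sylow subgroup has a normal subgroup of type `(p, p)` in exactly one maximal subgroup,
given an abelian `p`-subgroup of rank three in exactly one maximal subgroup. -/
theorem exists_normal_sq (hG : Cfsg.IsMinSimpleOddOrder G) {p : ℕ} [hp : Fact p.Prime]
    {A : Subgroup G} (hAp : IsPGroup p A) (hAc : IsMulCommutative A)
    (hA3 : ¬ Cfsg.PRankLE p 2 A) (hAU : Cfsg.InUniqueMaximal A) (Q : Sylow p G) :
    ∃ E₀ : Subgroup G, E₀ ≤ Q ∧ (Q : Subgroup G) ≤ Subgroup.normalizer (E₀ : Set G) ∧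
      Cfsg.IsElementaryAbelian p E₀ ∧ Nat.card E₀ = p ^ 2 ∧ Cfsg.InUniqueMaximal E₀ := by
  obtain ⟨P, hP⟩ := hAp.exists_le_sylow
  obtain ⟨g, rfl⟩ := MulAction.exists_smul_eq G P Q
  set φ := (MulAut.conj g).toMonoidHom with hφ
  obtain ⟨E, hEA, hE, hEc⟩ := Rank.exists_elemAb_of_not_prankLE hA3
  have hA' : A.map φ ≤ (g • P : Sylow p G) := by
    rw [Sylow.coe_subgroup_smul]
    exact Subgroup.map_mono hP
  set Q : Subgroup G := ↑(g • P : Sylow p G) with hQ
  have hQp : IsPGroup p Q := (g • P).2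
  have hnrk : ¬ Cfsg.PRankLE p 2 Q := Rank.not_prankLE_of_elemAb
    ((Subgroup.map_mono hEA).trans hA') (PGroups.elemAb_map φ hE)
    (by rwa [Subgroup.card_map_of_injective (MulAut.conj g).injective])
  obtain ⟨U, hUn, hU, hUc⟩ := PConnected.exists_normal_sq hQp hnrk
  haveI := hUn
  refine ⟨U.map Q.subtype, Subgroup.map_subtype_le U, Basic.le_normalizer_map_subtype Q U,
    PGroups.elemAb_map _ hU, by rw [Subgroup.card_map_of_injective Q.subtype_injective, hUc], ?_⟩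
  set E₀ := U.map Q.subtype with hE₀
  have h0c : Nat.card E₀ = p ^ 2 := by
    rw [hE₀, Subgroup.card_map_of_injective Q.subtype_injective, hUc]
  have hsq := sq_le_card_inf_centralizer hQp (Subgroup.map_subtype_le U)
    (Basic.le_normalizer_map_subtype Q U) (PGroups.elemAb_map _ hU) h0c
    ((Subgroup.map_mono hEA).trans hA') (PGroups.elemAb_map φ hE)
    (by rwa [Subgroup.card_map_of_injective (MulAut.conj g).injective])
  have hD : Cfsg.InUniqueMaximal (E.map φ ⊓ Subgroup.centralizer (E₀ : Set G)) := by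
    refine of_le_centralizer hG (conj hAU g) ?_ (not_rankLE_one le_rfl
      (PGroups.elemAb_mono (PGroups.elemAb_map φ hE) inf_le_left) hsq)
    rintro _ ⟨⟨x, hx, rfl⟩, -⟩
    rw [Subgroup.mem_centralizer_iff]
    rintro _ ⟨a, ha, rfl⟩
    show φ a * φ x = φ x * φ a
    rw [← map_mul, ← map_mul]
    exact congrArg φ (congrArg Subtype.val (hAc.is_comm.comm ⟨a, ha⟩ ⟨x, hEA hx⟩))
  refine of_le_centralizer hG hD ?_ (not_rankLE_one le_rfl (PGroups.elemAb_map _ hU) h0c.ge)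
  exact (Subgroup.le_centralizer_iff.1 inf_le_right)

/-- BG 9.3. -/
theorem of_abelian_rank_three (hG : Cfsg.IsMinSimpleOddOrder G) {p : ℕ} [hp : Fact p.Prime]
    {A B : Subgroup G} (hAp : IsPGroup p A) (hAc : IsMulCommutative A)
    (hA3 : ¬ Cfsg.PRankLE p 2 A) (hAU : Cfsg.InUniqueMaximal A) (hBp : IsPGroup p B)
    (hBnc : ¬ IsCyclic B) (hB3 : ¬ Cfsg.PRankLE p 2 ↥(Subgroup.centralizer (B : Set G))) :
    Cfsg.InUniqueMaximal B := by
  obtain ⟨E, hEC, hE, hEc⟩ := Rank.exists_elemAb_of_not_prankLE hB3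
  have hEp : IsPGroup p E := fun x => ⟨1, Subtype.ext (by simpa using hE.2 x x.2)⟩
  have hBE : IsPGroup p (B ⊔ E : Subgroup G) := hBp.to_sup_of_normal_right' hEp
    (fun b hb => Subgroup.centralizer_le_normalizer _ (Subgroup.le_centralizer_iff.1 hEC hb))
  obtain ⟨Q, hQ⟩ := hBE.exists_le_sylow
  obtain ⟨E₀, h0Q, hQn, h0, h0c, h0U⟩ := exists_normal_sq hG hAp hAc hA3 hAU Q
  have hsq := sq_le_card_inf_centralizer Q.2 h0Q hQn h0 h0c (le_sup_right.trans hQ) hE hEc
  have hD : Cfsg.InUniqueMaximal (E ⊓ Subgroup.centralizer (E₀ : Set G)) :=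
    of_le_centralizer hG h0U inf_le_right
      (not_rankLE_one le_rfl (PGroups.elemAb_mono hE inf_le_left) hsq)
  have hp2 : p ≠ 2 := ne_two_of_dvd hG ((Rank.elemAb_prime_dvd hE
    (lt_of_le_of_lt (Nat.one_le_pow _ _ hp.out.pos) hEc)).trans E.card_subgroup_dvd_card)
  refine of_le_centralizer hG hD ?_ (not_rankLE_one_of_not_isCyclic hp2 hBp hBnc)
  exact (Subgroup.le_centralizer_iff.1 hEC).trans (Subgroup.centralizer_le inf_le_left)

end Cfsg.Agent.Lib.OddOrder.UniqueRank
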