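import Cfsg.Agent.Lib.PGroups.ElemAb
import Mathlib.GroupTheory.GroupAction.CardCommute
import Mathlib.GroupTheory.Sylow
import Mathlib.FieldTheory.Finite.Basic

/-!
# A `p`-group of automorphisms of an elementary abelian group of order `p²` has order at most `p`
-/

set_option autoImplicit false

namespace Cfsg.Agent.Lib.OddOrder.AutSq

universe u

theorem card_le {G : Type u} [Group G] [Finite G] {p : ℕ} [hp : Fact p.Prime] {B : Subgroup G}
    (hB : Cfsg.IsElementaryAbelian p B) (hc : Nat.card B = p ^ 2) {S : Subgroup (MulAut B)}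
    (hS : IsPGroup p S) : Nat.card S ≤ p := by
  haveI : Finite (MulAut B) := Finite.of_injective (fun e : MulAut B => (e : B → B))
    DFunLike.coe_injective
  haveI := hB.1
  letI : CommGroup B := { mul_comm := fun x y => mul_comm' x y }
  -- a nontrivial fixed point
  haveI : Fintype B := Fintype.ofFinite B
  obtain ⟨e, he, he1⟩ : ∃ e : B, e ∈ MulAction.fixedPoints S B ∧ e ≠ 1 := by
    have h := hS.exists_fixed_point_of_prime_dvd_card_of_fixed_point B
      (by rw [hc]; exact dvd_pow_self p two_ne_zero) (a := (1 : B))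
      (fun s => map_one (s : MulAut B))
    obtain ⟨b, hb, hb1⟩ := h
    exact ⟨b, hb, fun h => hb1 h.symm⟩
  have hord : orderOf e = p := orderOf_eq_prime (Subtype.ext (by simpa using hB.2 e e.2)) he1
  set Z := Subgroup.zpowers e with hZ
  have hZc : Nat.card Z = p := by rw [hZ, Nat.card_zpowers, hord]
  have hZfix : ∀ s : S, ∀ z ∈ Z, (s : MulAut B) z = z := by
    intro s z hz
    obtain ⟨k, rfl⟩ := Subgroup.mem_zpowers_iff.1 hz
    rw [map_zpow]
    exact congrArg (· ^ k) (he s)
  -- `S` fixes some element outside `Z` modulo `Z`, hence acts trivially on `B / Z`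
  have hQ : Nat.card (B ⧸ Z) = p := by
    have := Subgroup.card_eq_card_quotient_mul_card_subgroup Z
    rw [hc, hZc, pow_two] at this
    exact (Nat.eq_of_mul_eq_mul_right hp.out.pos this).symm
  obtain ⟨f, hf⟩ : ∃ f : B, f ∉ Z := by
    by_contra hcon
    push Not at hcon
    have : Z = ⊤ := (Subgroup.eq_top_iff' Z).2 hcon
    rw [this, Subgroup.card_top, hc] at hZc
    exact absurd hZc (ne_of_gt (lt_self_pow₀ hp.out.one_lt (by norm_num)))
  have hgen : ∀ b : B, ∃ k : ℤ, ∃ z ∈ Z, b = f ^ k * z := by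
    intro b
    have hne : (QuotientGroup.mk f : B ⧸ Z) ≠ 1 := fun h => hf ((QuotientGroup.eq_one_iff f).1 h)
    obtain ⟨k, hk⟩ := Subgroup.mem_zpowers_iff.1
      (mem_zpowers_of_prime_card hQ hne (g' := (QuotientGroup.mk b : B ⧸ Z)))
    exact ⟨k, (f ^ k)⁻¹ * b, QuotientGroup.eq.1 (by rw [← hk, QuotientGroup.mk_zpow]),
      (mul_inv_cancel_left _ _).symm⟩
  have hfix : ∀ s : S, (s : MulAut B) f * f⁻¹ ∈ Z := by
    intro s
    obtain ⟨n, hn⟩ := IsPGroup.iff_orderOf.1 hS s
    obtain ⟨k, z, hz, hk⟩ := hgen ((s : MulAut B) f)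
    have hpow : ∀ m : ℕ, ∃ z ∈ Z, ((s : MulAut B) ^ m) f = f ^ (k ^ m) * z := by
      intro m
      induction m with
      | zero => exact ⟨1, one_mem _, by simp⟩
      | succ m ih =>
        obtain ⟨w, hw, e'⟩ := ih
        refine ⟨z ^ (k ^ m) * w, mul_mem (zpow_mem hz _) hw, ?_⟩
        rw [pow_succ', MulAut.mul_apply, e', map_mul, map_zpow, hk, hZfix s w hw, mul_zpow,
          ← zpow_mul, mul_assoc, pow_succ' k m]
    obtain ⟨w, hw, e'⟩ := hpow (p ^ n)
    rw [← SubmonoidClass.coe_pow, show s ^ p ^ n = 1 by rw [← hn, pow_orderOf_eq_one]] at e'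
    replace e' : f = f ^ (k ^ p ^ n) * w := e'
    have hfo : f ^ (k ^ p ^ n - 1) ∈ Z := by
      rw [zpow_sub_one]
      have : f ^ (k ^ p ^ n) = f * w⁻¹ := by
        rw [eq_mul_inv_iff_mul_eq]; exact e'.symm
      rw [this, mul_comm f, mul_assoc, mul_inv_cancel, mul_one]
      exact inv_mem hw
    have hdvd : ∀ j : ℤ, f ^ j ∈ Z ↔ (p : ℤ) ∣ j := by
      intro j
      rw [← QuotientGroup.eq_one_iff, QuotientGroup.mk_zpow, ← orderOf_dvd_iff_zpow_eq_one]
      rw [orderOf_eq_prime (p := p) (by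
        rw [← hQ]; exact pow_card_eq_one') (fun h => hf ((QuotientGroup.eq_one_iff f).1 h))]
    have h1 : (p : ℤ) ∣ k ^ p ^ n - 1 := (hdvd _).1 hfo
    have h2 : (p : ℤ) ∣ k - 1 := by
      rw [← ZMod.intCast_zmod_eq_zero_iff_dvd] at h1 ⊢
      push_cast at h1 ⊢
      have hf : ∀ (x : ZMod p) (n : ℕ), x ^ p ^ n = x := by
        intro x n
        induction n with
        | zero => rw [pow_zero, pow_one]
        | succ n ih => rw [pow_succ, pow_mul, ih, ZMod.pow_card]
      rwa [hf] at h1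
    rw [hk, mul_comm (f ^ k), mul_assoc, ← zpow_sub_one]
    exact mul_mem hz ((hdvd _).2 h2)
  calc Nat.card S ≤ Nat.card Z := by
        refine Nat.card_le_card_of_injective (fun s : S => (⟨_, hfix s⟩ : Z)) ?_
        intro s t h
        have h' : (s : MulAut B) f = (t : MulAut B) f :=
          mul_right_cancel (congrArg Subtype.val h : (s : MulAut B) f * f⁻¹ = (t : MulAut B) f * f⁻¹)
        apply Subtype.ext
        apply MulEquiv.ext
        intro b
        obtain ⟨k, z, hz, rfl⟩ := hgen b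
        rw [map_mul, map_mul, map_zpow, map_zpow, h', hZfix s z hz, hZfix t z hz]
    _ = p := hZc

end Cfsg.Agent.Lib.OddOrder.AutSq
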