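import Cfsg.Agent.Lib.OddOrder.Constrained
import Cfsg.Agent.Lib.OddOrder.Rank
import Cfsg.Agent.Lib.OddLocal.CoprimeFix
import Cfsg.Agent.Lib.Coprime.Generation
import Cfsg.Agent.Lib.PGroups.Omega
import Cfsg.Agent.Lib.OddOrder.AutSq
import Cfsg.Agent.Lib.LAEven57.Basic

/-!
# BG 7.5: which abelian p-subgroups satisfy the transitivity hypothesis
-/

set_option autoImplicit false
set_option linter.style.haveILetI false

open scoped Pointwise commutatorElement

namespace Cfsg.Agent.Lib.OddOrder.NormedConstrained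

open Cfsg.Agent.Lib.OddOrder.Basic Cfsg.Agent.Lib.OddOrder.MinSimple

universe u

/-- p-length one: some normal p'-subgroup below a normal subgroup with a p-group quotient and
index prime to p. -/
theorem exists_of_pLength_one {H : Type u} [Group H] [Finite H] {p : ℕ} [hp : Fact p.Prime]
    (h : Cfsg.PLengthLE p 1 H) :
    ∃ (U : Subgroup H) (_ : U.Normal), (Nat.card U).Coprime p ∧ Cfsg.pPrimeCore p (H ⧸ U) = ⊥ ∧
      ∀ R : Sylow p H, (R : Subgroup H).map (QuotientGroup.mk' U) ≤ Cfsg.pCore p (H ⧸ U) := by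
  set U₁ := (Cfsg.upperPSeries p H (2 * 0 + 1)).1 with hU₁
  refine ⟨U₁, (Cfsg.upperPSeries p H (2 * 0 + 1)).2, ?_,
    PSolvable.pPrimeCore_quotient_upperPSeries 0, fun R => ?_⟩
  · have h1 : U₁ = _ := PSolvable.upperPSeries_odd (p := p) (G := H) 0
    have h2 := Subgroup.relIndex_ker (K := U₁)
      (QuotientGroup.mk' (Cfsg.upperPSeries p H (2 * 0)).1)
    rw [QuotientGroup.ker_mk'] at h2
    have h0 : (Cfsg.upperPSeries p H (2 * 0)).1 = ⊥ := rfl
    rw [h1, Subgroup.map_comap_eq_self_of_surjective (QuotientGroup.mk'_surjective _)] at h2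
    rw [← Subgroup.relIndex_bot_left, h1]
    conv_lhs => arg 1; rw [← h0]
    rw [h2]
    exact Cores.pPrimeCore_coprime p
  · set U₂ := (Cfsg.upperPSeries p H (2 * 0 + 2)).1 with hU₂
    have h3 : (Cfsg.upperPSeries p H (2 * 1 + 1)).1 = ⊤ := h
    rw [PSolvable.upperPSeries_odd 1] at h3
    have hidx : Nat.card (H ⧸ U₂) = Nat.card (Cfsg.pPrimeCore p (H ⧸ U₂)) := by
      have h4 := congrArg (Subgroup.map (QuotientGroup.mk' U₂)) h3
      rw [Subgroup.map_comap_eq_self_of_surjective (QuotientGroup.mk'_surjective _),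
        Subgroup.map_top_of_surjective _ (QuotientGroup.mk'_surjective _)] at h4
      rw [h4, Subgroup.card_top]
    have hR : (R : Subgroup H) ≤ U₂ := by
      intro r hr
      rw [← QuotientGroup.eq_one_iff]
      obtain ⟨k, hk⟩ := IsPGroup.iff_card.1 R.isPGroup'
      apply orderOf_eq_one_iff.1
      refine Nat.eq_one_of_dvd_coprimes ((Cores.pPrimeCore_coprime (G := H ⧸ U₂) p).pow_right k)
        (hidx ▸ orderOf_dvd_natCard _) ?_
      exact (orderOf_map_dvd (QuotientGroup.mk' U₂) r).trans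
        (hk ▸ Subgroup.orderOf_dvd_natCard _ hr)
    refine (Subgroup.map_mono hR).trans ?_
    rw [hU₂, PSolvable.upperPSeries_even 0,
      Subgroup.map_comap_eq_self_of_surjective (QuotientGroup.mk'_surjective _)]

/-- Invariant p'-subgroups in a group of p-length one. -/
theorem le_pPrimeCore_of_pLength_one {H : Type u} [Group H] [Finite H] {p : ℕ} [hp : Fact p.Prime]
    (hp2 : p ≠ 2) (h : Cfsg.PLengthLE p 1 H) {A Y : Subgroup H} (hAp : IsPGroup p A)
    (hC : ∀ x ∈ Subgroup.centralizer (A : Set H), x ^ p = 1 → x ∈ A)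
    (hY : (Nat.card Y).Coprime p) (hAY : A ≤ Subgroup.normalizer (Y : Set H)) :
    Y ≤ Cfsg.pPrimeCore p H := by
  obtain ⟨U, hUn, hU, hQ, hR⟩ := exists_of_pLength_one h
  obtain ⟨R, hAR⟩ := hAp.exists_le_sylow
  set f := QuotientGroup.mk' U with hf
  set T := Cfsg.pCore p (H ⧸ U) with hT
  have hTp : IsPGroup p T := Cores.pCore_isPGroup p
  have hTn : Subgroup.normalizer (T : Set (H ⧸ U)) = ⊤ :=
    Subgroup.normalizer_eq_top_iff.2 (Cfsg.pCore_normal p _)
  have hYc : (Nat.card (Y.map f)).Coprime p := hY.coprime_dvd_left (Subgroup.card_map_dvd _ _)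
  have hAT : A.map f ≤ T := (Subgroup.map_mono hAR).trans (hR R)
  have hYA : ∀ y ∈ Y.map f, ∀ a ∈ A.map f, y * a = a * y := fun y hy a ha =>
    Constrained.commute_of_mutual hYc hTp hy (hAT ha) (hTn ▸ Subgroup.mem_top y)
      (Constrained.normalizer_map_le f hAY ha)
  have hle : Y.map f ≤ ⊥ := by
    intro y hy
    have hord : (orderOf y).Coprime p := hYc.coprime_dvd_left (Subgroup.orderOf_dvd_natCard _ hy)
    set C := T ⊓ Subgroup.centralizer (A.map f : Set (H ⧸ U)) with hCdef
    have hyC : y ∈ Subgroup.normalizer (C : Set (H ⧸ U)) := by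
      have hle : Y.map f ≤ Subgroup.centralizer (A.map f : Set (H ⧸ U)) := fun z hz =>
        Subgroup.mem_centralizer_iff.2 fun a ha => (hYA z hz a ha).symm
      exact Coprime.le_normalizer_inf (hTn ▸ le_top) (hle.trans Subgroup.le_normalizer) hy
    have hfixC : ∀ u ∈ C, y * u = u * y := by
      refine OddLocal.CoprimeFix.centralizes_of_omega hp2 hord (hTp.to_le inf_le_left) hyC ?_
      intro u hu huo
      -- lift `u` into the centralizer of `A`
      obtain ⟨x, rfl⟩ := QuotientGroup.mk'_surjective U u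
      have hxT : x ∈ T.comap f := hu.1
      obtain ⟨r, hr, he⟩ : f x ∈ (R : Subgroup H).map f := by
        have hTR : T ≤ (R : Subgroup H).map f := by
          have := Cores.pCore_le_sylow (R.mapSurjective (QuotientGroup.mk'_surjective U))
          rwa [Sylow.coe_mapSurjective] at this
        exact hTR hu.1
      have hdis : ∀ s ∈ (R : Subgroup H), f s = 1 → s = 1 := by
        intro s hs hfs
        obtain ⟨n, hn⟩ := IsPGroup.iff_card.1 R.isPGroup'
        exact orderOf_eq_one_iff.1 (Nat.eq_one_of_dvd_coprimes (hU.pow_right n)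
          (Subgroup.orderOf_dvd_natCard _ ((QuotientGroup.eq_one_iff s).1 hfs))
          (hn ▸ Subgroup.orderOf_dvd_natCard _ hs))
      have hrA : r ∈ Subgroup.centralizer (A : Set H) := by
        rw [Subgroup.mem_centralizer_iff]
        intro a ha
        have h2 := Subgroup.mem_centralizer_iff.1 hu.2 (f a) ⟨a, ha, rfl⟩
        rw [← he, ← map_mul, ← map_mul] at h2
        exact mul_inv_eq_one.1 (hdis _ ((R : Subgroup H).mul_mem
          ((R : Subgroup H).mul_mem (hAR ha) hr)
          ((R : Subgroup H).inv_mem ((R : Subgroup H).mul_mem hr (hAR ha))))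
          (by rw [map_mul, map_inv, h2, mul_inv_cancel]))
      have hrp : r ^ p = 1 := hdis _ ((R : Subgroup H).pow_mem hr p)
        (by rw [map_pow, he, ← huo, pow_orderOf_eq_one])
      rw [← he]
      exact hYA y hy (f r) ⟨r, hC r hrA hrp, rfl⟩
    have hcomm : ∀ u ∈ T, Commute y u := CharP.commute_of_axb (hAp.map f) hord
      (fun b hb => hYA y hy b hb) hTp (hTn ▸ le_top) (hTn ▸ Subgroup.mem_top y)
      fun u hu huA => hfixC u ⟨hu, Subgroup.mem_centralizer_iff.2 fun b hb => ((huA b hb).symm).eq⟩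
    have hsol : Cfsg.IsPSolvable p (H ⧸ U) := PSolvable.isPSolvable_of_surjective f
      (QuotientGroup.mk'_surjective U) (PSolvable.isPSolvable_of_pLengthLE h)
    have hyT : y ∈ T := PSolvable.centralizer_pCore_le hsol hQ
      (Subgroup.mem_centralizer_iff.2 fun u hu => (hcomm u hu).symm.eq)
    obtain ⟨n, hn⟩ := IsPGroup.iff_card.1 hTp
    exact Subgroup.mem_bot.2 (orderOf_eq_one_iff.1 (Nat.eq_one_of_dvd_coprimes
      (hord.pow_right n) dvd_rfl (hn ▸ Subgroup.orderOf_dvd_natCard _ hyT)))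
  rw [le_bot_iff, Subgroup.map_eq_bot_iff, hf, QuotientGroup.ker_mk'] at hle
  exact hle.trans (Cores.le_pPrimeCore hU)

variable {G : Type u} [Group G] [Finite G] {p : ℕ} [hp : Fact p.Prime]

/-- `O_{p'}(X)` as a subgroup of `G`. -/
abbrev pO (p : ℕ) (X : Subgroup G) : Subgroup G := (Cfsg.pPrimeCore p X).map X.subtype

omit [Finite G] in
theorem pO_eq {A : Subgroup G} [Finite A] (hA : IsPGroup p A) (hA1 : A ≠ ⊥) (X : Subgroup G)
    [Finite X] : Cfsg.piCoreOf (Cfsg.primesNotDvd (Nat.card A)) X = pO p X := by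
  haveI : Nontrivial A := (Subgroup.nontrivial_iff_ne_bot A).2 hA1
  obtain ⟨n, hn0, hn⟩ := hA.nontrivial_iff_card.1 inferInstance
  rw [Cfsg.piCoreOf, pO]
  congr 1
  rw [Cores.pPrimeCore_eq_piCore]
  refine le_antisymm (Cores.piCore_mono fun q hq => ?_) (sSup_le fun N hN => le_sSup ⟨hN.1, ?_⟩)
  · show q ≠ p
    rintro rfl
    exact hq.2 (hn ▸ dvd_pow_self q hn0.ne')
  · intro q hq hd
    refine ⟨hq, fun h => hN.2 q hq hd ?_⟩
    exact (Nat.prime_dvd_prime_iff_eq hq hp.out).1 (hq.dvd_of_dvd_pow (hn ▸ h))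

theorem le_pO_of_le {X Y : Subgroup G} (hYX : Y ≤ X)
    (h : Y.subgroupOf X ≤ Cfsg.pPrimeCore p X) : Y ≤ pO p X := by
  rw [← Subgroup.map_subgroupOf_eq_of_le hYX]
  exact Subgroup.map_mono h

theorem pO_le (X : Subgroup G) : pO p X ≤ X := Subgroup.map_subtype_le _

theorem pO_coprime (X : Subgroup G) : (Nat.card (pO p X)).Coprime p :=
  (Cores.pPrimeCore_coprime (G := X) p).coprime_dvd_left (Subgroup.card_map_dvd _ _)

theorem card_subgroupOf_eq {X Y : Subgroup G} (h : Y ≤ X) :
    Nat.card (Y.subgroupOf X) = Nat.card Y :=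
  Nat.card_congr (Subgroup.subgroupOfEquivOfLe h).toEquiv

theorem le_normalizer_subgroupOf {A B X : Subgroup G} (hAB : A ≤ Subgroup.normalizer (B : Set G)) :
    A.subgroupOf X ≤ Subgroup.normalizer ((B.subgroupOf X : Subgroup X) : Set X) := fun a ha =>
  Subgroup.mem_normalizer_iff.2 fun x => Subgroup.mem_normalizer_iff.1 (hAB ha) (x : G)

/-- The hypothesis follows once invariant p'-subgroups lie in `O_{p'}`. -/
theorem transitivityHypothesis_of (hG : Cfsg.IsMinSimpleOddOrder G) {A : Subgroup G}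
    (hAp : IsPGroup p A) (hA1 : A ≠ ⊥) (hAc : IsMulCommutative A)
    (h : ∀ X Y : Subgroup G, X ≠ ⊤ → A ≤ X → Y ≤ X → (Nat.card Y).Coprime p →
      A ≤ Subgroup.normalizer (Y : Set G) → Y ≤ pO p X) :
    Cfsg.TransitivityHypothesis A := by
  refine ⟨hA1, pgroup_ne_top hG hAp, fun X hX hAX => le_antisymm (sSup_le fun Y hY => ?_) ?_⟩
  · rw [pO_eq hAp hA1]
    refine h X Y hX hAX hY.1 ?_ hY.2.2
    refine Nat.Coprime.symm ((hp.out.coprime_iff_not_dvd).2 fun hd => ?_)
    haveI : Nontrivial A := (Subgroup.nontrivial_iff_ne_bot A).2 hA1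
    obtain ⟨n, hn0, hn⟩ := hAp.nontrivial_iff_card.1 inferInstance
    exact (hY.2.1 p hp.out hd).2 (hn ▸ dvd_pow_self p hn0.ne')
  · exact le_sSup ⟨piCoreOf_le _ X, piCoreOf_isPiGroup _ X,
      hAX.trans (piCoreOf_normal _ X)⟩

/-- BG 7.5 (a). -/
theorem of_pLength_one (hG : Cfsg.IsMinSimpleOddOrder G) (hpd : p ∣ Nat.card G) {A : Subgroup G}
    (hAp : IsPGroup p A) (hAc : IsMulCommutative A)
    (hC : ∀ x ∈ Subgroup.centralizer (A : Set G), x ^ p = 1 ↔ x ∈ A)
    (hl : ∀ H : Subgroup G, H ≠ ⊤ → Cfsg.PLengthLE p 1 H) :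
    Cfsg.TransitivityHypothesis A := by
  have hA1 : A ≠ ⊥ := by
    intro h
    obtain ⟨x, hx⟩ := exists_prime_orderOf_dvd_card' p hpd
    have hxA := (hC x (Subgroup.mem_centralizer_iff.2 fun y hy => by
      rw [h, SetLike.mem_coe, Subgroup.mem_bot] at hy
      rw [hy, one_mul, mul_one])).1 (hx ▸ pow_orderOf_eq_one x)
    rw [h, Subgroup.mem_bot] at hxA
    rw [hxA, orderOf_one] at hx
    exact hp.out.ne_one hx.symm
  refine transitivityHypothesis_of hG hAp hA1 hAc fun X Y hX hAX hYX hY hAY => le_pO_of_le hYX ?_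
  refine le_pPrimeCore_of_pLength_one (ne_two_of_dvd hG hpd) (hl X hX)
    (A := A.subgroupOf X) (hAp.comap_of_injective _ X.subtype_injective) ?_
    (by rwa [card_subgroupOf_eq hYX]) (le_normalizer_subgroupOf hAY)
  intro x hx hxp
  refine (hC x (Subgroup.mem_centralizer_iff.2 fun a ha => ?_)).1 (by
    simpa using congrArg Subtype.val hxp)
  exact congrArg Subtype.val (Subgroup.mem_centralizer_iff.1 hx ⟨a, hAX ha⟩ ha)

theorem card_le_of_pgroup {P R : Subgroup G} (P' : Sylow p G) (hP : P = P') (hR : IsPGroup p R) :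
    Nat.card R ≤ Nat.card P := by
  obtain ⟨S, hS⟩ := hR.exists_le_sylow
  rw [hP, P'.card_eq_multiplicity, ← S.card_eq_multiplicity]
  exact Subgroup.card_le_of_le hS

/-- A Sylow `p`-subgroup normalizing `A` meets `C(A)` in a Sylow subgroup of `C(A)`. -/
theorem eq_of_centralizes {A R : Subgroup G} (P : Sylow p G) (hA : Cfsg.IsSCN (P : Subgroup G) A)
    (hAR : A ≤ R) (hR : IsPGroup p R) : R ⊓ Subgroup.centralizer (A : Set G) = A := by
  set D := R ⊓ Subgroup.centralizer (A : Set G) with hD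
  have hAc : A ≤ D := le_inf hAR (fun a ha => ((hA.2.2.symm ▸ ha :
    a ∈ (P : Subgroup G) ⊓ Subgroup.centralizer (A : Set G))).2)
  set N := Subgroup.normalizer (A : Set G) with hN
  have hDN : D ≤ N := by
    intro d hd
    refine Subgroup.mem_normalizer_fintype fun a ha => ?_
    rw [← Subgroup.mem_centralizer_iff.1 hd.2 a ha, mul_inv_cancel_right]
    exact ha
  obtain ⟨S, hS⟩ := (hR.to_le (inf_le_left : D ≤ R)).comap_of_injective N.subtype
    N.subtype_injective |>.exists_le_sylow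
  obtain ⟨n, hn⟩ := MulAction.exists_smul_eq N S (P.subtype hA.2.1)
  have hsub : MulAut.conj (n : G) • D ≤ A := by
    rintro _ ⟨d, hd, rfl⟩
    rw [← hA.2.2]
    refine ⟨?_, ?_⟩
    · have h1 : MulAut.conj n • (⟨d, hDN hd⟩ : N) ∈ ((P.subtype hA.2.1 : Sylow p N) : Subgroup N) :=
        hn ▸ Subgroup.smul_mem_pointwise_smul _ _ _ (hS hd)
      exact h1
    · refine Subgroup.mem_centralizer_iff.2 fun a ha => ?_
      have h1 : (n : G)⁻¹ * a * n ∈ A := (Subgroup.mem_normalizer_iff''.1 n.2 a).1 ha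
      have h2 := Subgroup.mem_centralizer_iff.1 hd.2 _ h1
      show a * ((n : G) * d * (n : G)⁻¹) = (n : G) * d * (n : G)⁻¹ * a
      calc a * ((n : G) * d * (n : G)⁻¹) = n * (((n : G)⁻¹ * a * n) * d) * (n : G)⁻¹ := by group
        _ = n * (d * ((n : G)⁻¹ * a * n)) * (n : G)⁻¹ := by rw [h2]
        _ = (n : G) * d * (n : G)⁻¹ * a := by group
  refine (Subgroup.eq_of_le_of_card_ge hAc ?_).symm
  have := Subgroup.card_le_of_le hsub
  rwa [Coprime.card_conj_smul] at this

/-- BG 7.5 (b). -/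
theorem of_scn (hG : Cfsg.IsMinSimpleOddOrder G) {A : Subgroup G} (hAc : IsMulCommutative A)
    (P : Sylow p G) (hA : Cfsg.IsSCN (P : Subgroup G) A) (hr : ¬ Cfsg.PRankLE p 1 A) :
    Cfsg.TransitivityHypothesis A := by
  obtain ⟨E, hEA, hE, hEc⟩ := Rank.exists_elemAb_of_not_prankLE hr
  have hAP := hA.1
  have hPA := hA.2.1
  have hAp : IsPGroup p A := P.isPGroup'.to_le hAP
  -- a normal subgroup `B` of `P` of order `p ^ 2` inside `Ω₁(A)`
  set W := Cfsg.omegaOne p A with hW
  have hPW : (P : Subgroup G) ≤ Subgroup.normalizer (W : Set G) := by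
    rw [← Coprime.smul_eq_iff_le_normalizer]
    intro x hx
    rw [hW, Coprime.conj_smul_eq_map, PGroups.map_omegaOne_of_injective _ (MulAut.conj x).injective,
      ← Coprime.conj_smul_eq_map, Coprime.conj_smul_eq_self_of_mem_normalizer (hPA hx)]
  have hWA : W ≤ A := PGroups.omegaOne_le p A
  haveI : (W.subgroupOf (P : Subgroup G)).Normal :=
    (Subgroup.normal_subgroupOf_iff_le_normalizer (hWA.trans hAP)).2 hPW
  obtain ⟨B₀, hB₀n, hB₀W, hB₀c⟩ := PGroups.exists_normal_le_card P.isPGroup'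
    (k := 2) (W.subgroupOf (P : Subgroup G)) (by
      rw [card_subgroupOf_eq (hWA.trans hAP), pow_two]
      refine le_trans ?_ (Subgroup.card_le_of_le
        (fun e he => PGroups.mem_omegaOne_of_pow (hEA he) (PGroups.elemAb_pow hE he)))
      obtain ⟨n, hn⟩ := PGroups.elemAb_card_eq_pow hE
      rw [hn] at hEc ⊢
      rw [pow_one] at hEc
      rw [← pow_two]
      refine Nat.pow_le_pow_right hp.out.pos ?_
      by_contra hlt
      have : n ≤ 1 := by omega
      exact absurd (Nat.pow_le_pow_right hp.out.pos this) (by rw [pow_one]; exact not_le.2 hEc))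
  set B := B₀.map (P : Subgroup G).subtype with hB
  have hBW : B ≤ W := (Subgroup.map_mono hB₀W).trans
    (Subgroup.map_subgroupOf_eq_of_le (hWA.trans hAP)).le
  have hBA : B ≤ A := hBW.trans hWA
  have hBc : Nat.card B = p ^ 2 := by
    rw [hB, Subgroup.card_map_of_injective (P : Subgroup G).subtype_injective, hB₀c]
  have hBe : Cfsg.IsElementaryAbelian p B := PGroups.elemAb_mono (PGroups.elemAb_omegaOne hAc) hBW
  have hPB : (P : Subgroup G) ≤ Subgroup.normalizer (B : Set G) :=
    Basic.le_normalizer_map_subtype _ B₀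
  have hA1 : A ≠ ⊥ := by
    intro h
    rw [h] at hEA
    rw [le_bot_iff.1 hEA, Subgroup.card_bot, pow_one] at hEc
    exact absurd hEc (not_lt.2 hp.out.one_lt.le)
  refine transitivityHypothesis_of hG hAp hA1 hAc fun X Y hX hAX hYX hY hAY => ?_
  haveI := hBe.1
  have hcop : (Nat.card B).Coprime (Nat.card Y) := by rw [hBc]; exact (hY.symm).pow_left 2
  rw [← Coprime.iSup_centralizer_eq (Rank.elemAb_not_isCyclic hBe (by
    rw [hBc, pow_two]; exact lt_mul_self hp.out.one_lt)) (hBA.trans hAY) hcop]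
  refine iSup₂_le fun b hb => ?_
  obtain ⟨hbB, hb1⟩ := hb
  set Yb := Y ⊓ Subgroup.centralizer ({b} : Set G) with hYb
  set H := Subgroup.centralizer ({b} : Set G) with hH
  have hHt : H ≠ ⊤ := centralizer_singleton_ne_top hG hb1
  have hAH : A ≤ H := fun a ha => Subgroup.mem_centralizer_singleton_iff.2
    (congrArg Subtype.val (mul_comm' (⟨a, ha⟩ : A) ⟨b, hBA hbB⟩))
  -- `Q = C_P(b)` has index at most `p` in `P`
  set Q := (P : Subgroup G) ⊓ H with hQ
  have hQidx : Nat.card (P : Subgroup G) ≤ Nat.card Q * p := by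
    set C := (P : Subgroup G) ⊓ Subgroup.centralizer (B : Set G) with hC
    let φ : (P : Subgroup G) →* MulAut B :=
      (B.normalizerMonoidHom).comp (Subgroup.inclusion hPB)
    have hker : φ.ker.map (P : Subgroup G).subtype ≤ Q := by
      rintro _ ⟨x, hx, rfl⟩
      refine ⟨x.2, Subgroup.mem_centralizer_singleton_iff.2 ?_⟩
      have h1 : φ x ⟨b, hbB⟩ = ⟨b, hbB⟩ := by rw [MonoidHom.mem_ker.1 hx]; rfl
      have h2 : (x : G) * b * (x : G)⁻¹ = b := congrArg Subtype.val h1
      calc (x : G) * b = (x : G) * b * (x : G)⁻¹ * x := by group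
        _ = b * x := by rw [h2]
    have hrange : Nat.card φ.range ≤ p := by
      -- a `p`-subgroup of `Aut B`, `B` elementary of order `p ^ 2`
      have hp' : IsPGroup p φ.range := P.isPGroup'.of_surjective φ.rangeRestrict
        φ.rangeRestrict_surjective
      exact AutSq.card_le hBe hBc hp'
    calc Nat.card (P : Subgroup G) = φ.ker.index * Nat.card φ.ker := (φ.ker.index_mul_card).symm
      _ = Nat.card φ.range * Nat.card (φ.ker.map (P : Subgroup G).subtype) := by
        rw [Subgroup.index_ker, Subgroup.card_map_of_injective (P : Subgroup G).subtype_injective]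
      _ ≤ p * Nat.card Q := Nat.mul_le_mul hrange (Subgroup.card_le_of_le hker)
      _ = _ := mul_comm _ _
  have hQp : IsPGroup p Q := P.isPGroup'.to_le inf_le_left
  obtain ⟨R, hR⟩ := (hQp.comap_of_injective H.subtype H.subtype_injective).exists_le_sylow
  set R' := (R : Subgroup H).map H.subtype with hR'
  have hR'p : IsPGroup p R' := R.isPGroup'.map _
  have hQR : Q ≤ R' := fun q hq => ⟨⟨q, hq.2⟩, hR hq, rfl⟩
  have hR'Q : R' ≤ Subgroup.normalizer (Q : Set G) := by
    by_cases hEq : R' = Q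
    · rw [hEq]; exact Subgroup.le_normalizer
    have hlt : Q < R' ⊓ Subgroup.normalizer (Q : Set G) := lt_of_le_of_ne
      (le_inf hQR Subgroup.le_normalizer) fun h => hEq (LAEven57.eq_of_normalizer_le hR'p hQR
        fun y hy hyn => h ▸ Subgroup.mem_inf.2 ⟨hy, hyn⟩).symm
    have hcard : Nat.card R' ≤ Nat.card ↥(R' ⊓ Subgroup.normalizer (Q : Set G)) := by
      refine (card_le_of_pgroup P rfl hR'p).trans (hQidx.trans ?_)
      obtain ⟨i, hi⟩ := IsPGroup.iff_card.1 hQp
      obtain ⟨j, hj⟩ := IsPGroup.iff_card.1 (hR'p.to_le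
        (inf_le_left : R' ⊓ Subgroup.normalizer (Q : Set G) ≤ R'))
      have hltc : Nat.card Q < Nat.card ↥(R' ⊓ Subgroup.normalizer (Q : Set G)) := by
        by_contra hge
        exact hlt.ne (Subgroup.eq_of_le_of_card_ge hlt.le (not_lt.1 hge))
      rw [hi, hj] at hltc ⊢
      rw [← pow_succ]
      exact Nat.pow_le_pow_right hp.out.pos ((Nat.pow_lt_pow_iff_right hp.out.one_lt).1 hltc)
    rw [← Subgroup.eq_of_le_of_card_ge inf_le_left hcard]
    exact inf_le_right
  haveI := solvable_of_ne_top hG hHt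
  have h1 : Yb ≤ pO p H := le_pO_of_le inf_le_right (Constrained.le_pPrimeCore_of_setup
    (odd_card hG H) PSolvable.isPSolvable_of_isSolvable R
    (A := A.subgroupOf H) (Q := Q.subgroupOf H)
    (fun a ha => ⟨hAP ha, a.2⟩) hR
    (fun r hr => le_normalizer_subgroupOf hR'Q (show (r : G) ∈ R' from ⟨r, hr, rfl⟩))
    (le_normalizer_subgroupOf (inf_le_left.trans hPA)) (by
      rintro r ⟨hr1, hr2⟩
      have : (r : G) ∈ R' ⊓ Subgroup.centralizer (A : Set G) := ⟨⟨r, hr1, rfl⟩,
        Subgroup.mem_centralizer_iff.2 fun a ha =>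
          congrArg Subtype.val (Subgroup.mem_centralizer_iff.1 hr2 ⟨a, hAH ha⟩ ha)⟩
      rwa [eq_of_centralizes P hA (fun a ha => hQR ⟨hAP ha, hAH ha⟩) hR'p] at this)
    (by rw [card_subgroupOf_eq inf_le_right]; exact hY.coprime_dvd_left (Subgroup.card_dvd_of_le inf_le_left))
    (le_normalizer_subgroupOf (Coprime.le_normalizer_inf hAY (hAH.trans Subgroup.le_normalizer))))
  -- descend to `C_X(b)` and apply BG 1.15 in `X`
  set L := X ⊓ pO p H with hL
  haveI := solvable_of_ne_top hG hX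
  have hbX : b ∈ X := hAX (hBA hbB)
  have hLX : L.subgroupOf X ≤ Cfsg.pPrimeCore p X := by
    refine Constrained.le_pPrimeCore_of_centralizes PSolvable.isPSolvable_of_isSolvable
      (B := Subgroup.zpowers (⟨b, hbX⟩ : X))
      (IsPGroup.of_card (n := 1) (by
        rw [Nat.card_zpowers, Subgroup.orderOf_mk, pow_one]
        exact PGroups.elemAb_orderOf hBe hbB hb1)) ?_ ?_ ?_
    · rw [card_subgroupOf_eq inf_le_left]
      exact (pO_coprime H).coprime_dvd_left (Subgroup.card_dvd_of_le inf_le_right)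
    · intro l hl
      rw [Subgroup.mem_centralizer_iff]
      intro z hz
      obtain ⟨k, rfl⟩ := Subgroup.mem_zpowers_iff.1 hz
      have : Commute (⟨b, hbX⟩ : X) l := Subtype.ext
        (Subgroup.mem_centralizer_singleton_iff.1 (pO_le H hl.2)).symm
      exact this.zpow_left k
    · intro c hc
      have hcH : (c : G) ∈ H := Subgroup.mem_centralizer_singleton_iff.2
        (congrArg Subtype.val (Subgroup.mem_centralizer_iff.1 hc _ (Subgroup.mem_zpowers _))).symm
      have hcL : (c : G) ∈ Subgroup.normalizer (L : Set G) :=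
        Coprime.le_normalizer_inf (A := X ⊓ H) (inf_le_left.trans Subgroup.le_normalizer)
          (inf_le_right.trans (Basic.le_normalizer_map_subtype H _)) ⟨c.2, hcH⟩
      exact Subgroup.mem_normalizer_iff.2 fun x => Subgroup.mem_normalizer_iff.1 hcL (x : G)
  exact (le_inf (inf_le_left.trans hYX) h1).trans (le_pO_of_le inf_le_left hLX)

end Cfsg.Agent.Lib.OddOrder.NormedConstrained
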