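import Cfsg.Agent.Lib.OddOrder.Fitting
import Cfsg.Agent.Lib.OddOrder.Constrained
import Cfsg.Agent.Lib.OddOrder.NormedConstrained
import Cfsg.Agent.Lib.Coprime.Glauberman

/-!
# The Bender method: invariant subgroups for a subgroup of `F(H)`, `H` a maximal local subgroup
-/

set_option autoImplicit false
set_option linter.style.haveILetI false

open scoped Pointwise commutatorElement

namespace Cfsg.Agent.Lib.OddOrder.BenderLocal

open Cfsg.Agent.Lib.OddOrder.Fitting Cfsg.Agent.Lib.OddOrder.NormedConstrained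

universe u

theorem pPrimePCore_characteristic {K : Type u} [Group K] [Finite K] (p : ℕ) :
    (Cfsg.pPrimePCore p K).Characteristic := by
  rw [Subgroup.characteristic_iff_le_comap]
  intro φ x hx
  let ψ : K ⧸ Cfsg.pPrimeCore p K ≃* K ⧸ Cfsg.pPrimeCore p K :=
    QuotientGroup.congr _ _ φ (Cores.map_pPrimeCore_equiv φ)
  show QuotientGroup.mk' _ (φ x) ∈ Cfsg.pCore p (K ⧸ Cfsg.pPrimeCore p K)
  rw [show QuotientGroup.mk' _ (φ x) = ψ (QuotientGroup.mk' _ x) from rfl,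
    ← Cores.map_pCore_equiv ψ]
  exact Subgroup.mem_map_of_mem ψ.toMonoidHom hx

variable {G : Type u} [Group G] [Finite G]

/-- `O_{p',p}(R)` inside `G`. -/
abbrev pOp (p : ℕ) (R : Subgroup G) : Subgroup G := (Cfsg.pPrimePCore p R).map R.subtype

theorem normalizer_le_normalizer_pOp (p : ℕ) (R : Subgroup G) :
    Subgroup.normalizer (R : Set G) ≤ Subgroup.normalizer (pOp p R : Set G) := by
  haveI := pPrimePCore_characteristic (K := R) p
  exact CharP.normalizer_le_normalizer_map_char _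

theorem normalizer_le_normalizer_pO (p : ℕ) (R : Subgroup G) :
    Subgroup.normalizer (R : Set G) ≤ Subgroup.normalizer (pO p R : Set G) :=
  CharP.normalizer_le_normalizer_map_char _

theorem pow_mem_pO_of_mem_pOp {p : ℕ} [Fact p.Prime] {R : Subgroup G} {x : G}
    (hx : x ∈ pOp p R) : ∃ a : ℕ, x ^ p ^ a ∈ pO p R := by
  obtain ⟨y, hy, rfl⟩ := hx
  obtain ⟨a, ha⟩ := isPGroup_iff_pow_pow_eq_one.1
    (Cores.pCore_isPGroup (G := R ⧸ Cfsg.pPrimeCore p R) p) ⟨QuotientGroup.mk' _ y, hy⟩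
  refine ⟨a, y ^ p ^ a, ?_, by rw [map_pow]⟩
  have h := congrArg Subtype.val ha
  rw [SubgroupClass.coe_pow, OneMemClass.coe_one, ← map_pow] at h
  exact (QuotientGroup.eq_one_iff _).1 h

theorem mem_pO_of_coprime {p : ℕ} [Fact p.Prime] {R : Subgroup G} {x : G}
    (hx : x ∈ pOp p R) (hc : (orderOf x).Coprime p) : x ∈ pO p R := by
  obtain ⟨a, ha⟩ := pow_mem_pO_of_mem_pOp hx
  obtain ⟨m, hm⟩ := exists_pow_eq_self_of_coprime (hc.symm.pow_left a)
  rw [← hm]
  exact pow_mem ha m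

section Local

variable {H M R : Subgroup G}

theorem centralizer_part_le (hH : ∀ (p : ℕ) [Fact p.Prime], p ∣ Nat.card (Cfsg.fittingOf H) →
      Subgroup.normalizer (zPart p H : Set G) = H)
    (hZM : Cfsg.fittingOf H ⊓ Subgroup.centralizer (Cfsg.fittingOf H : Set G) ≤ M)
    {p : ℕ} [Fact p.Prime] (hp : p ∣ Nat.card (Cfsg.fittingOf H)) :
    Subgroup.centralizer ((M ⊓ Cfsg.pCoreOf p H : Subgroup G) : Set G) ≤ H :=
  (Subgroup.centralizer_le (le_inf ((zPart_le_center H).trans hZM) inf_le_left)).trans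
    ((Subgroup.centralizer_le_normalizer (zPart p H : Set G)).trans (hH p hp).le)

theorem inf_le_fittingOf [Group.IsSolvable R]
    (hXR : H ⊓ Subgroup.centralizer (Cfsg.fittingOf H : Set G) ≤ Subgroup.normalizer (R : Set G)) :
    H ⊓ Subgroup.centralizer (Cfsg.fittingOf H : Set G) ⊓ R ≤ Cfsg.fittingOf H := by
  set X := H ⊓ Subgroup.centralizer (Cfsg.fittingOf H : Set G) with hX
  have hHX : H ≤ Subgroup.normalizer (X : Set G) :=
    Coprime.le_normalizer_inf Subgroup.le_normalizer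
      ((Basic.fittingOf_normal H).trans (normalizer_le_normalizer_centralizer _))
  have hXS : X ≤ Subgroup.normalizer ((X ⊓ R : Subgroup G) : Set G) :=
    Coprime.le_normalizer_inf Subgroup.le_normalizer hXR
  haveI : Group.IsSolvable (X ⊓ R : Subgroup G) := Coprime.isSolvable_of_le inf_le_right
  have h1 : Cfsg.fittingOf (X ⊓ R) ≤ Cfsg.fittingOf H :=
    (fittingOf_le_of_normal inf_le_left hXS).trans (fittingOf_le_of_normal inf_le_left hHX)
  intro x hx
  refine h1 (inf_centralizer_fittingOf_le (X ⊓ R) ⟨hx, Subgroup.centralizer_le h1 ?_⟩)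
  exact hx.1.2

theorem mem_centralizer_fitting_of_fixed (hM : M ≤ Cfsg.fittingOf H)
    (hCM : Cfsg.fittingOf H ⊓ Subgroup.centralizer (M : Set G) ≤ M) {x : G} (hx : x ∈ H)
    (hord : ∀ (r : ℕ), r.Prime → r ∣ Nat.card (Cfsg.fittingOf H) → (orderOf x).Coprime r)
    (hxM : ∀ (r : ℕ) [Fact r.Prime], r ∣ Nat.card (Cfsg.fittingOf H) →
      ∀ m ∈ M ⊓ Cfsg.pCoreOf r H, Commute x m) :
    x ∈ Subgroup.centralizer (Cfsg.fittingOf H : Set G) := by
  refine mem_centralizer_fittingOf fun r hr hd u hu => ?_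
  refine CharP.commute_of_axb (B := M ⊓ Cfsg.pCoreOf r H)
    ((CharP.isPGroup_pCoreOf r H).to_le inf_le_right) (hord r hr.out hd) (hxM r hd)
    (CharP.isPGroup_pCoreOf r H) (inf_le_right.trans Subgroup.le_normalizer)
    (CharP.le_normalizer_pCoreOf r H hx) ?_ u hu
  intro v hv hvB
  refine hxM r hd v ⟨hCM ⟨pCoreOf_le_fittingOf r H hv, ?_⟩, hv⟩
  refine mem_centralizer_of_primary hM fun r' hr' _ m hm => ?_
  rcases eq_or_ne r' r with rfl | hne
  · exact hvB m hm
  · exact Subgroup.mem_centralizer_iff.1 (pCoreOf_commute hne H hm.2) v hv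

theorem eq_one_of_fixed [Group.IsSolvable R] (hM : M ≤ Cfsg.fittingOf H)
    (hCM : Cfsg.fittingOf H ⊓ Subgroup.centralizer (M : Set G) ≤ M)
    (hXR : H ⊓ Subgroup.centralizer (Cfsg.fittingOf H : Set G) ≤ Subgroup.normalizer (R : Set G))
    {x : G} (hx : x ∈ H) (hxR : x ∈ R)
    (hord : ∀ (r : ℕ), r.Prime → r ∣ Nat.card (Cfsg.fittingOf H) → (orderOf x).Coprime r)
    (hxM : ∀ (r : ℕ) [Fact r.Prime], r ∣ Nat.card (Cfsg.fittingOf H) →
      ∀ m ∈ M ⊓ Cfsg.pCoreOf r H, Commute x m) : x = 1 := by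
  have hxF := inf_le_fittingOf hXR ⟨⟨hx, mem_centralizer_fitting_of_fixed hM hCM hx hord hxM⟩, hxR⟩
  by_contra h1
  obtain ⟨r, hr, hrd⟩ := Nat.exists_prime_and_dvd (mt orderOf_eq_one_iff.1 h1)
  exact hr.ne_one (Nat.eq_one_of_dvd_coprimes
    (hord r hr (hrd.trans (Subgroup.orderOf_dvd_natCard _ hxF))) hrd dvd_rfl)

/-- `⁅R, M_s⁆ ≤ O_{p',p}(R)`. -/
theorem commutator_mem_pOp [Group.IsSolvable R]
    (hH : ∀ (p : ℕ) [Fact p.Prime], p ∣ Nat.card (Cfsg.fittingOf H) →
      Subgroup.normalizer (zPart p H : Set G) = H)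
    (hZM : Cfsg.fittingOf H ⊓ Subgroup.centralizer (Cfsg.fittingOf H : Set G) ≤ M)
    (hMR : M ≤ Subgroup.normalizer (R : Set G))
    {p s : ℕ} [Fact p.Prime] [Fact s.Prime] (hps : p ≠ s)
    (hp : p ∣ Nat.card (Cfsg.fittingOf H))
    {y : G} (hy : y ∈ R) {m : G} (hm : m ∈ M ⊓ Cfsg.pCoreOf s H) : ⁅y, m⁆ ∈ pOp p R := by
  set D := pO p R with hD
  set N := Subgroup.normalizer (D : Set G) with hN
  set K := pOp p R with hK
  have hRN : R ≤ N := Subgroup.le_normalizer.trans (normalizer_le_normalizer_pO p R)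
  have hMN : M ≤ N := hMR.trans (normalizer_le_normalizer_pO p R)
  have hKR : K ≤ R := Subgroup.map_subtype_le _
  have hKN : K ≤ N := hKR.trans hRN
  have hMK : M ≤ Subgroup.normalizer (K : Set G) := hMR.trans (normalizer_le_normalizer_pOp p R)
  have hRK : R ≤ Subgroup.normalizer (K : Set G) :=
    Subgroup.le_normalizer.trans (normalizer_le_normalizer_pOp p R)
  haveI : (D.subgroupOf N).Normal := Subgroup.normal_subgroupOf_of_le_normalizer le_rfl
  set f := QuotientGroup.mk' (D.subgroupOf N) with hf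
  have hf1 : ∀ w : N, f w = 1 ↔ (w : G) ∈ D := fun w => QuotientGroup.eq_one_iff w
  set V := (K.subgroupOf N).map f with hV
  have hVp : IsPGroup p V := by
    rw [isPGroup_iff_pow_pow_eq_one]
    rintro ⟨_, ⟨w, hw, rfl⟩⟩
    obtain ⟨a, ha⟩ := pow_mem_pO_of_mem_pOp (R := R) hw
    refine ⟨a, Subtype.ext ?_⟩
    rw [SubgroupClass.coe_pow, OneMemClass.coe_one, ← map_pow]
    exact (hf1 _).2 (by rw [SubgroupClass.coe_pow]; exact ha)
  set B := ((M ⊓ Cfsg.pCoreOf p H).subgroupOf N).map f with hB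
  have hBp : IsPGroup p B :=
    (((CharP.isPGroup_pCoreOf p H).to_le inf_le_right).comap_subtype).map f
  set x := f ⟨m, hMN hm.1⟩ with hx
  have hms : ∃ k, orderOf m = s ^ k := by
    obtain ⟨k, hk⟩ := IsPGroup.iff_card.1 (CharP.isPGroup_pCoreOf s H)
    obtain ⟨i, -, hi⟩ := (Nat.dvd_prime_pow (Fact.out : s.Prime)).1
      (hk ▸ Subgroup.orderOf_dvd_natCard _ hm.2)
    exact ⟨i, hi⟩
  have hxo : (orderOf x).Coprime p := by
    obtain ⟨k, hk⟩ := hms
    refine Nat.Coprime.coprime_dvd_left (orderOf_map_dvd f _) ?_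
    rw [Subgroup.orderOf_mk, hk]
    exact ((Nat.coprime_primes Fact.out Fact.out).2 hps.symm).pow_left k
  have hNV : ∀ w : N, (w : G) ∈ Subgroup.normalizer (K : Set G) →
      f w ∈ Subgroup.normalizer (V : Set (N ⧸ D.subgroupOf N)) := fun w hw =>
    Subgroup.le_normalizer_map f ⟨w, NormedConstrained.le_normalizer_subgroupOf le_rfl hw, rfl⟩
  have hcomm : ∀ v ∈ V, Commute x v := by
    refine CharP.commute_of_axb hBp hxo ?_ hVp ?_ (hNV _ (hMK hm.1)) ?_
    · rintro _ ⟨b, hb, rfl⟩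
      have hmb : Commute m (b : G) :=
        (Subgroup.mem_centralizer_iff.1 (pCoreOf_commute hps H hb.2) m hm.2)
      rw [hx, commute_iff_eq, ← map_mul, ← map_mul]
      exact congrArg f (Subtype.ext hmb.eq)
    · rintro _ ⟨b, hb, rfl⟩
      exact hNV b (hMK hb.1)
    rintro _ ⟨k, hk, rfl⟩ hkB
    -- replace `k` by an element centralizing `M_p`
    set Mp := M ⊓ Cfsg.pCoreOf p H with hMp
    have hMpN : Mp ≤ N := inf_le_left.trans hMN
    have hkb : ∀ b ∈ Mp, ⁅(k : G), b⁆ ∈ D := by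
      intro b hb
      have h1 := hkB (f ⟨b, hMpN hb⟩) ⟨_, hb, rfl⟩
      have h2 : f ⁅k, ⟨b, hMpN hb⟩⁆ = 1 := by
        rw [map_commutatorElement]; exact commutatorElement_eq_one_iff_mul_comm.2 h1.eq
      exact (hf1 _).1 h2
    have hMpp : IsPGroup p Mp := (CharP.isPGroup_pCoreOf p H).to_le inf_le_right
    have hcop : (Nat.card Mp).Coprime (Nat.card D) := by
      obtain ⟨i, hi⟩ := IsPGroup.iff_card.1 hMpp
      rw [hi]
      exact (pO_coprime R).symm.pow_left i
    obtain ⟨d, hd, hdc⟩ := Coprime.exists_conj_eq_of_coprime (A := Mp)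
      (B := MulAut.conj (k : G) • Mp) hMpN hcop (Or.inl (Coprime.isSolvable_of_isPGroup hMpp))
      (by
        intro w hw
        rw [Coprime.mem_conj_smul] at hw
        have : w = ⁅(k : G), (k : G)⁻¹ * w * k⁆ * ((k : G)⁻¹ * w * k) := by
          rw [commutatorElement_def]; group
        rw [this]
        exact mul_mem (Subgroup.mem_sup_right (hkb _ hw)) (Subgroup.mem_sup_left hw))
      (Coprime.card_conj_smul _ _)
    set n := d⁻¹ * (k : G) with hn
    have hnc : MulAut.conj n • Mp = Mp := by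
      rw [hn, Coprime.conj_smul_mul, ← hdc, ← Coprime.conj_smul_mul, inv_mul_cancel, map_one,
        one_smul]
    have hnN := Coprime.mem_normalizer_of_conj_smul_eq hnc
    have hnK : n ∈ K := mul_mem (inv_mem ((Subgroup.map_mono
      (PSolvable.pPrimeCore_le_pPrimePCore)) hd)) hk
    have hnM : n ∈ Subgroup.centralizer (Mp : Set G) := by
      rw [Subgroup.mem_centralizer_iff]
      intro b hb
      have h1 : ⁅n, b⁆ ∈ D := by
        have e : ⁅n, b⁆ = d⁻¹ * ⁅(k : G), b⁆ * (b * d * b⁻¹) := by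
          simp only [hn, commutatorElement_def]; group
        rw [e]
        exact mul_mem (mul_mem (inv_mem hd) (hkb b hb))
          ((Subgroup.mem_normalizer_iff.1 (hMpN hb) d).1 hd)
      have h2 : ⁅n, b⁆ ∈ Mp := by
        rw [commutatorElement_def]
        exact mul_mem ((Subgroup.mem_normalizer_iff.1 hnN b).1 hb) (inv_mem hb)
      have : ⁅n, b⁆ = 1 := Subgroup.mem_bot.1
        ((Basic.inf_eq_bot_of_coprime hcop).le ⟨h2, h1⟩)
      exact (commutatorElement_eq_one_iff_mul_comm.1 this).symm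
    have hnH : n ∈ H := centralizer_part_le hH hZM hp hnM
    have h3 : ⁅m, n⁆ ∈ Cfsg.pCoreOf s H := by
      rw [commutatorElement_def, show m * n * m⁻¹ * n⁻¹ = m * (n * m⁻¹ * n⁻¹) by group]
      exact mul_mem hm.2 ((Subgroup.mem_normalizer_iff.1 (CharP.le_normalizer_pCoreOf s H hnH)
        m⁻¹).1 (inv_mem hm.2))
    have h4 : ⁅m, n⁆ ∈ K := by
      rw [commutatorElement_def]
      exact mul_mem ((Subgroup.mem_normalizer_iff.1 (hMK hm.1) n).1 hnK) (inv_mem hnK)
    have h5 : ⁅m, n⁆ ∈ D := by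
      refine mem_pO_of_coprime h4 ?_
      obtain ⟨i, hi⟩ := IsPGroup.iff_card.1 (CharP.isPGroup_pCoreOf s H)
      refine Nat.Coprime.coprime_dvd_left (hi ▸ Subgroup.orderOf_dvd_natCard _ h3) ?_
      exact ((Nat.coprime_primes Fact.out Fact.out).2 hps.symm).pow_left i
    have hfd : f ⟨d, Subgroup.le_normalizer hd⟩ = 1 := (hf1 _).2 hd
    have hfk : f k = f ⟨n, hKN hnK⟩ := by
      rw [show (k : N) = ⟨d, Subgroup.le_normalizer hd⟩ * ⟨n, hKN hnK⟩ from
        Subtype.ext (by simp [hn]), map_mul, hfd, one_mul]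
    rw [hfk, hx]
    refine commutatorElement_eq_one_iff_mul_comm.1 ?_
    rw [← map_commutatorElement]
    exact (hf1 _).2 h5
  -- `⁅y, m⁆` centralizes `V`
  have hyN : y ∈ N := hRN hy
  set r := ⁅y, m⁆ with hr
  have hrR : r ∈ R := by
    rw [hr, commutatorElement_def, show y * m * y⁻¹ * m⁻¹ = y * (m * y⁻¹ * m⁻¹) by group]
    exact mul_mem hy ((Subgroup.mem_normalizer_iff.1 (hMR hm.1) y⁻¹).1 (inv_mem hy))
  have hrV : ∀ v ∈ V, f ⟨r, hRN hrR⟩ * v = v * f ⟨r, hRN hrR⟩ := by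
    intro v hv
    set fy := f ⟨y, hyN⟩ with hfy
    have e : f ⟨r, hRN hrR⟩ = fy * x * fy⁻¹ * x⁻¹ := by
      rw [hfy, hx, ← map_inv, ← map_inv, ← map_mul, ← map_mul, ← map_mul]
      exact congrArg f (Subtype.ext (by simp [hr, commutatorElement_def]))
    have hv' : fy⁻¹ * v * fy ∈ V :=
      (Subgroup.mem_normalizer_iff''.1 (hNV ⟨y, hyN⟩ (hRK hy)) v).1 hv
    have h1 : Commute x⁻¹ v := (hcomm v hv).inv_left
    have h2 : Commute (fy * x * fy⁻¹) v := by
      have h := hcomm _ hv'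
      calc fy * x * fy⁻¹ * v = fy * (x * (fy⁻¹ * v * fy)) * fy⁻¹ := by group
        _ = fy * ((fy⁻¹ * v * fy) * x) * fy⁻¹ := by rw [h.eq]
        _ = v * (fy * x * fy⁻¹) := by group
    rw [e]
    exact (h2.mul_left h1).eq
  have hrK : (⟨r, hrR⟩ : R) ∈ Cfsg.pPrimePCore p R := by
    have hsol : Cfsg.IsPSolvable p (R ⧸ Cfsg.pPrimeCore p R) :=
      Constrained.isPSolvable_quot PSolvable.isPSolvable_of_isSolvable
    refine PSolvable.centralizer_pCore_le hsol (Constrained.pPrimeCore_quot R p) ?_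
    rw [Subgroup.mem_centralizer_iff]
    intro w hw
    obtain ⟨k, rfl⟩ := QuotientGroup.mk'_surjective _ w
    have hkK : (k : G) ∈ K := ⟨k, hw, rfl⟩
    have h := hrV (f ⟨k, hKN hkK⟩) ⟨_, hkK, rfl⟩
    rw [← commutatorElement_eq_one_iff_mul_comm, ← map_commutatorElement, hf1] at h
    have h' : (⁅(⟨r, hrR⟩ : R), k⁆ : R) ∈ Cfsg.pPrimeCore p R := by
      obtain ⟨z, hz, hze⟩ := h
      have hzr : z = ⁅(⟨r, hrR⟩ : R), k⁆ := R.subtype_injective (hze.trans rfl)
      exact hzr ▸ hz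
    have h'' := (QuotientGroup.eq_one_iff _).2 h'
    rw [← QuotientGroup.mk'_apply, map_commutatorElement,
      commutatorElement_eq_one_iff_mul_comm] at h''
    exact h''.symm
  exact ⟨⟨r, hrR⟩, hrK, rfl⟩

/-- Invariant `q`-subgroups lie in every `O_{p'}(R)`. -/
theorem le_pO_of_invariant [Group.IsSolvable R]
    (hH : ∀ (p : ℕ) [Fact p.Prime], p ∣ Nat.card (Cfsg.fittingOf H) →
      Subgroup.normalizer (zPart p H : Set G) = H)
    (hF2 : 2 ≤ (Nat.card (Cfsg.fittingOf H)).primeFactors.card)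
    (hM : M ≤ Cfsg.fittingOf H)
    (hCM : Cfsg.fittingOf H ⊓ Subgroup.centralizer (M : Set G) ≤ M)
    (hMR : M ≤ Subgroup.normalizer (R : Set G))
    (hXR : H ⊓ Subgroup.centralizer (Cfsg.fittingOf H : Set G) ≤ Subgroup.normalizer (R : Set G))
    {q : ℕ} [hq : Fact q.Prime] (hqF : ¬ q ∣ Nat.card (Cfsg.fittingOf H))
    {Y : Subgroup G} (hYR : Y ≤ R) (hYq : IsPGroup q Y)
    (hMY : M ≤ Subgroup.normalizer (Y : Set G))
    {p : ℕ} [hpf : Fact p.Prime] (hp : p ∣ Nat.card (Cfsg.fittingOf H)) : Y ≤ pO p R := by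
  have hZM : Cfsg.fittingOf H ⊓ Subgroup.centralizer (Cfsg.fittingOf H : Set G) ≤ M :=
    (inf_le_inf_left _ (Subgroup.centralizer_le hM)).trans hCM
  obtain ⟨s, hs, hsd, hsp⟩ := exists_ne_prime hF2 p
  haveI := Fact.mk hs
  set Ms := M ⊓ Cfsg.pCoreOf s H with hMs
  have hMsp : IsPGroup s Ms := (CharP.isPGroup_pCoreOf s H).to_le inf_le_right
  have hne : ∀ r : ℕ, r ∣ Nat.card (Cfsg.fittingOf H) → q ≠ r := fun r hr h => hqF (h ▸ hr)
  have hcop : (Nat.card Ms).Coprime (Nat.card Y) := coprime_card (hne s hsd).symm hMsp hYq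
  intro y hy
  obtain ⟨n, hn, c, hc, rfl⟩ := Coprime.exists_commutator_mul_fixed (A := Ms)
    (inf_le_left.trans hMY) hcop (Or.inl (Coprime.isSolvable_of_isPGroup hMsp)) hy
  have hcord : ∀ r : ℕ, r.Prime → r ∣ Nat.card (Cfsg.fittingOf H) → (orderOf c).Coprime r := by
    intro r hr hrd
    obtain ⟨i, hi⟩ := IsPGroup.iff_card.1 hYq
    refine Nat.Coprime.coprime_dvd_left (hi ▸ Subgroup.orderOf_dvd_natCard _ hc.1) ?_
    exact ((Nat.coprime_primes hq.out hr).2 (hne r hrd)).pow_left i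
  have hcH : c ∈ H := centralizer_part_le hH hZM hsd hc.2
  have hc1 : c = 1 := by
    refine eq_one_of_fixed hM hCM hXR hcH (hYR hc.1) hcord fun r hr hrd m hm => ?_
    refine Constrained.commute_of_mutual (p := r) ?_ (CharP.isPGroup_pCoreOf r H) hc.1 hm.2
      (CharP.le_normalizer_pCoreOf r H hcH) (hMY hm.1)
    obtain ⟨i, hi⟩ := IsPGroup.iff_card.1 hYq
    rw [hi]
    exact ((Nat.coprime_primes hq.out hr.out).2 (hne r hrd)).pow_left i
  rw [hc1, mul_one]
  have hcom : ⁅Y, Ms⁆ ≤ pOp p R := Subgroup.commutator_le.2 fun a ha b hb =>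
    commutator_mem_pOp hH hZM hMR hsp.symm hp (hYR ha) hb
  refine mem_pO_of_coprime (hcom hn) ?_
  obtain ⟨i, hi⟩ := IsPGroup.iff_card.1 hYq
  have hnY : n ∈ Y := Coprime.commutator_le_of_le_normalizer (inf_le_left.trans hMY) hn
  refine Nat.Coprime.coprime_dvd_left (hi ▸ Subgroup.orderOf_dvd_natCard _ hnY) ?_
  exact ((Nat.coprime_primes hq.out hpf.out).2 (hne p hp)).pow_left i

end Local

end Cfsg.Agent.Lib.OddOrder.BenderLocal
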