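import Cfsg.Agent.Lib.OddOrder.SigmaComplement

/-!
# BG 10.5, 10.6 (first parts): primes of `p`-rank two outside `σ(M)`
-/

set_option autoImplicit false
set_option linter.style.haveILetI false
set_option linter.unusedSectionVars false

namespace Cfsg.Agent.Lib.OddOrder.RankTwoPrime

open Cfsg.Agent.Lib.OddOrder.MinSimple

universe u

variable {G : Type u} [Group G] [Finite G] {p : ℕ} [hp : Fact p.Prime]

theorem exists_elemAb_sq {H : Subgroup G} (h2 : Cfsg.PRankLE p 2 H) (h1 : ¬ Cfsg.PRankLE p 1 H) :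
    ∃ A : Subgroup G, A ≤ H ∧ Cfsg.IsElementaryAbelian p A ∧ Nat.card A = p ^ 2 := by
  obtain ⟨A, hA, he, hc⟩ := Rank.exists_elemAb_of_not_prankLE h1
  refine ⟨A, hA, he, ?_⟩
  have hle := Rank.prankLE_subgroup_iff.1 h2 A hA he
  obtain ⟨k, hk⟩ := PGroups.elemAb_card_eq_pow he
  rw [hk] at hc hle ⊢
  have h3 := (Nat.pow_lt_pow_iff_right hp.out.one_lt).1 hc
  have h4 := (Nat.pow_le_pow_iff_right hp.out.one_lt).1 hle
  congr 1
  omega

/-- An elementary abelian subgroup of order `p ^ 2` of `M` is maximal in `G` when `M` has `p`-rank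
two. -/
theorem eq_of_elemAb_ge (hG : Cfsg.IsMinSimpleOddOrder G) {M : Subgroup G} (hM : IsCoatom M)
    (hr2 : Cfsg.PRankLE p 2 M) {A B : Subgroup G} (hAM : A ≤ M)
    (hA : Cfsg.IsElementaryAbelian p A) (hAc : Nat.card A = p ^ 2)
    (hB : Cfsg.IsElementaryAbelian p B) (hAB : A ≤ B) : B = A := by
  by_contra hne
  have hlt : p ^ 2 < Nat.card B := by
    refine lt_of_le_of_ne (hAc ▸ Subgroup.card_le_of_le hAB) fun e => hne ?_
    exact (Subgroup.eq_of_le_of_card_ge hAB (e.ge.trans hAc.ge)).symm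
  have hBC : B ≤ Subgroup.centralizer (A : Set G) :=
    (Subgroup.le_centralizer_iff_isMulCommutative.2 hB.1).trans (Subgroup.centralizer_le hAB)
  have hAU := UniquenessTheorem.of_centralizer_rank hG (UniqueRank.not_rankLE_one le_rfl hA hAc.ge)
    fun h => Rank.not_prankLE_of_elemAb hBC hB hlt (h p hp.out)
  obtain ⟨L, hL, hBL⟩ := exists_coatom_ge hG
    (pgroup_ne_top hG (p := p) (fun x => ⟨1, Subtype.ext (by simpa using hB.2 x x.2)⟩ :
      IsPGroup p B))
  rw [UniqueRank.eq_of_le hAU hL (hAB.trans hBL) hM hAM] at hBL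
  exact absurd (Rank.prankLE_subgroup_iff.1 hr2 B hBL hB) (not_le.2 hlt)

theorem not_ideal (hG : Cfsg.IsMinSimpleOddOrder G) {M : Subgroup G} (hM : IsCoatom M)
    (hr2 : Cfsg.PRankLE p 2 M) (hr1 : ¬ Cfsg.PRankLE p 1 M) : ¬ Cfsg.IsIdealPrime p G := by
  rintro ⟨-, -, h⟩
  obtain ⟨A, hAM, hA, hAc⟩ := exists_elemAb_sq hr2 hr1
  have hAp : IsPGroup p A := fun x => ⟨1, Subtype.ext (by simpa using hA.2 x x.2)⟩
  obtain ⟨Q, hQ⟩ := hAp.exists_le_sylow
  obtain ⟨B, -, hB, hAB⟩ := h Q A hQ hA hAc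
  exact hAB.ne (eq_of_elemAb_ge hG hM hr2 hAM hA hAc hB hAB.le).symm

/-- BG 10.6 first part: a subgroup of order `p` with normalizer in `M`. -/
theorem of_normalizer_le (hG : Cfsg.IsMinSimpleOddOrder G) {M : Subgroup G} (hM : IsCoatom M)
    (hps : p ∉ Cfsg.sigma M) {X : Subgroup G} (hX : Nat.card X = p)
    (hNX : Subgroup.normalizer (X : Set G) ≤ M) :
    (Cfsg.PRankLE p 2 M ∧ ¬ Cfsg.PRankLE p 1 M) ∧ ¬ Cfsg.IsIdealPrime p G ∧
      ∃ A : Subgroup G, Cfsg.IsElementaryAbelian p A ∧ Nat.card A = p ^ 2 ∧ X ≤ A := by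
  have hr2 : Cfsg.PRankLE p 2 M := by
    by_contra h
    exact hps (AlphaCore.alpha_subset_sigma hG hM ⟨hp.out, h⟩)
  have hXM : X ≤ M := Subgroup.le_normalizer.trans hNX
  have hpM : p ∣ Nat.card M := hX ▸ Subgroup.card_dvd_of_le hXM
  have hp2 : p ≠ 2 := ne_two_of_dvd hG (hpM.trans M.card_subgroup_dvd_card)
  have hXp : IsPGroup p X := IsPGroup.of_card (n := 1) (by rw [hX, pow_one])
  haveI hXc : IsCyclic X := isCyclic_of_prime_card hX
  obtain ⟨P, hP⟩ := (hXp.comap_subtype (K := M)).exists_le_sylow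
  set S := (P : Subgroup M).map M.subtype with hS
  have hXS : X ≤ S := fun x hx => ⟨⟨x, hXM hx⟩, hP (show _ ∈ X.comap M.subtype from hx), rfl⟩
  have hSM : S ≤ M := Subgroup.map_subtype_le _
  have hSp : IsPGroup p S := P.2.map _
  have hSnc : ¬ IsCyclic S := by
    intro hc
    refine hps ⟨hp.out, hpM, P, fun g hg => hNX ?_⟩
    refine Subgroup.mem_normalizer_fintype fun x hx => ?_
    have hgx : g * x * g⁻¹ ∈ S := (Subgroup.mem_normalizer_iff.1 hg x).1 (hXS hx)
    by_cases hx1 : x = 1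
    · simp [hx1]
    have hord : orderOf x = p :=
      ((Nat.dvd_prime hp.out).1 (hX ▸ X.orderOf_dvd_natCard hx)).resolve_left
        (fun e => hx1 (orderOf_eq_one_iff.1 e))
    exact (Subgroup.zpowers_le.2 hx) (UniqueAux.mem_zpowers_of_dvd hc (hXS hx) hgx
      (by rw [← MulAut.conj_apply g, MulEquiv.orderOf_eq]))
  have hr1 : ¬ Cfsg.PRankLE p 1 M := by
    intro h
    obtain ⟨E, -, hE, hE2⟩ := PGroups.exists_normal_elemAb_sq hp2 hSp hSnc
    have h1 := Rank.prankLE_subgroup_iff.1 h (E.map S.subtype)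
      ((Subgroup.map_subtype_le _).trans hSM) (PGroups.elemAb_map _ hE)
    rw [Subgroup.card_map_of_injective S.subtype_injective, hE2] at h1
    exact absurd h1 (not_le.2 (Nat.pow_lt_pow_right hp.out.one_lt (by norm_num)))
  refine ⟨⟨hr2, hr1⟩, not_ideal hG hM hr2 hr1, ?_⟩
  set C := S ⊓ Subgroup.centralizer (X : Set G) with hC
  have hCnc : ¬ IsCyclic C := by
    intro hc
    have hS1 : S ≠ ⊥ := fun e => hSnc (by rw [e]; infer_instance)
    haveI : Nontrivial S := (Subgroup.nontrivial_iff_ne_bot S).2 hS1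
    haveI := hSp.center_nontrivial
    obtain ⟨n, hn, hnc⟩ := (hSp.to_subgroup (Subgroup.center S)).nontrivial_iff_card.1 inferInstance
    obtain ⟨z, hz⟩ := exists_prime_orderOf_dvd_card' (G := Subgroup.center S) p
      ((dvd_pow_self p hn.ne').trans hnc.symm.dvd)
    have hzC : ((z : S) : G) ∈ C := ⟨(z : S).2, Subgroup.mem_centralizer_iff.2 fun x hx =>
      congrArg Subtype.val (Subgroup.mem_center_iff.1 z.2 ⟨x, hXS hx⟩)⟩
    refine hSnc ?_
    have hSC : S ≤ C := fun s hs => ⟨hs, Subgroup.mem_centralizer_iff.2 fun x hx => by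
      obtain ⟨i, rfl⟩ := UniqueAux.mem_zpowers_of_dvd hc hzC
        ⟨hXS hx, Subgroup.le_centralizer_iff_isMulCommutative.2 inferInstance hx⟩
        (by rw [Subgroup.orderOf_coe, Subgroup.orderOf_coe, hz]; exact hX ▸ X.orderOf_dvd_natCard hx)
      exact ((Commute.zpow_right (congrArg Subtype.val
        (Subgroup.mem_center_iff.1 z.2 ⟨s, hs⟩) : Commute s ((z : S) : G)) i).eq).symm⟩
    exact isCyclic_of_injective (Subgroup.inclusion hSC) (Subgroup.inclusion_injective hSC)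
  obtain ⟨E, -, hE, hE2⟩ := PGroups.exists_normal_elemAb_sq hp2 (hSp.to_le inf_le_left) hCnc
  set E₁ := E.map C.subtype with hE₁
  have hE₁e : Cfsg.IsElementaryAbelian p E₁ := PGroups.elemAb_map _ hE
  have hXe : Cfsg.IsElementaryAbelian p X :=
    ⟨inferInstance, fun x hx => orderOf_dvd_iff_pow_eq_one.1 (hX ▸ X.orderOf_dvd_natCard hx)⟩
  have hE₁C : E₁ ≤ Subgroup.centralizer (X : Set G) :=
    (Subgroup.map_subtype_le _).trans inf_le_right
  have hsup := SCN.elemAb_sup hE₁e hXe hE₁C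
  have hAM : E₁ ⊔ X ≤ M :=
    sup_le (((Subgroup.map_subtype_le _).trans inf_le_left).trans hSM) hXM
  refine ⟨E₁ ⊔ X, hsup, le_antisymm (Rank.prankLE_subgroup_iff.1 hr2 _ hAM hsup) ?_, le_sup_right⟩
  calc p ^ 2 = Nat.card E₁ := by rw [Subgroup.card_map_of_injective C.subtype_injective, hE2]
    _ ≤ _ := Subgroup.card_le_of_le le_sup_left

end Cfsg.Agent.Lib.OddOrder.RankTwoPrime
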