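import Cfsg.Agent.Lib.OddOrder.SigmaComplement
import Cfsg.Agent.Lib.OddOrder.RankTwoPrime
import Cfsg.Agent.Lib.OddOrder.BenderLocal
import Cfsg.Agent.Lib.PSolvable.PLength
import Cfsg.Agent.Lib.Coprime.Commutator
import Cfsg.Agent.Lib.Hall.Coprime

/-!
# BG 10.6: reduction of `p`-length one to the fixed point criterion
-/

set_option autoImplicit false
set_option linter.style.haveILetI false
set_option linter.unusedSectionVars false

open scoped commutatorElement

namespace Cfsg.Agent.Lib.OddOrder.PLengthSetup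

open Cfsg.Agent.Lib.OddOrder.MinSimple

universe u

section Abstract

variable {H : Type u} [Group H] [Finite H] {p : ℕ} [hp : Fact p.Prime]

theorem pLengthLE_one_of_index (h : ((Cfsg.pPrimePCore p H).index).Coprime p) :
    Cfsg.PLengthLE p 1 H := by
  refine top_le_iff.1 (PSolvable.le_upperPSeries_odd (k := 1) (N := Cfsg.pPrimePCore p H) ?_ ?_)
  · rw [show 2 * 1 = 2 from rfl, PSolvable.upperPSeries_two]
  · rwa [Subgroup.relIndex_top_right]

/-- `p`-length one of a normal subgroup of `p'`-index passes to the group. -/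
theorem pLengthLE_one_of_normal {K : Subgroup H} [K.Normal] (hK : Cfsg.PLengthLE p 1 K)
    (hidx : K.index.Coprime p) : Cfsg.PLengthLE p 1 H := by
  haveI := BenderLocal.pPrimePCore_characteristic (K := K) p
  set N₁ := (Cfsg.pPrimeCore p K).map K.subtype with hN₁
  set N₂ := (Cfsg.pPrimePCore p K).map K.subtype with hN₂
  haveI : N₁.Normal := Cores.normal_map_subtype K _
  haveI : N₂.Normal := Cores.normal_map_subtype K _
  have h1 : N₁ ≤ (Cfsg.upperPSeries p H (2 * 0 + 1)).1 := by
    refine PSolvable.le_upperPSeries_odd (k := 0) (N := ⊥) bot_le ?_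
    rw [Subgroup.relIndex_bot_left, Subgroup.card_map_of_injective K.subtype_injective]
    exact Cores.pPrimeCore_coprime p
  have h2 : N₂ ≤ (Cfsg.upperPSeries p H (2 * 0 + 2)).1 := by
    refine PSolvable.le_upperPSeries_even h1 ?_
    rw [Subgroup.relIndex_map_map_of_injective _ _ K.subtype_injective]
    obtain ⟨m, hm⟩ := IsPGroup.iff_card.1 (Cores.pCore_isPGroup (G := K ⧸ Cfsg.pPrimeCore p K) p)
    refine ⟨m, ?_⟩
    rw [← hm, show Cfsg.pPrimePCore p K =
      (Cfsg.pCore p (K ⧸ Cfsg.pPrimeCore p K)).comap (QuotientGroup.mk' _) from rfl]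
    have h := Subgroup.relIndex_ker (K := (Cfsg.pCore p (K ⧸ Cfsg.pPrimeCore p K)).comap
      (QuotientGroup.mk' _)) (QuotientGroup.mk' (Cfsg.pPrimeCore p K))
    rwa [QuotientGroup.ker_mk', Subgroup.map_comap_eq_self_of_surjective
      (QuotientGroup.mk'_surjective _)] at h
  refine top_le_iff.1 (PSolvable.le_upperPSeries_odd (k := 1) h2 ?_)
  rw [Subgroup.relIndex_top_right, ← Subgroup.relIndex_mul_index (Subgroup.map_subtype_le _),
    Basic.relIndex_map_subtype]
  refine Nat.Coprime.mul_left ?_ hidx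
  have h3 := PSolvable.relIndex_upperPSeries_odd (p := p) (G := K) 1
  rwa [show (Cfsg.upperPSeries p K (2 * 1 + 1)).1 = ⊤ from hK, Subgroup.relIndex_top_right,
    show 2 * 1 = 2 from rfl, PSolvable.upperPSeries_two] at h3

/-- A coprime operator group fixes nothing modulo its commutator when the Sylow subgroups of
`K` are in the derived group. -/
theorem commutator_eq_left {K E : Subgroup H} [K.Normal] [Group.IsSolvable H] (hsup : K ⊔ E = ⊤)
    (hcop : (Nat.card K).Coprime (Nat.card E))
    (hd : ∀ q : ℕ, q.Prime → q ∣ Nat.card K → ∀ S : Sylow q H, (S : Subgroup H) ≤ commutator H) :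
    ⁅K, E⁆ = K := by
  set D := ⁅K, E⁆ with hD
  have hDK : D ≤ K := Coprime.commutator_le_of_le_normalizer
    (Subgroup.normalizer_eq_top_iff.2 (inferInstance : K.Normal) ▸ le_top)
  haveI : D.Normal := Subgroup.normalizer_eq_top_iff.1 (top_le_iff.1 (hsup ▸ sup_le
    (Coprime.left_le_normalizer_commutator K E) (Coprime.right_le_normalizer_commutator K E)))
  set L := D ⊔ ⁅K, K⁆ with hL
  haveI : L.Normal := by rw [hL]; infer_instance
  let f := QuotientGroup.mk' L
  have hcK : ∀ k ∈ K, ∀ x : H, Commute (f k) (f x) := by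
    intro k hk x
    obtain ⟨e, he, k', hk', rfl⟩ :=
      Coprime.exists_mul_of_mem_sup (A := E) (K := K)
        (Subgroup.normalizer_eq_top_iff.2 (inferInstance : K.Normal) ▸ le_top)
        (by rw [sup_comm, hsup]; exact Subgroup.mem_top x)
    rw [map_mul]
    refine Commute.mul_right ?_ ?_
    · rw [← commutatorElement_eq_one_iff_commute, ← map_commutatorElement]
      exact (QuotientGroup.eq_one_iff _).2
        (Subgroup.mem_sup_left (Subgroup.commutator_mem_commutator hk he))
    · rw [← commutatorElement_eq_one_iff_commute, ← map_commutatorElement]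
      exact (QuotientGroup.eq_one_iff _).2
        (Subgroup.mem_sup_right (Subgroup.commutator_mem_commutator hk hk'))
  have hder : (commutator H).map f ≤ E.map f := by
    rw [commutator_def, Subgroup.map_commutator, Subgroup.commutator_le]
    rintro _ ⟨a, -, rfl⟩ _ ⟨b, -, rfl⟩
    obtain ⟨e, he, k, hk, rfl⟩ := Coprime.exists_mul_of_mem_sup (A := E) (K := K)
      (Subgroup.normalizer_eq_top_iff.2 (inferInstance : K.Normal) ▸ le_top)
      (by rw [sup_comm, hsup]; exact Subgroup.mem_top a)
    obtain ⟨e', he', k', hk', rfl⟩ := Coprime.exists_mul_of_mem_sup (A := E) (K := K)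
      (Subgroup.normalizer_eq_top_iff.2 (inferInstance : K.Normal) ▸ le_top)
      (by rw [sup_comm, hsup]; exact Subgroup.mem_top b)
    refine ⟨⁅e, e'⁆, ?_, ?_⟩
    · rw [commutatorElement_def]
      exact mul_mem (mul_mem (mul_mem he he') (inv_mem he)) (inv_mem he')
    · rw [map_commutatorElement, map_mul, map_mul, commutatorElement_def, commutatorElement_def]
      have hk1 := hcK k hk
      have hk2 := hcK k' hk'
      calc f e * f e' * (f e)⁻¹ * (f e')⁻¹
          = f e * f e' * ((f e)⁻¹ * f k') * (f k')⁻¹ * (f e')⁻¹ := by group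
        _ = f e * f e' * (f k' * (f e)⁻¹) * (f k')⁻¹ * (f e')⁻¹ := by
            rw [((hk2 e).inv_right).eq]
        _ = f e * ((f e' * f k') * f k) * (f k)⁻¹ * (f e)⁻¹ * (f k')⁻¹ * (f e')⁻¹ := by group
        _ = f e * (f k * (f e' * f k')) * (f k)⁻¹ * (f e)⁻¹ * (f k')⁻¹ * (f e')⁻¹ := by
            rw [((hk1 e').mul_right (hk1 k')).eq]
        _ = _ := by group
  have hKL : K ≤ L := by
    refine Coprime.le_of_forall_sylow fun q hq => ?_
    haveI := Fact.mk hq
    by_cases hqK : q ∣ Nat.card K
    swap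
    · obtain ⟨Q⟩ : Nonempty (Sylow q K) := inferInstance
      refine ⟨Q, ?_⟩
      obtain ⟨n, hn⟩ := IsPGroup.iff_card.1 Q.2
      rcases n with _ | n
      · rw [Subgroup.card_eq_one.1 (hn.trans (pow_zero q)), Subgroup.map_bot]
        exact bot_le
      · exact absurd (((dvd_pow_self q n.succ_ne_zero).trans hn.symm.dvd).trans
          (Subgroup.card_subgroup_dvd_card _)) hqK
    obtain ⟨Q, hQ⟩ := Transfer.Fusion.exists_sylow_map_eq_inf K (default : Sylow q H)
    refine ⟨Q, fun x hx => ?_⟩
    rw [hQ] at hx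
    obtain ⟨e, he, hfe⟩ := hder ⟨x, hd q hq hqK _ hx.2, rfl⟩
    have h1 : f x = 1 := by
      refine orderOf_eq_one_iff.1 (Nat.eq_one_of_dvd_coprimes hcop ?_ ?_)
      · exact (orderOf_map_dvd f x).trans (K.orderOf_dvd_natCard hx.1)
      · rw [← hfe]
        exact (orderOf_map_dvd f e).trans (E.orderOf_dvd_natCard he)
    exact (QuotientGroup.eq_one_iff x).1 h1
  refine le_antisymm hDK ?_
  let g := QuotientGroup.mk' D
  haveI : Group.IsSolvable (H ⧸ D) :=
    Group.isSolvable_of_surjective (QuotientGroup.mk'_surjective D)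
  have hperf : K.map g ≤ ⁅K.map g, K.map g⁆ := by
    rw [← Subgroup.map_commutator, Subgroup.map_le_map_iff, QuotientGroup.ker_mk', sup_comm]
    exact hKL
  have hbot : K.map g = ⊥ := by
    by_contra hne
    exact (Group.IsSolvable.commutator_lt_of_ne_bot hne).not_ge hperf
  rwa [Subgroup.map_eq_bot_iff, QuotientGroup.ker_mk'] at hbot

end Abstract

end Cfsg.Agent.Lib.OddOrder.PLengthSetup
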