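import Cfsg.Agent.Lib.OddOrder.Basic
import Cfsg.Agent.Lib.OddOrder.MinSimple
import Cfsg.Agent.Lib.CharP.FStar
import Cfsg.Agent.Lib.Coprime.Generation

/-!
# The primary parts of `F(H)` for a subgroup `H`

`pCoreOf p H` is the `p`-part of `fittingOf H`; `zPart p H` is the `p`-part of its centre.
-/

set_option autoImplicit false
set_option linter.style.haveILetI false

open scoped Pointwise commutatorElement

namespace Cfsg.Agent.Lib.OddOrder.Fitting

open Cfsg.Agent.Lib.OddOrder.Basic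

universe u

variable {G : Type u} [Group G] [Finite G]

theorem le_fittingOf {H N : Subgroup G} (hle : N ≤ H)
    (hn : H ≤ Subgroup.normalizer (N : Set G)) (h : Group.IsNilpotent N) :
    N ≤ Cfsg.fittingOf H := by
  haveI : (N.subgroupOf H).Normal := (Subgroup.normal_subgroupOf_iff_le_normalizer hle).2 hn
  rw [← Subgroup.map_subgroupOf_eq_of_le hle]
  refine Subgroup.map_mono (Cores.le_fittingSubgroup ?_)
  haveI := h
  exact Group.nilpotent_of_mulEquiv (Subgroup.subgroupOfEquivOfLe hle).symm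

theorem fittingOf_le_of_normal {A B : Subgroup G} (hAB : A ≤ B)
    (hn : B ≤ Subgroup.normalizer (A : Set G)) : Cfsg.fittingOf A ≤ Cfsg.fittingOf B :=
  le_fittingOf ((Cores.fittingOf_le A).trans hAB)
    (hn.trans (CharP.normalizer_le_normalizer_map_char _)) (Cores.fittingOf_isNilpotent A)

theorem pCoreOf_le_fittingOf (p : ℕ) [Fact p.Prime] (H : Subgroup G) :
    Cfsg.pCoreOf p H ≤ Cfsg.fittingOf H :=
  Subgroup.map_mono (Cores.pCore_le_fittingSubgroup p)

/-- A `p`-subgroup of `F(H)` lies in `O_p(H)`. -/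
theorem le_pCoreOf_of_fitting {p : ℕ} [Fact p.Prime] {H Y : Subgroup G}
    (hY : Y ≤ Cfsg.fittingOf H) (hp : IsPGroup p Y) : Y ≤ Cfsg.pCoreOf p H := by
  set F : Subgroup H := Cfsg.fittingSubgroup H with hF
  have hFn : Group.IsNilpotent F := Cores.fittingSubgroup_isNilpotent
  intro y hy
  obtain ⟨z, hz, rfl⟩ := hY hy
  have hp' : IsPGroup p ((Y.subgroupOf H).subgroupOf F) :=
    (hp.comap_subtype (K := H)).comap_subtype
  obtain ⟨P, hP⟩ := hp'.exists_le_sylow
  haveI := hFn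
  haveI hPn : (P : Subgroup F).Normal := inferInstance
  haveI := P.characteristic_of_normal hPn
  haveI := Cores.normal_map_subtype F (P : Subgroup F)
  have hzP : (⟨z, hz⟩ : F) ∈ (P : Subgroup F) := hP (by
    simp only [Subgroup.mem_subgroupOf]; exact hy)
  exact ⟨z, Cores.le_pCore (P.isPGroup'.map _) (Subgroup.mem_map_of_mem F.subtype hzP), rfl⟩

theorem mem_pCoreOf_of_pow {p : ℕ} [Fact p.Prime] {H : Subgroup G} {x : G} {k : ℕ}
    (hx : x ∈ Cfsg.fittingOf H) (hk : orderOf x = p ^ k) : x ∈ Cfsg.pCoreOf p H :=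
  le_pCoreOf_of_fitting (Subgroup.zpowers_le.2 hx)
    (IsPGroup.iff_card.2 ⟨k, by rw [Nat.card_zpowers, hk]⟩) (Subgroup.mem_zpowers x)

theorem coprime_card {p q : ℕ} [hp : Fact p.Prime] [hq : Fact q.Prime] (hpq : p ≠ q)
    {A B : Subgroup G} (hA : IsPGroup p A) (hB : IsPGroup q B) :
    (Nat.card A).Coprime (Nat.card B) := by
  obtain ⟨m, hm⟩ := IsPGroup.iff_card.1 hA
  obtain ⟨n, hn⟩ := IsPGroup.iff_card.1 hB
  rw [hm, hn]
  exact Nat.Coprime.pow m n ((Nat.coprime_primes hp.out hq.out).2 hpq)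

theorem pCoreOf_commute {p q : ℕ} [Fact p.Prime] [Fact q.Prime] (hpq : p ≠ q) (H : Subgroup G) :
    Cfsg.pCoreOf p H ≤ Subgroup.centralizer (Cfsg.pCoreOf q H : Set G) :=
  le_centralizer_of_nilpotent (Cores.fittingOf_isNilpotent H) (pCoreOf_le_fittingOf p H)
    (pCoreOf_le_fittingOf q H)
    (coprime_card hpq (CharP.isPGroup_pCoreOf p H) (CharP.isPGroup_pCoreOf q H))

theorem dvd_card_fittingOf_iff {p : ℕ} [hp : Fact p.Prime] {H : Subgroup G} :
    p ∣ Nat.card (Cfsg.fittingOf H) ↔ Cfsg.pCoreOf p H ≠ ⊥ := by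
  constructor
  · intro h hbot
    obtain ⟨x, hx⟩ := exists_prime_orderOf_dvd_card' p h
    have hxo : orderOf (x : G) = p ^ 1 := by rw [Subgroup.orderOf_coe, hx, pow_one]
    have := mem_pCoreOf_of_pow x.2 hxo
    rw [hbot, Subgroup.mem_bot] at this
    rw [this, orderOf_one, pow_one] at hxo
    exact hp.out.ne_one hxo.symm
  · intro h
    haveI : Nontrivial (Cfsg.pCoreOf p H) := (Subgroup.nontrivial_iff_ne_bot _).2 h
    obtain ⟨n, hn0, hn⟩ := (CharP.isPGroup_pCoreOf p H).nontrivial_iff_card.1 inferInstance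
    exact (hn ▸ dvd_pow_self p hn0.ne' : p ∣ Nat.card (Cfsg.pCoreOf p H)).trans
      (Subgroup.card_dvd_of_le (pCoreOf_le_fittingOf p H))

/-- An element commutes with a nilpotent subgroup once it commutes with its primary parts. -/
theorem mem_centralizer_of_primary {H M : Subgroup G} (hM : M ≤ Cfsg.fittingOf H) {x : G}
    (h : ∀ (r : ℕ) [Fact r.Prime], r ∣ Nat.card (Cfsg.fittingOf H) →
      ∀ m ∈ M ⊓ Cfsg.pCoreOf r H, Commute x m) :
    x ∈ Subgroup.centralizer (M : Set G) := by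
  suffices M ≤ Subgroup.centralizer ({x} : Set G) by
    rw [Subgroup.mem_centralizer_iff]
    intro m hm
    exact (Subgroup.mem_centralizer_iff.1 (this hm) x rfl).symm
  refine Coprime.le_of_forall_sylow fun r hr => ?_
  haveI := Fact.mk hr
  obtain ⟨S⟩ : Nonempty (Sylow r M) := inferInstance
  refine ⟨S, fun m hm => ?_⟩
  rw [Subgroup.mem_centralizer_iff]
  rintro _ rfl
  have hmM : m ∈ M := Subgroup.map_subtype_le _ hm
  have hmP : m ∈ Cfsg.pCoreOf r H :=
    le_pCoreOf_of_fitting ((Subgroup.map_subtype_le _).trans hM) (S.isPGroup'.map _) hm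
  by_cases hd : r ∣ Nat.card (Cfsg.fittingOf H)
  · exact (h r hd m ⟨hmM, hmP⟩).eq
  · have : Cfsg.pCoreOf r H = ⊥ := not_not.1 fun hh => hd (dvd_card_fittingOf_iff.2 hh)
    rw [this, Subgroup.mem_bot] at hmP
    rw [hmP, mul_one, one_mul]

theorem mem_centralizer_fittingOf {H : Subgroup G} {x : G}
    (h : ∀ (r : ℕ) [Fact r.Prime], r ∣ Nat.card (Cfsg.fittingOf H) →
      ∀ u ∈ Cfsg.pCoreOf r H, Commute x u) :
    x ∈ Subgroup.centralizer (Cfsg.fittingOf H : Set G) :=
  mem_centralizer_of_primary le_rfl fun r _ hd m hm => h r hd m hm.2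

/-- `C_H(F(H)) ≤ F(H)` for solvable `H`. -/
theorem inf_centralizer_fittingOf_le (H : Subgroup G) [Group.IsSolvable H] :
    H ⊓ Subgroup.centralizer (Cfsg.fittingOf H : Set G) ≤ Cfsg.fittingOf H := by
  rintro x ⟨hxH, hx⟩
  refine ⟨⟨x, hxH⟩, Cores.centralizer_fittingSubgroup_le ?_, rfl⟩
  rw [Subgroup.mem_centralizer_iff]
  intro w hw
  exact Subtype.ext (Subgroup.mem_centralizer_iff.1 hx (w : G) ⟨w, hw, rfl⟩)

theorem exists_ne_prime {n : ℕ} (h : 2 ≤ n.primeFactors.card) (p : ℕ) :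
    ∃ s, s.Prime ∧ s ∣ n ∧ s ≠ p := by
  obtain ⟨s, hs, hsp⟩ := Finset.exists_mem_ne h p
  exact ⟨s, (Nat.mem_primeFactors.1 hs).1, (Nat.mem_primeFactors.1 hs).2.1, hsp⟩

omit [Finite G] in
theorem normalizer_le_normalizer_centralizer (F : Subgroup G) :
    Subgroup.normalizer (F : Set G) ≤
      Subgroup.normalizer (Subgroup.centralizer (F : Set G) : Set G) := fun g hg => by
  rw [Subgroup.mem_normalizer_iff]
  intro c
  simp only [Subgroup.mem_centralizer_iff]
  constructor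
  · intro hc w hw
    have hw' : g⁻¹ * w * g ∈ F := (Subgroup.mem_normalizer_iff''.1 hg w).1 hw
    calc w * (g * c * g⁻¹) = g * ((g⁻¹ * w * g) * c) * g⁻¹ := by group
      _ = g * (c * (g⁻¹ * w * g)) * g⁻¹ := by rw [hc _ hw']
      _ = g * c * g⁻¹ * w := by group
  · intro hc w hw
    have hw' : g * w * g⁻¹ ∈ F := (Subgroup.mem_normalizer_iff.1 hg w).1 hw
    have := hc _ hw'
    calc w * c = g⁻¹ * ((g * w * g⁻¹) * (g * c * g⁻¹)) * g := by group
      _ = g⁻¹ * ((g * c * g⁻¹) * (g * w * g⁻¹)) * g := by rw [this]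
      _ = c * w := by group

/-- The `p`-part of the centre of `F(H)`. -/
def zPart (p : ℕ) (H : Subgroup G) : Subgroup G :=
  Cfsg.pCoreOf p H ⊓ Subgroup.centralizer (Cfsg.fittingOf H : Set G)

theorem zPart_isPGroup (p : ℕ) (H : Subgroup G) : IsPGroup p (zPart p H) :=
  (CharP.isPGroup_pCoreOf p H).to_le inf_le_left

theorem zPart_le_center {p : ℕ} [Fact p.Prime] (H : Subgroup G) :
    zPart p H ≤ Cfsg.fittingOf H ⊓ Subgroup.centralizer (Cfsg.fittingOf H : Set G) :=
  inf_le_inf_right _ (pCoreOf_le_fittingOf p H)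

theorem le_normalizer_zPart (p : ℕ) (H : Subgroup G) :
    H ≤ Subgroup.normalizer (zPart p H : Set G) :=
  Coprime.le_normalizer_inf (CharP.le_normalizer_pCoreOf p H)
    ((fittingOf_normal H).trans (normalizer_le_normalizer_centralizer _))

theorem zPart_ne_bot {p : ℕ} [hp : Fact p.Prime] {H : Subgroup G}
    (h : p ∣ Nat.card (Cfsg.fittingOf H)) : zPart p H ≠ ⊥ := by
  intro hbot
  haveI : Nontrivial (Cfsg.pCoreOf p H) :=
    (Subgroup.nontrivial_iff_ne_bot _).2 (dvd_card_fittingOf_iff.1 h)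
  haveI := (CharP.isPGroup_pCoreOf p H).center_nontrivial
  obtain ⟨z, hz⟩ := exists_ne (1 : Subgroup.center (Cfsg.pCoreOf p H))
  have hzm : (((z : Cfsg.pCoreOf p H)) : G) ∈ zPart p H := by
    refine ⟨(z : Cfsg.pCoreOf p H).2, mem_centralizer_fittingOf fun r _ _ u hu => ?_⟩
    rcases eq_or_ne r p with rfl | hrp
    · exact (congrArg Subtype.val (Subgroup.mem_center_iff.1 z.2 ⟨u, hu⟩)).symm
    · exact Subgroup.mem_centralizer_iff.1 (pCoreOf_commute hrp H hu) _
        (z : Cfsg.pCoreOf p H).2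
  rw [hbot, Subgroup.mem_bot] at hzm
  exact hz (Subtype.ext (Subtype.ext hzm))

end Cfsg.Agent.Lib.OddOrder.Fitting
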