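import Cfsg.Agent.Lib.OddOrder.CentDerived
import Cfsg.Agent.Lib.OddOrder.SigmaCompl

/-!
# BG 12.17: `[M_σ, E] = M_σ` and `M_σ ∩ M^g`
-/

set_option autoImplicit false
set_option linter.style.haveILetI false
set_option linter.unusedSectionVars false

open scoped Pointwise commutatorElement

namespace Cfsg.Agent.Lib.OddOrder.SigmaIntersect

open Cfsg.Agent.Lib.OddOrder.MinSimple

universe u

/-- If `H = N E` with `N` normal abelian, `N ⊓ E = ⊥` and `N ≤ H'`, then `N = [N, E]`. -/
theorem commutator_eq_self {H : Type u} [Group H] {N E : Subgroup H} [N.Normal]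
    [IsMulCommutative N] (hd : N ⊓ E = ⊥) (hsup : N ⊔ E = ⊤) (hN : N ≤ commutator H) :
    ⁅N, E⁆ = N := by
  set D := ⁅N, E⁆ with hD
  have hDN : D ≤ N := Subgroup.commutator_le_left N E
  have hDn : ⊤ ≤ Subgroup.normalizer (D : Set H) := hsup ▸ sup_le
    (Coprime.left_le_normalizer_commutator N E) (Coprime.right_le_normalizer_commutator N E)
  haveI : D.Normal := Subgroup.normalizer_eq_top_iff.1 (top_le_iff.1 hDn)
  refine le_antisymm hDN fun x hx => ?_
  have hle : commutator H ≤ D ⊔ ⁅E, E⁆ := by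
    set f := QuotientGroup.mk' D with hf
    have key : (commutator H).map f ≤ (⁅E, E⁆).map f := by
      rw [commutator_def, ← hsup, Subgroup.map_commutator, Subgroup.map_commutator,
        Subgroup.map_sup, Subgroup.commutator_le]
      have hc : N.map f ≤ Subgroup.centralizer (E.map f : Set (H ⧸ D)) := by
        rintro _ ⟨n, hn, rfl⟩
        refine Subgroup.mem_centralizer_iff.2 ?_
        rintro _ ⟨e, he, rfl⟩
        refine (commutatorElement_eq_one_iff_mul_comm.1 ?_).symm
        rw [← map_commutatorElement, hf, QuotientGroup.mk'_apply, QuotientGroup.eq_one_iff]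
        exact Subgroup.commutator_mem_commutator hn he
      haveI : (N.map f).Normal := Subgroup.Normal.map inferInstance f (QuotientGroup.mk'_surjective D)
      intro u hu v hv
      obtain ⟨a, ha, e, he, rfl⟩ := Subgroup.mem_sup_of_normal_left.1 hu
      obtain ⟨b, hb, e', he', rfl⟩ := Subgroup.mem_sup_of_normal_left.1 hv
      have hab : a * b = b * a := by
        obtain ⟨a₀, ha₀, rfl⟩ := ha
        obtain ⟨b₀, hb₀, rfl⟩ := hb
        rw [← map_mul, ← map_mul]
        exact congrArg f (congrArg Subtype.val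
          ((inferInstance : IsMulCommutative N).is_comm.comm ⟨a₀, ha₀⟩ ⟨b₀, hb₀⟩))
      have h1 : ∀ x ∈ N.map f, ∀ y ∈ E.map f, x * y = y * x := fun x hx y hy =>
        (Subgroup.mem_centralizer_iff.1 (hc hx) y hy).symm
      have h2 : ⁅a * e, b * e'⁆ = ⁅e, e'⁆ := by
        have q1 : e * b = b * e := (h1 b hb e he).symm
        have q2 : a * e' = e' * a := h1 a ha e' he'
        have q3 : a * e = e * a := h1 a ha e he
        have q4 : b * e' = e' * b := h1 b hb e' he'
        simp only [commutatorElement_def, mul_inv_rev]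
        calc a * e * (b * e') * (e⁻¹ * a⁻¹) * (e'⁻¹ * b⁻¹)
            = a * (e * b) * e' * e⁻¹ * (e' * a)⁻¹ * b⁻¹ := by group
          _ = a * b * e * e' * e⁻¹ * (a * e')⁻¹ * b⁻¹ := by rw [q1, ← q2]; group
          _ = (a * b) * (e * e' * e⁻¹ * e'⁻¹) * a⁻¹ * b⁻¹ := by group
          _ = (b * a) * (e * e' * e⁻¹ * e'⁻¹) * a⁻¹ * b⁻¹ := by rw [hab]
          _ = e * e' * e⁻¹ * e'⁻¹ := by
            have hq : Commute (b * a) (e * e' * e⁻¹ * e'⁻¹) := by
              have c1 : Commute b e := q1.symm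
              have c2 : Commute a e := q3
              have c3 : Commute b e' := q4
              have c4 : Commute a e' := q2
              have d1 := c1.mul_left c2
              have d2 := c3.mul_left c4
              exact ((d1.mul_right d2).mul_right d1.inv_right).mul_right d2.inv_right
            rw [hq.eq]
            group
      rw [h2]
      exact Subgroup.commutator_mem_commutator he he'
    rw [Subgroup.map_le_map_iff, QuotientGroup.ker_mk', sup_comm] at key
    exact key
  obtain ⟨d, hd', e, he, rfl⟩ := Subgroup.mem_sup_of_normal_left.1 (hle (hN hx))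
  have hee : e ∈ E := (Subgroup.map_subtype_commutator E ▸ Subgroup.map_subtype_le _ : ⁅E, E⁆ ≤ E) he
  have heN : e ∈ N := by
    have := mul_mem (inv_mem (hDN hd')) hx
    rwa [inv_mul_cancel_left] at this
  have : e ∈ N ⊓ E := ⟨heN, hee⟩
  rw [hd, Subgroup.mem_bot] at this
  rw [this, mul_one]
  exact hd'

variable {G : Type u} [Group G] [Finite G]

/-- BG 12.17(a). -/
theorem sigma_compl (hG : Cfsg.IsMinSimpleOddOrder G) {M E : Subgroup G} (hM : IsCoatom M)
    (hE : Cfsg.IsComplIn E (Cfsg.sigmaCore M) M) :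
    Cfsg.sigmaCore M ⊓ Subgroup.centralizer (E : Set G) ≤ ⁅Cfsg.sigmaCore M, Cfsg.sigmaCore M⁆ ∧
      ⁅Cfsg.sigmaCore M, E⁆ = Cfsg.sigmaCore M := by
  haveI := solvable_of_ne_top hG hM.1
  have hσ := SigmaHall.sigmaCore_isPiHallOf hG hM
  set N := Cfsg.sigmaCore M with hNdef
  set N₀ := Cfsg.piCore (Cfsg.sigma M) M with hN₀
  set E₀ := E.subgroupOf M with hE₀
  have hNmap : N₀.map M.subtype = N := rfl
  haveI : Group.IsSolvable N := Coprime.isSolvable_of_le hσ.1
  have hsup₀ : N₀ ⊔ E₀ = ⊤ := by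
    apply Subgroup.map_injective M.subtype_injective
    rw [Subgroup.map_sup, hNmap, Subgroup.map_subgroupOf_eq_of_le hE.1,
      ← MonoidHom.range_eq_map, Subgroup.range_subtype, sup_comm]
    exact Basic.isComplIn_sup hE
  have hd₀ : N₀ ⊓ E₀ = ⊥ := by
    apply Subgroup.map_injective M.subtype_injective
    rw [Subgroup.map_inf _ _ _ M.subtype_injective, hNmap, Subgroup.map_subgroupOf_eq_of_le hE.1,
      Subgroup.map_bot, inf_comm]
    exact hE.2.2.1
  -- pass to `M / M_σ'`
  set C := ⁅N₀, N₀⁆ with hC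
  haveI : C.Normal := Subgroup.commutator_normal _ _
  have hCN : C ≤ N₀ := Subgroup.commutator_le_left _ _
  set f := QuotientGroup.mk' C with hf
  have hfs := QuotientGroup.mk'_surjective C
  haveI : (N₀.map f).Normal := Subgroup.Normal.map inferInstance f hfs
  haveI hab : IsMulCommutative (N₀.map f) := by
    refine ⟨⟨fun a b => Subtype.ext ?_⟩⟩
    obtain ⟨a', ha', hea⟩ := a.2
    obtain ⟨b', hb', heb⟩ := b.2
    show (a : M ⧸ C) * b = b * a
    rw [← hea, ← heb]
    refine commutatorElement_eq_one_iff_mul_comm.1 ?_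
    rw [← map_commutatorElement, hf, QuotientGroup.mk'_apply, QuotientGroup.eq_one_iff]
    exact Subgroup.commutator_mem_commutator ha' hb'
  have hdf : N₀.map f ⊓ E₀.map f = ⊥ := by
    rw [eq_bot_iff]
    rintro _ ⟨⟨n, hn, rfl⟩, e, he, heq⟩
    rw [Subgroup.mem_bot]
    have h1 : n⁻¹ * e ∈ C := (QuotientGroup.eq).1 heq.symm
    have h2 : e ∈ N₀ ⊓ E₀ := ⟨by simpa using mul_mem hn (hCN h1), he⟩
    rw [hd₀, Subgroup.mem_bot] at h2
    rw [← heq, h2, map_one]
  have hsupf : N₀.map f ⊔ E₀.map f = ⊤ := by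
    rw [← Subgroup.map_sup, hsup₀, Subgroup.map_top_of_surjective f hfs]
  have hNf : N₀.map f ≤ commutator (M ⧸ C) := by
    have h1 : (commutator M).map f = commutator (M ⧸ C) := by
      rw [commutator_def, Subgroup.map_commutator, Subgroup.map_top_of_surjective f hfs]
      rfl
    rw [← h1]
    refine Subgroup.map_mono ?_
    rw [← Subgroup.map_le_map_iff_of_injective M.subtype_injective, Subgroup.map_subtype_commutator]
    exact BetaCore.sigmaCore_le_derived hG hM
  have hcomm := commutator_eq_self hdf hsupf hNf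
  have hEn : E ≤ Subgroup.normalizer (N : Set G) :=
    hE.1.trans (Basic.le_normalizer_map_subtype M _)
  have hcopE : (Nat.card E).Coprime (Nat.card N) := by
    refine Nat.coprime_of_dvd fun r hr h1 h2 => hσ.2.2 r hr (hσ.2.1 r hr h2) ?_
    rwa [Basic.isComplIn_relIndex (Basic.isComplIn_symm hE)]
  constructor
  · intro x hx
    obtain ⟨hxN, hxE⟩ := hx
    have hxM : x ∈ M := hσ.1 hxN
    have hx0 : (⟨x, hxM⟩ : M) ∈ N₀ := by
      obtain ⟨y, hy, hyx⟩ := hxN
      rwa [← Subtype.ext (a1 := y) (a2 := (⟨x, hxM⟩ : M)) hyx]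
    have hmem : f ⟨x, hxM⟩ ∈ N₀.map f ⊓ Subgroup.centralizer (E₀.map f : Set (M ⧸ C)) := by
      refine Subgroup.mem_inf.2 ⟨Subgroup.mem_map_of_mem f hx0, Subgroup.mem_centralizer_iff.2 ?_⟩
      rintro _ ⟨e, he, rfl⟩
      rw [← map_mul, ← map_mul]
      exact congrArg f (Subtype.ext (Subgroup.mem_centralizer_iff.1 hxE _ he))
    have hn : E₀.map f ≤ Subgroup.normalizer (N₀.map f : Set (M ⧸ C)) :=
      Subgroup.le_normalizer_of_normal
    have hcop : (Nat.card (E₀.map f)).Coprime (Nat.card (N₀.map f)) :=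
      (hcopE.coprime_dvd_left ((Subgroup.card_map_dvd _ _).trans
        (NormedConstrained.card_subgroupOf_eq hE.1).dvd)).coprime_dvd_right
        ((Subgroup.card_map_dvd _ _).trans (by
          rw [← hNmap, Subgroup.card_map_of_injective M.subtype_injective]))
    have h := Coprime.centralizer_inf_commutator_eq_bot hn hcop
    rw [hcomm] at h
    have h1 := h ▸ Subgroup.mem_inf.2 ⟨hmem, hmem.1⟩
    rw [Subgroup.mem_bot, hf, QuotientGroup.mk'_apply, QuotientGroup.eq_one_iff] at h1
    have h2 := Subgroup.mem_map_of_mem M.subtype h1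
    rwa [hC, Subgroup.map_commutator, hNmap] at h2
  · -- `[N, E] N' = N`
    set D := ⁅N, E⁆ with hD
    have hDN : D ≤ N := Coprime.commutator_le_of_le_normalizer hEn
    haveI hDn : (D.subgroupOf N).Normal := (Subgroup.normal_subgroupOf_iff_le_normalizer hDN).2
      (Coprime.left_le_normalizer_commutator N E)
    have h1 : N ≤ D ⊔ ⁅N, N⁆ := by
      have h2 : N₀ ≤ ⁅N₀, E₀⁆ ⊔ C := by
        have h3 := hcomm.ge
        rw [← Subgroup.map_commutator, Subgroup.map_le_map_iff, QuotientGroup.ker_mk'] at h3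
        exact h3
      have h4 := Subgroup.map_mono (f := M.subtype) h2
      rwa [Subgroup.map_sup, Subgroup.map_commutator, hC, Subgroup.map_commutator, hNmap,
        Subgroup.map_subgroupOf_eq_of_le hE.1] at h4
    -- `N / D` is perfect and solvable
    refine le_antisymm hDN ?_
    set g := QuotientGroup.mk' (D.subgroupOf N) with hg
    have hperf : commutator (N ⧸ D.subgroupOf N) = ⊤ := by
      rw [eq_top_iff]
      intro y _
      obtain ⟨n, rfl⟩ := QuotientGroup.mk'_surjective (D.subgroupOf N) y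
      have hmem : (n : G) ∈ D ⊔ ⁅N, N⁆ := h1 n.2
      have h5 : n ∈ D.subgroupOf N ⊔ commutator N := by
        have hle : ⁅N, N⁆ ≤ N := Subgroup.map_subtype_commutator N ▸ Subgroup.map_subtype_le _
        rw [show commutator N = ⁅N, N⁆.subgroupOf N by
          rw [← Subgroup.map_subtype_commutator, Subgroup.subgroupOf,
            Subgroup.comap_map_eq_self_of_injective N.subtype_injective]]
        rw [← Subgroup.subgroupOf_sup hDN hle]
        exact hmem
      have h6 : g n ∈ (D.subgroupOf N ⊔ commutator N).map g := Subgroup.mem_map_of_mem g h5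
      rw [Subgroup.map_sup, QuotientGroup.map_mk'_self, bot_sup_eq, commutator_def,
        Subgroup.map_commutator, Subgroup.map_top_of_surjective g (QuotientGroup.mk'_surjective _)]
        at h6
      exact h6
    haveI : Group.IsSolvable (N ⧸ D.subgroupOf N) :=
      solvable_of_surjective (f := g) (QuotientGroup.mk'_surjective _)
    haveI : Subsingleton (N ⧸ D.subgroupOf N) := by
      by_contra hns
      haveI := not_subsingleton_iff_nontrivial.1 hns
      exact (Group.IsSolvable.commutator_lt_top_of_nontrivial _).ne hperf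
    intro x hx
    have h7 : (⟨x, hx⟩ : N) ∈ D.subgroupOf N :=
      (QuotientGroup.eq_one_iff (⟨x, hx⟩ : N)).1 (Subsingleton.elim _ _)
    exact h7

/-- BG 12.17(b). -/
theorem inf_conj (h13 : CentDerived.NonabelianUnique G) (hG : Cfsg.IsMinSimpleOddOrder G)
    {M : Subgroup G} (hM : IsCoatom M) {g : G} (hg : g ∉ M) :
    IsCyclic ↥(Cfsg.sigmaCore M ⊓ M.map (MulAut.conj g).toMonoidHom) ∧
      (∀ p : ℕ, p.Prime → p ∣ Nat.card ↥(Cfsg.sigmaCore M ⊓ M.map (MulAut.conj g).toMonoidHom) →
        p ∉ Cfsg.beta M) ∧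
      Cfsg.sigmaCore M ⊓ M.map (MulAut.conj g).toMonoidHom ⊓
        ⁅Cfsg.sigmaCore M, Cfsg.sigmaCore M⁆ = ⊥ := by
  have hσ := SigmaHall.sigmaCore_isPiHallOf hG hM
  set D := Cfsg.sigmaCore M ⊓ M.map (MulAut.conj g).toMonoidHom with hD
  have hDM : D ≤ M := inf_le_left.trans hσ.1
  -- no nontrivial subgroup of `D` has its centralizer in `M`
  have key : ∀ (q : ℕ) [Fact q.Prime] (X : Subgroup G), IsPGroup q X → X ≠ ⊥ → X ≤ D →
      ¬ Subgroup.centralizer (X : Set G) ≤ M := by
    intro q _ X hXq hX1 hXD hC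
    have hqσ : q ∈ Cfsg.sigma M := hσ.2.1 q Fact.out ((SigmaEmbedding.ne_one_of_pgroup hXq hX1).trans
      (Subgroup.card_dvd_of_le (hXD.trans inf_le_left)))
    obtain ⟨m, hm, c, hc, hgc⟩ := Sigma.fusion hG hM hqσ _ X rfl hXq hX1 (hXD.trans hDM) g⁻¹ (by
      rintro _ ⟨x, hx, rfl⟩
      have h1 : x ∈ MulAut.conj g • M := (hXD hx).2
      rw [Coprime.mem_conj_smul] at h1
      simpa [mul_assoc] using h1)
    exact hg (inv_mem_iff.1 (hgc ▸ mul_mem hm (hC hc)))
  have hsyl : ∀ (q : ℕ) [Fact q.Prime] (X : Subgroup G), IsPGroup q X → X ≤ D → IsCyclic X := by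
    intro q _ X hXq hXD
    by_contra hnc
    have hX1 : X ≠ ⊥ := fun e => hnc (by rw [e]; infer_instance)
    exact key q X hXq hX1 hXD
      (SigmaEmbedding.centralizer_le_of_not_isCyclic hG hM hXq (hXD.trans hDM) hnc)
  have hprime : ∀ (q : ℕ) [Fact q.Prime], q ∣ Nat.card D → q ∉ Cfsg.beta M := by
    intro q hq hd hb
    obtain ⟨x, hx⟩ := exists_prime_orderOf_dvd_card' (G := D) q hd
    have hxo : orderOf (x : G) = q := by rw [Subgroup.orderOf_coe, hx]
    obtain ⟨⟨hC, -⟩, -⟩ := CentDerived.cent_derived h13 hG hM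
      (AlphaCore.alpha_subset_sigma hG hM hb.1) (hDM x.2) hxo (Or.inl hb)
    refine key q (Subgroup.zpowers (x : G))
      (IsPGroup.of_card (n := 1) (by rw [Nat.card_zpowers, hxo, pow_one]))
      (fun e => ?_) (Subgroup.zpowers_le.2 x.2) ?_
    · rw [Subgroup.zpowers_eq_bot] at e
      rw [e, orderOf_one] at hxo
      exact hq.out.ne_one hxo.symm
    · rwa [Subgroup.zpowers_eq_closure, Subgroup.centralizer_closure]
  have hder : D ⊓ ⁅Cfsg.sigmaCore M, Cfsg.sigmaCore M⁆ = ⊥ := by
    by_contra hne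
    obtain ⟨q, hq, hd⟩ := Nat.exists_prime_and_dvd (mt Subgroup.card_eq_one.1 hne)
    haveI := Fact.mk hq
    obtain ⟨x, hx⟩ := exists_prime_orderOf_dvd_card'
      (G := ↥(D ⊓ ⁅Cfsg.sigmaCore M, Cfsg.sigmaCore M⁆)) q hd
    have hxo : orderOf (x : G) = q := by rw [Subgroup.orderOf_coe, hx]
    have hqσ : q ∈ Cfsg.sigma M := hσ.2.1 q hq (hd.trans
      (Subgroup.card_dvd_of_le (inf_le_left.trans inf_le_left)))
    obtain ⟨⟨hC, -⟩, -⟩ := CentDerived.cent_derived h13 hG hM hqσ (hDM x.2.1) hxo (Or.inr x.2.2)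
    refine key q (Subgroup.zpowers (x : G))
      (IsPGroup.of_card (n := 1) (by rw [Nat.card_zpowers, hxo, pow_one]))
      (fun e => ?_) (Subgroup.zpowers_le.2 x.2.1) ?_
    · rw [Subgroup.zpowers_eq_bot] at e
      rw [e, orderOf_one] at hxo
      exact hq.ne_one hxo.symm
    · rwa [Subgroup.zpowers_eq_closure, Subgroup.centralizer_closure]
  refine ⟨?_, fun p hp hd => ?_, hder⟩
  · haveI hab : IsMulCommutative D := by
      refine ⟨⟨fun a b => Subtype.ext (commutatorElement_eq_one_iff_mul_comm.1 ?_)⟩⟩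
      have h1 : ⁅(a : G), (b : G)⁆ ∈ D ⊓ ⁅Cfsg.sigmaCore M, Cfsg.sigmaCore M⁆ := by
        refine Subgroup.mem_inf.2 ⟨?_, Subgroup.commutator_mem_commutator a.2.1 b.2.1⟩
        rw [commutatorElement_def]
        exact mul_mem (mul_mem (mul_mem a.2 b.2) (inv_mem a.2)) (inv_mem b.2)
      rwa [hder, Subgroup.mem_bot] at h1
    haveI : Group.IsNilpotent D := by
      letI : CommGroup D := { mul_comm := fun a b => hab.is_comm.comm a b }
      infer_instance
    refine CyclicSylow.isCyclic_of_sylow_cyclic fun q hq Q => ?_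
    haveI := Fact.mk hq
    have hc := hsyl q _ (Q.2.map D.subtype) (Subgroup.map_subtype_le _)
    exact (Subgroup.equivMapOfInjective _ _ D.subtype_injective).isCyclic.2 hc
  · haveI := Fact.mk hp
    exact hprime p hd

end Cfsg.Agent.Lib.OddOrder.SigmaIntersect
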