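import Cfsg.Agent.Lib.Puig.Theorem
import Cfsg.Agent.Lib.Fusion.Alperin
import Cfsg.Agent.Lib.OddOrder.NormedConstrained

/-!
# `N(Z(L(P)))` controls transfer in a minimal simple group of odd order
-/

set_option autoImplicit false
set_option linter.style.haveILetI false

open scoped Pointwise commutatorElement

namespace Cfsg.Agent.Lib.OddOrder.PuigControl

open Cfsg.Agent.Lib.OddOrder.MinSimple Cfsg.Agent.Lib.OddOrder.NormedConstrained
  Cfsg.Agent.Lib.Puig.Inside Cfsg.Agent.Lib.Puig.Theorem Cfsg.Agent.Lib.Fusion.Alperin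

universe u

/-! ### Transport of `Z(L(H))` -/

theorem upperIn_eq_iInf {K : Type u} [Group K] (H : Subgroup K) :
    upperIn H = ⨅ n, seqIn H (2 * n + 1) := by
  rw [upperIn, Cfsg.puigSubgroup, Subgroup.map_iInf _ H.subtype_injective]
  simp only [map_subtype_puigSeq]

theorem map_seqIn {K K' : Type u} [Group K] [Group K'] (f : K →* K') (hf : Function.Injective f)
    (H : Subgroup K) (n : ℕ) : (seqIn H n).map f = seqIn (H.map f) n := by
  rw [← map_subtype_puigSeq, Subgroup.map_map,
    map_puigSeq (f.comp H.subtype) (hf.comp H.subtype_injective)]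
  rw [MonoidHom.range_comp, Subgroup.range_subtype]

theorem map_upperIn' {K K' : Type u} [Group K] [Group K'] (f : K →* K')
    (hf : Function.Injective f) (H : Subgroup K) : (upperIn H).map f = upperIn (H.map f) := by
  rw [upperIn_eq_iInf, upperIn_eq_iInf, Subgroup.map_iInf _ hf]
  simp only [map_seqIn f hf]

theorem map_centerIn {K K' : Type u} [Group K] [Group K'] (f : K →* K')
    (hf : Function.Injective f) (H : Subgroup K) : (centerIn H).map f = centerIn (H.map f) := by
  rw [centerIn_eq, centerIn_eq, ← map_upperIn' f hf]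
  apply le_antisymm
  · rintro _ ⟨x, hx, rfl⟩
    refine ⟨⟨x, hx.1, rfl⟩, Subgroup.mem_centralizer_iff.2 ?_⟩
    rintro _ ⟨w, hw, rfl⟩
    rw [← map_mul, ← map_mul, Subgroup.mem_centralizer_iff.1 hx.2 w hw]
  · rintro _ ⟨⟨x, hx, rfl⟩, hx2⟩
    refine ⟨x, ⟨hx, Subgroup.mem_centralizer_iff.2 fun w hw => hf ?_⟩, rfl⟩
    rw [map_mul, map_mul]
    exact Subgroup.mem_centralizer_iff.1 hx2 _ ⟨w, hw, rfl⟩

variable {G : Type u} [Group G] [Finite G]

theorem conjS_centerIn (g : G) (H : Subgroup G) :
    conjS g (centerIn H) = centerIn (conjS g H) :=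
  map_centerIn _ (MulAut.conj g).injective H

theorem normalizer_le_normalizer_centerIn (H : Subgroup G) :
    Subgroup.normalizer (H : Set G) ≤ Subgroup.normalizer (centerIn H : Set G) := fun g hg =>
  mem_normalizer_of_conjS_eq (by rw [conjS_centerIn, conjS_eq_of_mem_normalizer hg])

theorem centerIn_le (H : Subgroup G) : centerIn H ≤ H :=
  (Subgroup.map_subtype_le _)

theorem centerIn_ne_bot {p : ℕ} [Fact p.Prime] {H : Subgroup G} (hH : IsPGroup p H)
    (h1 : H ≠ ⊥) : centerIn H ≠ ⊥ := by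
  intro h
  haveI : Nontrivial H := (Subgroup.nontrivial_iff_ne_bot H).2 h1
  have hz := hH.center_nontrivial
  rw [Cfsg.Agent.Lib.Puig.Theorem.centerIn, Subgroup.map_eq_bot_iff_of_injective _ H.subtype_injective,
    Subgroup.map_eq_bot_iff_of_injective _ (Cfsg.puigSubgroup ↥H).subtype_injective] at h
  obtain ⟨z, hz1⟩ := exists_ne (1 : Subgroup.center H)
  haveI := hH.isNilpotent
  have hzL : (z : H) ∈ Cfsg.puigSubgroup ↥H := by
    rw [← Puig.Basic.puigStep_puigLower]
    exact Puig.Basic.centralizer_puigStep_le _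
      (Subgroup.mem_centralizer_iff.2 fun w _ => Subgroup.mem_center_iff.1 z.2 w)
  have : (⟨(z : H), hzL⟩ : Cfsg.puigSubgroup ↥H) ∈ Subgroup.center ↥(Cfsg.puigSubgroup ↥H) :=
    Subgroup.mem_center_iff.2 fun w => Subtype.ext (Subgroup.mem_center_iff.1 z.2 w)
  rw [h, Subgroup.mem_bot] at this
  exact hz1 (Subtype.ext (congrArg Subtype.val this : (z : H) = 1))

variable {p : ℕ} [hp : Fact p.Prime]

/-- Puig's factorization in a proper subgroup. -/
theorem exists_factor (hG : Cfsg.IsMinSimpleOddOrder G) (hp2 : p ≠ 2) {L : Subgroup G}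
    (hL : L ≠ ⊤) (R : Sylow p L) {l : G} (hl : l ∈ L) :
    ∃ o ∈ pO p L, ∃ m ∈ L ⊓ Subgroup.normalizer
      (centerIn ((R : Subgroup L).map L.subtype) : Set G), l = o * m := by
  haveI := solvable_of_ne_top hG hL
  have h := puig_factorization (odd_card hG L) hp2 R
  have hmem : (⟨l, hl⟩ : L) ∈ Cfsg.pPrimeCore p L ⊔
      Subgroup.normalizer (centerIn (R : Subgroup L) : Set L) := h ▸ Subgroup.mem_top _
  rw [sup_comm] at hmem
  obtain ⟨m, hm, o, ho, e⟩ := Coprime.exists_mul_of_mem_sup
    (K := Cfsg.pPrimeCore p L) (by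
      rw [Subgroup.normalizer_eq_top_iff.2 (Cfsg.pPrimeCore_normal p L)]; exact le_top) hmem
  refine ⟨(m * o * m⁻¹ : L), ⟨_, (Cfsg.pPrimeCore_normal p L).conj_mem o ho m, rfl⟩, (m : L),
    ⟨m.2, ?_⟩, ?_⟩
  · rw [← map_centerIn L.subtype L.subtype_injective]
    exact Subgroup.le_normalizer_map L.subtype ⟨m, hm, rfl⟩
  · calc l = ((m * o : L) : G) := by rw [← e]
      _ = _ := by simp

theorem sylow_of_fullyNormalized (P : Sylow p G) {W : Subgroup G}
    (hW : IsFullyNormalized p (P : Subgroup G) W) :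
    ∃ S : Sylow p ↥(Subgroup.normalizer (W : Set G)),
      (S : Subgroup ↥(Subgroup.normalizer (W : Set G))).map (Subgroup.normalizer (W : Set G)).subtype
        = (P : Subgroup G) ⊓ Subgroup.normalizer (W : Set G) := by
  set N := Subgroup.normalizer (W : Set G)
  obtain ⟨S, hS⟩ := ((P.isPGroup'.to_le (inf_le_left : (P : Subgroup G) ⊓ N ≤ P)).comap_subtype
    (K := N)).exists_le_sylow
  refine ⟨S, hW _ (S.isPGroup'.map _) (Subgroup.map_subtype_le _) ?_⟩
  intro x hx
  exact ⟨⟨x, hx.2⟩, hS hx, rfl⟩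

theorem centralizes_of_normal_pCore {H R : Subgroup G} (hRH : R ≤ H)
    (hR : IsPGroup p R) (hHR : H ≤ Subgroup.normalizer (R : Set G)) {o x : G}
    (ho : o ∈ pO p H) (hx : x ∈ R) : o * x = x * o :=
  Constrained.commute_of_mutual (pO_coprime H) hR ho hx (hHR (pO_le H ho))
    (Basic.le_normalizer_map_subtype H _ (hRH hx))

theorem prod_mem_of_mem {D : Subgroup G} {x y z : G} (h1 : x⁻¹ * y ∈ D) (h2 : y⁻¹ * z ∈ D) :
    x⁻¹ * z ∈ D := by
  have := D.mul_mem h1 h2
  simpa [mul_assoc] using this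

/-- Fusion inside normalizers of fully normalized subgroups stays inside `N(Z(L(P)))'`. -/
theorem local_fusion (hG : Cfsg.IsMinSimpleOddOrder G) (hp2 : p ≠ 2) (P : Sylow p G) :
    ∀ n : ℕ, ∀ W : Subgroup G, W ≠ ⊥ → W ≤ (P : Subgroup G) →
      IsFullyNormalized p (P : Subgroup G) W →
      Nat.card (P : Subgroup G) -
        Nat.card ↥((P : Subgroup G) ⊓ Subgroup.normalizer (W : Set G)) = n →
      ∀ x ∈ (P : Subgroup G) ⊓ Subgroup.normalizer (W : Set G),
      ∀ h ∈ Subgroup.normalizer (W : Set G),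
        h * x * h⁻¹ ∈ (P : Subgroup G) ⊓ Subgroup.normalizer (W : Set G) →
        x⁻¹ * (h * x * h⁻¹) ∈ ⁅Subgroup.normalizer (centerIn (P : Subgroup G) : Set G),
          Subgroup.normalizer (centerIn (P : Subgroup G) : Set G)⁆ := by
  set D := ⁅Subgroup.normalizer (centerIn (P : Subgroup G) : Set G),
    Subgroup.normalizer (centerIn (P : Subgroup G) : Set G)⁆ with hD
  intro n
  induction n using Nat.strong_induction_on with
  | _ n ih =>
    intro W hW hWP hWf hn x hx h hh hy
    set H := Subgroup.normalizer (W : Set G) with hH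
    set S := (P : Subgroup G) ⊓ H with hS
    have hHt : H ≠ ⊤ := normalizer_ne_top hG hW (pgroup_ne_top hG (P.isPGroup'.to_le hWP))
    obtain ⟨S', hS'⟩ := sylow_of_fullyNormalized P hWf
    obtain ⟨o, ho, m, hm, e⟩ := exists_factor hG hp2 hHt S' hh
    rw [hS'] at hm
    -- replace `h` by an element of `N(Z(L(S)))`
    set Z := centerIn S with hZ
    obtain ⟨m', hm', he⟩ : ∃ m' ∈ H ⊓ Subgroup.normalizer (Z : Set G),
        m' * x * m'⁻¹ = h * x * h⁻¹ := by
      set M' := H ⊓ Subgroup.normalizer (Z : Set G) with hM'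
      set O₂ := pO p H ⊓ M' with hO₂
      set y := m * x * m⁻¹ with hy'
      set z := h * x * h⁻¹ with hz
      have hSM : S ≤ M' := le_inf inf_le_right
        (Subgroup.le_normalizer.trans (normalizer_le_normalizer_centerIn S))
      have hzM : z ∈ M' := hSM hy
      have hyM : y ∈ M' := M'.mul_mem (M'.mul_mem hm (hSM hx)) (M'.inv_mem hm)
      have hMO : M' ≤ Subgroup.normalizer (O₂ : Set G) := Coprime.le_normalizer_inf
        ((inf_le_left.trans (Basic.le_normalizer_map_subtype H _)))
        Subgroup.le_normalizer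
      have hzy : z⁻¹ * y ∈ O₂ := by
        refine ⟨?_, M'.mul_mem (M'.inv_mem hzM) hyM⟩
        have e1 : z = o * y * o⁻¹ := by rw [hz, hy', e]; group
        have : z⁻¹ * y = o * (y⁻¹ * o⁻¹ * y) := by rw [e1]; group
        rw [this]
        refine (pO p H).mul_mem ho ?_
        exact (Subgroup.mem_normalizer_iff''.1
          (Basic.le_normalizer_map_subtype H _ ((inf_le_left : M' ≤ H) hyM)) o⁻¹).1
          ((pO p H).inv_mem ho)
      set A₁ := Subgroup.zpowers z with hA₁
      have hA₁M : A₁ ≤ M' := Subgroup.zpowers_le.2 hzM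
      have hcop : (Nat.card A₁).Coprime (Nat.card O₂) := by
        obtain ⟨k, hk⟩ := IsPGroup.iff_card.1 (P.isPGroup'.to_le
          (Subgroup.zpowers_le.2 hy.1 : A₁ ≤ (P : Subgroup G)))
        rw [hk]
        exact ((pO_coprime H).coprime_dvd_left (Subgroup.card_dvd_of_le inf_le_left)).symm.pow_left k
      have hord : orderOf y = orderOf z := by
        have : ∀ g : G, orderOf (g * x * g⁻¹) = orderOf x := fun g =>
          ((SemiconjBy.conj_mk g x).orderOf_eq g).symm
        rw [hy', hz, this, this]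
      obtain ⟨k, hk, hconj⟩ := Coprime.exists_conj_eq_of_coprime (A := A₁)
        (B := Subgroup.zpowers y) (K := O₂) (hA₁M.trans hMO) hcop
        (Or.inl (Coprime.isSolvable_zpowers z))
        (Subgroup.zpowers_le.2 (by
          rw [show y = z * (z⁻¹ * y) by group]
          exact mul_mem (Subgroup.mem_sup_left (Subgroup.mem_zpowers z))
            (Subgroup.mem_sup_right hzy)))
        (by rw [hA₁, Nat.card_zpowers, Nat.card_zpowers, hord])
      have hy2 : k⁻¹ * y * k ∈ A₁ := by
        rw [← Coprime.mem_conj_smul, hconj]; exact Subgroup.mem_zpowers y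
      have hkey : z⁻¹ * (k⁻¹ * y * k) ∈ A₁ ⊓ O₂ := by
        refine ⟨A₁.mul_mem (A₁.inv_mem (Subgroup.mem_zpowers z)) hy2, ?_⟩
        rw [show z⁻¹ * (k⁻¹ * y * k) = (z⁻¹ * k⁻¹ * z) * ((z⁻¹ * y) * k) by group]
        exact O₂.mul_mem ((Subgroup.mem_normalizer_iff''.1 (hMO hzM) k⁻¹).1 (O₂.inv_mem hk))
          (O₂.mul_mem hzy hk)
      rw [Coprime.inf_eq_bot_of_coprime hcop, Subgroup.mem_bot, inv_mul_eq_one] at hkey
      refine ⟨k⁻¹ * m, M'.mul_mem (M'.inv_mem hk.2) hm, ?_⟩
      rw [hkey, hy']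
      group
    rw [← he]
    have hy2 : m' * x * m'⁻¹ ∈ S := he ▸ hy
    clear_value S
    clear he hm ho e o m hy hh
    rcases eq_or_lt_of_le (show S ≤ (P : Subgroup G) from hS ▸ inf_le_left) with hSP | hSP
    · -- `S = P`
      have hmZ : m' ∈ Subgroup.normalizer (centerIn (P : Subgroup G) : Set G) := hSP ▸ hm'.2
      have hxZ : x ∈ Subgroup.normalizer (centerIn (P : Subgroup G) : Set G) :=
        normalizer_le_normalizer_centerIn _ (Subgroup.le_normalizer (hSP ▸ hx))
      have := Subgroup.commutator_mem_commutator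
        ((Subgroup.normalizer (centerIn (P : Subgroup G) : Set G)).inv_mem hxZ) hmZ
      rw [hD]
      convert this using 1
      rw [commutatorElement_def]
      group
    -- `S < P`: move `Z(L(S))` to a fully normalized conjugate
    have hSp : IsPGroup p S := P.isPGroup'.to_le hSP.le
    have hWS : W ≤ S := hS ▸ le_inf hWP Subgroup.le_normalizer
    have hSne : S ≠ ⊥ := ne_bot_of_le_ne_bot hW hWS
    have hZne : Z ≠ ⊥ := centerIn_ne_bot hSp hSne
    have hZP : Z ≤ (P : Subgroup G) := (centerIn_le S).trans hSP.le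
    set T₁ := (P : Subgroup G) ⊓ Subgroup.normalizer (Z : Set G) with hT₁
    have hgrow : Nat.card S < Nat.card T₁ := by
      have h1 := lt_inf_normalizer P.isPGroup' hSP
      have h2 : (P : Subgroup G) ⊓ Subgroup.normalizer (S : Set G) ≤ T₁ :=
        inf_le_inf_left _ (normalizer_le_normalizer_centerIn S)
      refine lt_of_le_of_ne (Subgroup.card_le_of_le (h1.le.trans h2)) fun heq => ?_
      exact (h1.trans_le h2).ne (Subgroup.eq_of_le_of_card_ge (h1.le.trans h2) heq.ge)
    obtain ⟨k, hkZ, hkT, hkf⟩ := exists_fullyNormalized P Z hZP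
    have hTP : Nat.card T₁ ≤ Nat.card (P : Subgroup G) := Subgroup.card_le_of_le inf_le_left
    -- fusion of big subgroups stays in `D`
    have hbig : ∀ (A : Subgroup G) (g : G), FusionChain p (P : Subgroup G) A g →
        Nat.card T₁ ≤ Nat.card A → ∀ a ∈ A, a⁻¹ * (g * a * g⁻¹) ∈ D := by
      intro A g hc
      induction hc with
      | @base A R g hR hAR hg =>
        intro hcard a ha
        have hRne : R ≠ ⊥ := by
          rintro rfl
          rw [le_bot_iff.1 hAR, Subgroup.card_bot] at hcard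
          have := (hgrow.trans_le hcard)
          exact absurd this (not_lt.2 Nat.card_pos)
        have hle : R ≤ (P : Subgroup G) ⊓ Subgroup.normalizer (R : Set G) :=
          le_inf hR.1 Subgroup.le_normalizer
        refine ih _ ?_ R hRne hR.1 hR.2.1 rfl a (hle (hAR ha)) g hg
          (hle ((Subgroup.mem_normalizer_iff.1 hg a).1 (hAR ha)))
        have h3 : Nat.card T₁ ≤ Nat.card ↥((P : Subgroup G) ⊓ Subgroup.normalizer (R : Set G)) :=
          hcard.trans ((Subgroup.card_le_of_le hAR).trans (Subgroup.card_le_of_le hle))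
        have h4 := Subgroup.card_le_of_le
          (inf_le_left : (P : Subgroup G) ⊓ Subgroup.normalizer (R : Set G) ≤ (P : Subgroup G))
        rw [← hn]
        omega
      | @comp B g₁ g₂ _ _ ih₁ ih₂ =>
        intro hcard a ha
        have h5 := ih₂ (by rw [card_conjS]; exact hcard) _ (conj_mem_conjS ha)
        refine prod_mem_of_mem (ih₁ hcard a ha) ?_
        convert h5 using 1
        group
    have hk : ∀ a ∈ T₁, a⁻¹ * (k * a * k⁻¹) ∈ D :=
      hbig T₁ k (alperin P T₁ k inf_le_left hkT) le_rfl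
    have hST : S ≤ T₁ := le_inf hSP.le
      (Subgroup.le_normalizer.trans (normalizer_le_normalizer_centerIn S))
    set x' := k * x * k⁻¹ with hx'
    set y' := k * (m' * x * m'⁻¹) * k⁻¹ with hy'
    have hNk : Subgroup.normalizer (conjS k Z : Set G) =
        conjS k (Subgroup.normalizer (Z : Set G)) := (conjS_normalizer k Z).symm
    have hxk : ∀ a ∈ S, k * a * k⁻¹ ∈ (P : Subgroup G) ⊓ Subgroup.normalizer (conjS k Z : Set G) :=
      fun a ha => ⟨hkT (conj_mem_conjS (hST ha)), by
        rw [SetLike.mem_coe, hNk]; exact conj_mem_conjS (hST ha).2⟩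
    have hmid : x'⁻¹ * y' ∈ D := by
      have hcard : Nat.card T₁ ≤
          Nat.card ↥((P : Subgroup G) ⊓ Subgroup.normalizer (conjS k Z : Set G)) := by
        rw [← card_conjS k T₁]
        refine Subgroup.card_le_of_le (le_inf hkT ?_)
        rw [hNk]
        exact conjS_mono inf_le_right
      have h4 := Subgroup.card_le_of_le (inf_le_left :
        (P : Subgroup G) ⊓ Subgroup.normalizer (conjS k Z : Set G) ≤ (P : Subgroup G))
      have := ih (Nat.card (P : Subgroup G) -
          Nat.card ↥((P : Subgroup G) ⊓ Subgroup.normalizer (conjS k Z : Set G)))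
        (by rw [← hn]; omega) (conjS k Z)
        (by
          intro hb
          rw [← conjS_inv_conjS k Z, hb] at hZne
          exact hZne (Subgroup.map_bot _))
        hkZ hkf rfl x' (hxk x hx) (k * m' * k⁻¹)
        (by rw [hNk]; exact conj_mem_conjS hm'.2)
        (by
          rw [show k * m' * k⁻¹ * x' * (k * m' * k⁻¹)⁻¹ = y' by rw [hx', hy']; group]
          exact hxk _ hy2)
      rwa [show k * m' * k⁻¹ * x' * (k * m' * k⁻¹)⁻¹ = y' by rw [hx', hy']; group] at this
    have hlast : y'⁻¹ * (m' * x * m'⁻¹) ∈ D := by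
      have := D.inv_mem (hk _ (hST hy2))
      rwa [mul_inv_rev, inv_inv] at this
    exact prod_mem_of_mem (prod_mem_of_mem (hk x (hST hx)) hmid) hlast

/-- A Sylow `p`-subgroup lies in the derived subgroup of `N(Z(L(P)))`. -/
theorem sylow_le_derived (hG : Cfsg.IsMinSimpleOddOrder G) (hpG : p ∣ Nat.card G)
    (P : Sylow p G) : (P : Subgroup G) ≤ ⁅Subgroup.normalizer (centerIn (P : Subgroup G) : Set G),
      Subgroup.normalizer (centerIn (P : Subgroup G) : Set G)⁆ := by
  set N := Subgroup.normalizer (centerIn (P : Subgroup G) : Set G) with hN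
  set D := ⁅N, N⁆ with hD
  have hp2 := ne_two_of_dvd hG hpG
  have hPN : (P : Subgroup G) ≤ N :=
    Subgroup.le_normalizer.trans (normalizer_le_normalizer_centerIn _)
  have hchain : ∀ (A : Subgroup G) (g : G), FusionChain p (P : Subgroup G) A g →
      ∀ a ∈ A, a⁻¹ * (g * a * g⁻¹) ∈ D := by
    intro A g hc
    induction hc with
    | @base A R g hR hAR hg =>
      intro a ha
      rcases eq_or_ne R ⊥ with rfl | hRne
      · have := hAR ha
        rw [Subgroup.mem_bot] at this
        simp [this]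
      have hle : R ≤ (P : Subgroup G) ⊓ Subgroup.normalizer (R : Set G) :=
        le_inf hR.1 Subgroup.le_normalizer
      exact local_fusion hG hp2 P _ R hRne hR.1 hR.2.1 rfl a (hle (hAR ha)) g hg
        (hle ((Subgroup.mem_normalizer_iff.1 hg a).1 (hAR ha)))
    | @comp B g₁ g₂ _ _ ih₁ ih₂ =>
      intro a ha
      refine prod_mem_of_mem (ih₁ a ha) ?_
      convert ih₂ _ (conj_mem_conjS ha) using 1
      group
  intro x hx
  have h1 : (x : G) ∈ commutator G := by
    rw [commutator_def, commutator_eq_top hG]; exact Subgroup.mem_top x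
  have hf : x ∈ (P : Subgroup G).focalSubgroup := by
    rw [← Subgroup.commutator_inf_eq_focalSubgroup]
    exact ⟨h1, hx⟩
  rw [Subgroup.focalSubgroup_def] at hf
  refine (Subgroup.closure_le D).2 ?_ hf
  intro w hw
  simp only [Set.mem_setOf_eq] at hw
  obtain ⟨hwP, a, ha, g, rfl⟩ := hw
  have hga : g * a⁻¹ * g⁻¹ ∈ (P : Subgroup G) := by
    rw [show g * a⁻¹ * g⁻¹ = a⁻¹ * ⁅a, g⁆ by rw [commutatorElement_def]; group]
    exact mul_mem (inv_mem ha) hwP
  have := hchain _ g (alperin_element P a⁻¹ g (inv_mem ha) hga) a⁻¹ (Subgroup.mem_zpowers _)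
  rwa [show a⁻¹⁻¹ * (g * a⁻¹ * g⁻¹) = ⁅a, g⁆ by rw [commutatorElement_def]; group] at this

end Cfsg.Agent.Lib.OddOrder.PuigControl
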