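import Cfsg.Agent.Lib.OddOrder.Transitive

/-!
# The transitivity theorem for π(A)-overgroups (BG 7.4)
-/

set_option autoImplicit false
set_option linter.style.haveILetI false

open scoped Pointwise commutatorElement

namespace Cfsg.Agent.Lib.OddOrder.Subnormal

open Cfsg.Agent.Lib.OddOrder.Basic Cfsg.Agent.Lib.OddOrder.MinSimple
  Cfsg.Agent.Lib.OddOrder.Transitivity

universe u

variable {G : Type u} [Group G] [Finite G] {A B : Subgroup G} {q : ℕ}

/-- `O_{π(A)'}(C(B))`. -/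
abbrev coreB (A B : Subgroup G) : Subgroup G :=
  Cfsg.piCoreOf (piA' A) (Subgroup.centralizer (B : Set G))

theorem coprime_of_primes {m n : ℕ} (hB : ∀ r : ℕ, r.Prime → r ∣ Nat.card B → r ∣ m)
    (hn : ∀ r : ℕ, r.Prime → r ∣ n → r ∈ Cfsg.primesNotDvd m) : (Nat.card B).Coprime n :=
  Nat.coprime_of_dvd fun k hk h1 h2 => (hn k hk h2).2 (hB k hk h1)

theorem core_inf_centralizer (hG : Cfsg.IsMinSimpleOddOrder G)
    (hA : Cfsg.TransitivityHypothesis A) (hAB : A ≤ B) :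
    coreC A ⊓ Subgroup.centralizer (B : Set G) = coreB A B := by
  have hCC : Subgroup.centralizer (B : Set G) ≤ Subgroup.centralizer (A : Set G) :=
    Subgroup.centralizer_le hAB
  refine le_antisymm (le_piCoreOf inf_le_right
    (Coprime.le_normalizer_inf (hCC.trans (piCoreOf_normal _ _)) Subgroup.le_normalizer)
    fun r hr hd => piCoreOf_isPiGroup _ _ r hr (hd.trans (Subgroup.card_dvd_of_le inf_le_left)))
    (le_inf (le_coreC hG hA ((piCoreOf_le _ _).trans hCC) (piCoreOf_isPiGroup _ _))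
      (piCoreOf_le _ _))

theorem normalizer_le_normalizer_core (B : Subgroup G) (π : Set ℕ) :
    Subgroup.normalizer (B : Set G) ≤
      Subgroup.normalizer (Cfsg.piCoreOf π (Subgroup.centralizer (B : Set G)) : Set G) := by
  rw [← Coprime.smul_eq_iff_le_normalizer]
  intro b hb
  set C := Subgroup.centralizer (B : Set G) with hC
  have hbc : ∀ x, x ∈ C → b * x * b⁻¹ ∈ C := fun x hx =>
    Subgroup.mem_centralizer_iff.2 fun y hy => by
      have h1 : b⁻¹ * y * b ∈ B := (Subgroup.mem_normalizer_iff''.1 hb y).1 hy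
      have h2 := Subgroup.mem_centralizer_iff.1 hx _ h1
      calc y * (b * x * b⁻¹) = b * ((b⁻¹ * y * b) * x) * b⁻¹ := by group
        _ = b * (x * (b⁻¹ * y * b)) * b⁻¹ := by rw [h2]
        _ = b * x * b⁻¹ * y := by group
  have hN : MulAut.conj b • Cfsg.piCoreOf π C ≤ C := by
    rintro _ ⟨x, hx, rfl⟩
    exact hbc x (piCoreOf_le π C hx)
  refine Subgroup.eq_of_le_of_card_ge (le_piCoreOf hN ?_ fun r hr hd =>
    piCoreOf_isPiGroup π C r hr (by rwa [Coprime.card_conj_smul] at hd)) ?_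
  · rw [← Coprime.smul_eq_iff_le_normalizer]
    intro c hc
    have hc' : b⁻¹ * c * b ∈ C := by
      refine Subgroup.mem_centralizer_iff.2 fun y hy => ?_
      have h1 : b * y * b⁻¹ ∈ B := (Subgroup.mem_normalizer_iff.1 hb y).1 hy
      have h2 := Subgroup.mem_centralizer_iff.1 hc _ h1
      calc y * (b⁻¹ * c * b) = b⁻¹ * ((b * y * b⁻¹) * c) * b := by group
        _ = b⁻¹ * (c * (b * y * b⁻¹)) * b := by rw [h2]
        _ = b⁻¹ * c * b * y := by group
    rw [← Coprime.conj_smul_mul, show c * b = b * (b⁻¹ * c * b) by group, Coprime.conj_smul_mul,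
      Coprime.conj_smul_eq_self_of_mem_normalizer (piCoreOf_normal π C hc')]
  · rw [Coprime.card_conj_smul]

/-- A maximal `B`-invariant q-subgroup is maximal `A`-invariant, given that some maximal
`A`-invariant one is `B`-invariant. -/
theorem max_subset (hG : Cfsg.IsMinSimpleOddOrder G) (hA : Cfsg.TransitivityHypothesis A)
    [Fact q.Prime] (hqA : ¬ q ∣ Nat.card A) (hAB : A ≤ B)
    (hB : ∀ r : ℕ, r.Prime → r ∣ Nat.card B → r ∣ Nat.card A)
    (hex : ∃ R ∈ Cfsg.maxInvSubgroups ⊤ A {q}, B ≤ Subgroup.normalizer (R : Set G))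
    {Q : Subgroup G} (hQ : Q ∈ Cfsg.maxInvSubgroups ⊤ B {q}) :
    Q ∈ Cfsg.maxInvSubgroups ⊤ A {q} := by
  rcases eq_or_ne Q ⊥ with e | hne
  · obtain ⟨R, hR, hRB⟩ := hex
    have := hQ.2 R ⟨le_top, hR.1.2.1, hRB⟩ (e ▸ bot_le)
    exact this ▸ hR
  obtain ⟨R, hR, hQR⟩ := exists_max_ge (mem_invSubgroups_mono hAB hQ.1)
  rcases eq_or_ne Q R with e | hneR
  · exact e ▸ hR
  exfalso
  have gQ := mem_inv.1 hQ.1
  have gR := mem_inv.1 hR.1
  set X := Subgroup.normalizer (Q : Set G) with hX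
  have hXt : X ≠ ⊤ := normalizer_ne_top hG hne (pgroup_ne_top hG gQ.2.1)
  set N := X ⊓ R with hN
  have hNp : IsPGroup q N := gR.2.1.to_le inf_le_right
  have hNA : A ≤ Subgroup.normalizer (N : Set G) :=
    Coprime.le_normalizer_inf ((hAB.trans gQ.2.2).trans Subgroup.le_normalizer) gR.2.2
  set O := Cfsg.piCoreOf (piA' A) X with hO
  have hNO : N ≤ O := le_piCoreOf_of_inv hA hqA hXt (hAB.trans gQ.2.2) hNp hNA inf_le_left
  have hQN : Q ≤ N := le_inf Subgroup.le_normalizer hQR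
  have hBO : B ≤ Subgroup.normalizer (O : Set G) := gQ.2.2.trans (piCoreOf_normal _ _)
  have hOt : O ≠ ⊤ := fun h => hXt (top_le_iff.1 (h ▸ piCoreOf_le (piA' A) X))
  obtain ⟨P, hQP, hPB⟩ := Coprime.exists_invariant_sylow_ge hBO
    (coprime_of_primes hB (piCoreOf_isPiGroup (piA' A) X))
    (Or.inr (solvable_of_ne_top hG hOt)) q Q (hQN.trans hNO) gQ.2.1 gQ.2.2
  have hPQ : (P : Subgroup O).map O.subtype = Q :=
    hQ.2 _ (mem_inv.2 ⟨le_top, P.isPGroup'.map _, hPB⟩) hQP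
  have h1 : N.subgroupOf O = P := P.is_maximal'
    (hNp.comap_of_injective _ O.subtype_injective) (fun x hx => hQN (hPQ ▸ ⟨x, hx, rfl⟩))
  have h2 : N = Q := by rw [← Subgroup.map_subgroupOf_eq_of_le hNO, h1, hPQ]
  exact hneR (Cfsg.Agent.Lib.LAEven57.eq_of_normalizer_le gR.2.1 hQR fun y hy hyn =>
    h2 ▸ Subgroup.mem_inf.2 ⟨hyn, hy⟩)

/-- The statement proved by induction along a subnormal series. -/
structure Good (A : Subgroup G) (q : ℕ) (B : Subgroup G) : Prop where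
  le : A ≤ B
  ex : ∃ R ∈ Cfsg.maxInvSubgroups ⊤ A {q}, B ≤ Subgroup.normalizer (R : Set G)
  trans : ∀ Q₁ ∈ Cfsg.maxInvSubgroups ⊤ B {q}, ∀ Q₂ ∈ Cfsg.maxInvSubgroups ⊤ B {q},
    ∃ k ∈ coreB A B, Q₂ = MulAut.conj k • Q₁

theorem good_step (hG : Cfsg.IsMinSimpleOddOrder G) (hA : Cfsg.TransitivityHypothesis A)
    [Fact q.Prime] (hqA : ¬ q ∣ Nat.card A) {B' : Subgroup G} (hg : Good A q B) (hBB : B ≤ B')
    (hn : B' ≤ Subgroup.normalizer (B : Set G))
    (hB' : ∀ r : ℕ, r.Prime → r ∣ Nat.card B' → r ∣ Nat.card A) : Good A q B' := by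
  have hAB' : A ≤ B' := hg.le.trans hBB
  have hB : ∀ r : ℕ, r.Prime → r ∣ Nat.card B → r ∣ Nat.card A := fun r hr hd =>
    hB' r hr (hd.trans (Subgroup.card_dvd_of_le hBB))
  letI : MulAction G (Subgroup G) := MulAction.compHom (Subgroup G) (MulAut.conj (G := G))
  have hsmul : ∀ (g : G) (H : Subgroup G), g • H = MulAut.conj g • H := fun g H => rfl
  set K := coreB A B with hK
  have hK' : B' ≤ Subgroup.normalizer (K : Set G) :=
    hn.trans (normalizer_le_normalizer_core B (piA' A))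
  have hcop : (Nat.card B').Coprime (Nat.card K) :=
    coprime_of_primes hB' (piCoreOf_isPiGroup (piA' A) _)
  have hs : Group.IsSolvable B' ∨ Group.IsSolvable K := by
    refine Or.inr (solvable_of_ne_top hG fun h => centralizer_subgroup_ne_top hG
      (X := B) (ne_bot_of_le_ne_bot hA.1 hg.le) (top_le_iff.1 (h ▸ piCoreOf_le _ _)))
  obtain ⟨R, hR, hRB⟩ := hg.ex
  obtain ⟨R₀, hR₀, -⟩ := exists_max_ge (H := ⊤) (B := B) (π := {q})
    ⟨le_top, hR.1.2.1, hRB⟩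
  have hex : ∃ R ∈ Cfsg.maxInvSubgroups ⊤ B {q}, B' ≤ Subgroup.normalizer (R : Set G) := by
    obtain ⟨x, hx, hfix⟩ := Coprime.exists_fixed_point (Cfsg.maxInvSubgroups ⊤ B {q})
      ⟨R₀, hR₀⟩ hK' hcop hs
      (fun a ha x hx => by rw [hsmul]; exact conj_mem_max (hn ha) hx)
      (fun k hk x hx => by
        rw [hsmul]
        exact conj_mem_max (centralizer_le_normalizer B (piCoreOf_le _ _ hk)) hx)
      (fun x hx y hy => by
        obtain ⟨k, hk, e⟩ := hg.trans x hx y hy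
        exact ⟨k, hk, by rw [hsmul, ← e]⟩)
    exact ⟨x, hx, Coprime.smul_eq_iff_le_normalizer.1 fun a ha => hfix a ha⟩
  have hexA : ∃ R ∈ Cfsg.maxInvSubgroups ⊤ A {q}, B' ≤ Subgroup.normalizer (R : Set G) :=
    hex.imp fun R h => ⟨max_subset hG hA hqA hg.le hB hg.ex h.1, h.2⟩
  refine ⟨hAB', hexA, fun Q₁ h₁ Q₂ h₂ => ?_⟩
  have hsub : ∀ Q ∈ Cfsg.maxInvSubgroups ⊤ B' {q}, Q ∈ Cfsg.maxInvSubgroups ⊤ B {q} := by
    intro Q hQ
    have hQA := max_subset hG hA hqA hAB' hB' hexA hQ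
    exact ⟨mem_invSubgroups_mono hBB hQ.1, fun S hS hle =>
      hQA.2 S (mem_invSubgroups_mono hg.le hS) hle⟩
  obtain ⟨k, hk, e⟩ := hg.trans Q₁ (hsub Q₁ h₁) Q₂ (hsub Q₂ h₂)
  obtain ⟨c, hc, e'⟩ := Coprime.exists_fixed_smul_eq hK' hcop hs (x := Q₁) (y := Q₂)
    ⟨k, hk, by rw [hsmul, ← e]⟩
    (fun a ha => by rw [hsmul]; exact Coprime.conj_smul_eq_self_of_mem_normalizer (h₁.1.2.2 ha))
    (fun a ha => by rw [hsmul]; exact Coprime.conj_smul_eq_self_of_mem_normalizer (h₂.1.2.2 ha))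
  refine ⟨c, ?_, by rw [← e', hsmul]⟩
  rw [← core_inf_centralizer hG hA hAB']
  have := (core_inf_centralizer hG hA hg.le).symm.le hc.1
  exact ⟨this.1, hc.2⟩

theorem good_top (hG : Cfsg.IsMinSimpleOddOrder G) (hA : Cfsg.TransitivityHypothesis A)
    [Fact q.Prime] (hqA : ¬ q ∣ Nat.card A) {P : Subgroup G}
    (hPπ : ∀ r : ℕ, r.Prime → r ∣ Nat.card P → r ∣ Nat.card A) (hAP : A ≤ P)
    (hsn : (A.subgroupOf P).IsSubnormal)
    (htr : ∀ Q₁ ∈ Cfsg.maxInvSubgroups ⊤ A {q}, ∀ Q₂ ∈ Cfsg.maxInvSubgroups ⊤ A {q},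
      ∃ k ∈ coreC A, Q₂ = MulAut.conj k • Q₁) : Good A q P := by
  have key : ∀ X : Subgroup P, X.IsSubnormal → Good A q (X.map P.subtype) → Good A q P := by
    intro X hX
    induction hX with
    | top => intro h; rwa [← MonoidHom.range_eq_map, Subgroup.range_subtype] at h
    | step H K hle _ hN ih =>
      intro h
      refine ih (good_step hG hA hqA h (Subgroup.map_mono hle) ?_ fun r hr hd =>
        hPπ r hr (hd.trans (Subgroup.card_dvd_of_le (Subgroup.map_subtype_le K))))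
      have h2 := (Subgroup.normal_subgroupOf_iff_le_normalizer hle).1 hN
      rintro _ ⟨k, hk, rfl⟩
      exact Subgroup.le_normalizer_map P.subtype ⟨k, h2 hk, rfl⟩
  refine key _ hsn ?_
  rw [Subgroup.map_subgroupOf_eq_of_le hAP]
  obtain ⟨R, hR, -⟩ := exists_max_ge (bot_mem_inv (H := (⊤ : Subgroup G)) (B := A) (π := {q}))
  exact ⟨le_rfl, ⟨R, hR, hR.1.2.2⟩, htr⟩

/-- `N(P) = O_{π'}(C(P)) (N(P) ∩ N(Q))` and `P ∩ N(P)' ≤ N(Q)'`. -/
theorem normalizer_factor [Fact q.Prime] (hg : Good A q B)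
    (hB : ∀ r : ℕ, r.Prime → r ∣ Nat.card B → r ∣ Nat.card A)
    {Q : Subgroup G} (hQ : Q ∈ Cfsg.maxInvSubgroups ⊤ B {q}) :
    Subgroup.normalizer (B : Set G) =
      coreB A B ⊔ (Subgroup.normalizer (B : Set G) ⊓ Subgroup.normalizer (Q : Set G)) ∧
    B ⊓ ⁅Subgroup.normalizer (B : Set G), Subgroup.normalizer (B : Set G)⁆ ≤
      ⁅Subgroup.normalizer (Q : Set G), Subgroup.normalizer (Q : Set G)⁆ := by
  set N := Subgroup.normalizer (B : Set G) with hN
  set K := coreB A B with hK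
  set L := N ⊓ Subgroup.normalizer (Q : Set G) with hL
  have hKN : K ≤ N := (piCoreOf_le _ _).trans (centralizer_le_normalizer B)
  have hNK : N ≤ Subgroup.normalizer (K : Set G) := normalizer_le_normalizer_core B (piA' A)
  have heq : N = K ⊔ L := by
    refine le_antisymm (fun n hn => ?_) (sup_le hKN inf_le_left)
    obtain ⟨k, hk, e⟩ := hg.trans Q hQ _ (conj_mem_max hn hQ)
    have : k⁻¹ * n ∈ L := by
      refine ⟨N.mul_mem (N.inv_mem (hKN hk)) hn, Coprime.mem_normalizer_of_conj_smul_eq ?_⟩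
      rw [Coprime.conj_smul_mul, e, ← Coprime.conj_smul_mul, inv_mul_cancel, map_one, one_smul]
    rw [show n = k * (k⁻¹ * n) by group]
    exact mul_mem (Subgroup.mem_sup_left hk) (Subgroup.mem_sup_right this)
  refine ⟨heq, ?_⟩
  set D := ⁅L, L⁆ with hD
  have hLD : L ≤ Subgroup.normalizer (D : Set G) := by
    rw [← Coprime.smul_eq_iff_le_normalizer]
    intro l hl
    rw [hD, Coprime.conj_smul_eq_map, Subgroup.map_commutator, ← Coprime.conj_smul_eq_map,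
      Coprime.conj_smul_eq_self_of_mem_normalizer (Subgroup.le_normalizer hl)]
  have hcomm : ⁅N, N⁆ ≤ K ⊔ D := by
    have hKn : (K.subgroupOf N).Normal := (Subgroup.normal_subgroupOf_iff_le_normalizer hKN).2 hNK
    let f : N →* N ⧸ K.subgroupOf N := QuotientGroup.mk' _
    have h1 : (L.subgroupOf N).map f = ⊤ := by
      rw [eq_top_iff]
      rintro x -
      obtain ⟨⟨n, hn⟩, rfl⟩ := QuotientGroup.mk'_surjective (K.subgroupOf N) x
      have hn' : n ∈ L ⊔ K := sup_comm K L ▸ heq ▸ hn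
      obtain ⟨l, hl, k, hk, e⟩ := Coprime.exists_mul_of_mem_sup (inf_le_left.trans hNK) hn'
      refine ⟨⟨l, hl.1⟩, hl, ?_⟩
      simp only [f, QuotientGroup.mk'_apply]
      rw [QuotientGroup.eq, Subgroup.mem_subgroupOf]
      simp [e, hk]
    rw [Subgroup.commutator_le]
    intro a ha b hb
    have ha' : f ⟨a, ha⟩ ∈ (L.subgroupOf N).map f := h1 ▸ Subgroup.mem_top _
    have hb' : f ⟨b, hb⟩ ∈ (L.subgroupOf N).map f := h1 ▸ Subgroup.mem_top _
    obtain ⟨a₁, ha₁, ea⟩ := ha'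
    obtain ⟨b₁, hb₁, eb⟩ := hb'
    have e : f ⁅(⟨a, ha⟩ : N), ⟨b, hb⟩⁆ = f ⁅a₁, b₁⁆ := by
      rw [map_commutatorElement, map_commutatorElement, ea, eb]
    have h2 := QuotientGroup.eq.1 e.symm
    rw [Subgroup.mem_subgroupOf] at h2
    have h3 : ⁅(a₁ : G), (b₁ : G)⁆ ∈ D := Subgroup.commutator_mem_commutator ha₁ hb₁
    have h4 : ⁅a, b⁆ = ⁅(a₁ : G), (b₁ : G)⁆ * (⁅(a₁ : G), (b₁ : G)⁆⁻¹ * ⁅a, b⁆) :=
      (mul_inv_cancel_left _ _).symm
    rw [h4]
    exact mul_mem (Subgroup.mem_sup_right h3) (Subgroup.mem_sup_left h2)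
  intro x hx
  have hxB : x ∈ B := hx.1
  have hx' : x ∈ K ⊔ D := hcomm hx.2
  have hBL : B ≤ L := le_inf Subgroup.le_normalizer hQ.1.2.2
  have hDL : D ≤ L := (Subgroup.commutator_le.2 fun a ha b hb =>
    mul_mem (mul_mem (mul_mem ha hb) (inv_mem ha)) (inv_mem hb))
  obtain ⟨d, hd, k, hk, e⟩ := Coprime.exists_mul_of_mem_sup
    ((hDL.trans inf_le_left).trans hNK) (sup_comm K D ▸ hx')
  have hkL : k ∈ K ⊓ L := ⟨hk, (mul_mem_cancel_left (hDL hd)).1 (e ▸ hBL hxB)⟩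
  -- the image of `x` in `L / L'` has π(A)-order and lies in a π(A)'-group
  have hDn : (D.subgroupOf L).Normal := (Subgroup.normal_subgroupOf_iff_le_normalizer hDL).2 hLD
  let g : L →* L ⧸ D.subgroupOf L := QuotientGroup.mk' _
  have hgx : g ⟨x, hBL hxB⟩ = g ⟨k, hkL.2⟩ := by
    have : (⟨x, hBL hxB⟩ : L) = ⟨d, hDL hd⟩ * ⟨k, hkL.2⟩ := Subtype.ext e
    rw [this, map_mul, show g ⟨d, hDL hd⟩ = 1 from (QuotientGroup.eq_one_iff _).2 hd, one_mul]
  have ho1 : orderOf (g ⟨x, hBL hxB⟩) ∣ Nat.card B :=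
    (orderOf_map_dvd g _).trans (by rw [Subgroup.orderOf_mk]; exact Subgroup.orderOf_dvd_natCard B hxB)
  have ho2 : orderOf (g ⟨x, hBL hxB⟩) ∣ Nat.card K := by
    rw [hgx]
    exact (orderOf_map_dvd g _).trans (by
      rw [Subgroup.orderOf_mk]; exact Subgroup.orderOf_dvd_natCard K hk)
  have h1 : g ⟨x, hBL hxB⟩ = 1 := orderOf_eq_one_iff.1 (Nat.eq_one_of_dvd_coprimes
    (coprime_of_primes hB (piCoreOf_isPiGroup (piA' A) _)) ho1 ho2)
  exact Subgroup.commutator_mono inf_le_right inf_le_right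
    (show x ∈ D from (QuotientGroup.eq_one_iff (⟨x, hBL hxB⟩ : L)).1 h1)

end Cfsg.Agent.Lib.OddOrder.Subnormal
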