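import Cfsg.Agent.Lib.OddOrder.BenderMax
import Cfsg.Agent.Lib.OddOrder.BenderLocal
import Cfsg.Agent.Lib.OddOrder.Subnormal
import Cfsg.Agent.Lib.OddOrder.PuigControl
import Cfsg.Agent.Lib.SubnormSet.Basic

/-!
# Tools for the uniqueness theorem (BG 8)
-/

set_option autoImplicit false
set_option linter.style.haveILetI false

open scoped Pointwise commutatorElement

namespace Cfsg.Agent.Lib.OddOrder.Uniqueness

open Cfsg.Agent.Lib.OddOrder.Fitting Cfsg.Agent.Lib.OddOrder.MinSimple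
  Cfsg.Agent.Lib.OddOrder.NormedConstrained Cfsg.Agent.Lib.OddOrder.Transitivity
  Cfsg.Agent.Lib.Puig.Theorem

universe u

variable {G : Type u} [Group G] [Finite G]

/-- Reduction of an invariant subgroup to its invariant Sylow subgroups. -/
theorem le_of_inv_sylows {A Y S : Subgroup G} [Group.IsSolvable A]
    (hAY : A ≤ Subgroup.normalizer (Y : Set G)) (hcop : (Nat.card A).Coprime (Nat.card Y))
    (h : ∀ (q : ℕ) [Fact q.Prime], q ∣ Nat.card Y → ∀ Q : Subgroup G, Q ≤ Y → IsPGroup q Q →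
      A ≤ Subgroup.normalizer (Q : Set G) → Q ≤ S) : Y ≤ S := by
  refine Coprime.le_of_forall_sylow fun q hq => ?_
  haveI := Fact.mk hq
  obtain ⟨P, hP⟩ := Coprime.exists_invariant_sylow hAY hcop (Or.inl ‹_›) q
  refine ⟨P, ?_⟩
  by_cases hd : q ∣ Nat.card Y
  · exact h q hd _ (Subgroup.map_subtype_le _) (P.isPGroup'.map _) hP
  · intro x hx
    have hxY : orderOf x ∣ Nat.card Y :=
      Subgroup.orderOf_dvd_natCard _ (Subgroup.map_subtype_le _ hx)
    obtain ⟨k, hk⟩ := IsPGroup.iff_card.1 (P.isPGroup'.map Y.subtype)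
    rw [orderOf_eq_one_iff.1 (Nat.eq_one_of_dvd_coprimes
      (((hq.coprime_iff_not_dvd).2 hd).pow_left k) (hk ▸ Subgroup.orderOf_dvd_natCard _ hx) hxY)]
    exact one_mem S

theorem isMulCommutative_of_scn {P A : Subgroup G} (h : Cfsg.IsSCN P A) : IsMulCommutative A :=
  ⟨⟨fun a b => Subtype.ext
    (Subgroup.mem_centralizer_iff.1 (h.2.2.symm.le b.2).2 (a : G) a.2)⟩⟩

/-- With `A` transitive, rank three, and `π(A) = π(F(M))`, `A ≤ F(M)` normalizes no nontrivial
subgroup of coprime order. -/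
theorem inv_eq_bot (hG : Cfsg.IsMinSimpleOddOrder G) {M A : Subgroup G} (hM : IsCoatom M)
    (hA : Cfsg.TransitivityHypothesis A)
    (hZ : ¬ Cfsg.RankLE 2 ↥(A ⊓ Subgroup.centralizer (A : Set G)))
    (hAF : A ≤ Cfsg.fittingOf M)
    (hπ : ∀ r : ℕ, r.Prime → r ∣ Nat.card (Cfsg.fittingOf M) → r ∣ Nat.card A)
    {Y : Subgroup G} (hY : Y ∈ Cfsg.invSubgroups ⊤ A (Cfsg.primesNotDvd (Nat.card A))) :
    Y = ⊥ := by
  have hMs := solvable_of_ne_top hG hM.1
  set F := Cfsg.fittingOf M with hF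
  have hFM : F ≤ M := Cores.fittingOf_le M
  haveI : Group.IsSolvable A := Coprime.isSolvable_of_le (hAF.trans hFM)
  haveI hFn : Group.IsNilpotent F := Cores.fittingOf_isNilpotent M
  have hFne : F ≠ ⊥ := fittingOf_ne_bot hG hM
  have hNF : Subgroup.normalizer (F : Set G) = M :=
    normalizer_eq_of_coatom hG hM hFM hFne (Basic.fittingOf_normal M)
  have hCF : Subgroup.centralizer (F : Set G) ≤ F := fun x hx =>
    inf_centralizer_fittingOf_le M ⟨hNF.le (Subgroup.centralizer_le_normalizer _ hx), hx⟩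
  refine le_bot_iff.1 (le_of_inv_sylows hY.2.2 (coprime_of_pi' hY.2.1) fun q hq hqd Q hQY hQq hQA => ?_)
  have hqA : ¬ q ∣ Nat.card A := (hY.2.1 q hq.out hqd).2
  have htr := fun Q₁ h₁ Q₂ h₂ =>
    Transitive.trans_of_rank_three hG hA hZ hqA (Q₁ := Q₁) (Q₂ := Q₂) h₁ h₂
  have hg : Subnormal.Good A q F := Subnormal.good_top hG hA hqA hπ hAF
    (SubnormSet.isSubnormal_of_isNilpotent _) htr
  have hK : Subnormal.coreB A F = ⊥ := by
    rw [Subgroup.eq_bot_iff_forall]
    intro x hx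
    by_contra h1
    obtain ⟨r, hr, hrd⟩ := Nat.exists_prime_and_dvd (mt orderOf_eq_one_iff.1 h1)
    exact (piCoreOf_isPiGroup _ _ r hr (hrd.trans (Subgroup.orderOf_dvd_natCard _ hx))).2
      (hπ r hr (hrd.trans (Subgroup.orderOf_dvd_natCard _ (hCF (piCoreOf_le _ _ hx)))))
  obtain ⟨R, hR, -⟩ := exists_max_ge (bot_mem_inv (H := (⊤ : Subgroup G)) (B := F) (π := {q}))
  have huniq : ∀ R' ∈ Cfsg.maxInvSubgroups ⊤ F {q}, R' = R := by
    intro R' hR'
    obtain ⟨k, hk, e⟩ := hg.trans R hR R' hR'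
    rw [hK, Subgroup.mem_bot] at hk
    rw [e, hk, map_one, one_smul]
  have hMR : M ≤ Subgroup.normalizer (R : Set G) := fun m hm =>
    Coprime.mem_normalizer_of_conj_smul_eq
      (huniq _ (conj_mem_max (hNF.ge hm) hR))
  have hR0 : R = ⊥ := by
    by_contra hne
    have hRq : IsPGroup q R := isPGroup_of_inv hR.1.2.1
    have hNR : Subgroup.normalizer (R : Set G) = M := by
      by_contra h
      exact normalizer_ne_top hG hne (pgroup_ne_top hG hRq)
        (hM.2 _ (lt_of_le_of_ne hMR (Ne.symm h)))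
    have hRM : R ≤ M := Subgroup.le_normalizer.trans hNR.le
    have h1 := CharP.le_pCoreOf hRq hRM hMR
    have h2 : Cfsg.pCoreOf q M = ⊥ := not_not.1 fun hh =>
      hqA (hπ q hq.out (dvd_card_fittingOf_iff.2 hh))
    exact hne (le_bot_iff.1 (h2 ▸ h1))
  have hRA : R ∈ Cfsg.maxInvSubgroups ⊤ A {q} := Subnormal.max_subset hG hA hqA hg.le hπ hg.ex hR
  obtain ⟨R₁, hR₁, hQR⟩ := exists_max_ge (H := (⊤ : Subgroup G)) (B := A) (π := {q})
    (mem_inv.2 ⟨le_top, hQq, hQA⟩)
  rw [hR0] at hRA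
  rw [← hRA.2 R₁ hR₁.1 bot_le]
  exact hQR

/-- A normal `p'`-subgroup of a maximal subgroup whose Fitting subgroup is a `p`-group is trivial. -/
theorem pO_eq_bot_of_fitting (hG : Cfsg.IsMinSimpleOddOrder G) {p : ℕ} [hp : Fact p.Prime]
    {M : Subgroup G} (hM : IsCoatom M) (hF : IsPGroup p (Cfsg.fittingOf M)) : pO p M = ⊥ := by
  haveI := solvable_of_ne_top hG hM.1
  rw [Subgroup.eq_bot_iff_forall]
  intro x hx
  have hxF : x ∈ Cfsg.fittingOf M := inf_centralizer_fittingOf_le M ⟨pO_le M hx,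
    Subgroup.mem_centralizer_iff.2 fun u hu => (Constrained.commute_of_mutual (pO_coprime M) hF
      hx hu (Basic.fittingOf_normal M (pO_le M hx))
      (Basic.le_normalizer_map_subtype M _ (Cores.fittingOf_le M hu))).symm⟩
  obtain ⟨n, hn⟩ := IsPGroup.iff_card.1 hF
  exact orderOf_eq_one_iff.1 (Nat.eq_one_of_dvd_coprimes ((pO_coprime M).pow_right n)
    (Subgroup.orderOf_dvd_natCard _ hx) (hn ▸ Subgroup.orderOf_dvd_natCard _ hxF))

/-- With trivial `O_{p'}`, `Z(L(S))` of a Sylow `p`-subgroup `S` determines the maximal subgroup. -/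
theorem normalizer_centerIn_eq (hG : Cfsg.IsMinSimpleOddOrder G) {p : ℕ} [hp : Fact p.Prime]
    (hp2 : p ≠ 2) {M : Subgroup G} (hM : IsCoatom M) (hO : pO p M = ⊥) (S : Sylow p M)
    (hS : (S : Subgroup M).map M.subtype ≠ ⊥) :
    Subgroup.normalizer (centerIn ((S : Subgroup M).map M.subtype) : Set G) = M := by
  haveI := solvable_of_ne_top hG hM.1
  have hO' : Cfsg.pPrimeCore p M = ⊥ :=
    (Subgroup.map_eq_bot_iff_of_injective _ M.subtype_injective).1 hO
  haveI := centerIn_normal (odd_card hG M) hp2 hO' S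
  refine normalizer_eq_of_coatom hG hM ((PuigControl.centerIn_le _).trans (Subgroup.map_subtype_le _))
    (PuigControl.centerIn_ne_bot (S.isPGroup'.map _) hS) ?_
  rw [← PuigControl.map_centerIn M.subtype M.subtype_injective]
  exact Basic.le_normalizer_map_subtype M _

/-- The `Z(L)` uniqueness argument. -/
theorem inUniqueMaximal_of_pO (hG : Cfsg.IsMinSimpleOddOrder G) {p : ℕ} [hp : Fact p.Prime]
    (hp2 : p ≠ 2) {M A : Subgroup G} (hM : IsCoatom M) (hAM : A ≤ M) (hAp : IsPGroup p A)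
    (hA1 : A ≠ ⊥) (hO : ∀ L : Subgroup G, IsCoatom L → A ≤ L → pO p L = ⊥) :
    Cfsg.InUniqueMaximal A := by
  refine ⟨M, ⟨hM, hAM⟩, ?_⟩
  by_contra hcon
  push Not at hcon
  obtain ⟨L₀, hL₀, hne⟩ := hcon
  set 𝒮 : Set (Subgroup G) := {D | A ≤ D ∧ IsPGroup p D ∧ D ≤ M ∧
    ∃ L, IsCoatom L ∧ L ≠ M ∧ D ≤ L} with h𝒮
  obtain ⟨D, ⟨hAD, hDp, hDM, L, hL, hLM, hDL⟩, hmax⟩ :=
    (Set.toFinite 𝒮).exists_maximal ⟨A, le_rfl, hAp, hAM, L₀, hL₀.1, hne, hL₀.2⟩
  have hno : ∀ T : Subgroup G, IsPGroup p T → D < T → T ≤ M → ∀ L', IsCoatom L' → T ≤ L' → L' = M := by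
    intro T hT hlt hTM L' hL' hTL'
    by_contra hne'
    exact hlt.not_ge (hmax ⟨hAD.trans hlt.le, hT, hTM, L', hL', hne', hTL'⟩ hlt.le)
  have hDne : D ≠ ⊥ := ne_bot_of_le_ne_bot hA1 hAD
  obtain ⟨L', hL', hNL'⟩ := exists_coatom_ge hG
    (normalizer_ne_top hG hDne (pgroup_ne_top hG hDp))
  obtain ⟨SM, hSM⟩ := (hDp.comap_subtype (K := M)).exists_le_sylow
  obtain ⟨SL, hSL⟩ := (hDp.comap_subtype (K := L)).exists_le_sylow
  set TM := (SM : Subgroup M).map M.subtype with hTM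
  set TL := (SL : Subgroup L).map L.subtype with hTL
  have hDTM : D ≤ TM := fun x hx => ⟨⟨x, hDM hx⟩, hSM hx, rfl⟩
  have hDTL : D ≤ TL := fun x hx => ⟨⟨x, hDL hx⟩, hSL hx, rfl⟩
  have hTMp : IsPGroup p TM := SM.isPGroup'.map _
  have hTLp : IsPGroup p TL := SL.isPGroup'.map _
  have hZM : D = TM → Subgroup.normalizer (D : Set G) ≤ M := fun e =>
    (PuigControl.normalizer_le_normalizer_centerIn D).trans (by
      rw [e]
      exact (normalizer_centerIn_eq hG hp2 hM (hO M hM hAM) SM (ne_bot_of_le_ne_bot hDne hDTM)).le)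
  have hZL : D = TL → Subgroup.normalizer (D : Set G) ≤ L := fun e =>
    (PuigControl.normalizer_le_normalizer_centerIn D).trans (by
      rw [e]
      exact (normalizer_centerIn_eq hG hp2 hL (hO L hL (hAD.trans hDL)) SL (ne_bot_of_le_ne_bot hDne hDTL)).le)
  rcases eq_or_lt_of_le hDTM with eM | ltM <;> rcases eq_or_lt_of_le hDTL with eL | ltL
  · apply hLM
    rw [← normalizer_centerIn_eq hG hp2 hL (hO L hL (hAD.trans hDL)) SL (ne_bot_of_le_ne_bot hDne hDTL),
      ← normalizer_centerIn_eq hG hp2 hM (hO M hM hAM) SM (ne_bot_of_le_ne_bot hDne hDTM)]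
    show Subgroup.normalizer (centerIn TL : Set G) = Subgroup.normalizer (centerIn TM : Set G)
    rw [← eL, ← eM]
  · exact hLM (hno _ (hTLp.to_le inf_le_left) (Fusion.Alperin.lt_inf_normalizer hTLp ltL)
      (inf_le_right.trans (hZM eM)) L hL (inf_le_left.trans (Subgroup.map_subtype_le _)))
  · exact hLM (hno _ (hTMp.to_le inf_le_left) (Fusion.Alperin.lt_inf_normalizer hTMp ltM)
      (inf_le_left.trans (Subgroup.map_subtype_le _)) L hL (inf_le_right.trans (hZL eL)))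
  · have h1 := hno _ (hTMp.to_le inf_le_left) (Fusion.Alperin.lt_inf_normalizer hTMp ltM)
      (inf_le_left.trans (Subgroup.map_subtype_le _)) L' hL' (inf_le_right.trans hNL')
    exact hLM (hno _ (hTLp.to_le inf_le_left) (Fusion.Alperin.lt_inf_normalizer hTLp ltL)
      (h1 ▸ inf_le_right.trans hNL') L hL (inf_le_left.trans (Subgroup.map_subtype_le _)))

/-- A Sylow subgroup of `M` whose normalizer lies in `M` is Sylow in `G`. -/
theorem not_dvd_index_of_normalizer_le {p : ℕ} [hp : Fact p.Prime] {M : Subgroup G}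
    (S : Sylow p M) (h : Subgroup.normalizer (((S : Subgroup M).map M.subtype : Subgroup G) : Set G) ≤ M) :
    ¬ p ∣ ((S : Subgroup M).map M.subtype).index := by
  set T := (S : Subgroup M).map M.subtype with hT
  obtain ⟨P, hP⟩ := (S.isPGroup'.map M.subtype).exists_le_sylow
  rcases eq_or_lt_of_le hP with e | lt
  · rw [hT, e]; exact P.not_dvd_index
  exfalso
  have h1 := Fusion.Alperin.lt_inf_normalizer P.isPGroup' lt
  have h2 : ((P : Subgroup G) ⊓ Subgroup.normalizer (T : Set G)).subgroupOf M = (S : Subgroup M) :=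
    S.is_maximal' ((P.isPGroup'.to_le inf_le_left).comap_subtype)
      fun x hx => h1.le ⟨x, hx, rfl⟩
  refine h1.ne ?_
  exact (congrArg (Subgroup.map M.subtype) h2).symm.trans
    (Subgroup.map_subgroupOf_eq_of_le (inf_le_right.trans h))

end Cfsg.Agent.Lib.OddOrder.Uniqueness
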