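import Cfsg.Agent.Lib.OddOrder.PuigControl
import Cfsg.Agent.Lib.Tech42.Goldschmidt
import Cfsg.Agent.Lib.OddOrder.Uniqueness
import Cfsg.Agent.S1457

/-!
# Pushing `P ≤ N(Z(L(P)))'` down to the normalizer of `P ∩ O_{p',p}` (for BG 9.5)
-/

set_option autoImplicit false
set_option linter.style.haveILetI false

open scoped commutatorElement

namespace Cfsg.Agent.Lib.OddOrder.UniqueFocal

open Cfsg.Agent.Lib.OddOrder.MinSimple Cfsg.Agent.Lib.Puig.Theorem

universe u

/-- A `p`-element of a supplement of a normal `p'`-subgroup lying in the derived group lies in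
the derived group of the supplement. -/
theorem mem_commutator_of_sup {H : Type u} [Group H] [Finite H] {p : ℕ} {O X : Subgroup H}
    [O.Normal] (hO : (Nat.card O).Coprime p) (hsup : O ⊔ X = ⊤) {x : H} (hx : x ∈ X) {k : ℕ}
    (hxp : x ^ p ^ k = 1) (hxc : x ∈ commutator H) : x ∈ ⁅X, X⁆ := by
  let π := QuotientGroup.mk' O
  have hle : commutator H ≤ ⁅X, X⁆ ⊔ π.ker := by
    have htop : (⊤ : Subgroup H).map π = X.map π := by
      refine le_antisymm ?_ (Subgroup.map_mono le_top)
      rw [Subgroup.map_le_map_iff, QuotientGroup.ker_mk', sup_comm, hsup]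
    rw [← Subgroup.map_le_map_iff, Subgroup.map_commutator, commutator_def,
      Subgroup.map_commutator, htop]
  rw [QuotientGroup.ker_mk'] at hle
  obtain ⟨d, hd, o, ho, e⟩ := Subgroup.mem_sup_of_normal_right.1 (hle hxc)
  have hd' := hd
  rw [← Subgroup.map_subtype_commutator] at hd'
  obtain ⟨d₀, hd₀, ed⟩ := hd'
  have hoX : o ∈ X := by
    have hdX : d ∈ X := ed ▸ d₀.2
    simpa [← e] using mul_mem (inv_mem hdX) hx
  let f := Abelianization.of (G := X)
  have h1 : f ⟨x, hx⟩ = f ⟨o, hoX⟩ := by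
    have : (⟨x, hx⟩ : X) = d₀ * ⟨o, hoX⟩ := Subtype.ext (by
      show x = (d₀ : H) * o
      exact e.symm.trans (congrArg (· * o) ed.symm))
    rw [this, map_mul, (MonoidHom.mem_ker (f := f)).1 (by rwa [Abelianization.ker_of]), one_mul]
  have h2 : f ⟨x, hx⟩ = 1 := by
    refine orderOf_eq_one_iff.1 (Nat.eq_one_of_dvd_coprimes (hO.pow_right k) ?_ ?_)
    · rw [h1]
      refine (orderOf_map_dvd f _).trans ?_
      rw [← Subgroup.orderOf_coe]
      exact Subgroup.orderOf_dvd_natCard O ho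
    · refine (orderOf_map_dvd f _).trans ?_
      rw [← Subgroup.orderOf_coe]
      exact orderOf_dvd_of_pow_eq_one hxp
  rw [← MonoidHom.mem_ker, Abelianization.ker_of] at h2
  rw [← Subgroup.map_subtype_commutator]
  exact ⟨⟨x, hx⟩, h2, rfl⟩

variable {G : Type u} [Group G] [Finite G]

/-- The relative form, in a subgroup `N`. -/
theorem le_commutator_of_sup {p : ℕ} [hp : Fact p.Prime] {N O X P : Subgroup G} (hON : O ≤ N)
    (hNO : N ≤ Subgroup.normalizer (O : Set G)) (hO : (Nat.card O).Coprime p) (hXN : X ≤ N)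
    (hsup : O ⊔ X = N) (hP : IsPGroup p P) (hPX : P ≤ X) (hPc : P ≤ ⁅N, N⁆) : P ≤ ⁅X, X⁆ := by
  intro x hx
  obtain ⟨k, hk⟩ := hP ⟨x, hx⟩
  haveI : (O.subgroupOf N).Normal := (Subgroup.normal_subgroupOf_iff_le_normalizer hON).2 hNO
  have hxN : x ∈ N := hXN (hPX hx)
  have hc : (⟨x, hxN⟩ : N) ∈ commutator N := by
    obtain ⟨y, hy, e⟩ : x ∈ (commutator N).map N.subtype := by
      rw [Subgroup.map_subtype_commutator]; exact hPc hx
    rwa [show (⟨x, hxN⟩ : N) = y from Subtype.ext e.symm]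
  have h := mem_commutator_of_sup (O := O.subgroupOf N) (X := X.subgroupOf N) (p := p)
    (by rwa [NormedConstrained.card_subgroupOf_eq hON])
    (by rw [← Subgroup.subgroupOf_sup hON hXN, hsup, Subgroup.subgroupOf_self])
    (show (⟨x, hxN⟩ : N) ∈ X.subgroupOf N from hPX hx) (k := k)
    (Subtype.ext (by simpa using congrArg Subtype.val hk)) hc
  have h' := Subgroup.mem_map_of_mem N.subtype h
  rwa [Subgroup.map_commutator, Subgroup.map_subgroupOf_eq_of_le hXN] at h'

/-- An abelian normal subgroup of a Sylow subgroup `P` lies in a subgroup `T`, normal in `P`, with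
`P ≤ N(T)'`. -/
theorem exists_derived_normalizer (hG : Cfsg.IsMinSimpleOddOrder G) {p : ℕ} [hp : Fact p.Prime]
    (P : Sylow p G) {A : Subgroup G} (hA1 : A ≠ ⊥) (hAP : A ≤ P) (hAc : IsMulCommutative A)
    (hPA : (P : Subgroup G) ≤ Subgroup.normalizer (A : Set G)) :
    ∃ T : Subgroup G, A ≤ T ∧ T ≤ P ∧ (P : Subgroup G) ≤ Subgroup.normalizer (T : Set G) ∧
      (P : Subgroup G) ≤ ⁅Subgroup.normalizer (T : Set G), Subgroup.normalizer (T : Set G)⁆ := by
  have hP1 : (P : Subgroup G) ≠ ⊥ := fun h => hA1 (le_bot_iff.1 (h ▸ hAP))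
  have hpG : p ∣ Nat.card G := by
    haveI : Nontrivial (P : Subgroup G) := (Subgroup.nontrivial_iff_ne_bot _).2 hP1
    obtain ⟨n, hn, hc⟩ := P.2.nontrivial_iff_card.1 inferInstance
    exact ((dvd_pow_self p hn.ne').trans hc.symm.dvd).trans (Subgroup.card_subgroup_dvd_card _)
  set N := Subgroup.normalizer (centerIn (P : Subgroup G) : Set G) with hN
  have hNtop : N ≠ ⊤ := normalizer_ne_top hG (PuigControl.centerIn_ne_bot P.2 hP1)
    fun h => pgroup_ne_top hG P.2 (top_le_iff.1 (h ▸ PuigControl.centerIn_le _))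
  haveI := solvable_of_ne_top hG hNtop
  have hPN : (P : Subgroup G) ≤ N :=
    Subgroup.le_normalizer.trans (PuigControl.normalizer_le_normalizer_centerIn _)
  have hPc := PuigControl.sylow_le_derived hG hpG P
  set S : Sylow p N := P.subtype hPN with hS
  set Q := Cfsg.pPrimePCore p N with hQ
  set T₀ : Subgroup N := (S : Subgroup N) ⊓ Q with hT₀
  have hcov : Q ≤ Cfsg.pPrimeCore p N ⊔ T₀ := Tech42.Goldschmidt.pPrimePCore_le_sup S
  haveI : Q.Normal := by rw [hQ]; infer_instance
  -- Frattini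
  have hfrat : Cfsg.pPrimeCore p N ⊔ Subgroup.normalizer (T₀ : Set N) = ⊤ := by
    have hT₀p : IsPGroup p (T₀.subgroupOf Q) :=
      (S.2.to_le inf_le_left).of_equiv (Subgroup.subgroupOfEquivOfLe inf_le_right).symm
    let S₀ : Sylow p Q := hT₀p.toSylow (PLocal.not_dvd_relIndex_inf S Q)
    have h := Sylow.normalizer_sup_eq_top S₀
    rw [show ((S₀ : Subgroup Q).map Q.subtype : Subgroup N) = T₀ by
      show (T₀.subgroupOf Q).map Q.subtype = T₀
      rw [Subgroup.map_subgroupOf_eq_of_le inf_le_right]] at h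
    refine top_le_iff.1 (h ▸ sup_le le_sup_right (hcov.trans ?_))
    exact sup_le le_sup_left (Subgroup.le_normalizer.trans le_sup_right)
  set T : Subgroup G := T₀.map N.subtype with hT
  have hTP : T ≤ P := by
    rintro _ ⟨y, hy, rfl⟩
    exact hy.1
  have hPT : (P : Subgroup G) ≤ Subgroup.normalizer (T : Set G) := by
    intro x hx
    have : (⟨x, hPN hx⟩ : N) ∈ Subgroup.normalizer (T₀ : Set N) :=
      Coprime.le_normalizer_inf Subgroup.le_normalizer
        (by rw [Subgroup.normalizer_eq_top_iff.2 (inferInstance : Q.Normal)]; exact le_top)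
        (show (⟨x, hPN hx⟩ : N) ∈ (S : Subgroup N) from hx)
    exact Subgroup.le_normalizer_map N.subtype ⟨_, this, rfl⟩
  refine ⟨T, fun a ha => ⟨⟨a, hPN (hAP ha)⟩, ⟨hAP ha, ?_⟩, rfl⟩, hTP, hPT, ?_⟩
  · refine Cfsg.Agent.S1457.result (odd_card hG N) p S (A.subgroupOf N) (fun y hy => hAP hy)
      ⟨⟨fun u v => Subtype.ext (Subtype.ext (congrArg Subtype.val
        (hAc.is_comm.comm ⟨_, u.2⟩ ⟨_, v.2⟩) :))⟩⟩ ?_ (show (⟨a, _⟩ : N) ∈ A.subgroupOf N from ha)
    exact fun y hy => NormedConstrained.le_normalizer_subgroupOf hPA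
      (show y ∈ (P : Subgroup G).subgroupOf N from hy)
  · have hsup : NormedConstrained.pO p N ⊔ (Subgroup.normalizer (T₀ : Set N)).map N.subtype = N := by
      rw [← Subgroup.map_sup, hfrat, ← MonoidHom.range_eq_map, Subgroup.range_subtype]
    have hX := le_commutator_of_sup (NormedConstrained.pO_le N)
      (Basic.le_normalizer_map_subtype N _) (NormedConstrained.pO_coprime N)
      (Subgroup.map_subtype_le _) hsup P.2 ?_ hPc
    · refine hX.trans (Subgroup.commutator_mono ?_ ?_) <;>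
        exact Subgroup.le_normalizer_map N.subtype
    · intro x hx
      exact ⟨⟨x, hPN hx⟩, Coprime.le_normalizer_inf Subgroup.le_normalizer
        (by rw [Subgroup.normalizer_eq_top_iff.2 (inferInstance : Q.Normal)]; exact le_top)
        (show (⟨x, hPN hx⟩ : N) ∈ (S : Subgroup N) from hx), rfl⟩

end Cfsg.Agent.Lib.OddOrder.UniqueFocal
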