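import Cfsg.Agent.Lib.OddOrder.PLengthSetup
import Cfsg.Agent.Lib.OddOrder.UniqueFocal
import Cfsg.Agent.Lib.OddLocal.NarrowStructure
import Cfsg.Agent.Lib.OddLocal.RankTwoFull
import Mathlib.GroupTheory.SchurZassenhaus

/-!
# BG 10.7: consequences of `p`-length one
-/

set_option autoImplicit false
set_option linter.style.haveILetI false
set_option linter.unusedSectionVars false

open scoped commutatorElement Pointwise

namespace Cfsg.Agent.Lib.OddOrder.SylowNormalizer

open Cfsg.Agent.Lib.OddOrder.MinSimple Cfsg.Agent.Lib.OddOrder.NormedConstrained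

universe u

variable {G : Type u} [Group G] [Finite G] {p : ℕ} [hp : Fact p.Prime]

theorem sylow_ne_bot {P : Sylow p G} (h : p ∣ Nat.card G) : (P : Subgroup G) ≠ ⊥ :=
  P.ne_bot_of_dvd_card h

/-- A maximal subgroup over `N(P)` makes `p` a `σ`-prime and factorizes. -/
theorem exists_coatom_factor (hG : Cfsg.IsMinSimpleOddOrder G)
    (hpl : ∀ H : Subgroup G, H ≠ ⊤ → Cfsg.PLengthLE p 1 H) (P : Sylow p G)
    (hP1 : (P : Subgroup G) ≠ ⊥) :
    ∃ M : Subgroup G, IsCoatom M ∧ Subgroup.normalizer ((P : Subgroup G) : Set G) ≤ M ∧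
      p ∈ Cfsg.sigma M ∧
      pO p M ⊔ Subgroup.normalizer ((P : Subgroup G) : Set G) = M := by
  obtain ⟨M, hM, hNM⟩ := exists_coatom_ge hG
    (normalizer_ne_top hG hP1 (pgroup_ne_top hG P.2))
  have hPM : (P : Subgroup G) ≤ M := Subgroup.le_normalizer.trans hNM
  set S : Sylow p M := P.subtype hPM
  have hSmap : ((S : Subgroup M).map M.subtype : Subgroup G) = (P : Subgroup G) := by
    rw [Sylow.coe_subtype, Subgroup.map_subgroupOf_eq_of_le hPM]
  haveI : Nontrivial (P : Subgroup G) := (Subgroup.nontrivial_iff_ne_bot _).2 hP1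
  obtain ⟨n, hn, hnc⟩ := P.2.nontrivial_iff_card.1 inferInstance
  have hpM : p ∣ Nat.card M :=
    ((dvd_pow_self p hn.ne').trans hnc.symm.dvd).trans (Subgroup.card_dvd_of_le hPM)
  refine ⟨M, hM, hNM, ⟨hp.out, hpM, S, by rw [hSmap]; exact hNM⟩,
    le_antisymm (sup_le (pO_le M) hNM) fun m hm => ?_⟩
  have hSQ : (S : Subgroup M) ≤ Cfsg.pPrimePCore p M := Subgroup.map_le_iff_le_comap.1
    (OddLocal.NarrowStructure.map_sylow_eq_of_pLength_one (hpl M hM.1) S).le
  haveI : (Cfsg.pPrimePCore p M).Normal := inferInstance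
  have hfr : Subgroup.normalizer ((S : Subgroup M) : Set M) ⊔ Cfsg.pPrimeCore p M = ⊤ := by
    have h1 := Sylow.normalizer_sup_eq_top' S hSQ
    refine top_le_iff.1 (h1 ▸ sup_le le_sup_left ?_)
    refine (Tech42.Goldschmidt.pPrimePCore_le_sup S).trans (sup_le le_sup_right ?_)
    exact inf_le_left.trans (Subgroup.le_normalizer.trans le_sup_left)
  obtain ⟨t, ht, o, ho, e⟩ := Subgroup.mem_sup_of_normal_right.1
    (hfr ▸ Subgroup.mem_top (⟨m, hm⟩ : M) : (⟨m, hm⟩ : M) ∈ _)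
  have htn : (t : G) ∈ Subgroup.normalizer ((P : Subgroup G) : Set G) := by
    have h2 := Subgroup.le_normalizer_map M.subtype (Subgroup.mem_map_of_mem M.subtype ht)
    rwa [hSmap] at h2
  have e' : (t : G) * (o : G) = m := congrArg Subtype.val e
  rw [← e']
  exact mul_mem (Subgroup.mem_sup_right htn) (Subgroup.mem_sup_left ⟨o, ho, rfl⟩)

/-- BG 10.7: `P ≤ N(P)'`. -/
theorem le_derived_normalizer (hG : Cfsg.IsMinSimpleOddOrder G)
    (hpl : ∀ H : Subgroup G, H ≠ ⊤ → Cfsg.PLengthLE p 1 H) (P : Sylow p G) :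
    (P : Subgroup G) ≤ ⁅Subgroup.normalizer ((P : Subgroup G) : Set G),
      Subgroup.normalizer ((P : Subgroup G) : Set G)⁆ := by
  by_cases hP1 : (P : Subgroup G) = ⊥
  · rw [hP1]; exact bot_le
  obtain ⟨M, hM, hNM, hσ, hfac⟩ := exists_coatom_factor hG hpl P hP1
  exact UniqueFocal.le_commutator_of_sup (pO_le M) (Basic.le_normalizer_map_subtype M _)
    (pO_coprime M) hNM hfac P.2 Subgroup.le_normalizer
    (Sigma.le_derived hG hM hσ P.2 (Subgroup.le_normalizer.trans hNM))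

/-- BG 10.7: `P = [P, V]`. -/
theorem commutator_eq (hG : Cfsg.IsMinSimpleOddOrder G)
    (hpl : ∀ H : Subgroup G, H ≠ ⊤ → Cfsg.PLengthLE p 1 H) (P : Sylow p G) {V : Subgroup G}
    (hV : Cfsg.IsComplIn (P : Subgroup G) V (Subgroup.normalizer ((P : Subgroup G) : Set G))) :
    (P : Subgroup G) = ⁅(P : Subgroup G), V⁆ := by
  by_cases hP1 : (P : Subgroup G) = ⊥
  · rw [hP1, Subgroup.commutator_bot_left]
  set N := Subgroup.normalizer ((P : Subgroup G) : Set G) with hN
  have hPN : (P : Subgroup G) ≤ N := Subgroup.le_normalizer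
  haveI := solvable_of_ne_top hG (normalizer_ne_top hG hP1 (pgroup_ne_top hG P.2))
  set K : Subgroup N := (P : Subgroup G).subgroupOf N with hK
  haveI : K.Normal := (Subgroup.normal_subgroupOf_iff_le_normalizer hPN).2 le_rfl
  set E : Subgroup N := V.subgroupOf N with hE
  have hKp : IsPGroup p K := P.2.of_equiv (Subgroup.subgroupOfEquivOfLe hPN).symm
  have hcard := Basic.isComplIn_card hV
  have hcop : (Nat.card K).Coprime (Nat.card E) := by
    rw [hK, hE, card_subgroupOf_eq hPN, card_subgroupOf_eq hV.2.1]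
    obtain ⟨n, hn⟩ := IsPGroup.iff_card.1 P.2
    rw [hn]
    refine Nat.Coprime.pow_left n (hp.out.coprime_iff_not_dvd.2 fun h => ?_)
    have h1 : Nat.card V ∣ (P : Subgroup G).index := by
      rw [← Basic.isComplIn_relIndex hV, ← Subgroup.relIndex_mul_index hPN]
      exact dvd_mul_right _ _
    exact P.not_dvd_index (h.trans h1)
  have hsup : K ⊔ E = ⊤ := by
    rw [hK, hE, ← Subgroup.subgroupOf_sup hPN hV.2.1, Basic.isComplIn_sup hV,
      Subgroup.subgroupOf_self]
  have h := PLengthSetup.commutator_eq_left hsup hcop fun q hq hqK S => by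
    haveI := Fact.mk hq
    obtain ⟨n, hn⟩ := IsPGroup.iff_card.1 hKp
    rw [hn] at hqK
    obtain rfl := (Nat.prime_dvd_prime_iff_eq hq hp.out).1 (hq.dvd_of_dvd_pow hqK)
    have hSK : (S : Subgroup N) ≤ K := by
      intro x hx
      obtain ⟨m, hm⟩ := MulAction.exists_smul_eq N S (P.subtype hPN)
      have h2 : MulAut.conj m • x ∈ K := by
        have h3 : MulAut.conj m • x ∈ ((m • S : Sylow q N) : Subgroup N) := by
          rw [Sylow.coe_subgroup_smul]
          exact Subgroup.smul_mem_pointwise_smul _ _ _ hx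
        rw [hm, Sylow.coe_subtype] at h3
        exact h3
      have h4 := Subgroup.Normal.conj_mem (inferInstance : K.Normal) _ h2 m⁻¹
      rw [MulAut.smul_def, MulAut.conj_apply] at h4
      convert h4 using 1
      group
    refine hSK.trans ?_
    intro x hx
    have h5 := le_derived_normalizer hG hpl P hx
    rw [← Subgroup.map_subtype_commutator] at h5
    obtain ⟨y, hy, e⟩ := h5
    rwa [← N.subtype_injective e]
  have h6 := congrArg (Subgroup.map N.subtype) h
  rw [Subgroup.map_commutator, hK, hE, Subgroup.map_subgroupOf_eq_of_le hPN,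
    Subgroup.map_subgroupOf_eq_of_le hV.2.1] at h6
  exact h6.symm

/-- In a nonabelian group of order `p ^ 3` the derived group is the centre. -/
theorem derived_eq_center {Q : Subgroup G} (hQ : Nat.card Q = p ^ 3) (hnc : ¬ IsMulCommutative Q) :
    ⁅Q, Q⁆ = Q ⊓ Subgroup.centralizer (Q : Set G) := by
  have hQp : IsPGroup p Q := IsPGroup.of_card hQ
  set Z := Subgroup.center Q with hZ
  have hmap : Z.map Q.subtype = Q ⊓ Subgroup.centralizer (Q : Set G) := by
    ext x
    constructor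
    · rintro ⟨z, hz, rfl⟩
      exact ⟨z.2, Subgroup.mem_centralizer_iff.2 fun y hy =>
        congrArg Subtype.val (Subgroup.mem_center_iff.1 hz ⟨y, hy⟩)⟩
    · rintro ⟨hx, hxc⟩
      exact ⟨⟨x, hx⟩, Subgroup.mem_center_iff.2 fun y =>
        Subtype.ext (Subgroup.mem_centralizer_iff.1 hxc (y : G) y.2), rfl⟩
  have hncc : ¬ IsCyclic (Q ⧸ Z) := fun hc => by
    haveI := hc
    exact hnc ⟨⟨commutative_of_cyclic_center_quotient (QuotientGroup.mk' Z)
      (by rw [QuotientGroup.ker_mk'])⟩⟩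
  haveI : Nontrivial Q := by
    by_contra h
    rw [not_nontrivial_iff_subsingleton] at h
    exact hnc ⟨⟨fun a b => Subsingleton.elim _ _⟩⟩
  haveI := hQp.center_nontrivial
  obtain ⟨a, ha0, ha⟩ := (hQp.to_subgroup Z).nontrivial_iff_card.1 inferInstance
  have hidx : Nat.card Z * Z.index = p ^ 3 := by rw [Subgroup.card_mul_index, hQ]
  obtain ⟨b, hb⟩ : ∃ b, Z.index = p ^ b := by
    obtain ⟨b, -, hb⟩ := (Nat.dvd_prime_pow hp.out).1 (hidx ▸ dvd_mul_left Z.index _)
    exact ⟨b, hb⟩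
  rw [ha, hb, ← pow_add] at hidx
  have hab := Nat.pow_right_injective hp.out.two_le hidx
  have hb2 : b = 2 := by
    have hq : Nat.card (Q ⧸ Z) = p ^ b := hb
    rcases b with _ | _ | b
    · haveI : Subsingleton (Q ⧸ Z) := (Nat.card_eq_one_iff_unique.1 (by rw [hq, pow_zero])).1
      exact absurd isCyclic_of_subsingleton hncc
    · exact absurd (isCyclic_of_prime_card (by rw [hq, zero_add, pow_one])) hncc
    · omega
  subst hb2
  have ha1 : a = 1 := by omega
  subst ha1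
  have hqc : ∀ u v : Q ⧸ Z, u * v = v * u :=
    IsPGroup.commutative_of_card_eq_prime_sq (hb : Nat.card (Q ⧸ Z) = p ^ 2)
  have hle : commutator Q ≤ Z := by
    rw [commutator_def, Subgroup.commutator_le]
    intro u _ v _
    refine (QuotientGroup.eq_one_iff _).1 ?_
    show QuotientGroup.mk' Z ⁅u, v⁆ = 1
    rw [map_commutatorElement, commutatorElement_eq_one_iff_commute]
    exact hqc _ _
  have hne : commutator Q ≠ ⊥ := fun h => hnc ⟨⟨fun u v =>
    commutatorElement_eq_one_iff_mul_comm.1 (Subgroup.mem_bot.1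
      (h ▸ Subgroup.commutator_mem_commutator (Subgroup.mem_top u) (Subgroup.mem_top v)))⟩⟩
  have heq : commutator Q = Z := by
    refine Subgroup.eq_of_le_of_card_ge hle ?_
    obtain ⟨c, -, hc⟩ := (Nat.dvd_prime_pow hp.out).1
      (hQ ▸ (commutator Q).card_subgroup_dvd_card)
    rcases c with _ | c
    · exact absurd (Subgroup.card_eq_one.1 (hc.trans (pow_zero p))) hne
    · rw [hc, ha]
      exact Nat.pow_le_pow_right hp.out.pos (by omega)
  rw [← hmap, ← heq, Subgroup.map_subtype_commutator]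

/-- BG 10.7: the structure of a Sylow subgroup of rank two. -/
theorem structure_rank_two (hG : Cfsg.IsMinSimpleOddOrder G)
    (hpl : ∀ H : Subgroup G, H ≠ ⊤ → Cfsg.PLengthLE p 1 H) (P : Sylow p G)
    (hr : Cfsg.PRankLE p 2 (P : Subgroup G)) :
    IsMulCommutative (P : Subgroup G) ∨ ∃ P₁ P₂ : Subgroup G, P₁ ⊔ P₂ = (P : Subgroup G) ∧
      (∀ a ∈ P₁, ∀ b ∈ P₂, a * b = b * a) ∧
      ¬ IsMulCommutative P₁ ∧ Nat.card P₁ = p ^ 3 ∧ Monoid.exponent P₁ = p ∧ IsCyclic P₂ ∧
      Subgroup.closure {x : G | x ∈ P₂ ∧ x ^ p = 1} =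
        P₁ ⊓ Subgroup.centralizer (P₁ : Set G) := by
  by_cases hP1 : (P : Subgroup G) = ⊥
  · left
    rw [hP1]
    infer_instance
  set N := Subgroup.normalizer ((P : Subgroup G) : Set G) with hN
  have hPN : (P : Subgroup G) ≤ N := Subgroup.le_normalizer
  haveI : ((P : Subgroup G).subgroupOf N).Normal :=
    (Subgroup.normal_subgroupOf_iff_le_normalizer hPN).2 le_rfl
  obtain ⟨n, hn⟩ := IsPGroup.iff_card.1 P.2
  have hidx : ¬ p ∣ (P : Subgroup G).relIndex N := fun h =>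
    P.not_dvd_index (h.trans (Subgroup.relIndex_mul_index hPN ▸ dvd_mul_right _ _))
  have hcop : (Nat.card ((P : Subgroup G).subgroupOf N)).Coprime
      ((P : Subgroup G).subgroupOf N).index := by
    rw [card_subgroupOf_eq hPN, hn]
    exact (hp.out.coprime_iff_not_dvd.2 hidx).pow_left n
  obtain ⟨W, hW⟩ := Subgroup.exists_right_complement'_of_coprime hcop
  set V := W.map N.subtype with hV
  have hcompl : Cfsg.IsComplIn (P : Subgroup G) V N := by
    refine ⟨hPN, Subgroup.map_subtype_le _, ?_, fun m hm => ?_⟩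
    · rw [← Subgroup.map_subgroupOf_eq_of_le hPN, hV, ← Subgroup.map_inf _ _ _ N.subtype_injective,
        hW.disjoint.eq_bot, Subgroup.map_bot]
    · obtain ⟨⟨a, b⟩, hab⟩ := hW.2 ⟨m, hm⟩
      exact ⟨(a : N), a.2, (b : N), ⟨b, b.2, rfl⟩, (congrArg Subtype.val hab).symm⟩
  have hpG : p ∣ Nat.card G := by
    haveI : Nontrivial (P : Subgroup G) := (Subgroup.nontrivial_iff_ne_bot _).2 hP1
    obtain ⟨k, hk, hkc⟩ := P.2.nontrivial_iff_card.1 inferInstance
    exact ((dvd_pow_self p hk.ne').trans hkc.symm.dvd).trans (Subgroup.card_subgroup_dvd_card _)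
  have hVcop : (Nat.card V).Coprime p := by
    rw [← Basic.isComplIn_relIndex hcompl]
    exact (hp.out.coprime_iff_not_dvd.2 hidx).symm
  obtain ⟨-, h | ⟨R₁, R₂, h1, h2, h3, h4, h5, h6, h7⟩⟩ := OddLocal.RankTwoFull.structure_of_full
    (ne_two_of_dvd hG hpG) P.2 hP1 hr hcompl.2.1 hVcop (odd_card hG V)
    (commutator_eq hG hpl P hcompl).symm
  · exact Or.inl h
  · exact Or.inr ⟨R₁, R₂, h1, h2, h3, h4, h5, h6, h7.trans (derived_eq_center h4 h3)⟩

/-- BG 10.7(c): `N(P)` controls fusion of subgroups of `P`. -/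
theorem fusion (hG : Cfsg.IsMinSimpleOddOrder G)
    (hpl : ∀ H : Subgroup G, H ≠ ⊤ → Cfsg.PLengthLE p 1 H) (P : Sylow p G) {Q : Subgroup G}
    {x : G} (hQ : Q ≤ P) (hx : Q.map (MulAut.conj x).toMonoidHom ≤ P) :
    ∃ y ∈ Subgroup.normalizer ((P : Subgroup G) : Set G),
      Q.map (MulAut.conj x).toMonoidHom = Q.map (MulAut.conj y).toMonoidHom := by
  by_cases hQ1 : Q = ⊥
  · exact ⟨1, one_mem _, by simp [hQ1]⟩
  have hP1 : (P : Subgroup G) ≠ ⊥ := fun h => hQ1 (le_bot_iff.1 (h ▸ hQ))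
  obtain ⟨M, hM, hNM, hσ, hfac⟩ := exists_coatom_factor hG hpl P hP1
  have hPM : (P : Subgroup G) ≤ M := Subgroup.le_normalizer.trans hNM
  obtain ⟨m, hm, c, hc, hxmc⟩ := Sigma.fusion hG hM hσ _ Q rfl (P.2.to_le hQ) hQ1 (hQ.trans hPM) x
    (hx.trans hPM)
  obtain ⟨y, hy, o, ho, e⟩ := Coprime.exists_mul_of_mem_sup
    (A := Subgroup.normalizer ((P : Subgroup G) : Set G)) (K := pO p M)
    (hNM.trans (Basic.le_normalizer_map_subtype M _)) (by rw [sup_comm, hfac]; exact hm)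
  refine ⟨y, hy, ?_⟩
  have hkey : ∀ q ∈ Q, x * q * x⁻¹ = y * q * y⁻¹ := by
    intro q hq
    have h1 := Subgroup.mem_centralizer_iff.1 hc q hq
    have hxq : x * q * x⁻¹ = m * q * m⁻¹ := by
      rw [hxmc]
      calc m * c * q * (m * c)⁻¹ = m * (c * q) * c⁻¹ * m⁻¹ := by group
        _ = m * (q * c) * c⁻¹ * m⁻¹ := by rw [h1]
        _ = _ := by group
    have hin : x * q * x⁻¹ ∈ P := hx ⟨q, hq, rfl⟩
    rw [hxq] at hin ⊢
    have h2 : o * q * o⁻¹ ∈ (P : Subgroup G) := by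
      have h3 := (Subgroup.mem_normalizer_iff.1 (Subgroup.inv_mem _ hy) (m * q * m⁻¹)).1 hin
      convert h3 using 1
      rw [e]; group
    have h4 : o * q * o⁻¹ * q⁻¹ ∈ (P : Subgroup G) ⊓ pO p M := by
      refine Subgroup.mem_inf.2 ⟨mul_mem h2 (inv_mem (hQ hq)), ?_⟩
      have h5 := (Subgroup.mem_normalizer_iff.1
        (Basic.le_normalizer_map_subtype M _ (hPM (hQ hq))) o⁻¹).1 (inv_mem ho)
      have h6 := mul_mem ho h5
      convert h6 using 1
      group
    rw [Basic.inf_eq_bot_of_coprime, Subgroup.mem_bot] at h4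
    · rw [e]
      calc y * o * q * (y * o)⁻¹ = y * (o * q * o⁻¹ * q⁻¹) * q * y⁻¹ := by group
        _ = _ := by rw [h4]; group
    · obtain ⟨n, hn⟩ := IsPGroup.iff_card.1 P.2
      rw [hn]
      exact (pO_coprime M).symm.pow_left n
  ext z
  constructor
  · rintro ⟨q, hq, rfl⟩
    exact ⟨q, hq, (hkey q hq).symm⟩
  · rintro ⟨q, hq, rfl⟩
    exact ⟨q, hq, hkey q hq⟩

/-- BG 10.7(d): every subgroup of `P` is fully normalized. -/
theorem not_dvd_relIndex (hG : Cfsg.IsMinSimpleOddOrder G)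
    (hpl : ∀ H : Subgroup G, H ≠ ⊤ → Cfsg.PLengthLE p 1 H) (P : Sylow p G) {Q : Subgroup G}
    (hQ : Q ≤ P) :
    ¬ p ∣ ((P : Subgroup G) ⊓ Subgroup.normalizer (Q : Set G)).relIndex
      (Subgroup.normalizer (Q : Set G)) := by
  set N := Subgroup.normalizer (Q : Set G) with hN
  have hQN : Q ≤ N := Subgroup.le_normalizer
  obtain ⟨S, hS⟩ := ((P.2.to_le inf_le_left).comap_subtype (K := N) :
    IsPGroup p (((P : Subgroup G) ⊓ N).comap N.subtype)).exists_le_sylow
  set S₁ := (S : Subgroup N).map N.subtype with hS₁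
  obtain ⟨P₂, hP₂⟩ := (S.2.map N.subtype).exists_le_sylow
  obtain ⟨g, hg⟩ := MulAction.exists_smul_eq G P₂ P
  have hgS : ∀ s ∈ S₁, g * s * g⁻¹ ∈ (P : Subgroup G) := fun s hs => by
    rw [← hg, Sylow.coe_subgroup_smul]
    exact ⟨s, hP₂ hs, rfl⟩
  obtain ⟨y, hy, hQy⟩ := fusion hG hpl P hQ (x := g) (by
    rintro _ ⟨q, hq, rfl⟩
    exact hgS q ⟨⟨q, hQN hq⟩, hS (show (⟨q, hQN hq⟩ : N) ∈ _ from ⟨hQ hq, hQN hq⟩), rfl⟩)
  have hn : y⁻¹ * g ∈ N := Coprime.mem_normalizer_of_conj_smul_eq (by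
    rw [Coprime.conj_smul_mul, show MulAut.conj g • Q = Q.map (MulAut.conj g).toMonoidHom from rfl,
      hQy, show Q.map (MulAut.conj y).toMonoidHom = MulAut.conj y • Q from rfl, map_inv,
      inv_smul_smul])
  have hle : S₁.map (MulAut.conj (y⁻¹ * g)).toMonoidHom ≤ (P : Subgroup G) ⊓ N := by
    rintro _ ⟨s, hs, rfl⟩
    refine Subgroup.mem_inf.2 ⟨?_, mul_mem (mul_mem hn (Subgroup.map_subtype_le _ hs)) (inv_mem hn)⟩
    have h1 := (Subgroup.mem_normalizer_iff.1 (Subgroup.inv_mem _ hy) _).1 (hgS s hs)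
    convert h1 using 1
    simp only [MulEquiv.coe_toMonoidHom, MulAut.conj_apply]
    group
  have heq : ((P : Subgroup G) ⊓ N).subgroupOf N = (S : Subgroup N) := by
    refine Subgroup.eq_of_le_of_card_ge hS ?_
    rw [card_subgroupOf_eq inf_le_right]
    refine le_trans ?_ (Subgroup.card_le_of_le hle)
    rw [Subgroup.card_map_of_injective (MulAut.conj (y⁻¹ * g)).injective,
      Subgroup.card_map_of_injective N.subtype_injective]
  show ¬ p ∣ (((P : Subgroup G) ⊓ N).subgroupOf N).index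
  rw [heq]
  exact S.not_dvd_index

/-- BG 10.7(e). -/
theorem normalizer_le (hG : Cfsg.IsMinSimpleOddOrder G)
    (hpl : ∀ H : Subgroup G, H ≠ ⊤ → Cfsg.PLengthLE p 1 H) (P : Sylow p G) {R Q : Subgroup G}
    (hR : IsPGroup p R) (hQ : Q ≤ (P : Subgroup G) ⊓ R)
    (hPQ : Subgroup.normalizer ((P : Subgroup G) : Set G) ≤ Subgroup.normalizer (Q : Set G)) :
    Subgroup.normalizer (R : Set G) ≤ Subgroup.normalizer (Q : Set G) := by
  intro n hn
  obtain ⟨S, hS⟩ := hR.exists_le_sylow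
  obtain ⟨g, hg⟩ := MulAction.exists_smul_eq G S P
  have hfix : ∀ z : G, (∀ q ∈ Q, z * q * z⁻¹ ∈ (P : Subgroup G)) →
      z ∈ Subgroup.normalizer (Q : Set G) := by
    intro z hz
    obtain ⟨y, hy, hzy⟩ := fusion hG hpl P (hQ.trans inf_le_left) (x := z)
      (by rintro _ ⟨q, hq, rfl⟩; exact hz q hq)
    refine Coprime.mem_normalizer_of_conj_smul_eq ?_
    rw [show MulAut.conj z • Q = Q.map (MulAut.conj z).toMonoidHom from rfl, hzy,
      show Q.map (MulAut.conj y).toMonoidHom = MulAut.conj y • Q from rfl,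
      Coprime.conj_smul_eq_self_of_mem_normalizer (hPQ hy)]
  have hgR : ∀ r ∈ R, g * r * g⁻¹ ∈ (P : Subgroup G) := fun r hr => by
    rw [← hg, Sylow.coe_subgroup_smul]
    exact ⟨r, hS hr, rfl⟩
  have h1 : g ∈ Subgroup.normalizer (Q : Set G) := hfix g fun q hq => hgR q (hQ hq).2
  have h2 : g * n ∈ Subgroup.normalizer (Q : Set G) := hfix (g * n) fun q hq => by
    have := hgR _ ((Subgroup.mem_normalizer_iff.1 hn q).1 (hQ hq).2)
    convert this using 1
    group
  simpa using mul_mem (inv_mem h1) h2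

end Cfsg.Agent.Lib.OddOrder.SylowNormalizer
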