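import Cfsg.Agent.S1445
import Cfsg.Agent.Lib.OddOrder.Basic
import Cfsg.Agent.Lib.Coprime.Commutator
import Cfsg.Agent.Lib.OddLocal.DerivedFitting

/-!
# Fixed points of an element of prime order acting through a `q`-group on an `s`-group

If `b` of prime order normalizes the `s`-group `U` and the `q`-group `V = [V, b]`, `V` normalizes
but does not centralize `U`, then `b` fixes a nontrivial element of `U` (odd order), provided no
nontrivial element of `C_V(U)` commutes with `b`.
-/

set_option autoImplicit false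
set_option linter.style.haveILetI false

namespace Cfsg.Agent.Lib.OddOrder.FixedPoint

universe u

variable {G : Type u} [Group G] [Finite G] {p q s : ℕ} [hp : Fact p.Prime] [hq : Fact q.Prime]
  [hs : Fact s.Prime]

theorem fixed_ne_bot (hodd : Odd (Nat.card G)) (hpq : p ≠ q) (hps : p ≠ s) (hqs : q ≠ s)
    {U V : Subgroup G} (hU : IsPGroup s U) (hV : IsPGroup q V) {b : G} (hb : orderOf b = p)
    (hVU : V ≤ Subgroup.normalizer (U : Set G)) (hbU : b ∈ Subgroup.normalizer (U : Set G))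
    (hbV : b ∈ Subgroup.normalizer (V : Set G))
    [hsolv : Group.IsSolvable ↥((U ⊔ V) ⊔ Subgroup.zpowers b)]
    (hVb : V ≤ ⁅V, Subgroup.zpowers b⁆) (hnc : ¬ V ≤ Subgroup.centralizer (U : Set G))
    (hC : ∀ v ∈ V, v ∈ Subgroup.centralizer (U : Set G) → Commute v b → v = 1) :
    U ⊓ Subgroup.centralizer ({b} : Set G) ≠ ⊥ := by
  intro hbot
  set K₀ := U ⊔ V with hK₀
  set H := K₀ ⊔ Subgroup.zpowers b with hH
  have hKH : K₀ ≤ H := le_sup_left
  have hbH : b ∈ H := Subgroup.mem_sup_right (Subgroup.mem_zpowers b)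
  have hbK : Subgroup.zpowers b ≤ Subgroup.normalizer (K₀ : Set G) :=
    Subgroup.zpowers_le.2 (Subgroup.normalizer_inf_normalizer_le_normalizer_sup U V ⟨hbU, hbV⟩)
  haveI hKn : (K₀.subgroupOf H).Normal :=
    (Subgroup.normal_subgroupOf_iff_le_normalizer hKH).2 (sup_le Subgroup.le_normalizer hbK)
  set K := K₀.subgroupOf H with hK
  set R := (Subgroup.zpowers b).subgroupOf H with hR
  -- orders
  obtain ⟨i, hi⟩ := IsPGroup.iff_card.1 hU
  obtain ⟨j, hj⟩ := IsPGroup.iff_card.1 hV
  have hUVc : (Nat.card V).Coprime (Nat.card U) := by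
    rw [hi, hj]; exact Nat.coprime_pow_primes _ _ hq.out hs.out hqs
  have hdis : Disjoint U V :=
    disjoint_iff.2 (Basic.inf_eq_bot_of_coprime hUVc.symm)
  have hK₀c : Nat.card K₀ = Nat.card U * Nat.card V := by
    rw [hK₀, sup_comm, Coprime.card_sup_of_disjoint hVU hdis.symm, mul_comm]
  have hKc : Nat.card K = s ^ i * q ^ j := by
    rw [hK, Nat.card_congr (Subgroup.subgroupOfEquivOfLe hKH).toEquiv, hK₀c, hi, hj]
  have hRc : Nat.card R = p := by
    rw [hR, Nat.card_congr (Subgroup.subgroupOfEquivOfLe (le_sup_right : _ ≤ H)).toEquiv,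
      Nat.card_zpowers, hb]
  have hcop : (Nat.card K).Coprime (Nat.card R) := by
    rw [hKc, hRc]
    exact (((Nat.coprime_primes hs.out hp.out).2 hps.symm).pow_left i).mul_left
      (((Nat.coprime_primes hq.out hp.out).2 hpq.symm).pow_left j)
  have hKR : K ⊔ R = ⊤ := by
    rw [hK, hR, ← Subgroup.subgroupOf_sup hKH le_sup_right, Subgroup.subgroupOf_self]
  have hprime : ∀ x ∈ R, x ≠ 1 →
      K ⊓ Subgroup.centralizer ({x} : Set H) = K ⊓ Subgroup.centralizer (R : Set H) := by
    intro x hx hx1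
    refine le_antisymm (fun k hk => ⟨hk.1, Subgroup.mem_centralizer_iff.2 fun r hr => ?_⟩)
      (inf_le_inf_left _ (Subgroup.centralizer_le (Set.singleton_subset_iff.2 hx)))
    have hRz : R = Subgroup.zpowers x := by
      refine (Subgroup.eq_of_le_of_card_ge (Subgroup.zpowers_le.2 hx) ?_).symm
      rw [Nat.card_zpowers, hRc]
      have h1 := R.orderOf_dvd_natCard hx
      rw [hRc] at h1
      rcases (Nat.dvd_prime hp.out).1 h1 with e | e
      · exact absurd (orderOf_eq_one_iff.1 e) hx1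
      · exact e.ge
    obtain ⟨l, rfl⟩ := (hRz ▸ hr : r ∈ Subgroup.zpowers x)
    exact ((Commute.zpow_right (Subgroup.mem_centralizer_singleton_iff.1 hk.2 :
      Commute k x) l).eq).symm
  have hbR : (⟨b, hbH⟩ : H) ∈ R := Subgroup.mem_zpowers b
  -- `U` is the normal Sylow `s`-subgroup of `K₀`
  have hKNU : K₀ ≤ Subgroup.normalizer (U : Set G) := sup_le Subgroup.le_normalizer hVU
  haveI hUn : ((U.subgroupOf H).subgroupOf K).Normal := by
    refine ⟨fun n hn g => ?_⟩
    show ((g : H) : G) * ((n : H) : G) * ((g : H) : G)⁻¹ ∈ U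
    exact (Subgroup.mem_normalizer_iff.1 (hKNU (show ((g : H) : G) ∈ K₀ from g.2)) _).1 hn
  set U' := (U.subgroupOf H).subgroupOf K with hU'
  have hU'p : IsPGroup s U' := (hU.comap_subtype (K := H)).comap_subtype (K := K)
  have hcard' : Nat.card U' = s ^ i := by
    rw [hU', Nat.card_congr (Subgroup.subgroupOfEquivOfLe (fun x hx => Subgroup.mem_sup_left hx :
      U.subgroupOf H ≤ K)).toEquiv,
      Nat.card_congr (Subgroup.subgroupOfEquivOfLe (le_sup_left.trans hKH : U ≤ H)).toEquiv, hi]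
  set V' := (V.subgroupOf H).subgroupOf K with hV'
  have hcardV' : Nat.card V' = q ^ j := by
    rw [hV', Nat.card_congr (Subgroup.subgroupOfEquivOfLe (fun x hx => Subgroup.mem_sup_right hx :
      V.subgroupOf H ≤ K)).toEquiv,
      Nat.card_congr (Subgroup.subgroupOfEquivOfLe (le_sup_right.trans hKH : V ≤ H)).toEquiv, hj]
  have hsidx : U'.index = q ^ j := by
    have h := U'.card_mul_index
    rw [hcard', hKc] at h
    exact Nat.eq_of_mul_eq_mul_left (pow_pos hs.out.pos i) h
  have hqidx : ¬ q ∣ V'.index := by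
    have h := V'.card_mul_index
    rw [hcardV', hKc, mul_comm (s ^ i)] at h
    rw [Nat.eq_of_mul_eq_mul_left (pow_pos hq.out.pos j) h]
    exact fun hd => hqs ((Nat.prime_dvd_prime_iff_eq hq.out hs.out).1 (hq.out.dvd_of_dvd_pow hd))
  let S : Sylow q K := (IsPGroup.of_card hcardV').toSylow hqidx
  have hpV : Cfsg.pCore q K ≤ V' := by
    obtain ⟨Q, hQ⟩ := (Cores.pCore_isPGroup (G := K) q).exists_le_sylow
    obtain ⟨g, hg⟩ := MulAction.exists_smul_eq K Q S
    intro x hx
    have h2 : MulAut.conj g • (g⁻¹ * x * g) ∈ ((g • Q : Sylow q K) : Subgroup K) := by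
      rw [Sylow.coe_subgroup_smul]
      refine Subgroup.smul_mem_pointwise_smul _ _ _ (hQ ?_)
      have := (inferInstance : (Cfsg.pCore q K).Normal).conj_mem x hx g⁻¹
      rwa [inv_inv] at this
    rw [hg, MulAut.smul_def, MulAut.conj_apply] at h2
    convert h2 using 1
    · rfl
    · group
  have hF : Cfsg.fittingOf K ⊓ Subgroup.centralizer (R : Set H) = ⊥ := by
    rw [eq_bot_iff]
    rintro x ⟨⟨y, hy, rfl⟩, hxR⟩
    rw [Subgroup.mem_bot]
    have hyb : Commute (((y : H) : G)) b :=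
      (congrArg Subtype.val (Subgroup.mem_centralizer_iff.1 hxR ⟨b, hbH⟩ hbR)).symm
    -- the `q`-part of `y` is trivial
    have hyq : (y ^ s ^ i) = 1 := by
      have hord : ∃ k, orderOf (y ^ s ^ i) = q ^ k := by
        have h1 : (y ^ s ^ i) ^ q ^ j = 1 := by
          rw [← pow_mul, ← hKc]; exact pow_card_eq_one'
        obtain ⟨k, -, hk⟩ := (Nat.dvd_prime_pow hq.out).1 (orderOf_dvd_of_pow_eq_one h1)
        exact ⟨k, hk⟩
      have hmem : y ^ s ^ i ∈ Cfsg.pCore q K :=
        OddLocal.DerivedFitting.mem_pCore_of_mem_fitting (pow_mem hy _) hord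
      have hvV : (((y ^ s ^ i : K) : H) : G) ∈ V := hpV hmem
      have hdisj : Disjoint U' (Cfsg.pCore q K) := by
        obtain ⟨m, hm⟩ := IsPGroup.iff_card.1 (Cores.pCore_isPGroup (G := K) q)
        refine disjoint_iff.2 (Basic.inf_eq_bot_of_coprime ?_)
        rw [hcard', hm]
        exact Nat.coprime_pow_primes _ _ hs.out hq.out hqs.symm
      refine Subtype.ext (Subtype.ext (hC _ hvV (Subgroup.mem_centralizer_iff.2 fun u hu => ?_) ?_))
      · have huK : u ∈ K₀ := Subgroup.mem_sup_left hu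
        exact congrArg (fun z : K => ((z : H) : G)) (Subgroup.commute_of_normal_of_disjoint _ _
          hUn inferInstance hdisj (⟨⟨u, hKH huK⟩, huK⟩ : K) (y ^ s ^ i) hu hmem).eq
      · push_cast
        exact hyb.pow_left _
    have hyU : y ∈ U' := by
      rw [← QuotientGroup.eq_one_iff, ← orderOf_eq_one_iff]
      refine Nat.eq_one_of_dvd_coprimes (Nat.coprime_pow_primes i j hs.out hq.out hqs.symm)
        ((orderOf_map_dvd (QuotientGroup.mk' U') y).trans (orderOf_dvd_of_pow_eq_one hyq)) ?_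
      exact (orderOf_dvd_natCard _).trans (by rw [← Subgroup.index_eq_card, hsidx])
    have h1 : ((y : H) : G) ∈ U ⊓ Subgroup.centralizer ({b} : Set G) :=
      Subgroup.mem_inf.2 ⟨hyU, Subgroup.mem_centralizer_singleton_iff.2 hyb.eq⟩
    rw [hbot, Subgroup.mem_bot] at h1
    exact Subtype.ext h1
  have hle := Cfsg.Agent.S1445.result (hodd.of_dvd_nat H.card_subgroup_dvd_card) K R hKR hcop
    hprime hF
  refine hnc fun v hv => Subgroup.mem_centralizer_iff.2 fun u hu => ?_
  have hvF : ∀ w ∈ ⁅V, Subgroup.zpowers b⁆, ∃ hw : w ∈ H, (⟨w, hw⟩ : H) ∈ Cfsg.fittingOf K := by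
    intro w hw
    have h2 : ⁅V.subgroupOf H, R⁆.map H.subtype = ⁅V, Subgroup.zpowers b⁆ := by
      rw [Subgroup.map_commutator, Subgroup.map_subgroupOf_eq_of_le (le_sup_right.trans hKH),
        hR, Subgroup.map_subgroupOf_eq_of_le le_sup_right]
    rw [← h2] at hw
    obtain ⟨⟨z, hz⟩, hzm, rfl⟩ := hw
    have hVK : V.subgroupOf H ≤ K := fun x hx =>
      show (x : G) ∈ K₀ from Subgroup.mem_sup_right hx
    exact ⟨hz, hle (Subgroup.commutator_mono hVK le_rfl hzm)⟩
  obtain ⟨hvH, y, hy, hye⟩ := hvF v (hVb hv)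
  have hyV : y ∈ V' := by
    show ((y : H) : G) ∈ V
    have : (y : H) = ⟨v, hvH⟩ := hye
    rw [this]; exact hv
  have hyord : ∃ k, orderOf y = q ^ k := by
    obtain ⟨k, -, hk⟩ := (Nat.dvd_prime_pow hq.out).1 (hcardV' ▸ V'.orderOf_dvd_natCard hyV)
    exact ⟨k, hk⟩
  have hymem : y ∈ Cfsg.pCore q K := OddLocal.DerivedFitting.mem_pCore_of_mem_fitting hy hyord
  have hdisj : Disjoint U' (Cfsg.pCore q K) := by
    obtain ⟨m, hm⟩ := IsPGroup.iff_card.1 (Cores.pCore_isPGroup (G := K) q)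
    refine disjoint_iff.2 (Basic.inf_eq_bot_of_coprime ?_)
    rw [hcard', hm]
    exact Nat.coprime_pow_primes _ _ hs.out hq.out hqs.symm
  have huK : u ∈ K₀ := Subgroup.mem_sup_left hu
  have h3 := congrArg (fun z : K => ((z : H) : G)) (Subgroup.commute_of_normal_of_disjoint _ _
    hUn inferInstance hdisj (⟨⟨u, hKH huK⟩, huK⟩ : K) y hu hymem).eq
  have h4 : ((y : H) : G) = v := congrArg Subtype.val hye
  simpa [h4] using h3

end Cfsg.Agent.Lib.OddOrder.FixedPoint
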