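import Cfsg.Agent.Lib.OddOrder.MinSimple
import Cfsg.Agent.Lib.Coprime.Glauberman
import Cfsg.Agent.Lib.LAEven57.Basic

/-!
# The transitivity theorem under the transitivity hypothesis
-/

set_option autoImplicit false
set_option linter.style.haveILetI false

open scoped Pointwise commutatorElement

namespace Cfsg.Agent.Lib.OddOrder.Transitivity

open Cfsg.Agent.Lib.OddOrder.Basic Cfsg.Agent.Lib.OddOrder.MinSimple

universe u

variable {G : Type u} [Group G] [Finite G] {A : Subgroup G} {q : ℕ}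

/-- The π(A)'-primes. -/
abbrev piA' (A : Subgroup G) : Set ℕ := Cfsg.primesNotDvd (Nat.card A)

/-- K = O_{π(A)'}(C(A)). -/
abbrev coreC (A : Subgroup G) : Subgroup G :=
  Cfsg.piCoreOf (piA' A) (Subgroup.centralizer (A : Set G))

theorem coprime_of_pi' {n m : ℕ} (h : ∀ p : ℕ, p.Prime → p ∣ n → p ∈ Cfsg.primesNotDvd m) :
    m.Coprime n :=
  Nat.coprime_of_dvd fun k hk hkm hkn => (h k hk hkn).2 hkm

theorem isPGroup_of_inv [Fact q.Prime] {Q : Subgroup G}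
    (h : ∀ p : ℕ, p.Prime → p ∣ Nat.card Q → p ∈ ({q} : Set ℕ)) : IsPGroup q Q :=
  IsPGroup.of_card (n := (Nat.card Q).primeFactorsList.length)
    (Nat.eq_prime_pow_of_unique_prime_dvd Nat.card_pos.ne' fun {_} hr hd => h _ hr hd)

theorem inv_of_isPGroup [hq : Fact q.Prime] {Q : Subgroup G} (h : IsPGroup q Q) :
    ∀ p : ℕ, p.Prime → p ∣ Nat.card Q → p ∈ ({q} : Set ℕ) := by
  intro p hp hd
  obtain ⟨n, hn⟩ := IsPGroup.iff_card.1 h
  rw [hn] at hd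
  exact (Nat.prime_dvd_prime_iff_eq hp hq.out).1 (hp.dvd_of_dvd_pow hd)

theorem mem_inv [Fact q.Prime] {H B Q : Subgroup G} :
    Q ∈ Cfsg.invSubgroups H B {q} ↔
      Q ≤ H ∧ IsPGroup q Q ∧ B ≤ Subgroup.normalizer (Q : Set G) :=
  ⟨fun h => ⟨h.1, isPGroup_of_inv h.2.1, h.2.2⟩, fun h => ⟨h.1, inv_of_isPGroup h.2.1, h.2.2⟩⟩

theorem inv_pi' [hq : Fact q.Prime] {H B Q : Subgroup G} {m : ℕ} (hqm : ¬ q ∣ m)
    (h : Q ∈ Cfsg.invSubgroups H B {q}) :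
    ∀ p : ℕ, p.Prime → p ∣ Nat.card Q → p ∈ Cfsg.primesNotDvd m := by
  intro p hp hd
  obtain rfl := h.2.1 p hp hd
  exact ⟨hp, hqm⟩

theorem mem_invSubgroups_mono {H B B' Q : Subgroup G} {π : Set ℕ} (hB : B' ≤ B)
    (h : Q ∈ Cfsg.invSubgroups H B π) : Q ∈ Cfsg.invSubgroups H B' π :=
  ⟨h.1, h.2.1, hB.trans h.2.2⟩

theorem exists_max_ge {H B Q : Subgroup G} {π : Set ℕ} (h : Q ∈ Cfsg.invSubgroups H B π) :
    ∃ R ∈ Cfsg.maxInvSubgroups H B π, Q ≤ R := by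
  obtain ⟨R, hR⟩ := (Set.toFinite {R | R ∈ Cfsg.invSubgroups H B π ∧ Q ≤ R}).exists_maximal
    ⟨Q, h, le_rfl⟩
  exact ⟨R, ⟨hR.1.1, fun S hS hle => le_antisymm (hR.2 ⟨hS, hR.1.2.trans hle⟩ hle) hle⟩, hR.1.2⟩

theorem bot_mem_inv {H B : Subgroup G} {π : Set ℕ} :
    (⊥ : Subgroup G) ∈ Cfsg.invSubgroups H B π :=
  ⟨bot_le, fun p hp h => by simp at h; exact absurd h hp.ne_one, fun b _ => by
    refine Subgroup.mem_normalizer_fintype fun n hn => ?_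
    simp only [SetLike.mem_coe, Subgroup.mem_bot] at hn ⊢
    simp [hn]⟩

theorem conj_mem_inv {B Q : Subgroup G} {π : Set ℕ} {n : G}
    (hn : n ∈ Subgroup.normalizer (B : Set G)) (h : Q ∈ Cfsg.invSubgroups ⊤ B π) :
    MulAut.conj n • Q ∈ Cfsg.invSubgroups ⊤ B π := by
  refine ⟨le_top, fun p hp hd => h.2.1 p hp (by rwa [Coprime.card_conj_smul] at hd), ?_⟩
  rw [← Coprime.smul_eq_iff_le_normalizer]
  intro b hb
  have hb' : n⁻¹ * b * n ∈ B := (Subgroup.mem_normalizer_iff''.1 hn b).1 hb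
  have := Coprime.conj_smul_eq_self_of_mem_normalizer (h.2.2 hb')
  rw [← Coprime.conj_smul_mul, show b * n = n * (n⁻¹ * b * n) by group, Coprime.conj_smul_mul, this]

theorem conj_mem_max {B Q : Subgroup G} {π : Set ℕ} {n : G}
    (hn : n ∈ Subgroup.normalizer (B : Set G)) (h : Q ∈ Cfsg.maxInvSubgroups ⊤ B π) :
    MulAut.conj n • Q ∈ Cfsg.maxInvSubgroups ⊤ B π := by
  refine ⟨conj_mem_inv hn h.1, fun R hR hle => ?_⟩
  have h1 : Q ≤ MulAut.conj n⁻¹ • R := by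
    rw [map_inv]; exact Subgroup.pointwise_smul_subset_iff.1 hle
  have h2 := h.2 _ (conj_mem_inv (inv_mem hn) hR) h1
  rw [← h2, ← Coprime.conj_smul_mul, mul_inv_cancel, map_one, one_smul]

theorem le_sSup_inv {X B : Subgroup G} {π : Set ℕ} {Y : Subgroup G}
    (h : Y ∈ Cfsg.invSubgroups X B π) : Y ≤ sSup (Cfsg.invSubgroups X B π) :=
  le_sSup h

theorem centralizer_le_normalizer (A : Subgroup G) :
    Subgroup.centralizer (A : Set G) ≤ Subgroup.normalizer (A : Set G) := by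
  intro c hc
  refine Subgroup.mem_normalizer_fintype fun a ha => ?_
  rw [← Subgroup.mem_centralizer_iff.1 hc a ha, mul_inv_cancel_right]
  exact ha

/-- Every π(A)'-subgroup of C(A) lies in K. -/
theorem le_coreC (hG : Cfsg.IsMinSimpleOddOrder G) (hA : Cfsg.TransitivityHypothesis A)
    {Y : Subgroup G} (hY : Y ≤ Subgroup.centralizer (A : Set G))
    (hπ : ∀ p : ℕ, p.Prime → p ∣ Nat.card Y → p ∈ piA' A) : Y ≤ coreC A := by
  set X := A ⊔ Subgroup.centralizer (A : Set G) with hX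
  have hXt : X ≠ ⊤ := fun h => normalizer_ne_top hG hA.1 hA.2.1 (top_le_iff.1
    (h ▸ sup_le Subgroup.le_normalizer (centralizer_le_normalizer A)))
  have h1 : Y ≤ Cfsg.piCoreOf (piA' A) X := by
    rw [← hA.2.2 X hXt le_sup_left]
    exact le_sSup_inv ⟨hY.trans le_sup_right, hπ, fun a ha =>
      centralizer_le_normalizer Y (Subgroup.mem_centralizer_iff.2 fun y hy =>
        (Subgroup.mem_centralizer_iff.1 (hY hy) a ha).symm)⟩
  refine (le_inf h1 hY).trans (le_piCoreOf inf_le_right ?_ fun p hp hd => ?_)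
  · exact Coprime.le_normalizer_inf (le_sup_right.trans (piCoreOf_normal (piA' A) X))
      Subgroup.le_normalizer
  · exact piCoreOf_isPiGroup (piA' A) X p hp (hd.trans (Subgroup.card_dvd_of_le inf_le_left))

theorem le_piCoreOf_of_inv (hA : Cfsg.TransitivityHypothesis A) {X Y : Subgroup G}
    [Fact q.Prime] (hqA : ¬ q ∣ Nat.card A) (hX : X ≠ ⊤) (hAX : A ≤ X) (hY : IsPGroup q Y)
    (hAY : A ≤ Subgroup.normalizer (Y : Set G)) (hYX : Y ≤ X) :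
    Y ≤ Cfsg.piCoreOf (piA' A) X := by
  rw [← hA.2.2 X hX hAX]
  exact le_sSup_inv ⟨hYX, inv_pi' hqA (mem_inv.2 ⟨hYX, hY, hAY⟩), hAY⟩

/-- Two invariant q-subgroups of a proper overgroup of A lie in K-conjugate maximal members. -/
theorem link (hG : Cfsg.IsMinSimpleOddOrder G) (hA : Cfsg.TransitivityHypothesis A)
    [Fact q.Prime] (hqA : ¬ q ∣ Nat.card A) {X D₁ D₂ : Subgroup G} (hX : X ≠ ⊤) (hAX : A ≤ X)
    (h1 : D₁ ∈ Cfsg.invSubgroups X A {q}) (h2 : D₂ ∈ Cfsg.invSubgroups X A {q}) :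
    ∃ Q ∈ Cfsg.maxInvSubgroups ⊤ A {q}, ∃ k ∈ coreC A,
      D₁ ≤ Q ∧ D₂ ≤ MulAut.conj k • Q := by
  set O := Cfsg.piCoreOf (piA' A) X with hO
  have hAO : A ≤ Subgroup.normalizer (O : Set G) := hAX.trans (piCoreOf_normal (piA' A) X)
  have hcop : (Nat.card A).Coprime (Nat.card O) :=
    coprime_of_pi' (piCoreOf_isPiGroup (piA' A) X)
  have hOt : O ≠ ⊤ := fun h => hX (top_le_iff.1 (h ▸ piCoreOf_le (piA' A) X))
  have hs : Group.IsSolvable A ∨ Group.IsSolvable O := Or.inr (solvable_of_ne_top hG hOt)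
  rw [mem_inv] at h1 h2
  obtain ⟨P₁, hD1, hP1⟩ := Coprime.exists_invariant_sylow_ge hAO hcop hs q D₁
    (le_piCoreOf_of_inv hA hqA hX hAX h1.2.1 h1.2.2 h1.1) h1.2.1 h1.2.2
  obtain ⟨P₂, hD2, hP2⟩ := Coprime.exists_invariant_sylow_ge hAO hcop hs q D₂
    (le_piCoreOf_of_inv hA hqA hX hAX h2.2.1 h2.2.2 h2.1) h2.2.1 h2.2.2
  obtain ⟨c, hc, hconj⟩ := Coprime.exists_conj_invariant_sylow hAO hcop hs P₁ P₂ hP1 hP2
  have hcK : O ⊓ Subgroup.centralizer (A : Set G) ≤ coreC A :=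
    le_coreC hG hA inf_le_right fun p hp hd =>
      piCoreOf_isPiGroup (piA' A) X p hp (hd.trans (Subgroup.card_dvd_of_le inf_le_left))
  obtain ⟨Q, hQ, hle⟩ := exists_max_ge (Q := (P₁ : Subgroup O).map O.subtype) (H := ⊤) (B := A)
    (π := {q}) (mem_inv.2 ⟨le_top, P₁.isPGroup'.map _, hP1⟩)
  exact ⟨Q, hQ, c, hcK hc, hD1.trans hle,
    hD2.trans (hconj ▸ Subgroup.pointwise_smul_le_pointwise_smul_iff.2 hle)⟩

theorem conj_mem_max_of_coreC {k : G} (hk : k ∈ coreC A) {Q : Subgroup G} {π : Set ℕ}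
    (h : Q ∈ Cfsg.maxInvSubgroups ⊤ A π) : MulAut.conj k • Q ∈ Cfsg.maxInvSubgroups ⊤ A π :=
  conj_mem_max (centralizer_le_normalizer A (piCoreOf_le _ _ hk)) h

/-- Maximal members with nontrivial intersection are K-conjugate. -/
theorem conj_of_inf (hG : Cfsg.IsMinSimpleOddOrder G) (hA : Cfsg.TransitivityHypothesis A)
    [Fact q.Prime] (hqA : ¬ q ∣ Nat.card A) :
    ∀ n : ℕ, ∀ Q₁ ∈ Cfsg.maxInvSubgroups ⊤ A {q}, ∀ Q₂ ∈ Cfsg.maxInvSubgroups ⊤ A {q},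
      Nat.card G - Nat.card ↥(Q₁ ⊓ Q₂) = n → Q₁ ⊓ Q₂ ≠ ⊥ →
      ∃ k ∈ coreC A, Q₂ = MulAut.conj k • Q₁ := by
  intro n
  induction n using Nat.strong_induction_on with
  | _ n ih =>
    intro Q₁ h₁ Q₂ h₂ hn hne
    set D := Q₁ ⊓ Q₂ with hD
    rcases eq_or_ne D Q₁ with e | e
    · refine ⟨1, one_mem _, ?_⟩
      rw [map_one, one_smul]
      exact h₁.2 _ h₂.1 (e ▸ inf_le_right)
    rcases eq_or_ne D Q₂ with e' | e'
    · refine ⟨1, one_mem _, ?_⟩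
      rw [map_one, one_smul]
      exact (h₂.2 _ h₁.1 (e' ▸ inf_le_left)).symm
    have g₁ := mem_inv.1 h₁.1
    have g₂ := mem_inv.1 h₂.1
    set X := Subgroup.normalizer (D : Set G) with hX
    have hXt : X ≠ ⊤ := normalizer_ne_top hG hne
      (pgroup_ne_top hG (g₁.2.1.to_le inf_le_left))
    have hAX : A ≤ X := Coprime.le_normalizer_inf g₁.2.2 g₂.2.2
    have hgrow : ∀ Q : Subgroup G, IsPGroup q Q → D ≤ Q → D ≠ Q →
        A ≤ Subgroup.normalizer (Q : Set G) →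
        D < X ⊓ Q ∧ X ⊓ Q ∈ Cfsg.invSubgroups X A {q} := by
      intro Q hQ hle hneq hAQ
      refine ⟨lt_of_le_of_ne (le_inf Subgroup.le_normalizer hle) fun heq => hneq
        (Cfsg.Agent.Lib.LAEven57.eq_of_normalizer_le hQ hle fun y hy hyn =>
          heq ▸ Subgroup.mem_inf.2 ⟨hyn, hy⟩), mem_inv.2 ⟨inf_le_left, hQ.to_le inf_le_right,
        Coprime.le_normalizer_inf (hAX.trans Subgroup.le_normalizer) hAQ⟩⟩
    obtain ⟨l1, m1⟩ := hgrow Q₁ g₁.2.1 inf_le_left e g₁.2.2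
    obtain ⟨l2, m2⟩ := hgrow Q₂ g₂.2.1 inf_le_right e' g₂.2.2
    obtain ⟨Q₃, hQ₃, k, hk, le1, le2⟩ := link hG hA hqA hXt hAX m1 m2
    have key : ∀ R₁ ∈ Cfsg.maxInvSubgroups ⊤ A {q}, ∀ R₂ ∈ Cfsg.maxInvSubgroups ⊤ A {q},
        D < R₁ ⊓ R₂ → ∃ k ∈ coreC A, R₂ = MulAut.conj k • R₁ := by
      intro R₁ hR₁ R₂ hR₂ hlt
      refine ih _ ?_ R₁ hR₁ R₂ hR₂ rfl (ne_bot_of_le_ne_bot hne hlt.le)
      subst hn
      have hc : Nat.card D < Nat.card ↥(R₁ ⊓ R₂) := by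
        exact (Nat.card_coe_set_eq (D : Set G)).trans_lt ((Set.ncard_lt_ncard
          (SetLike.coe_ssubset_coe.2 hlt) (Set.toFinite _)).trans_eq (Nat.card_coe_set_eq _).symm)
      have := Subgroup.card_le_card_group (R₁ ⊓ R₂)
      omega
    obtain ⟨k₁, hk₁, e₁⟩ := key Q₁ h₁ Q₃ hQ₃ (l1.trans_le (le_inf inf_le_right le1))
    obtain ⟨k₂, hk₂, e₂⟩ := key (MulAut.conj k • Q₃) (conj_mem_max_of_coreC hk hQ₃) Q₂ h₂
      (l2.trans_le (le_inf le2 inf_le_right))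
    refine ⟨k₂ * k * k₁, mul_mem (mul_mem hk₂ hk) hk₁, ?_⟩
    rw [e₂, e₁, Coprime.conj_smul_mul, Coprime.conj_smul_mul]

/-- BG 7.2. -/
theorem conj_of_meet (hG : Cfsg.IsMinSimpleOddOrder G) (hA : Cfsg.TransitivityHypothesis A)
    [Fact q.Prime] (hqA : ¬ q ∣ Nat.card A) {Q₁ Q₂ H : Subgroup G}
    (h₁ : Q₁ ∈ Cfsg.maxInvSubgroups ⊤ A {q}) (h₂ : Q₂ ∈ Cfsg.maxInvSubgroups ⊤ A {q})
    (hH : H ≠ ⊤) (hAH : A ≤ H) (hH₁ : H ⊓ Q₁ ≠ ⊥) (hH₂ : H ⊓ Q₂ ≠ ⊥) :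
    ∃ k ∈ coreC A, Q₂ = MulAut.conj k • Q₁ := by
  have mem : ∀ Q ∈ Cfsg.maxInvSubgroups ⊤ A {q}, H ⊓ Q ∈ Cfsg.invSubgroups H A {q} := fun Q hQ =>
    mem_inv.2 ⟨inf_le_left, (mem_inv.1 hQ.1).2.1.to_le inf_le_right,
      Coprime.le_normalizer_inf (hAH.trans Subgroup.le_normalizer) hQ.1.2.2⟩
  obtain ⟨Q₃, hQ₃, k, hk, le1, le2⟩ := link hG hA hqA hH hAH (mem Q₁ h₁) (mem Q₂ h₂)
  obtain ⟨k₁, hk₁, e₁⟩ := conj_of_inf hG hA hqA _ Q₁ h₁ Q₃ hQ₃ rfl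
    (ne_bot_of_le_ne_bot hH₁ (le_inf inf_le_right le1))
  obtain ⟨k₂, hk₂, e₂⟩ := conj_of_inf hG hA hqA _ (MulAut.conj k • Q₃)
    (conj_mem_max_of_coreC hk hQ₃) Q₂ h₂ rfl (ne_bot_of_le_ne_bot hH₂ (le_inf le2 inf_le_right))
  refine ⟨k₂ * k * k₁, mul_mem (mul_mem hk₂ hk) hk₁, ?_⟩
  rw [e₂, e₁, Coprime.conj_smul_mul, Coprime.conj_smul_mul]

end Cfsg.Agent.Lib.OddOrder.Transitivity
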