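import Cfsg.Agent.Lib.OddOrder.Sigma
import Cfsg.Agent.Lib.OddOrder.FixedPoint
import Cfsg.Agent.Lib.OddOrder.SylowNormalizer
import Cfsg.Agent.Lib.OddOrder.Uniqueness
import Cfsg.Agent.Lib.SubnormSet.Basic
import Cfsg.Agent.Lib.Balance.OddInvariant
import Cfsg.Agent.S1392
import Cfsg.Agent.S1395

/-!
# BG 10.9: the centralizer of an element of a subgroup of type `(p, p)` of `M`
-/

set_option autoImplicit false
set_option linter.style.haveILetI false
set_option linter.unusedSectionVars false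

open scoped Pointwise commutatorElement

namespace Cfsg.Agent.Lib.OddOrder.RankTwoKey

open Cfsg.Agent.Lib.OddOrder.MinSimple Cfsg.Agent.Lib.OddOrder.NormedConstrained

universe u

variable {G : Type u} [Group G] [Finite G]

/-- Frattini argument in a subgroup. -/
theorem sup_normalizer_of_normal {q : ℕ} [hq : Fact q.Prime] {Y L T : Subgroup G} (hYL : Y ≤ L)
    (hLY : L ≤ Subgroup.normalizer (Y : Set G)) (hTY : T ≤ Y) (hT : IsPGroup q T)
    (hidx : ¬ q ∣ T.relIndex Y) : Y ⊔ (L ⊓ Subgroup.normalizer (T : Set G)) = L := by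
  refine le_antisymm (sup_le hYL inf_le_left) fun m hm => ?_
  let S : Sylow q Y := (hT.of_equiv (Subgroup.subgroupOfEquivOfLe hTY).symm).toSylow hidx
  have hS : (S : Subgroup Y) = T.subgroupOf Y := IsPGroup.toSylow_coe _ _
  set T' := MulAut.conj m • T with hT'
  have hT'Y : T' ≤ Y := by
    rintro _ ⟨x, hx, rfl⟩
    exact (Subgroup.mem_normalizer_iff.1 (hLY hm) x).1 (hTY hx)
  obtain ⟨Q, hQ⟩ := ((hT.map (MulAut.conj m).toMonoidHom).comap_subtype (K := Y)).exists_le_sylow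
  obtain ⟨y, hy⟩ := MulAction.exists_smul_eq Y S Q
  have hyT : MulAut.conj (y : G) • T = T' := by
    have h1 : T' ≤ (Q : Subgroup Y).map Y.subtype := fun x hx =>
      ⟨⟨x, hT'Y hx⟩, hQ (show (⟨x, hT'Y hx⟩ : Y) ∈ Subgroup.comap Y.subtype _ from hx), rfl⟩
    have h2 : (Q : Subgroup Y).map Y.subtype = MulAut.conj (y : G) • T := by
      rw [← hy, Sylow.coe_subgroup_smul, Coprime.map_conj_smul, hS,
        Subgroup.map_subgroupOf_eq_of_le hTY]
      rfl
    rw [h2] at h1
    refine (Subgroup.eq_of_le_of_card_ge h1 ?_).symm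
    rw [hT', Coprime.card_conj_smul, Coprime.card_conj_smul]
  have hn : (y : G)⁻¹ * m ∈ Subgroup.normalizer (T : Set G) := by
    apply Coprime.mem_normalizer_of_conj_smul_eq
    rw [Coprime.conj_smul_mul, show MulAut.conj m • T = T' from rfl, ← hyT, map_inv, inv_smul_smul]
  have h := mul_mem (Subgroup.mem_sup_left y.2 : (y : G) ∈ Y ⊔ (L ⊓ Subgroup.normalizer (T : Set G)))
    (Subgroup.mem_sup_right (Subgroup.mem_inf.2 ⟨mul_mem (inv_mem (hYL y.2)) hm, hn⟩))
  rwa [mul_inv_cancel_left] at h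

/-- With `q`-length one, `X = O_{q'}(X) N_X(T)`. -/
theorem sup_normalizer_of_pLength_one {q : ℕ} [hq : Fact q.Prime] {X T : Subgroup G}
    (hX : Cfsg.PLengthLE q 1 X) (hTX : T ≤ X) (hT : IsPGroup q T) (hidx : ¬ q ∣ T.relIndex X) :
    pO q X ⊔ (X ⊓ Subgroup.normalizer (T : Set G)) = X := by
  refine le_antisymm (sup_le (pO_le X) inf_le_left) fun m hm => ?_
  let S : Sylow q X := (hT.of_equiv (Subgroup.subgroupOfEquivOfLe hTX).symm).toSylow hidx
  have hS : (S : Subgroup X) = T.subgroupOf X := IsPGroup.toSylow_coe _ _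
  have hSQ : (S : Subgroup X) ≤ Cfsg.pPrimePCore q X := Subgroup.map_le_iff_le_comap.1
    (OddLocal.NarrowStructure.map_sylow_eq_of_pLength_one hX S).le
  haveI : (Cfsg.pPrimePCore q X).Normal := inferInstance
  have hfr : Subgroup.normalizer ((S : Subgroup X) : Set X) ⊔ Cfsg.pPrimeCore q X = ⊤ := by
    have h1 := Sylow.normalizer_sup_eq_top' S hSQ
    refine top_le_iff.1 (h1 ▸ sup_le le_sup_left ?_)
    refine (Tech42.Goldschmidt.pPrimePCore_le_sup S).trans (sup_le le_sup_right ?_)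
    exact inf_le_left.trans (Subgroup.le_normalizer.trans le_sup_left)
  obtain ⟨t, ht, o, ho, e⟩ := Subgroup.mem_sup_of_normal_right.1
    (hfr ▸ Subgroup.mem_top (⟨m, hm⟩ : X) : (⟨m, hm⟩ : X) ∈ _)
  have htn : (t : G) ∈ Subgroup.normalizer (T : Set G) := by
    have h2 := Subgroup.le_normalizer_map X.subtype (Subgroup.mem_map_of_mem X.subtype ht)
    rwa [hS, Subgroup.map_subgroupOf_eq_of_le hTX] at h2
  have e' : (t : G) * (o : G) = m := congrArg Subtype.val e
  rw [← e']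
  exact mul_mem (Subgroup.mem_sup_right (Subgroup.mem_inf.2 ⟨t.2, htn⟩))
    (Subgroup.mem_sup_left ⟨o, ho, rfl⟩)

variable {p q : ℕ} [hp : Fact p.Prime] [hq : Fact q.Prime]

/-- If `a` centralizes a `σ(M)`-subgroup `V = [V, b]` whose centralizer is in `M` then `M` is the
only maximal subgroup over `C(a)`. -/
theorem eq_of_centralizer_le (hG : Cfsg.IsMinSimpleOddOrder G)
    (hpl : ∀ (r : ℕ) [Fact r.Prime], ∀ H : Subgroup G, H ≠ ⊤ → Cfsg.PLengthLE r 1 H)
    {M : Subgroup G} (hM : IsCoatom M) {A : Subgroup G} (hAM : A ≤ M)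
    (hA : Cfsg.IsElementaryAbelian p A) (hAc : Nat.card A = p ^ 2)
    (hTH : Cfsg.TransitivityHypothesis A) (hqσ : q ∈ Cfsg.sigma M) (hqp : q ≠ p)
    {V : Subgroup G} (hV : IsPGroup q V) (hVM : V ≤ M) (hV1 : V ≠ ⊥)
    {a : G} (ha : a ∈ A) (ha1 : a ≠ 1) (hVa : V ≤ Subgroup.centralizer ({a} : Set G))
    (hAV : A ≤ Subgroup.normalizer (V : Set G)) {b : G} (hb : b ∈ A)
    (hVb : ⁅V, Subgroup.zpowers b⁆ = V) (hCV : Subgroup.centralizer (V : Set G) ≤ M)
    (hvb : ∀ v ∈ V, v ≠ 1 → Commute v b → Subgroup.centralizer ({v} : Set G) ≤ M)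
    {L : Subgroup G} (hL : IsCoatom L) (haL : Subgroup.centralizer ({a} : Set G) ≤ L) : L = M := by
  by_contra hne
  haveI := hA.1
  haveI := solvable_of_ne_top hG hM.1
  haveI := solvable_of_ne_top hG hL.1
  have hodd : Odd (Nat.card G) := hG.1
  have hAp : IsPGroup p A := IsPGroup.of_card hAc
  have hAnc : ¬ IsCyclic A := Rank.elemAb_not_isCyclic hA (by
    rw [hAc]; exact lt_self_pow₀ hp.out.one_lt (by norm_num))
  have hpA : p ∣ Nat.card A := hAc ▸ dvd_pow_self p two_ne_zero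
  have hcomm : ∀ x ∈ A, ∀ y ∈ A, Commute x y := fun x hx y hy =>
    congrArg Subtype.val (hA.1.is_comm.comm ⟨x, hx⟩ ⟨y, hy⟩)
  have hordp : ∀ x ∈ A, x ≠ 1 → orderOf x = p := fun x hx hx1 =>
    orderOf_eq_prime (hA.2 x hx) hx1
  have hq2 : q ≠ 2 := ne_two_of_dvd hG (Sigma.dvd_card_group hqσ)
  have hqA : ¬ q ∣ Nat.card A := by
    rw [hAc]
    exact fun h => hqp ((Nat.prime_dvd_prime_iff_eq hq.out hp.out).1 (hq.out.dvd_of_dvd_pow h))
  have hAL : A ≤ L := fun x hx => haL (Subgroup.mem_centralizer_singleton_iff.2 (hcomm x hx a ha).eq)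
  have hVL : V ≤ L := hVa.trans haL
  -- conjugates of `V` in `M`
  have hconj : ∀ g : G, (∀ v ∈ V, g * v * g⁻¹ ∈ M) → g ∈ M := by
    intro g hg
    obtain ⟨m, hm, c, hc, rfl⟩ := Sigma.fusion hG hM hqσ _ V rfl hV hV1 hVM g (by
      rintro _ ⟨v, hv, rfl⟩
      exact hg v hv)
    exact mul_mem hm (hCV hc)
  set Y := Cfsg.piCoreOf (Transitivity.piA' A) L with hY
  have hYL : Y ≤ L := piCoreOf_le _ _
  have hLY : L ≤ Subgroup.normalizer (Y : Set G) := piCoreOf_normal _ _
  have hAYc : (Nat.card A).Coprime (Nat.card Y) :=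
    Transitivity.coprime_of_pi' (piCoreOf_isPiGroup _ _)
  haveI hYs : Group.IsSolvable Y := Coprime.isSolvable_of_le hYL
  have hVY : V ≤ Y := Transitivity.le_piCoreOf_of_inv hTH hqA hL.1 hAL hV hAV hVL
  obtain ⟨T, hT, hAT, hVT⟩ := Hall.Coprime.exists_invariant_ge (hAL.trans hLY) hAYc hYs
    ({q} : Set ℕ) hVY hAV (Transitivity.inv_of_isPGroup hV)
  have hTp : IsPGroup q T := Transitivity.isPGroup_of_inv hT.2.1
  have hTY : T ≤ Y := hT.1
  have hTidx : ¬ q ∣ T.relIndex Y := hT.2.2 q hq.out rfl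
  have hTM : T ≤ M := by
    by_contra hn
    have hlt : T ⊓ M < T := lt_of_le_of_ne inf_le_left fun e => hn (e ▸ inf_le_right)
    obtain ⟨g, hg, hgn⟩ := SetLike.exists_of_lt (Sigma.exists_gt_inf_normalizer hTp hlt)
    refine hgn (Subgroup.mem_inf.2 ⟨hg.1, hconj g fun v hv => ?_⟩)
    exact ((Subgroup.mem_normalizer_iff.1 hg.2 v).1 (Subgroup.mem_inf.2 ⟨hVT hv, hVM hv⟩)).2
  have hNT : Subgroup.normalizer (T : Set G) ≤ M := fun g hg => hconj g fun v hv =>
    hTM ((Subgroup.mem_normalizer_iff.1 hg v).1 (hVT hv))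
  have hT2 : Cfsg.PRankLE q 2 T := by
    by_contra h
    exact hne (UniqueRank.eq_of_le (UniquenessTheorem.of_rank hG (pgroup_ne_top hG hTp)
      fun h' => h (h' q hq.out)) hL (hTY.trans hYL) hM hTM)
  -- `W = V A` and `U = O_{q'}(Y)`
  set U := pO q Y with hU
  set W := V ⊔ A with hW
  have hWM : W ≤ M := sup_le hVM hAM
  haveI : Group.IsSolvable W := Coprime.isSolvable_of_le hWM
  have hUY : U ≤ Y := pO_le Y
  have hWU : W ≤ Subgroup.normalizer (U : Set G) := sup_le
    (hVY.trans (Basic.le_normalizer_map_subtype Y _))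
    ((hAL.trans hLY).trans (Balance.le_normalizer_map_characteristic (Cfsg.pPrimeCore q Y)))
  have hWc : Nat.card W = Nat.card V * Nat.card A := by
    rw [hW, sup_comm, Coprime.card_sup_of_disjoint hAV, mul_comm]
    exact disjoint_iff.2 (Basic.inf_eq_bot_of_coprime
      (IsPGroup.coprime_card_of_ne p q hqp.symm _ _ hAp hV))
  have hWUc : (Nat.card W).Coprime (Nat.card U) := by
    rw [hWc]
    refine Nat.Coprime.mul_left ?_ (hAYc.coprime_dvd_right (Subgroup.card_dvd_of_le hUY))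
    obtain ⟨j, hj⟩ := IsPGroup.iff_card.1 hV
    rw [hj]
    exact (pO_coprime Y).symm.pow_left j
  have hUM : U ≤ M := by
    refine Uniqueness.le_of_inv_sylows hWU hWUc fun s hs hsd Q hQU hQs hWQ => ?_
    by_contra hQM
    have hsq : s ≠ q := by
      rintro rfl
      exact hs.out.ne_one (Nat.eq_one_of_dvd_coprimes (pO_coprime Y) hsd dvd_rfl)
    have hsA : ¬ s ∣ Nat.card A := fun h => hs.out.ne_one (Nat.eq_one_of_dvd_coprimes hAYc h
      (hsd.trans (Subgroup.card_dvd_of_le hUY)))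
    have hsp : s ≠ p := fun e => hsA (e ▸ hpA)
    have hs2 : s ≠ 2 := ne_two_of_dvd hG (hsd.trans U.card_subgroup_dvd_card)
    have hQ1 : Q ≠ ⊥ := fun e => hQM (e ▸ bot_le)
    have hQL : Q ≤ L := hQU.trans (hUY.trans hYL)
    have hVQ : V ≤ Subgroup.normalizer (Q : Set G) := le_sup_left.trans hWQ
    have hAQ : A ≤ Subgroup.normalizer (Q : Set G) := le_sup_right.trans hWQ
    have hnc : ¬ V ≤ Subgroup.centralizer (Q : Set G) := fun h =>
      hQM ((Subgroup.le_centralizer_iff.1 h).trans hCV)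
    have hQ3 : ¬ Cfsg.PRankLE s 2 Q := by
      intro h
      refine hnc fun v hv => OddLocal.NarrowAut.derived_centralizes hs2 hQs (Or.inl h) hWQ
        (odd_card hG W) ?_ ?_
      · exact Subgroup.commutator_mono (le_sup_left : V ≤ W)
          ((Subgroup.zpowers_le.2 hb).trans le_sup_right) (hVb.ge hv)
      · obtain ⟨j, hj⟩ := IsPGroup.iff_card.1 hV
        exact (((Nat.coprime_primes hq.out hs.out).2 hsq.symm).pow_left j).coprime_dvd_left
          (hj ▸ V.orderOf_dvd_natCard hv)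
    have hQU' : Cfsg.InUniqueMaximal Q :=
      UniquenessTheorem.of_rank hG (pgroup_ne_top hG hQs) fun h => hQ3 (h s hs.out)
    have hNQ := normalizer_ne_top hG hQ1 (pgroup_ne_top hG hQs)
    -- fixed points of the elements outside `⟨a⟩`
    have hfix : ∀ c ∈ A, c ∉ Subgroup.zpowers a →
        Q ⊓ Subgroup.centralizer ({c} : Set G) ≠ ⊥ := by
      intro c hc hca
      have hc1 : c ≠ 1 := fun e => hca (e ▸ one_mem _)
      have hcop : Subgroup.zpowers c ≤ Subgroup.normalizer (Subgroup.zpowers a : Set G) :=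
        fun x hx => Subgroup.centralizer_le_normalizer _ (Subgroup.mem_centralizer_iff.2 fun y hy =>
          (hcomm y (Subgroup.zpowers_le.2 ha hy) x (Subgroup.zpowers_le.2 hc hx)).eq)
      have hsup : Subgroup.zpowers a ⊔ Subgroup.zpowers c = A := by
        refine Subgroup.eq_of_le_of_card_ge
          (sup_le (Subgroup.zpowers_le.2 ha) (Subgroup.zpowers_le.2 hc)) ?_
        rw [sup_comm, Coprime.card_sup_of_disjoint hcop, Nat.card_zpowers, Nat.card_zpowers,
          hordp a ha ha1, hordp c hc hc1, hAc, sq]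
        rw [disjoint_iff, eq_bot_iff]
        intro x hx
        rw [Subgroup.mem_bot]
        by_contra hx1
        refine hca ?_
        have h1 : Subgroup.zpowers x = Subgroup.zpowers c := by
          refine Subgroup.eq_of_le_of_card_ge (Subgroup.zpowers_le.2 hx.1) ?_
          rw [Nat.card_zpowers, Nat.card_zpowers, hordp c hc hc1,
            hordp x (Subgroup.zpowers_le.2 hc hx.1) hx1]
        exact Subgroup.zpowers_le.2 hx.2 (h1 ▸ Subgroup.mem_zpowers c)
      have hbac : ∃ y ∈ Subgroup.zpowers a, ∃ z ∈ Subgroup.zpowers c, y * z = b :=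
        Set.mem_mul.1 (by
          rw [← Subgroup.coe_mul_of_right_le_normalizer_left _ _ hcop, hsup]
          exact hb)
      obtain ⟨_, ⟨i, rfl⟩, _, ⟨j, rfl⟩, hbe⟩ := hbac
      have hva : ∀ v ∈ V, ∀ k : ℤ, Commute v (a ^ k) := fun v hv k =>
        Commute.zpow_right (Subgroup.mem_centralizer_singleton_iff.1 (hVa hv) : Commute v a) k
      have hVc : V ≤ ⁅V, Subgroup.zpowers c⁆ := by
        refine hVb.ge.trans (Subgroup.commutator_le.2 fun v hv x hx => ?_)
        obtain ⟨k, rfl⟩ := hx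
        have h1 : b ^ k = (a ^ i) ^ k * (c ^ j) ^ k := by
          rw [← hbe]
          exact ((hcomm a ha c hc).zpow_zpow i j).mul_zpow k
        have h2 : ⁅v, b ^ k⁆ = ⁅v, (c ^ j) ^ k⁆ := by
          rw [h1, ← zpow_mul a, ← zpow_mul c]
          set a' := a ^ (i * k)
          set c' := c ^ (j * k)
          have hva' : Commute v a' := hva v hv _
          have hac' : Commute a' c' := (hcomm a ha c hc).zpow_zpow _ _
          have hva'' : Commute (c' * v⁻¹ * c'⁻¹) a' :=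
            hva _ ((Subgroup.mem_normalizer_iff.1 (hAV (zpow_mem hc _)) _).1 (inv_mem hv)) _
          simp only [commutatorElement_def]
          calc v * (a' * c') * v⁻¹ * (a' * c')⁻¹
              = (v * a') * (c' * v⁻¹ * c'⁻¹) * a'⁻¹ := by group
            _ = (a' * v) * (c' * v⁻¹ * c'⁻¹) * a'⁻¹ := by rw [hva'.eq]
            _ = a' * v * ((c' * v⁻¹ * c'⁻¹) * a'⁻¹) := by group
            _ = a' * v * (a'⁻¹ * (c' * v⁻¹ * c'⁻¹)) := by rw [hva''.inv_right.eq]
            _ = (a' * v * a'⁻¹) * c' * v⁻¹ * c'⁻¹ := by group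
            _ = v * c' * v⁻¹ * c'⁻¹ := by rw [← hva'.eq, mul_inv_cancel_right]
        rw [h2, ← zpow_mul]
        exact Subgroup.commutator_mem_commutator hv (zpow_mem (Subgroup.mem_zpowers c) _)
      have hle : (Q ⊔ V) ⊔ Subgroup.zpowers c ≤ Subgroup.normalizer (Q : Set G) :=
        sup_le (sup_le Subgroup.le_normalizer hVQ) (Subgroup.zpowers_le.2 (hAQ hc))
      haveI := solvable_of_ne_top hG hNQ
      haveI : Group.IsSolvable ↥((Q ⊔ V) ⊔ Subgroup.zpowers c) := Coprime.isSolvable_of_le hle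
      refine FixedPoint.fixed_ne_bot hodd hqp.symm hsp.symm hsq.symm hQs hV (hordp c hc hc1) hVQ
        (hAQ hc) (hAV hc) hVc hnc fun v hv hvQ hvc => ?_
      by_contra hv1
      refine hQM (le_trans (fun u hu => ?_) (hvb v hv hv1 ?_))
      · exact Subgroup.mem_centralizer_singleton_iff.2 (Subgroup.mem_centralizer_iff.1 hvQ u hu)
      · rw [← hbe]
        exact (hva v hv i).mul_right (hvc.zpow_right j)
    -- transitivity
    obtain ⟨R₀, hR₀, hQR₀⟩ := Transitivity.exists_max_ge (H := (⊤ : Subgroup G)) (B := A) (π := {s})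
      (Transitivity.mem_inv.2 ⟨le_top, hQs, hAQ⟩)
    have hR₀1 : R₀ ≠ ⊥ := fun e => hQ1 (le_bot_iff.1 (e ▸ hQR₀))
    have htr0 : ∀ Q₂ ∈ Cfsg.maxInvSubgroups ⊤ A {s},
        ∃ k ∈ Transitivity.coreC A, Q₂ = R₀.map (MulAut.conj k).toMonoidHom := by
      intro Q₂ hQ₂
      have hQ₂1 : Q₂ ≠ ⊥ := fun e => hR₀1 ((Transitive.max_eq_of_bot hQ₂ hR₀ e).trans e)
      obtain ⟨c, hc, hc1, hcQ⟩ := Transitive.exists_fixed hAnc
        (Transitivity.mem_inv.1 hQ₂.1).2.2 (Transitive.coprime_max le_rfl hsA hQ₂.1) hQ₂1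
      by_cases hca : c ∈ Subgroup.zpowers a
      · refine Cfsg.Agent.S1392.result hG A hTH s hs.out hsA R₀ Q₂ hR₀ hQ₂ L hL.1 hAL
          (fun e => hQ1 (le_bot_iff.1 (e ▸ le_inf hQL hQR₀))) fun e => hcQ (le_bot_iff.1
            (e ▸ le_inf (le_trans ?_ haL) inf_le_left))
        intro x hx
        have h1 : a ∈ Subgroup.zpowers c := by
          have h2 : Subgroup.zpowers c = Subgroup.zpowers a := by
            refine Subgroup.eq_of_le_of_card_ge (Subgroup.zpowers_le.2 hca) ?_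
            rw [Nat.card_zpowers, Nat.card_zpowers, hordp a ha ha1, hordp c hc hc1]
          exact h2 ▸ Subgroup.mem_zpowers a
        obtain ⟨i, rfl⟩ := h1
        exact Subgroup.mem_centralizer_singleton_iff.2
          (Commute.zpow_right (Subgroup.mem_centralizer_singleton_iff.1 hx.2 : Commute x c) i).eq
      · refine Cfsg.Agent.S1392.result hG A hTH s hs.out hsA R₀ Q₂ hR₀ hQ₂
          (Subgroup.centralizer ({c} : Set G)) (centralizer_singleton_ne_top hG hc1)
          (fun x hx => Subgroup.mem_centralizer_singleton_iff.2 (hcomm x hx c hc).eq)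
          (fun e => hfix c hc hca (le_bot_iff.1 (e ▸ le_inf inf_le_right
            (inf_le_left.trans hQR₀)))) fun e => hcQ (le_bot_iff.1 (e ▸ le_inf inf_le_right inf_le_left))
    have hcore : Transitivity.coreC A ≤ L :=
      ((piCoreOf_le _ _).trans (Subgroup.centralizer_le (Set.singleton_subset_iff.2 ha))).trans haL
    have htr : ∀ Q₁ ∈ Cfsg.maxInvSubgroups ⊤ A {s}, ∀ Q₂ ∈ Cfsg.maxInvSubgroups ⊤ A {s},
        ∃ k ∈ Transitivity.coreC A, Q₂ = Q₁.map (MulAut.conj k).toMonoidHom := by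
      intro Q₁ h₁ Q₂ h₂
      obtain ⟨k₁, hk₁, rfl⟩ := htr0 Q₁ h₁
      obtain ⟨k₂, hk₂, rfl⟩ := htr0 Q₂ h₂
      refine ⟨k₂ * k₁⁻¹, mul_mem hk₂ (inv_mem hk₁), ?_⟩
      show MulAut.conj k₂ • R₀ = MulAut.conj (k₂ * k₁⁻¹) • MulAut.conj k₁ • R₀
      rw [← Coprime.conj_smul_mul, inv_mul_cancel_right]
    obtain ⟨P, hAP⟩ := hAp.exists_le_sylow
    have hPπ : ∀ r : ℕ, r.Prime → r ∣ Nat.card (P : Subgroup G) → r ∣ Nat.card A := by
      intro r hr hrd
      obtain ⟨k, hk⟩ := IsPGroup.iff_card.1 P.isPGroup'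
      obtain rfl := (Nat.prime_dvd_prime_iff_eq hr hp.out).1 (hr.dvd_of_dvd_pow (hk ▸ hrd))
      exact hpA
    haveI : Group.IsNilpotent (P : Subgroup G) := P.isPGroup'.isNilpotent
    obtain ⟨-, -, hsub, hd⟩ := Cfsg.Agent.S1395.result hG A hTH s hs.out hsA (P : Subgroup G)
      (pgroup_ne_top hG P.2) hPπ hAP (SubnormSet.isSubnormal_of_isNilpotent _) htr
    obtain ⟨R, hR, -⟩ := Transitivity.exists_max_ge
      (Transitivity.bot_mem_inv (H := (⊤ : Subgroup G)) (B := (P : Subgroup G)) (π := ({s} : Set ℕ)))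
    obtain ⟨k, hk, hkR⟩ := htr R₀ hR₀ R (hsub hR)
    set Q' := Q.map (MulAut.conj k).toMonoidHom with hQ'
    have hQ'R : Q' ≤ R := hkR ▸ Subgroup.map_mono hQR₀
    have hQ'L : Q' ≤ L := by
      rintro _ ⟨x, hx, rfl⟩
      exact mul_mem (mul_mem (hcore hk) (hQL hx)) (inv_mem (hcore hk))
    have hR1 : R ≠ ⊥ := fun e =>
      UniqueRank.ne_bot hG (UniqueRank.conj hQU' k) (le_bot_iff.1 (e ▸ hQ'R))
    obtain ⟨L', hL', hNL'⟩ := exists_coatom_ge hG (normalizer_ne_top hG hR1
      (pgroup_ne_top hG (Transitivity.isPGroup_of_inv hR.1.2.1)))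
    rw [UniqueRank.eq_of_le (UniqueRank.conj hQU' k) hL'
      (hQ'R.trans (Subgroup.le_normalizer.trans hNL')) hL hQ'L] at hNL'
    have hPL : (P : Subgroup G) ≤ ⁅L, L⁆ :=
      (le_inf le_rfl (SylowNormalizer.le_derived_normalizer hG (hpl p) P)).trans
        ((hd R hR).1.trans (Subgroup.commutator_mono hNL' hNL'))
    set X := L ⊓ Subgroup.normalizer (T : Set G) with hX
    have hAX : A ≤ ⁅X, X⁆ := UniqueFocal.le_commutator_of_sup hYL hLY
      (Nat.Coprime.coprime_dvd_right hpA hAYc.symm) inf_le_left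
      (sup_normalizer_of_normal hYL hLY hTY hTp hTidx) hAp (le_inf hAL hAT) (hAP.trans hPL)
    haveI : Group.IsSolvable X := Coprime.isSolvable_of_le (inf_le_left : X ≤ L)
    have hbT := OddLocal.NarrowAut.derived_centralizes hq2 hTp (Or.inl hT2) inf_le_right
      (odd_card hG X) (hAX hb)
      (((Nat.coprime_primes hp.out hq.out).2 hqp.symm).coprime_dvd_left
        (orderOf_dvd_of_pow_eq_one (hA.2 b hb)))
    refine hV1 (hVb.symm.trans (Subgroup.commutator_eq_bot_iff_le_centralizer.2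
      (Subgroup.le_centralizer_iff.1 (Subgroup.zpowers_le.2 ?_))))
    exact Subgroup.centralizer_le (SetLike.coe_subset_coe.2 hVT) hbT
  have hYM : Y ≤ M := (sup_normalizer_of_pLength_one (hpl q Y fun e => hL.1 (top_le_iff.1
    (e ▸ hYL))) hTY hTp hTidx).ge.trans (sup_le hUM (inf_le_right.trans hNT))
  have hLM : L ≤ M := fun g hg => hconj g fun v hv =>
    hYM ((Subgroup.mem_normalizer_iff.1 (hLY hg) v).1 (hVY hv))
  exact hne (by
    rcases hL.le_iff.1 hLM with h | h
    · exact absurd h hM.1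
    · exact h.symm)

end Cfsg.Agent.Lib.OddOrder.RankTwoKey
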