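import Cfsg.Agent.Lib.OddOrder.BetaCore
import Cfsg.Agent.Lib.OddOrder.PLengthOne
import Cfsg.Agent.Lib.OddOrder.RankTwoKey

/-!
# Frattini arguments modulo `M_β`
-/

set_option autoImplicit false
set_option linter.style.haveILetI false
set_option linter.unusedSectionVars false

open scoped Pointwise

namespace Cfsg.Agent.Lib.OddOrder.BetaFrattini

open Cfsg.Agent.Lib.OddOrder.MinSimple

universe u

variable {G : Type u} [Group G] [Finite G]

theorem betaCore_le_derived (hG : Cfsg.IsMinSimpleOddOrder G) {M : Subgroup G} (hM : IsCoatom M) :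
    Cfsg.piCoreOf (Cfsg.beta M) M ≤ ⁅M, M⁆ :=
  (Subgroup.map_mono (Cores.piCore_mono fun _ hp =>
    AlphaCore.alpha_subset_sigma hG hM hp.1)).trans (BetaCore.sigmaCore_le_derived hG hM)

/-- `M' / M_β` is nilpotent. -/
theorem isNilpotent_quotient (hG : Cfsg.IsMinSimpleOddOrder G) {M : Subgroup G} (hM : IsCoatom M) :
    Group.IsNilpotent
      ↥((commutator M).map (QuotientGroup.mk' (Cfsg.piCore (Cfsg.beta M) M))) := by
  obtain ⟨⟨hBM, hBπ, hBH⟩, -, ⟨N, hN, hNn⟩, -, -⟩ :=
    BetaCore.spec hG (fun q _ => PLengthOne.of_ne_top hG q) hM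
  haveI := hNn
  set B := Cfsg.piCoreOf (Cfsg.beta M) M with hB
  have hBd : B ≤ ⁅M, M⁆ := betaCore_le_derived hG hM
  have hDM : ⁅M, M⁆ ≤ M := Subgroup.map_subtype_commutator M ▸ Subgroup.map_subtype_le _
  have hBN : B ⊔ N = ⁅M, M⁆ := by
    refine le_antisymm (sup_le hBd hN.1) (Subgroup.relIndex_eq_one.1 ?_)
    by_contra hne
    obtain ⟨r, hr, hd⟩ := Nat.exists_prime_and_dvd hne
    by_cases hrb : r ∈ Cfsg.beta M
    · exact hBH r hr hrb ((hd.trans (Subgroup.relIndex_dvd_of_le_left _ le_sup_left)).trans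
        (Dvd.intro _ (Subgroup.relIndex_mul_relIndex B ⁅M, M⁆ M hBd hDM)))
    · exact hN.2.2 r hr ⟨hr, hrb⟩ (hd.trans (Subgroup.relIndex_dvd_of_le_left _ le_sup_right))
  have hNM : N ≤ M := hN.1.trans hDM
  set f := QuotientGroup.mk' (Cfsg.piCore (Cfsg.beta M) M) with hf
  have heq : (commutator M).map f = (N.subgroupOf M).map f := by
    have h1 : commutator M = Cfsg.piCore (Cfsg.beta M) M ⊔ N.subgroupOf M := by
      apply Subgroup.map_injective M.subtype_injective
      rw [Subgroup.map_subtype_commutator, Subgroup.map_sup,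
        Subgroup.map_subgroupOf_eq_of_le hNM]
      exact hBN.symm
    rw [h1, Subgroup.map_sup, hf, QuotientGroup.map_mk'_self, bot_sup_eq]
  rw [heq]
  haveI : Group.IsNilpotent (N.subgroupOf M) :=
    Group.nilpotent_of_mulEquiv (Subgroup.subgroupOfEquivOfLe hNM).symm
  exact Group.nilpotent_of_surjective _ (MonoidHom.subgroupMap_surjective f (N.subgroupOf M))

/-- For a Sylow subgroup `S` of `M'`, `M = M_β N_M(S)`. -/
theorem sup_normalizer (hG : Cfsg.IsMinSimpleOddOrder G) {M : Subgroup G} (hM : IsCoatom M)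
    {q : ℕ} [hq : Fact q.Prime] {S : Subgroup G} (hSq : IsPGroup q S) (hS : S ≤ ⁅M, M⁆)
    (hidx : ¬ q ∣ S.relIndex ⁅M, M⁆) :
    Cfsg.piCoreOf (Cfsg.beta M) M ⊔ (M ⊓ Subgroup.normalizer (S : Set G)) = M := by
  haveI := solvable_of_ne_top hG hM.1
  set K := Cfsg.piCore (Cfsg.beta M) M with hK
  set f := QuotientGroup.mk' K with hf
  set D := (commutator M).map f with hD
  haveI : D.Normal := Subgroup.Normal.map inferInstance f (QuotientGroup.mk'_surjective K)
  haveI := isNilpotent_quotient hG hM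
  have hDF := Cores.le_fittingSubgroup (N := D) inferInstance
  set W := (D ⊓ Cfsg.pCore q (M ⧸ K)).comap f with hW
  haveI : W.Normal := Subgroup.Normal.comap (Subgroup.normal_inf_normal _ _) f
  have hKd : K ≤ commutator M := by
    refine (Subgroup.map_le_map_iff_of_injective M.subtype_injective).1 ?_
    rw [Subgroup.map_subtype_commutator]
    exact betaCore_le_derived hG hM
  have hKW : K ≤ W := fun x hx => by
    show f x ∈ D ⊓ Cfsg.pCore q (M ⧸ K)
    rw [hf, QuotientGroup.mk'_apply, (QuotientGroup.eq_one_iff x).2 hx]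
    exact one_mem _
  have hWd : W ≤ commutator M := by
    have h1 : W ≤ D.comap f := Subgroup.comap_mono inf_le_left
    rwa [hD, Subgroup.comap_map_eq, hf, QuotientGroup.ker_mk', sup_eq_left.2 hKd] at h1
  have hDM : ⁅M, M⁆ ≤ M := Subgroup.map_subtype_commutator M ▸ Subgroup.map_subtype_le _
  set Wg := W.map M.subtype with hWg
  have hSW : S ≤ Wg := by
    intro x hx
    have hxd := hS hx
    rw [← Subgroup.map_subtype_commutator] at hxd
    obtain ⟨y, hy, rfl⟩ := hxd
    obtain ⟨k, hk⟩ := hSq ⟨_, hx⟩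
    have hyk : y ^ q ^ k = 1 := Subtype.ext (by simpa using congrArg Subtype.val hk)
    obtain ⟨i, -, hi⟩ := (Nat.dvd_prime_pow hq.out).1
      ((orderOf_map_dvd f y).trans (orderOf_dvd_of_pow_eq_one hyk))
    have hfy : f y ∈ D := Subgroup.mem_map_of_mem f hy
    exact ⟨y, Subgroup.mem_inf.2 ⟨hfy,
      OddLocal.DerivedFitting.mem_pCore_of_mem_fitting (hDF hfy) ⟨i, hi⟩⟩, rfl⟩
  have hWgd : Wg ≤ ⁅M, M⁆ := Subgroup.map_subtype_commutator M ▸ Subgroup.map_mono hWd
  have hSidx : ¬ q ∣ S.relIndex Wg := fun h => hidx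
    (h.trans (Dvd.intro _ (Subgroup.relIndex_mul_relIndex S Wg ⁅M, M⁆ hSW hWgd)))
  have hfr := RankTwoKey.sup_normalizer_of_normal (L := M) (Subgroup.map_subtype_le W)
    (Basic.le_normalizer_map_subtype M W) hSW hSq hSidx
  refine le_antisymm (sup_le (Subgroup.map_subtype_le _) inf_le_left) (hfr.ge.trans (sup_le ?_ le_sup_right))
  -- `W = K S`
  have hWle : Wg ≤ Cfsg.piCoreOf (Cfsg.beta M) M ⊔ S := by
    refine Subgroup.relIndex_eq_one.1 ?_
    by_contra hne
    obtain ⟨r, hr, hd⟩ := Nat.exists_prime_and_dvd hne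
    by_cases hrq : r = q
    · subst hrq
      exact hSidx (hd.trans (Subgroup.relIndex_dvd_of_le_left _ le_sup_right))
    · have h1 : r ∣ (Cfsg.piCoreOf (Cfsg.beta M) M).relIndex Wg :=
        hd.trans (Subgroup.relIndex_dvd_of_le_left _ le_sup_left)
      rw [hWg, Cfsg.piCoreOf, Subgroup.relIndex_map_map_of_injective _ _ M.subtype_injective,
        ← hK] at h1
      have h2 : Nat.card (W.map f) = K.relIndex W := by
        rw [← Subgroup.relIndex_ker, hf, QuotientGroup.ker_mk']
      rw [← h2, hW, Subgroup.map_comap_eq_self_of_surjective (QuotientGroup.mk'_surjective K)] at h1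
      obtain ⟨n, hn⟩ := IsPGroup.iff_card.1
        ((Cores.pCore_isPGroup (G := M ⧸ K) q).to_le (inf_le_right : D ⊓ _ ≤ _))
      rw [hn] at h1
      exact hrq ((Nat.prime_dvd_prime_iff_eq hr hq.out).1 (hr.dvd_of_dvd_pow h1))
  refine hWle.trans (sup_le le_sup_left ((le_inf ?_ Subgroup.le_normalizer).trans le_sup_right))
  exact hS.trans hDM

end Cfsg.Agent.Lib.OddOrder.BetaFrattini
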