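import Cfsg.Agent.Lib.OddOrder.SigmaEmbedding
import Cfsg.Agent.Lib.OddOrder.BetaFrattini
import Cfsg.Agent.Lib.Hall.Basic

/-!
# BG 12.15(d,e), 12.16: `σ(M)`-subgroups
-/

set_option autoImplicit false
set_option linter.style.haveILetI false
set_option linter.unusedSectionVars false

open scoped Pointwise

namespace Cfsg.Agent.Lib.OddOrder.SigmaSubgroup

open Cfsg.Agent.Lib.OddOrder.MinSimple

universe u

/-- The part of BG 12.5 used here. -/
def TauTwo (G : Type u) [Group G] : Prop :=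
  ∀ M : Subgroup G, IsCoatom M → ∀ (p : ℕ) [Fact p.Prime], p ∈ Cfsg.tau2 M → ∀ A : Subgroup G,
    A ≤ M → Cfsg.IsElementaryAbelian p A → Nat.card A = p ^ 2 →
      M ≤ Subgroup.normalizer ((Cfsg.sigmaCore M ⊔ A : Subgroup G) : Set G) ∧
      Cfsg.sigmaCore M ⊓ Subgroup.centralizer (A : Set G) = ⊥ ∧
      ∀ L : Subgroup G, IsCoatom L → L ≠ M → A ≤ L → Cfsg.sigmaCore M ⊓ L = ⊥

variable {G : Type u} [Group G] [Finite G]

/-- No two odd primes `q ≠ r` have `q ∣ r² - 1` and `r ∣ q² - 1`. -/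
theorem not_cross_dvd {q r : ℕ} (hq : q.Prime) (hr : r.Prime) (hq2 : q ≠ 2) (hr2 : r ≠ 2)
    (hne : q ≠ r) (h1 : q ∣ (r - 1) * (r + 1)) (h2 : r ∣ (q - 1) * (q + 1)) : False := by
  have key : ∀ a b : ℕ, a.Prime → b.Prime → a ≠ 2 → b ≠ 2 → a < b →
      ¬ b ∣ (a - 1) * (a + 1) := by
    intro a b ha hb ha2 hb2 hab h
    have := ha.two_le
    rcases hb.dvd_mul.1 h with h' | h'
    · have := Nat.le_of_dvd (by omega) h'
      omega
    · have hle := Nat.le_of_dvd (by omega) h'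
      have hbe : b = a + 1 := by omega
      rcases ha.eq_two_or_odd with h3 | h3
      · omega
      · rcases hb.eq_two_or_odd with h4 | h4 <;> omega
  rcases Nat.lt_or_ge q r with h | h
  · exact key q r hq hr hq2 hr2 h h2
  · exact key r q hr hq hr2 hq2 (lt_of_le_of_ne h (Ne.symm hne)) h1

/-- A `σ(M)`-subgroup of `M` lies in `M_σ`. -/
theorem le_sigmaCore (hG : Cfsg.IsMinSimpleOddOrder G) {M Y : Subgroup G} (hM : IsCoatom M)
    (hYM : Y ≤ M) (hY : ∀ p : ℕ, p.Prime → p ∣ Nat.card Y → p ∈ Cfsg.sigma M) :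
    Y ≤ Cfsg.sigmaCore M := by
  have h : Y.subgroupOf M ≤ Cfsg.piCore (Cfsg.sigma M) M :=
    Hall.le_of_isPiHall_normal ⟨Cores.piCore_isPiGroup _,
      fun p hp hpσ => SigmaHall.not_dvd_index_piCore hG hM hp hpσ⟩ fun p hp hd =>
      hY p hp (by rwa [NormedConstrained.card_subgroupOf_eq hYM] at hd)
  rw [← Subgroup.map_subgroupOf_eq_of_le hYM]
  exact Subgroup.map_mono h

/-- If `L = Z D` with `Z` normal, a subgroup of order prime to `|Z|` is conjugate into `D`. -/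
theorem exists_conj_le_of_sup {L Z D Y : Subgroup G} (hLs : Group.IsSolvable L) (hZL : Z ≤ L)
    (hLZ : L ≤ Subgroup.normalizer (Z : Set G)) (hDL : D ≤ L) (hsup : Z ⊔ D = L) (hYL : Y ≤ L)
    {π : Set ℕ} (hY : ∀ p : ℕ, p.Prime → p ∣ Nat.card Y → p ∈ π)
    (hZ : ∀ p : ℕ, p.Prime → p ∣ Nat.card Z → p ∉ π) :
    ∃ g ∈ L, Y.map (MulAut.conj g).toMonoidHom ≤ D := by
  haveI := hLs
  haveI hDs : Group.IsSolvable D := Coprime.isSolvable_of_le hDL
  haveI : (Z.subgroupOf L).Normal := (Subgroup.normal_subgroupOf_iff_le_normalizer hZL).2 hLZ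
  set Z' := Z.subgroupOf L
  set D' := D.subgroupOf L
  have hsup' : Z' ⊔ D' = ⊤ := by
    rw [← Subgroup.subgroupOf_sup hZL hDL, hsup, Subgroup.subgroupOf_self]
  obtain ⟨H, hHD, hHπ, hHidx⟩ := Hall.exists_isPiHallOf π D'
  have hH : Cfsg.IsPiHall π H := by
    refine ⟨hHπ, fun p hp hpπ hd => ?_⟩
    rw [← Subgroup.relIndex_mul_index hHD] at hd
    refine (hp.dvd_mul.1 hd).elim (hHidx p hp hpπ) fun h => hZ p hp ?_ hpπ
    have h1 : D'.index ∣ Nat.card Z' := by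
      have h2 := Hall.card_sup_dvd D' Z'
      rw [sup_comm, hsup', Subgroup.card_top, ← D'.card_mul_index] at h2
      exact Nat.dvd_of_mul_dvd_mul_left Nat.card_pos h2
    rw [← NormedConstrained.card_subgroupOf_eq hZL]
    exact h.trans h1
  obtain ⟨g, hg⟩ := Hall.exists_conj_le hH (K := Y.subgroupOf L) fun p hp hd =>
    hY p hp (by rwa [NormedConstrained.card_subgroupOf_eq hYL] at hd)
  refine ⟨((g⁻¹ : L) : G), (g⁻¹).2, ?_⟩
  rintro _ ⟨y, hy, rfl⟩
  have h1 := hg (show (⟨y, hYL hy⟩ : L) ∈ Y.subgroupOf L from hy)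
  rw [Coprime.mem_conj_smul] at h1
  have h2 : ((g⁻¹ * ⟨y, hYL hy⟩ * g : L) : G) ∈ D := hHD h1
  simpa using h2

theorem relIndex_sup_right_le {Z D : Subgroup G} (p : ℕ) (hp : p.Prime)
    (hd : p ∣ Nat.card ↥(Z ⊔ D)) (hn : D ≤ Subgroup.normalizer (Z : Set G)) :
    p ∣ Nat.card Z ∨ p ∣ Nat.card D := by
  have hL : (Z ⊔ D : Subgroup G) ≤ Subgroup.normalizer (Z : Set G) :=
    sup_le Subgroup.le_normalizer hn
  haveI : (Z.subgroupOf (Z ⊔ D)).Normal :=
    (Subgroup.normal_subgroupOf_iff_le_normalizer le_sup_left).2 hL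
  have h := Hall.card_sup_dvd (D.subgroupOf (Z ⊔ D)) (Z.subgroupOf (Z ⊔ D))
  rw [← Subgroup.subgroupOf_sup le_sup_right le_sup_left, sup_comm D Z, Subgroup.subgroupOf_self,
    Subgroup.card_top, NormedConstrained.card_subgroupOf_eq le_sup_right,
    NormedConstrained.card_subgroupOf_eq le_sup_left] at h
  exact (hp.dvd_mul.1 (hd.trans h)).symm

variable {q : ℕ} [hq : Fact q.Prime]

/-- BG 12.15(d,e): a maximal subgroup over `N(X)` factorizes over its intersection with `M`. -/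
theorem exists_factor (h5 : TauTwo G) (hG : Cfsg.IsMinSimpleOddOrder G) {M : Subgroup G}
    (hM : IsCoatom M) (hσ : q ∈ Cfsg.sigma M) {X : Subgroup G} (hXq : IsPGroup q X) (hX1 : X ≠ ⊥)
    (hXM : X ≤ M) {L : Subgroup G} (hL : IsCoatom L) (hne : L ≠ M)
    (hNX : Subgroup.normalizer (X : Set G) ≤ L) :
    ∃ Z : Subgroup G, Z ≤ L ∧ L ≤ Subgroup.normalizer (Z : Set G) ∧ Z ⊔ (M ⊓ L) = L ∧
      ∀ r : ℕ, r.Prime → r ∣ Nat.card Z → r ∈ Cfsg.beta L ∨ ¬ r ∣ Nat.card M := by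
  haveI := solvable_of_ne_top hG hL.1
  haveI := solvable_of_ne_top hG hM.1
  have hnc : ∀ g : G, L ≠ M.map (MulAut.conj g).toMonoidHom :=
    SigmaEmbedding.not_conj hG hM hσ hXq hX1 hXM (Subgroup.le_normalizer.trans hNX)
      ((Subgroup.centralizer_le_normalizer _).trans hNX) hne
  obtain ⟨S₀, hS₀⟩ := (hXq.comap_subtype (K := M ⊓ L)).exists_le_sylow
  set S := (S₀ : Subgroup ↥(M ⊓ L)).map (M ⊓ L).subtype with hSdef
  have hXS : X ≤ S := fun x hx =>
    ⟨⟨x, hXM hx, hNX (Subgroup.le_normalizer hx)⟩,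
      hS₀ (show (⟨x, hXM hx, hNX (Subgroup.le_normalizer hx)⟩ : ↥(M ⊓ L)) ∈
        X.comap (M ⊓ L).subtype from hx), rfl⟩
  have hSp : IsPGroup q S := S₀.2.map _
  have hSD : S ≤ M ⊓ L := Subgroup.map_subtype_le _
  have hSL : S ≤ L := hSD.trans inf_le_right
  have hSM : S ≤ M := hSD.trans inf_le_left
  obtain ⟨hNS, hSidx⟩ := SigmaEmbedding.sylow_inf hG hM hσ hX1 hXS hNX hSp hSD
    fun R hR h hle => SigmaEmbedding.eq_of_sylow_of_le S₀ hR h hle
  rcases SigmaEmbedding.mem_sigma_or_tau2 hG hL hXq hX1 hNX with hqL | hqL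
  · -- `q ∈ σ(L)`
    have hSd : S ≤ ⁅L, L⁆ := Sigma.le_derived hG hL hqL hSp hSL
    have hidx : ¬ q ∣ S.relIndex ⁅L, L⁆ := fun h => hSidx (h.trans (Dvd.intro _
      (Subgroup.relIndex_mul_relIndex S ⁅L, L⁆ L hSd
        (Subgroup.map_subtype_commutator L ▸ Subgroup.map_subtype_le _))))
    refine ⟨Cfsg.piCoreOf (Cfsg.beta L) L, piCoreOf_le _ _, piCoreOf_normal _ _,
      le_antisymm (sup_le (piCoreOf_le _ _) inf_le_right) ?_,
      fun r hr hd => Or.inl (piCoreOf_isPiGroup _ _ r hr hd)⟩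
    exact (BetaFrattini.sup_normalizer hG hL hSp hSd hidx).ge.trans
      (sup_le le_sup_left ((le_inf (inf_le_right.trans hNS) inf_le_left).trans le_sup_right))
  -- `q ∈ τ₂(L)`
  obtain ⟨-, hqnσ, hr2, hr1⟩ := hqL
  let SL : Sylow q L := (hSp.of_equiv (Subgroup.subgroupOfEquivOfLe hSL).symm).toSylow hSidx
  have hSr1 : ¬ Cfsg.PRankLE q 1 S := by
    have h1 := AlphaCentralizer.not_prankLE_sylow SL hr1
    rwa [show (SL : Subgroup L) = S.subgroupOf L from IsPGroup.toSylow_coe _ _,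
      Subgroup.map_subgroupOf_eq_of_le hSL] at h1
  obtain ⟨A, hAS, hA, hAc⟩ := RankTwoPrime.exists_elemAb_sq (Rank.prankLE_mono hSL hr2) hSr1
  have hAp : IsPGroup q A := IsPGroup.of_card hAc
  have hAnc : ¬ IsCyclic A := Rank.elemAb_not_isCyclic hA (by
    rw [hAc]; exact lt_self_pow₀ hq.out.one_lt (by norm_num))
  have hAM : A ≤ M := hAS.trans hSM
  have hAL : A ≤ L := hAS.trans hSL
  obtain ⟨hWn, hCA, hinf⟩ := h5 L hL q ⟨hq.out, hqnσ, hr2, hr1⟩ A hAL hA hAc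
  have hLM : Cfsg.sigmaCore L ⊓ M = ⊥ := hinf M hM hne.symm hAM
  have hσL := SigmaHall.sigmaCore_isPiHallOf hG hL
  set W := Cfsg.sigmaCore L ⊔ A with hW
  have hAn : A ≤ Subgroup.normalizer (Cfsg.sigmaCore L : Set G) :=
    hAL.trans (Basic.le_normalizer_map_subtype L _)
  have hqZ : ¬ q ∣ Nat.card (Cfsg.sigmaCore L) := fun h => hqnσ (hσL.2.1 q hq.out h)
  have hWc : Nat.card W = Nat.card (Cfsg.sigmaCore L) * Nat.card A := by
    rw [hW, sup_comm, Coprime.card_sup_of_disjoint hAn, mul_comm]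
    refine disjoint_iff.2 (Basic.inf_eq_bot_of_coprime ?_)
    rw [hAc]
    exact (hq.out.coprime_iff_not_dvd.2 hqZ).pow_left 2
  have hAidx : ¬ q ∣ A.relIndex W := by
    have h1 := Subgroup.card_mul_index (A.subgroupOf W)
    rw [NormedConstrained.card_subgroupOf_eq (le_sup_right : A ≤ W), hWc,
      mul_comm (Nat.card (Cfsg.sigmaCore L))] at h1
    show ¬ q ∣ (A.subgroupOf W).index
    rw [Nat.eq_of_mul_eq_mul_left Nat.card_pos h1]
    exact hqZ
  have hfr := RankTwoKey.sup_normalizer_of_normal (sup_le hσL.1 hAL) hWn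
    (le_sup_right : A ≤ W) hAp hAidx
  refine ⟨Cfsg.sigmaCore L, hσL.1, Basic.le_normalizer_map_subtype L _,
    le_antisymm (sup_le hσL.1 inf_le_right) (hfr.ge.trans (sup_le (sup_le le_sup_left
      ((le_inf hAM hAL).trans le_sup_right)) ((le_inf (inf_le_right.trans
        (SigmaEmbedding.normalizer_le_of_not_isCyclic hG hM hσ hAp hAM hAnc)) inf_le_left).trans
          le_sup_right))), fun r hr hd => ?_⟩
  by_contra hcon
  rw [not_or, not_not] at hcon
  obtain ⟨hrβ, hrM⟩ := hcon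
  haveI := Fact.mk hr
  have hrσ : r ∈ Cfsg.sigma L := hσL.2.1 r hr hd
  have hrq : r ≠ q := fun e => hqnσ (e ▸ hrσ)
  have hr2' : r ≠ 2 := ne_two_of_dvd hG (hrM.trans M.card_subgroup_dvd_card)
  have hq2 : q ≠ 2 := ne_two_of_dvd hG (Sigma.dvd_card_group hσ)
  have hrβM : r ∉ Cfsg.beta M := fun h => by
    obtain ⟨g, hg⟩ := SigmaEmbedding.conj_of_sigma_alpha hG hL hM hrσ h.1
    exact hnc g hg
  have hqβ : q ∉ Cfsg.beta M := fun h => RankTwoPrime.not_ideal hG hL hr2 hr1 h.2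
  -- a Sylow `q`-subgroup `P` of `M`
  obtain ⟨Pm, hPm⟩ := (hSp.comap_subtype (K := M)).exists_le_sylow
  set P := (Pm : Subgroup M).map M.subtype with hP
  have hPM : P ≤ M := Subgroup.map_subtype_le _
  have hAP : A ≤ P := fun x hx => ⟨⟨x, hAM hx⟩,
    hPm (show (⟨x, hAM hx⟩ : M) ∈ S.comap M.subtype from hAS hx), rfl⟩
  have hPp : IsPGroup q P := Pm.2.map _
  have hPd : P ≤ ⁅M, M⁆ := Sigma.le_derived hG hM hσ hPp hPM
  have hPn : Cfsg.IsNarrow q P := OddLocal.NarrowStructure.isNarrow_congr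
    (Subgroup.equivMapOfInjective _ _ M.subtype_injective)
    (BetaCore.isNarrow_sylow hG hM hqβ Pm)
  have hfrM := BetaFrattini.sup_normalizer hG hM hPp hPd fun h => Pm.not_dvd_index (by
    rw [← Basic.relIndex_map_subtype M (Pm : Subgroup M)]
    exact h.trans (Dvd.intro _ (Subgroup.relIndex_mul_relIndex P ⁅M, M⁆ M hPd
      (Subgroup.map_subtype_commutator M ▸ Subgroup.map_subtype_le _))))
  have hrN : r ∣ Nat.card ↥(M ⊓ Subgroup.normalizer (P : Set G)) := by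
    rw [← hfrM] at hrM
    exact (relIndex_sup_right_le r hr hrM (inf_le_left.trans (piCoreOf_normal _ _))).resolve_left
      fun h => hrβM (piCoreOf_isPiGroup _ _ r hr h)
  obtain ⟨x, hx⟩ := exists_prime_orderOf_dvd_card'
    (G := ↥(M ⊓ Subgroup.normalizer (P : Set G))) r hrN
  have hxo : orderOf (x : G) = r := by rw [Subgroup.orderOf_coe, hx]
  have hxP : (x : G) ∉ Subgroup.centralizer (P : Set G) := by
    intro hc
    have hxL : (x : G) ∈ L := (RankTwoCentralizer.spec hG (fun q _ => PLengthOne.of_ne_top hG q)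
      hL hAL hA hAc).1 (Subgroup.centralizer_le (SetLike.coe_subset_coe.2 hAP) hc)
    have h1 : Subgroup.zpowers (x : G) ≤ Cfsg.sigmaCore L ⊓ M := by
      refine le_inf (le_sigmaCore hG hL (Subgroup.zpowers_le.2 hxL) fun p hp hpd => ?_)
        (Subgroup.zpowers_le.2 x.2.1)
      rw [Nat.card_zpowers, hxo] at hpd
      rwa [(Nat.prime_dvd_prime_iff_eq hp hr).1 hpd]
    rw [hLM, le_bot_iff, Subgroup.zpowers_eq_bot] at h1
    rw [h1, orderOf_one] at hxo
    exact hr.ne_one hxo.symm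
  have hd1 := OddLocal.NarrowAut.prime_dvd_of_not_centralizes hq2 hPp hPn x.2.2
    (by rw [hxo]; exact hr) (by rw [hxo]; exact hrq) hxP
  rw [hxo] at hd1
  -- an `A`-invariant Sylow `r`-subgroup of `L_σ`
  obtain ⟨R, hR, hAR, -⟩ := Hall.Coprime.exists_invariant_ge hAn
    (by rw [hAc]; exact (hq.out.coprime_iff_not_dvd.2 hqZ).pow_left 2)
    (Coprime.isSolvable_of_le hσL.1) ({r} : Set ℕ) (U := ⊥) bot_le
    (fun a _ => Subgroup.mem_normalizer_fintype fun y hy => by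
      simp only [SetLike.mem_coe, Subgroup.mem_bot] at hy ⊢; simp [hy])
    fun s hs h => absurd (Subgroup.card_bot (G := G) ▸ h) hs.not_dvd_one
  have hRp : IsPGroup r R := Transitivity.isPGroup_of_inv hR.2.1
  have hRL : R ≤ L := hR.1.trans hσL.1
  have hRidx : ¬ r ∣ (R.subgroupOf L).index := by
    show ¬ r ∣ R.relIndex L
    rw [← Subgroup.relIndex_mul_relIndex R _ L hR.1 hσL.1]
    exact fun h => (hr.dvd_mul.1 h).elim (hR.2.2 r hr rfl) (hσL.2.2 r hr hrσ)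
  have hRn : Cfsg.IsNarrow r R := by
    have h1 := BetaCore.isNarrow_sylow hG hL hrβ
      ((hRp.of_equiv (Subgroup.subgroupOfEquivOfLe hRL).symm).toSylow hRidx)
    exact OddLocal.NarrowStructure.isNarrow_congr
      ((MulEquiv.subgroupCongr (IsPGroup.toSylow_coe _ _)).trans
        (Subgroup.subgroupOfEquivOfLe hRL)) h1
  obtain ⟨a, ha, haR⟩ : ∃ a ∈ A, a ∉ Subgroup.centralizer (R : Set G) := by
    refine SetLike.not_le_iff_exists.1 fun hle => hR.2.2 r hr rfl ?_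
    have hR1 : R = ⊥ := le_bot_iff.1 (hCA ▸ le_inf hR.1 (Subgroup.le_centralizer_iff.1 hle))
    rw [hR1, Subgroup.relIndex_bot_left]
    exact hd
  have hao : orderOf a = q := orderOf_eq_prime (hA.2 a ha) fun e => haR (e ▸ one_mem _)
  have hd2 := OddLocal.NarrowAut.prime_dvd_of_not_centralizes hr2' hRp hRn (hAR ha)
    (by rw [hao]; exact hq.out) (by rw [hao]; exact hrq.symm) haR
  rw [hao] at hd2
  exact not_cross_dvd hq.out hr hq2 hr2' hrq.symm hd2 hd1

/-- The ideal primes of a maximal subgroup and the `σ`-primes of `M` in the factor `Z`. -/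
theorem exists_factor_sigma (h5 : TauTwo G) (hG : Cfsg.IsMinSimpleOddOrder G) {M : Subgroup G}
    (hM : IsCoatom M) (hσ : q ∈ Cfsg.sigma M) {X : Subgroup G} (hXq : IsPGroup q X) (hX1 : X ≠ ⊥)
    (hXM : X ≤ M) {L : Subgroup G} (hL : IsCoatom L) (hne : L ≠ M)
    (hNX : Subgroup.normalizer (X : Set G) ≤ L) :
    ∃ Z : Subgroup G, Z ≤ L ∧ L ≤ Subgroup.normalizer (Z : Set G) ∧ Z ⊔ (M ⊓ L) = L ∧
      ∀ r : ℕ, r.Prime → r ∣ Nat.card Z → r ∉ Cfsg.sigma M ∧
        (r ∣ Nat.card M → Cfsg.IsIdealPrime r G) := by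
  obtain ⟨Z, h1, h2, h3, h4⟩ := exists_factor h5 hG hM hσ hXq hX1 hXM hL hne hNX
  refine ⟨Z, h1, h2, h3, fun r hr hd => ⟨fun hrσ => ?_, fun hrM => ?_⟩⟩
  · haveI := Fact.mk hr
    obtain ⟨g, hg⟩ := SigmaEmbedding.conj_of_sigma_alpha hG hM hL hrσ
      ((h4 r hr hd).resolve_right (not_not.2 hrσ.2.1)).1
    refine SigmaEmbedding.not_conj hG hM hσ hXq hX1 hXM (Subgroup.le_normalizer.trans hNX)
      ((Subgroup.centralizer_le_normalizer _).trans hNX) hne g⁻¹ ?_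
    show L = MulAut.conj g⁻¹ • M
    rw [hg, map_inv]
    exact (inv_smul_smul (MulAut.conj g) L).symm
  · exact ((h4 r hr hd).resolve_right (not_not.2 hrM)).2

theorem ne_top_of_sigma (hG : Cfsg.IsMinSimpleOddOrder G) {M Y : Subgroup G} (hM : IsCoatom M)
    (hY : ∀ p : ℕ, p.Prime → p ∣ Nat.card Y → p ∈ Cfsg.sigma M) : Y ≠ ⊤ := by
  rintro rfl
  obtain ⟨r, hr, hrM, hrσ⟩ := PLengthProper.exists_prime_not_sigma hG hM
  refine hrσ (hY r hr ?_)
  rw [Subgroup.card_top]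
  exact hrM.trans M.card_subgroup_dvd_card

/-- Some `O_q(Y) ≠ 1` is conjugate into `M`. -/
theorem exists_conj_char (hG : Cfsg.IsMinSimpleOddOrder G) {M Y : Subgroup G} (hM : IsCoatom M)
    (hY1 : Y ≠ ⊥) (hY : ∀ p : ℕ, p.Prime → p ∣ Nat.card Y → p ∈ Cfsg.sigma M) :
    ∃ (q : ℕ) (_ : Fact q.Prime) (X : Subgroup G) (g : G), q ∈ Cfsg.sigma M ∧ IsPGroup q X ∧
      X ≠ ⊥ ∧ X ≤ Y ∧ Subgroup.normalizer (Y : Set G) ≤ Subgroup.normalizer (X : Set G) ∧
      X.map (MulAut.conj g).toMonoidHom ≤ M := by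
  haveI := solvable_of_ne_top hG (ne_top_of_sigma hG hM hY)
  haveI : Nontrivial Y := (Subgroup.nontrivial_iff_ne_bot Y).2 hY1
  obtain ⟨q, N, hq, hNn, hN1, -, hNp⟩ := Hall.exists_normal_abelian_pgroup (G := Y)
  haveI := Fact.mk hq
  haveI := hNn
  have hX1 : (Cfsg.pCore q Y).map Y.subtype ≠ ⊥ := by
    rw [Ne, Subgroup.map_eq_bot_iff_of_injective _ Y.subtype_injective]
    exact fun e => hN1 (le_bot_iff.1 (e ▸ Cores.le_pCore hNp))
  set X := (Cfsg.pCore q Y).map Y.subtype with hX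
  have hXq : IsPGroup q X := (Cores.pCore_isPGroup (G := Y) q).map _
  have hqσ : q ∈ Cfsg.sigma M := hY q hq ((SigmaEmbedding.ne_one_of_pgroup hXq hX1).trans
    (Subgroup.card_dvd_of_le (Subgroup.map_subtype_le _)))
  obtain ⟨P, -, hPM, -⟩ := Sigma.exists_sylow_ge hqσ (X := ⊥) IsPGroup.of_bot bot_le
  obtain ⟨T, hT⟩ := hXq.exists_le_sylow
  obtain ⟨g, hg⟩ := MulAction.exists_smul_eq G T P
  refine ⟨q, inferInstance, X, g, hqσ, hXq, hX1, Subgroup.map_subtype_le _,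
    Balance.le_normalizer_map_characteristic _, le_trans (Subgroup.map_mono hT) ?_⟩
  refine le_trans (le_of_eq ?_) hPM
  rw [← hg, Sylow.coe_subgroup_smul]
  rfl

/-- BG 12.16(a). -/
theorem exists_conj_le_sigmaCore (h5 : TauTwo G) (hG : Cfsg.IsMinSimpleOddOrder G)
    {M Y : Subgroup G} (hM : IsCoatom M) (hY1 : Y ≠ ⊥)
    (hY : ∀ p : ℕ, p.Prime → p ∣ Nat.card Y → p ∈ Cfsg.sigma M) :
    ∃ g : G, Y.map (MulAut.conj g).toMonoidHom ≤ Cfsg.sigmaCore M := by
  obtain ⟨q, _, X, g, hqσ, hXq, hX1, -, hNN, hgM⟩ := exists_conj_char hG hM hY1 hY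
  set φ := (MulAut.conj g).toMonoidHom with hφ
  have hinj : Function.Injective φ := (MulAut.conj g).injective
  have hX1' : X.map φ ≠ ⊥ := by rwa [Ne, Subgroup.map_eq_bot_iff_of_injective _ hinj]
  have hYN : Y.map φ ≤ Subgroup.normalizer ((X.map φ : Subgroup G) : Set G) :=
    (Subgroup.map_mono (Subgroup.le_normalizer.trans hNN)).trans (Subgroup.le_normalizer_map _)
  have hπ : ∀ p : ℕ, p.Prime → p ∣ Nat.card ↥(Y.map φ) → p ∈ Cfsg.sigma M := fun p hp hd =>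
    hY p hp (hd.trans (Subgroup.card_map_dvd _ _))
  obtain ⟨L, hL, hNL⟩ := exists_coatom_ge hG (normalizer_ne_top hG hX1'
    (pgroup_ne_top hG (hXq.map _)))
  by_cases hne : L = M
  · subst hne
    exact ⟨g, le_sigmaCore hG hM (hYN.trans hNL) hπ⟩
  obtain ⟨Z, hZL, hLZ, hsup, hZ⟩ :=
    exists_factor_sigma h5 hG hM hqσ (hXq.map φ) hX1' hgM hL hne hNL
  obtain ⟨k, -, hk⟩ := exists_conj_le_of_sup (solvable_of_ne_top hG hL.1) hZL hLZ inf_le_right hsup
    (hYN.trans hNL) hπ fun p hp hd => (hZ p hp hd).1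
  refine ⟨k * g, le_sigmaCore hG hM ?_ fun p hp hd => hY p hp (hd.trans (Subgroup.card_map_dvd _ _))⟩
  rintro _ ⟨y, hy, rfl⟩
  have := (hk ⟨φ y, ⟨y, hy, rfl⟩, rfl⟩).1
  simpa [hφ, mul_assoc] using this

/-- BG 12.16(b) for a `q`-subgroup of `M`. -/
theorem bound_of_le (h5 : TauTwo G) (hG : Cfsg.IsMinSimpleOddOrder G) {M : Subgroup G}
    (hM : IsCoatom M) (hσ : q ∈ Cfsg.sigma M) {X : Subgroup G} (hXq : IsPGroup q X) (hX1 : X ≠ ⊥)
    (hXM : X ≤ M) {H : Subgroup G} (hH : IsCoatom H) (hHM : H ≠ M) (hXH : X ≤ H)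
    {p : ℕ} [hp : Fact p.Prime] (hpM : p ∣ Nat.card M) (hpσ : p ∉ Cfsg.sigma M)
    (hpi : ¬ Cfsg.IsIdealPrime p G) :
    Cfsg.PRankLE p 1 ↥(H ⊓ Subgroup.normalizer (X : Set G)) ∧
      (p ∈ Cfsg.tau1 M → ¬ p ∣ Nat.card ↥⁅H ⊓ Subgroup.normalizer (X : Set G),
        H ⊓ Subgroup.normalizer (X : Set G)⁆) := by
  have hr2 : Cfsg.PRankLE p 2 M := by
    by_contra h
    exact hpσ (AlphaCore.alpha_subset_sigma hG hM ⟨hp.out, h⟩)
  have hXσ : X ≤ Cfsg.sigmaCore M := le_sigmaCore hG hM hXM fun r hr hd =>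
    Hall.prime_dvd_pgroup hq.out hr hXq hd ▸ hσ
  -- a subgroup of `M ∩ L` of type `(p, p)` is impossible
  have hno : ∀ L : Subgroup G, IsCoatom L → L ≠ M → X ≤ L → Cfsg.PRankLE p 1 ↥(M ⊓ L) := by
    intro L hL hLM hXL
    by_contra hr
    obtain ⟨A, hA, hAe, hAc⟩ := RankTwoPrime.exists_elemAb_sq
      (Rank.prankLE_mono (inf_le_left : M ⊓ L ≤ M) hr2) hr
    have hτ : p ∈ Cfsg.tau2 M :=
      ⟨hp.out, hpσ, hr2, fun h => hr (Rank.prankLE_mono inf_le_left h)⟩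
    exact hX1 (le_bot_iff.1 ((h5 M hM p hτ A (hA.trans inf_le_left) hAe hAc).2.2 L hL hLM
      (hA.trans inf_le_right) ▸ le_inf hXσ hXL))
  obtain ⟨L, hL, hNL⟩ := exists_coatom_ge hG (normalizer_ne_top hG hX1 (pgroup_ne_top hG hXq))
  set T := H ⊓ Subgroup.normalizer (X : Set G) with hT
  have hTL : T ≤ L := inf_le_right.trans hNL
  by_cases hne : L = M
  · subst hne
    refine ⟨Rank.prankLE_mono (le_inf hTL inf_le_left) (hno H hH hHM hXH),
      fun hτ h => hτ.2.2.2.1 (h.trans (Subgroup.card_dvd_of_le (Subgroup.commutator_mono hTL hTL)))⟩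
  have hXL : X ≤ L := Subgroup.le_normalizer.trans hNL
  obtain ⟨Z, hZL, hLZ, hsup, hZ⟩ := exists_factor_sigma h5 hG hM hσ hXq hX1 hXM hL hne hNL
  have hpZ : ¬ p ∣ Nat.card Z := fun h => hpi ((hZ p hp.out h).2 hpM)
  haveI hLs := solvable_of_ne_top hG hL.1
  constructor
  · rw [Rank.prankLE_subgroup_iff]
    intro E hE he
    obtain ⟨k, -, hk⟩ := exists_conj_le_of_sup (π := ({p} : Set ℕ)) hLs hZL hLZ inf_le_right hsup
      (hE.trans hTL) (Transitivity.inv_of_isPGroup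
        (fun x => ⟨1, Subtype.ext (by simpa using he.2 x x.2)⟩ : IsPGroup p E))
      (fun r hr hd e => by
        rw [Set.mem_singleton_iff] at e
        exact hpZ (e ▸ hd))
    have h1 := Rank.prankLE_subgroup_iff.1 (hno L hL hne hXL) _ hk (PGroups.elemAb_map _ he)
    rwa [Subgroup.card_map_of_injective (MulAut.conj k).injective] at h1
  · intro hτ h
    have hd : p ∣ Nat.card ↥⁅L, L⁆ :=
      h.trans (Subgroup.card_dvd_of_le (Subgroup.commutator_mono hTL hTL))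
    have hle : ⁅L, L⁆ ≤ Z ⊔ ⁅M ⊓ L, M ⊓ L⁆ := by
      haveI : (Z.subgroupOf L).Normal := (Subgroup.normal_subgroupOf_iff_le_normalizer hZL).2 hLZ
      let π := QuotientGroup.mk' (Z.subgroupOf L)
      have htop : (⊤ : Subgroup L).map π = ((M ⊓ L).subgroupOf L).map π := by
        refine le_antisymm ?_ (Subgroup.map_mono le_top)
        rw [Subgroup.map_le_map_iff, QuotientGroup.ker_mk', ← Subgroup.subgroupOf_sup inf_le_right hZL,
          sup_comm, hsup, Subgroup.subgroupOf_self]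
      have h2 : (commutator L).map π ≤ ⁅(M ⊓ L).subgroupOf L, (M ⊓ L).subgroupOf L⁆.map π := by
        rw [commutator_def, Subgroup.map_commutator, Subgroup.map_commutator, htop]
      rw [Subgroup.map_le_map_iff, QuotientGroup.ker_mk', sup_comm] at h2
      have h3 := Subgroup.map_mono (f := L.subtype) h2
      rwa [Subgroup.map_subtype_commutator, Subgroup.map_sup, Subgroup.map_commutator,
        Subgroup.map_subgroupOf_eq_of_le hZL, Subgroup.map_subgroupOf_eq_of_le inf_le_right] at h3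
    rcases relIndex_sup_right_le p hp.out (hd.trans (Subgroup.card_dvd_of_le hle))
      ((Subgroup.commutator_mono inf_le_right inf_le_right).trans
        ((Subgroup.map_subtype_commutator L ▸ Subgroup.map_subtype_le _ : ⁅L, L⁆ ≤ L).trans hLZ))
      with h' | h'
    · exact hpZ h'
    · exact hτ.2.2.2.1 (h'.trans
        (Subgroup.card_dvd_of_le (Subgroup.commutator_mono inf_le_left inf_le_left)))

/-- BG 12.16(b). -/
theorem bound (h5 : TauTwo G) (hG : Cfsg.IsMinSimpleOddOrder G) {M Y : Subgroup G}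
    (hM : IsCoatom M) (hY1 : Y ≠ ⊥) (hY : ∀ p : ℕ, p.Prime → p ∣ Nat.card Y → p ∈ Cfsg.sigma M)
    {H : Subgroup G} (hH : IsCoatom H) (hnc : ∀ g : G, H ≠ M.map (MulAut.conj g).toMonoidHom)
    (hYH : Y ≤ H) {p : ℕ} [hp : Fact p.Prime] (hpM : p ∣ Nat.card M) (hpσ : p ∉ Cfsg.sigma M)
    (hpi : ¬ Cfsg.IsIdealPrime p G) :
    Cfsg.PRankLE p 1 ↥(H ⊓ Subgroup.normalizer (Y : Set G)) ∧
      (p ∈ Cfsg.tau1 M → ¬ p ∣ Nat.card ↥⁅H ⊓ Subgroup.normalizer (Y : Set G),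
        H ⊓ Subgroup.normalizer (Y : Set G)⁆) := by
  obtain ⟨q, _, X, g, hqσ, hXq, hX1, hXY, hNN, hgM⟩ := exists_conj_char hG hM hY1 hY
  set φ := (MulAut.conj g).toMonoidHom with hφ
  have hinj : Function.Injective φ := (MulAut.conj g).injective
  have hHM : H.map φ ≠ M := by
    intro e
    refine hnc g⁻¹ ?_
    show H = MulAut.conj g⁻¹ • M
    rw [← e, map_inv]
    exact (inv_smul_smul (MulAut.conj g) H).symm
  obtain ⟨h1, h2⟩ := bound_of_le h5 hG hM hqσ (hXq.map φ)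
    (by rwa [Ne, Subgroup.map_eq_bot_iff_of_injective _ hinj]) hgM
    (H := H.map φ) (((MulAut.conj g).mapSubgroup.isCoatom_iff H).2 hH) hHM
    (Subgroup.map_mono (hXY.trans hYH)) hpM hpσ hpi
  have hle : (H ⊓ Subgroup.normalizer (Y : Set G)).map φ ≤
      H.map φ ⊓ Subgroup.normalizer ((X.map φ : Subgroup G) : Set G) :=
    (Subgroup.map_inf_le _ _ φ).trans (inf_le_inf_left _
      ((Subgroup.map_mono hNN).trans (Subgroup.le_normalizer_map _)))
  refine ⟨Rank.prankLE_subgroup_iff.2 fun E hE he => ?_, fun hτ h => h2 hτ ?_⟩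
  · have h3 := Rank.prankLE_subgroup_iff.1 h1 _ ((Subgroup.map_mono hE).trans hle)
      (PGroups.elemAb_map _ he)
    rwa [Subgroup.card_map_of_injective hinj] at h3
  · rw [← Subgroup.card_map_of_injective hinj, Subgroup.map_commutator] at h
    exact h.trans (Subgroup.card_dvd_of_le (Subgroup.commutator_mono hle hle))

end Cfsg.Agent.Lib.OddOrder.SigmaSubgroup
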