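import Cfsg.Agent.Lib.OddOrder.AlphaCore
import Cfsg.Agent.Lib.Transfer.PResidual
import Cfsg.Agent.Lib.OddLocal.NarrowRank
import Cfsg.Agent.Lib.Hall.Coprime
import Cfsg.Agent.S1455

/-!
# BG 10.8: the subgroup `M_β`
-/

set_option autoImplicit false
set_option linter.style.haveILetI false
set_option linter.unusedSectionVars false

open scoped Pointwise

namespace Cfsg.Agent.Lib.OddOrder.BetaCore

open Cfsg.Agent.Lib.OddOrder.MinSimple

universe u

/-- A finite group with a normal complement for each prime is nilpotent. -/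
theorem isNilpotent_of_complements {H : Type u} [Group H] [Finite H]
    (h : ∀ q : ℕ, q.Prime → q ∣ Nat.card H → Cfsg.HasNormalPComplement q H) :
    Group.IsNilpotent H := by
  refine ((Group.isNilpotent_of_finite_tfae (G := H)).out 0 3).2 ?_
  intro p hp P
  set I : Subgroup H :=
    ⨅ q ∈ {q : ℕ | q.Prime ∧ q ≠ p ∧ q ∣ Nat.card H}, Cfsg.pResidual q H with hI
  haveI : I.Normal := by
    rw [hI]
    exact Subgroup.normal_iInf_normal fun q => Subgroup.normal_iInf_normal fun _ => inferInstance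
  have hPI : (P : Subgroup H) ≤ I := le_iInf₂ fun q hq x hx => by
    haveI := Fact.mk hq.1
    obtain ⟨k, hk⟩ := P.2 ⟨x, hx⟩
    exact Transfer.PResidual.mem_pResidual ((((Nat.coprime_primes hp.out hq.1).2
      hq.2.1.symm).pow_left k).coprime_dvd_left
        (orderOf_dvd_of_pow_eq_one (by simpa using congrArg Subtype.val hk)))
  have hIp : IsPGroup p I := by
    refine IsPGroup.of_card (n := (Nat.card I).primeFactorsList.length)
      (Nat.eq_prime_pow_of_unique_prime_dvd Nat.card_pos.ne' fun {q} hq hd => ?_)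
    by_contra hne
    haveI := Fact.mk hq
    have hqH := hd.trans I.card_subgroup_dvd_card
    exact Transfer.PResidual.hasNormalPComplement_iff_not_dvd.1 (h q hq hqH)
      (hd.trans (Subgroup.card_dvd_of_le (iInf₂_le q ⟨hq, hne, hqH⟩)))
  have heq : (P : Subgroup H) = I := (P.is_maximal' hIp hPI).symm
  rw [heq]
  infer_instance

variable {G : Type u} [Group G] [Finite G]

/-- A Sylow subgroup for a prime of `α(M) ∖ β(M)` is narrow. -/
theorem isNarrow_sylow (hG : Cfsg.IsMinSimpleOddOrder G) {M : Subgroup G} (hM : IsCoatom M)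
    {p : ℕ} [hp : Fact p.Prime] (hpb : p ∉ Cfsg.beta M) (S : Sylow p M) :
    Cfsg.IsNarrow p ↥(S : Subgroup M) := by
  by_cases hr : Cfsg.PRankLE p 2 M
  · exact Or.inl (Rank.prankLE_subgroup_iff.2 fun E _ he => hr E he.1 he.2)
  have hpα : p ∈ Cfsg.alpha M := ⟨hp.out, hr⟩
  have hrG : ¬ Cfsg.PRankLE p 2 G := by
    intro h
    exact hr (fun E h1 h2 => by
      have h3 := h (E.map M.subtype) (Subgroup.map_isMulCommutative E _) (by
        rintro _ ⟨x, hx, rfl⟩
        rw [← map_pow, h2 x hx, map_one])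
      rwa [Subgroup.card_map_of_injective M.subtype_injective] at h3)
  obtain ⟨P, A, hAP, hA, hA2, hmax⟩ : ∃ (P : Sylow p G) (A : Subgroup G), A ≤ (P : Subgroup G) ∧
      Cfsg.IsElementaryAbelian p A ∧ Nat.card A = p ^ 2 ∧
      ∀ B : Subgroup G, B ≤ (P : Subgroup G) → Cfsg.IsElementaryAbelian p B → ¬ A < B := by
    by_contra hcon
    push Not at hcon
    exact hpb ⟨hpα, hp.out, hrG, fun P A h1 h2 h3 => hcon P A h1 h2 h3⟩
  have hp2 : p ≠ 2 := ne_two_of_dvd hG ((AlphaCore.sylow_dvd hpα).trans M.card_subgroup_dvd_card)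
  set A' : Subgroup (P : Subgroup G) := A.subgroupOf P with hA'
  have hA'e : Cfsg.IsElementaryAbelian p A' :=
    ⟨⟨⟨fun a b => Subtype.ext (Subtype.ext (congrArg Subtype.val
      (hA.1.is_comm.comm ⟨_, a.2⟩ ⟨_, b.2⟩) :))⟩⟩, fun a ha => Subtype.ext (hA.2 _ ha)⟩
  have hPn : Cfsg.IsNarrow p (P : Subgroup G) := by
    refine OddLocal.NarrowRank.isNarrow_of_centralizer hp2 P.2 hA'e ?_
    rw [Rank.prankLE_subgroup_iff]
    intro E hE he
    set E₁ := E.map (P : Subgroup G).subtype with hE₁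
    have hE₁e : Cfsg.IsElementaryAbelian p E₁ := PGroups.elemAb_map _ he
    have hcomm : A ≤ Subgroup.centralizer (E₁ : Set G) := fun a ha =>
      Subgroup.mem_centralizer_iff.2 (by
        rintro _ ⟨e, he', rfl⟩
        exact (congrArg Subtype.val
          (Subgroup.mem_centralizer_iff.1 (hE he') ⟨a, hAP ha⟩ ha)).symm)
    have hsup := SCN.elemAb_sup hA hE₁e hcomm
    have heq : A ⊔ E₁ = A := by
      by_contra hne
      exact hmax _ (sup_le hAP (Subgroup.map_subtype_le _)) hsup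
        (lt_of_le_of_ne le_sup_left (Ne.symm hne))
    rw [← Subgroup.card_map_of_injective (P : Subgroup G).subtype_injective (K := E), ← hA2]
    exact Subgroup.card_le_of_le (heq ▸ le_sup_right)
  -- transport to `S`
  set S₁ := (S : Subgroup M).map M.subtype with hS₁
  let Q : Sylow p G := (S.2.map M.subtype).toSylow
    (Sigma.not_dvd_index (AlphaCore.alpha_subset_sigma hG hM hpα) S)
  exact OddLocal.NarrowStructure.isNarrow_congr
    (((Sylow.equiv P Q).trans (MulEquiv.subgroupCongr (IsPGroup.toSylow_coe _ _))).trans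
      (Subgroup.equivMapOfInjective _ _ M.subtype_injective).symm) hPn

variable {p : ℕ} [hp : Fact p.Prime]

/-- BG 10.8 for a single prime outside `β(M)`. -/
theorem structure_prime (hG : Cfsg.IsMinSimpleOddOrder G)
    (hpl : ∀ H : Subgroup G, H ≠ ⊤ → Cfsg.PLengthLE p 1 H) {M : Subgroup G} (hM : IsCoatom M)
    (hpM : p ∣ Nat.card M) (hpb : p ∉ Cfsg.beta M) :
    Cfsg.HasNormalPComplement p ↥⁅M, M⁆ ∧
      ∀ q : ℕ, q.Prime → q ∣ (Cfsg.pPrimeCore p ↥M).index → q ≤ p := by
  haveI := solvable_of_ne_top hG hM.1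
  obtain ⟨S⟩ : Nonempty (Sylow p M) := inferInstance
  obtain ⟨h1, -, h3, -⟩ := Cfsg.Agent.S1455.result (odd_card hG M) p hpM S
    (isNarrow_sylow hG hM hpb S) (fun _ => hpl M hM.1)
  refine ⟨?_, h1⟩
  rw [← Subgroup.map_subtype_commutator]
  exact Transfer.PResidual.hasNormalPComplement_of_injective
    (Subgroup.equivMapOfInjective _ _ M.subtype_injective).symm.toMonoidHom
    (MulEquiv.injective _) h3

theorem sigmaCore_le_derived (hG : Cfsg.IsMinSimpleOddOrder G) {M : Subgroup G} (hM : IsCoatom M) :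
    Cfsg.sigmaCore M ≤ ⁅M, M⁆ := by
  rw [← Subgroup.map_subtype_commutator]
  refine Subgroup.map_mono (Coprime.le_of_forall_sylow fun q hq => ?_)
  haveI := Fact.mk hq
  obtain ⟨Q⟩ : Nonempty (Sylow q ↥(Cfsg.piCore (Cfsg.sigma M) M)) := inferInstance
  refine ⟨Q, ?_⟩
  by_cases hd : q ∣ Nat.card ↥(Cfsg.piCore (Cfsg.sigma M) M)
  · obtain ⟨S, hS⟩ := (Q.2.map (Cfsg.piCore (Cfsg.sigma M) M).subtype).exists_le_sylow
    exact hS.trans (AlphaCore.sylow_le_commutator hG hM (Cores.piCore_isPiGroup _ q hq hd) S)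
  · obtain ⟨n, hn⟩ := IsPGroup.iff_card.1 Q.2
    rcases n with _ | n
    · rw [Subgroup.card_eq_one.1 (hn.trans (pow_zero q)), Subgroup.map_bot]
      exact bot_le
    · exact absurd (((dvd_pow_self q n.succ_ne_zero).trans hn.symm.dvd).trans
        (Subgroup.card_subgroup_dvd_card _)) hd

/-- BG 10.8. -/
theorem spec (hG : Cfsg.IsMinSimpleOddOrder G)
    (hpl : ∀ (q : ℕ) [Fact q.Prime], ∀ H : Subgroup G, H ≠ ⊤ → Cfsg.PLengthLE q 1 H)
    {M : Subgroup G} (hM : IsCoatom M) :
    Cfsg.IsPiHallOf (Cfsg.beta M) (Cfsg.piCoreOf (Cfsg.beta M) M) M ∧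
      Cfsg.IsPiHall (Cfsg.beta M) (Cfsg.piCoreOf (Cfsg.beta M) M) ∧
      (∃ H : Subgroup G, Cfsg.IsPiHallOf {q | q.Prime ∧ q ∉ Cfsg.beta M} H ⁅M, M⁆ ∧
        Group.IsNilpotent H) ∧
      (∃ H : Subgroup G, Cfsg.IsPiHallOf {q | q.Prime ∧ q ∉ Cfsg.beta M} H (Cfsg.sigmaCore M) ∧
        Group.IsNilpotent H) ∧
      ∀ p : ℕ, p.Prime → p ∣ Nat.card M → p ∉ Cfsg.beta M →
        Cfsg.HasNormalPComplement p ↥⁅M, M⁆ ∧ Cfsg.HasNormalPComplement p ↥(Cfsg.sigmaCore M) ∧
        ∀ q : ℕ, q.Prime → q ∣ (Cfsg.pPrimeCore p ↥M).index → q ≤ p := by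
  haveI := solvable_of_ne_top hG hM.1
  have hMM : ⁅M, M⁆ ≤ M := Subgroup.map_subtype_commutator M ▸ Subgroup.map_subtype_le _
  have hσM : Cfsg.sigmaCore M ≤ ⁅M, M⁆ := sigmaCore_le_derived hG hM
  have hcomp : ∀ (X : Subgroup G), X ≤ ⁅M, M⁆ → ∀ q : ℕ, q.Prime → q ∣ Nat.card M →
      q ∉ Cfsg.beta M → Cfsg.HasNormalPComplement q X := by
    intro X hX q hq hd hb
    haveI := Fact.mk hq
    exact Transfer.PResidual.hasNormalPComplement_of_injective (Subgroup.inclusion hX)
      (Subgroup.inclusion_injective hX) (structure_prime hG (hpl q) hM hd hb).1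
  -- nilpotent Hall subgroups
  have hnil : ∀ X : Subgroup G, X ≤ ⁅M, M⁆ → ∃ H : Subgroup G,
      Cfsg.IsPiHallOf {q | q.Prime ∧ q ∉ Cfsg.beta M} H X ∧ Group.IsNilpotent H := by
    intro X hX
    haveI : Group.IsSolvable X := Coprime.isSolvable_of_le (hX.trans hMM)
    obtain ⟨H, hH, -⟩ := Hall.Coprime.exists_invariant (A := (⊥ : Subgroup G)) (K := X) bot_le
      (by rw [Subgroup.card_bot]; exact Nat.coprime_one_left _) inferInstance
      {q | q.Prime ∧ q ∉ Cfsg.beta M}
    refine ⟨H, hH, isNilpotent_of_complements fun q hq hd => ?_⟩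
    exact hcomp H (hH.1.trans hX) q hq
      (hd.trans (Subgroup.card_dvd_of_le (hH.1.trans (hX.trans hMM)))) (hH.2.1 q hq hd).2
  -- the Hall property
  set B : Subgroup M := Cfsg.piCore (Cfsg.beta M) M with hB
  have hBπ : ∀ q : ℕ, q.Prime → q ∣ Nat.card B → q ∈ Cfsg.beta M := Cores.piCore_isPiGroup _
  have hBidx : ∀ q : ℕ, q.Prime → q ∈ Cfsg.beta M → ¬ q ∣ B.index := by
    intro q hq hqb hd
    haveI := Fact.mk hq
    obtain ⟨S⟩ : Nonempty (Sylow q M) := inferInstance
    set C := commutator M with hC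
    set I : Subgroup C := ⨅ r ∈ {r : ℕ | r.Prime ∧ r ∣ Nat.card M ∧ r ∉ Cfsg.beta M},
      Cfsg.pResidual r C with hI
    haveI : I.Characteristic := by
      rw [Subgroup.characteristic_iff_le_comap]
      intro φ x hx
      simp only [hI, Subgroup.mem_iInf, Subgroup.mem_comap] at hx ⊢
      intro r hr
      exact Subgroup.characteristic_iff_le_comap.1
        (inferInstance : (Cfsg.pResidual r C).Characteristic) φ (hx r hr)
    haveI : (I.map C.subtype).Normal := Cores.normal_map_subtype C I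
    have hIB : I.map C.subtype ≤ B := by
      refine Cores.le_piCore fun r hr hd' => ?_
      by_contra hrb
      haveI := Fact.mk hr
      rw [Subgroup.card_map_of_injective C.subtype_injective] at hd'
      have hrM := hd'.trans ((I.card_subgroup_dvd_card).trans C.card_subgroup_dvd_card)
      have hcC : Cfsg.HasNormalPComplement r C :=
        Transfer.PResidual.hasNormalPComplement_of_injective
          ((Subgroup.equivMapOfInjective C M.subtype M.subtype_injective).trans
            (MulEquiv.subgroupCongr (Subgroup.map_subtype_commutator M))).toMonoidHom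
          (MulEquiv.injective _) (hcomp ⁅M, M⁆ le_rfl r hr hrM hrb)
      exact Transfer.PResidual.hasNormalPComplement_iff_not_dvd.1 hcC
        (hd'.trans (Subgroup.card_dvd_of_le (iInf₂_le r ⟨hr, hrM, hrb⟩)))
    have hSB : (S : Subgroup M) ≤ B := by
      intro x hx
      have hxC : x ∈ C := AlphaCore.sylow_le_commutator hG hM
        (AlphaCore.alpha_subset_sigma hG hM hqb.1) S hx
      refine hIB ⟨⟨x, hxC⟩, ?_, rfl⟩
      simp only [hI, SetLike.mem_coe, Subgroup.mem_iInf]
      intro r hr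
      obtain ⟨k, hk⟩ := S.2 ⟨x, hx⟩
      haveI := Fact.mk hr.1
      refine Transfer.PResidual.mem_pResidual ?_
      rw [Subgroup.orderOf_mk]
      exact (((Nat.coprime_primes hq hr.1).2 fun e => hr.2.2 (e ▸ hqb)).pow_left k).coprime_dvd_left
        (orderOf_dvd_of_pow_eq_one (by simpa using congrArg Subtype.val hk))
    exact S.not_dvd_index (hd.trans (Subgroup.index_dvd_of_le hSB))
  have hle : Cfsg.piCoreOf (Cfsg.beta M) M ≤ M := Subgroup.map_subtype_le _
  have hpi : ∀ q : ℕ, q.Prime → q ∣ Nat.card (Cfsg.piCoreOf (Cfsg.beta M) M) → q ∈ Cfsg.beta M :=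
    fun q hq h => hBπ q hq (h.trans (Subgroup.card_map_dvd _ _))
  have hrel : ∀ q : ℕ, q.Prime → q ∈ Cfsg.beta M →
      ¬ q ∣ (Cfsg.piCoreOf (Cfsg.beta M) M).relIndex M := by
    intro q hq hqb
    rw [Cfsg.piCoreOf, Basic.relIndex_map_subtype]
    exact hBidx q hq hqb
  refine ⟨⟨hle, hpi, hrel⟩, ⟨hpi, fun q hq hqb hd => ?_⟩, hnil _ le_rfl, hnil _ hσM,
    fun q hq hd hb => ?_⟩
  · haveI := Fact.mk hq
    rw [← Subgroup.relIndex_mul_index hle] at hd
    rcases hq.dvd_mul.1 hd with h | h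
    · exact hrel q hq hqb h
    · obtain ⟨S⟩ : Nonempty (Sylow q M) := inferInstance
      exact Sigma.not_dvd_index (AlphaCore.alpha_subset_sigma hG hM hqb.1) S
        (h.trans (Subgroup.index_dvd_of_le (Subgroup.map_subtype_le _)))
  · haveI := Fact.mk hq
    exact ⟨hcomp _ le_rfl q hq hd hb, hcomp _ hσM q hq hd hb,
      (structure_prime hG (hpl q) hM hd hb).2⟩

end Cfsg.Agent.Lib.OddOrder.BetaCore
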