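import Cfsg.Agent.Lib.OddOrder.AlphaCore
import Cfsg.Agent.Lib.Hall.Coprime
import Cfsg.Agent.Lib.OddLocal.CoprimeFix

/-!
# BG 10.3: centralizers meeting `M_α` in rank two
-/

set_option autoImplicit false
set_option linter.style.haveILetI false
set_option linter.unusedSectionVars false

namespace Cfsg.Agent.Lib.OddOrder.AlphaCentralizer

open Cfsg.Agent.Lib.OddOrder.MinSimple

universe u

variable {G : Type u} [Group G] [Finite G]

/-- A subgroup with the rank of a Sylow subgroup of `M`. -/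
theorem not_prankLE_sylow {p : ℕ} [hp : Fact p.Prime] {M : Subgroup G} (S : Sylow p M) {k : ℕ}
    (h : ¬ Cfsg.PRankLE p k M) : ¬ Cfsg.PRankLE p k ↥((S : Subgroup M).map M.subtype) := by
  intro h1
  refine h ?_
  have h2 := InvariantPrime.prankLE_of_sylow S ((SCN.prankLE_map_iff _).1 h1) (⊤ : Subgroup M)
  rw [← SCN.prankLE_map_iff, ← MonoidHom.range_eq_map, Subgroup.range_subtype] at h2
  exact h2

/-- BG 10.3. -/
theorem inUniqueMaximal (hG : Cfsg.IsMinSimpleOddOrder G) {M : Subgroup G} (hM : IsCoatom M)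
    {X : Subgroup G} (hXM : X ≤ M)
    (hXα : ∀ p : ℕ, p.Prime → p ∣ Nat.card X → p ∉ Cfsg.alpha M)
    (hr : ¬ Cfsg.RankLE 1 ↥(Cfsg.alphaCore M ⊓ Subgroup.centralizer (X : Set G))) :
    Cfsg.InUniqueMaximal (M ⊓ Subgroup.centralizer (X : Set G)) := by
  haveI := solvable_of_ne_top hG hM.1
  obtain ⟨p, hp, E, hE, he, hEc⟩ := Rank.exists_of_not_rankLE hr
  haveI := Fact.mk hp
  rw [pow_one] at hEc
  have hEM : E ≤ M := (hE.trans inf_le_left).trans (Subgroup.map_subtype_le _)
  have hEX : E ≤ Subgroup.centralizer (X : Set G) := hE.trans inf_le_right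
  have hCt : M ⊓ Subgroup.centralizer (X : Set G) ≠ ⊤ :=
    fun e => hM.1 (top_le_iff.1 (e ▸ inf_le_left))
  have hE2 : p ^ 2 ≤ Nat.card E := by
    obtain ⟨k, hk⟩ := PGroups.elemAb_card_eq_pow he
    rw [hk] at hEc ⊢
    refine Nat.pow_le_pow_right hp.pos ?_
    by_contra h
    exact absurd hEc (not_lt.2 ((Nat.pow_le_pow_right hp.pos (by omega : k ≤ 1)).trans (pow_one p).le))
  have hEr : ¬ Cfsg.RankLE 1 E := UniqueRank.not_rankLE_one le_rfl he hE2
  by_cases hC : Cfsg.RankLE 2 (Subgroup.centralizer (E : Set G))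
  swap
  · exact UniqueRank.mono hG (UniquenessTheorem.of_centralizer_rank hG hEr hC)
      (le_inf hEM hEX) hCt
  obtain ⟨⟨hle, hpi, hrel⟩, -, -, -, -⟩ := AlphaCore.alphaCore_spec hG hM
  set Mα := Cfsg.alphaCore M with hMα
  have hpα : p ∈ Cfsg.alpha M := hpi p hp ((Rank.elemAb_prime_dvd he
    (hp.one_lt.trans hEc)).trans (Subgroup.card_dvd_of_le (hE.trans inf_le_left)))
  have hXn : X ≤ Subgroup.normalizer (Mα : Set G) :=
    hXM.trans (Basic.le_normalizer_map_subtype M _)
  have hcop : (Nat.card X).Coprime (Nat.card Mα) :=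
    Nat.coprime_of_dvd fun r hr h1 h2 => hXα r hr h1 (hpi r hr h2)
  have hs : Group.IsSolvable Mα := Coprime.isSolvable_of_le hle
  have hEp : IsPGroup p E := fun x => ⟨1, Subtype.ext (by simpa using he.2 x x.2)⟩
  have hXE : X ≤ Subgroup.normalizer (E : Set G) :=
    (Subgroup.le_centralizer_iff.1 hEX).trans (Subgroup.centralizer_le_normalizer _)
  obtain ⟨S, hS, hXS, hES⟩ := Hall.Coprime.exists_invariant_ge hXn hcop hs ({p} : Set ℕ)
    (hE.trans inf_le_left) hXE (Transitivity.inv_of_isPGroup hEp)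
  have hSp : IsPGroup p S := Transitivity.isPGroup_of_inv hS.2.1
  have hSM : S ≤ M := hS.1.trans hle
  have hSidx : ¬ p ∣ (S.subgroupOf M).index := by
    show ¬ p ∣ S.relIndex M
    rw [← Subgroup.relIndex_mul_relIndex S Mα M hS.1 hle]
    exact fun h => (hp.dvd_mul.1 h).elim (hS.2.2 p hp rfl) (hrel p hp hpα)
  have hS3 : ¬ Cfsg.PRankLE p 2 S := by
    have h1 := not_prankLE_sylow ((hSp.of_equiv (Subgroup.subgroupOfEquivOfLe hSM).symm).toSylow hSidx)
      hpα.2
    rwa [IsPGroup.toSylow_coe, Subgroup.map_subgroupOf_eq_of_le hSM] at h1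
  have hp2 : p ≠ 2 := UniqueFittingRank.ne_two_of_rank hG hS3
  have hXc : X ≤ Subgroup.centralizer (S : Set G) := by
    intro x hx
    rw [Subgroup.mem_centralizer_iff]
    have hxE : ∀ b ∈ E, Commute x b := fun b hb =>
      Subgroup.mem_centralizer_iff.1 (hEX hb) x hx
    have hxcop : (orderOf x).Coprime p :=
      (hp.coprime_iff_not_dvd.2 fun h => hXα p hp
        (h.trans (X.orderOf_dvd_natCard hx)) hpα).symm
    intro u hu
    refine ((CharP.commute_of_axb hEp hxcop hxE hSp (hES.trans Subgroup.le_normalizer) (hXS hx)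
      ?_) u hu).eq.symm
    -- `x` centralizes `C_S(E)`
    intro v hv hvE
    set C := S ⊓ Subgroup.centralizer (E : Set G) with hC'
    have hxC : x ∈ Subgroup.normalizer (C : Set G) :=
      Coprime.le_normalizer_inf hXS
        (hXE.trans (Fitting.normalizer_le_normalizer_centralizer E)) hx
    refine OddLocal.CoprimeFix.centralizes_of_omega hp2 hxcop (hSp.to_le inf_le_left) hxC ?_ v
      ⟨hv, Subgroup.mem_centralizer_iff.2 fun b hb => (hvE b hb).eq.symm⟩
    intro e heC ho
    by_cases heE : e ∈ E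
    · exact (hxE e heE).eq
    exfalso
    have hep : e ^ p = 1 := by rw [← ho]; exact pow_orderOf_eq_one e
    have hZ : Cfsg.IsElementaryAbelian p (Subgroup.zpowers e) :=
      ⟨inferInstance, by
        rintro _ ⟨i, rfl⟩
        rw [← zpow_natCast, ← zpow_mul, mul_comm, zpow_mul, zpow_natCast, hep, one_zpow]⟩
    have hZE : Subgroup.zpowers e ≤ Subgroup.centralizer (E : Set G) :=
      Subgroup.zpowers_le.2 heC.2
    have hsup := SCN.elemAb_sup he hZ (Subgroup.le_centralizer_iff.1 hZE)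
    have hle2 : E ⊔ Subgroup.zpowers e ≤ Subgroup.centralizer (E : Set G) :=
      sup_le (Subgroup.le_centralizer_iff_isMulCommutative.2 he.1) hZE
    have h2 := Rank.prankLE_subgroup_iff.1 (hC p hp) _ hle2 hsup
    have hlt : Nat.card E < Nat.card ↥(E ⊔ Subgroup.zpowers e) := by
      refine lt_of_le_of_ne (Subgroup.card_le_of_le le_sup_left) fun eq => heE ?_
      have hEq : E = E ⊔ Subgroup.zpowers e := Subgroup.eq_of_le_of_card_ge le_sup_left eq.ge
      rw [hEq]
      exact Subgroup.mem_sup_right (Subgroup.mem_zpowers e)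
    omega
  exact UniqueRank.mono hG (UniquenessTheorem.of_rank hG (pgroup_ne_top hG hSp)
    (fun h => hS3 (h p hp))) (le_inf hSM (Subgroup.le_centralizer_iff.1 hXc)) hCt

end Cfsg.Agent.Lib.OddOrder.AlphaCentralizer
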