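import Cfsg.Agent.Lib.OddOrder.Sigma
import Cfsg.Agent.Lib.OddLocal.DerivedFitting
import Cfsg.Agent.Lib.Cores.Pi

/-!
# BG 10.2: the subgroup `M_α`
-/

set_option autoImplicit false
set_option linter.style.haveILetI false
set_option linter.unusedSectionVars false

namespace Cfsg.Agent.Lib.OddOrder.AlphaCore

open Cfsg.Agent.Lib.OddOrder.MinSimple

universe u

section Abstract

variable {H : Type u} [Group H] [Finite H] {π : Set ℕ}

theorem pCore_quotient_eq_bot {q : ℕ} [hq : Fact q.Prime] (hqπ : q ∈ π) :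
    Cfsg.pCore q (H ⧸ Cfsg.piCore π H) = ⊥ := by
  set K := Cfsg.piCore π H with hK
  set N := (Cfsg.pCore q (H ⧸ K)).comap (QuotientGroup.mk' K) with hN
  haveI : N.Normal := Subgroup.Normal.comap inferInstance _
  have hKN : K ≤ N := fun x hx => by
    show QuotientGroup.mk' K x ∈ Cfsg.pCore q (H ⧸ K)
    rw [show QuotientGroup.mk' K x = 1 from (QuotientGroup.eq_one_iff x).2 hx]
    exact one_mem _
  have hNK : N ≤ K := by
    refine Cores.le_piCore fun r hr hd => ?_
    rw [← Subgroup.card_mul_index (K.subgroupOf N)] at hd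
    rcases hr.dvd_mul.1 hd with h | h
    · exact Cores.piCore_isPiGroup π r hr
        (NormedConstrained.card_subgroupOf_eq hKN ▸ h)
    · obtain ⟨n, hn⟩ := IsPGroup.iff_card.1 (Cores.pCore_isPGroup (G := H ⧸ K) q)
      have h1 : Nat.card (N.map (QuotientGroup.mk' K)) = K.relIndex N := by
        rw [← Subgroup.relIndex_ker, QuotientGroup.ker_mk']
      rw [hN, Subgroup.map_comap_eq_self_of_surjective (QuotientGroup.mk'_surjective K)] at h1
      have h2 : r ∣ q ^ n := by rw [← hn, h1]; exact h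
      rwa [(Nat.prime_dvd_prime_iff_eq hr hq.out).1 (hr.dvd_of_dvd_pow h2)]
  rw [← Subgroup.map_comap_eq_self_of_surjective (QuotientGroup.mk'_surjective K)
    (Cfsg.pCore q (H ⧸ K)), Subgroup.map_eq_bot_iff, QuotientGroup.ker_mk']
  exact hNK

theorem prankLE_quotient_of_not_mem {q : ℕ} [hq : Fact q.Prime] (hqπ : q ∉ π)
    (hr : Cfsg.PRankLE q 2 H) : Cfsg.PRankLE q 2 (H ⧸ Cfsg.piCore π H) := by
  intro A hAc hAe
  have hcop : (Nat.card (Cfsg.piCore π H)).Coprime q :=
    (hq.out.coprime_iff_not_dvd.2 fun h => hqπ (Cores.piCore_isPiGroup π q hq.out h)).symm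
  have h := RankTwoGroup.prankLE_quotient _ hcop hr (V := A)
    (fun x => ⟨1, Subtype.ext (by simpa using hAe x x.2)⟩)
  exact Rank.prankLE_subgroup_iff.1 h A le_rfl ⟨hAc, hAe⟩

/-- With small rank outside `π` and Sylow `π`-subgroups in the derived group, `O_π` is a Hall
subgroup and the rest has nilpotent derived group. -/
theorem hall_of_rank [Group.IsSolvable H] (hodd : Odd (Nat.card H))
    (hr : ∀ q : ℕ, q.Prime → q ∉ π → Cfsg.PRankLE q 2 H)
    (hd : ∀ q : ℕ, q.Prime → q ∈ π → ∀ S : Sylow q H, (S : Subgroup H) ≤ commutator H) :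
    (∀ q : ℕ, q.Prime → q ∈ π → ¬ q ∣ (Cfsg.piCore π H).index) ∧
      Cfsg.RankLE 2 (H ⧸ Cfsg.piCore π H) ∧
      Group.IsNilpotent ↥((commutator H).map (QuotientGroup.mk' (Cfsg.piCore π H))) := by
  set K := Cfsg.piCore π H with hK
  set f := QuotientGroup.mk' K with hf
  have hn : ∀ q : ℕ, q.Prime → q ≠ 2 → Cfsg.IsNarrow q ↥(Cfsg.pCore q (H ⧸ K)) := by
    intro q hq _
    haveI := Fact.mk hq
    refine Or.inl ?_
    by_cases hqπ : q ∈ π
    · intro A _ _
      have h1 : Nat.card A ≤ 1 := by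
        refine (Nat.le_of_dvd Nat.card_pos A.card_subgroup_dvd_card).trans ?_
        have hbot : Cfsg.pCore q (H ⧸ K) = ⊥ := pCore_quotient_eq_bot hqπ
        rw [hbot, Subgroup.card_bot]
      exact h1.trans (Nat.one_le_pow _ _ hq.pos)
    · exact Rank.prankLE_subgroup_iff.2 fun E _ he =>
        prankLE_quotient_of_not_mem hqπ (hr q hq hqπ) E he.1 he.2
  have hodd' : Odd (Nat.card (H ⧸ K)) := hodd.of_dvd_nat K.card_quotient_dvd_card
  have hF := OddLocal.DerivedFitting.commutator_le_fitting hodd' hn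
  have hmapc : (commutator H).map f = commutator (H ⧸ K) := by
    rw [commutator_def, Subgroup.map_commutator,
      Subgroup.map_top_of_surjective f (QuotientGroup.mk'_surjective K)]
    rfl
  have hall : ∀ q : ℕ, q.Prime → q ∈ π → ¬ q ∣ K.index := by
    intro q hq hqπ hdvd
    haveI := Fact.mk hq
    obtain ⟨S⟩ : Nonempty (Sylow q H) := inferInstance
    have hSK : (S : Subgroup H) ≤ K := by
      intro x hx
      obtain ⟨j, hj⟩ := S.2 ⟨x, hx⟩
      obtain ⟨i, -, hi⟩ := (Nat.dvd_prime_pow hq).1 ((orderOf_map_dvd f x).trans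
        (orderOf_dvd_of_pow_eq_one (by simpa using congrArg Subtype.val hj : x ^ q ^ j = 1)))
      have h1 := OddLocal.DerivedFitting.mem_pCore_of_mem_fitting (q := q)
        (hF (hmapc ▸ ⟨x, hd q hq hqπ S hx, rfl⟩ : f x ∈ commutator (H ⧸ K))) ⟨i, hi⟩
      have hbot : Cfsg.pCore q (H ⧸ K) = ⊥ := pCore_quotient_eq_bot hqπ
      rw [hbot, Subgroup.mem_bot] at h1
      exact (QuotientGroup.eq_one_iff x).1 h1
    exact S.not_dvd_index (hdvd.trans (Subgroup.index_dvd_of_le hSK))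
  refine ⟨hall, fun q hq => ?_, ?_⟩
  · haveI := Fact.mk hq
    by_cases hqπ : q ∈ π
    · intro A _ hAe
      have hAp : IsPGroup q A := fun x => ⟨1, Subtype.ext (by simpa using hAe x x.2)⟩
      obtain ⟨n, hn'⟩ := IsPGroup.iff_card.1 hAp
      rcases n with _ | n
      · rw [hn', pow_zero]; exact Nat.one_le_pow _ _ hq.pos
      · exfalso
        refine hall q hq hqπ ?_
        rw [Subgroup.index_eq_card]
        exact ((dvd_pow_self q n.succ_ne_zero).trans hn'.symm.dvd).trans A.card_subgroup_dvd_card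
    · exact prankLE_quotient_of_not_mem hqπ (hr q hq hqπ)
  · rw [hmapc]
    haveI : Group.IsNilpotent (Cfsg.fittingSubgroup (H ⧸ K)) := Cores.fittingSubgroup_isNilpotent
    exact Group.nilpotent_of_mulEquiv (Subgroup.subgroupOfEquivOfLe hF)

end Abstract

variable {G : Type u} [Group G] [Finite G]

theorem sylow_dvd {M : Subgroup G} {p : ℕ} (hp : p ∈ Cfsg.alpha M) : p ∣ Nat.card M := by
  haveI := Fact.mk hp.1
  obtain ⟨E, hE, he, hEc⟩ := Rank.exists_elemAb_of_not_prankLE hp.2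
  exact (Rank.elemAb_prime_dvd he (lt_of_le_of_lt (Nat.one_le_pow _ _ hp.1.pos) hEc)).trans
    (Subgroup.card_dvd_of_le hE)

theorem alpha_subset_sigma (hG : Cfsg.IsMinSimpleOddOrder G) {M : Subgroup G} (hM : IsCoatom M)
    {p : ℕ} (hp : p ∈ Cfsg.alpha M) : p ∈ Cfsg.sigma M := by
  haveI := Fact.mk hp.1
  obtain ⟨E, hEM, hE, hEc⟩ := Rank.exists_elemAb_of_not_prankLE hp.2
  have hEp : IsPGroup p E := fun x => ⟨1, Subtype.ext (by simpa using hE.2 x x.2)⟩
  obtain ⟨S, hS⟩ := (hEp.comap_subtype (K := M)).exists_le_sylow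
  refine ⟨hp.1, sylow_dvd hp, S, ?_⟩
  set S₁ := (S : Subgroup M).map M.subtype with hS₁
  have hES : E ≤ S₁ := fun x hx => ⟨⟨x, hEM hx⟩, hS (show _ ∈ E.comap M.subtype from hx), rfl⟩
  have hS₁t : S₁ ≠ ⊤ := pgroup_ne_top hG (S.2.map _)
  have hU := UniquenessTheorem.of_rank hG hS₁t
    (fun h => Rank.not_prankLE_of_elemAb hES hE hEc (h p hp.1))
  have hS₁b : S₁ ≠ ⊥ := UniqueRank.ne_bot hG hU
  obtain ⟨L, hL, hNL⟩ := exists_coatom_ge hG (normalizer_ne_top hG hS₁b hS₁t)
  rwa [UniqueRank.eq_of_le hU hM (Subgroup.map_subtype_le _) hL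
    (Subgroup.le_normalizer.trans hNL)]

/-- Sylow subgroups of `M` for `σ(M)`-primes lie in `M'`, inside `M`. -/
theorem sylow_le_commutator (hG : Cfsg.IsMinSimpleOddOrder G) {M : Subgroup G} (hM : IsCoatom M)
    {p : ℕ} [Fact p.Prime] (hp : p ∈ Cfsg.sigma M) (S : Sylow p M) :
    (S : Subgroup M) ≤ commutator M := by
  have h := Sigma.le_derived hG hM hp (S.2.map M.subtype) (Subgroup.map_subtype_le _)
  rw [← Subgroup.map_subtype_commutator] at h
  exact (Subgroup.map_le_map_iff_of_injective M.subtype_injective).1 h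

/-- BG 10.2 for `M_α`. -/
theorem alphaCore_spec (hG : Cfsg.IsMinSimpleOddOrder G) {M : Subgroup G} (hM : IsCoatom M) :
    Cfsg.IsPiHallOf (Cfsg.alpha M) (Cfsg.alphaCore M) M ∧
      Cfsg.IsPiHall (Cfsg.alpha M) (Cfsg.alphaCore M) ∧
      Cfsg.alphaCore M ≤ Cfsg.sigmaCore M ∧
      Cfsg.RankLE 2 (↥M ⧸ Cfsg.piCore (Cfsg.alpha M) ↥M) ∧
      Group.IsNilpotent
        ↥((commutator ↥M).map (QuotientGroup.mk' (Cfsg.piCore (Cfsg.alpha M) ↥M))) := by
  haveI := solvable_of_ne_top hG hM.1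
  obtain ⟨hall, hrank, hnil⟩ := hall_of_rank (π := Cfsg.alpha M) (odd_card hG M)
    (fun q hq hqn => by
      by_contra h
      exact hqn ⟨hq, h⟩)
    (fun q hq hqa S => by
      haveI := Fact.mk hq
      exact sylow_le_commutator hG hM (alpha_subset_sigma hG hM hqa) S)
  have hle : Cfsg.alphaCore M ≤ M := Subgroup.map_subtype_le _
  have hpi : ∀ p : ℕ, p.Prime → p ∣ Nat.card (Cfsg.alphaCore M) → p ∈ Cfsg.alpha M := fun p hp h =>
    Cores.piCore_isPiGroup _ p hp (h.trans (Subgroup.card_map_dvd _ _))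
  have hrel : ∀ p : ℕ, p.Prime → p ∈ Cfsg.alpha M → ¬ p ∣ (Cfsg.alphaCore M).relIndex M := by
    intro p hp hpa
    rw [Cfsg.alphaCore, Basic.relIndex_map_subtype]
    exact hall p hp hpa
  refine ⟨⟨hle, hpi, hrel⟩, ⟨hpi, fun p hp hpa hd => ?_⟩,
    Subgroup.map_mono (Cores.piCore_mono fun p h => alpha_subset_sigma hG hM h), hrank, hnil⟩
  haveI := Fact.mk hp
  rw [← Subgroup.relIndex_mul_index hle] at hd
  rcases hp.dvd_mul.1 hd with h | h
  · exact hrel p hp hpa h
  · obtain ⟨S⟩ : Nonempty (Sylow p M) := inferInstance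
    exact Sigma.not_dvd_index (alpha_subset_sigma hG hM hpa) S
      (h.trans (Subgroup.index_dvd_of_le (Subgroup.map_subtype_le _)))

end Cfsg.Agent.Lib.OddOrder.AlphaCore
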