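import Cfsg.Agent.Lib.OddOrder.Transitivity
import Cfsg.Agent.Lib.OddOrder.Rank
import Cfsg.Agent.Lib.Coprime.Generation

/-!
# Consequences of the transitivity theorem (BG 7.3, 7.4)
-/

set_option autoImplicit false
set_option linter.style.haveILetI false

open scoped Pointwise commutatorElement

namespace Cfsg.Agent.Lib.OddOrder.Transitive

open Cfsg.Agent.Lib.OddOrder.Basic Cfsg.Agent.Lib.OddOrder.MinSimple
  Cfsg.Agent.Lib.OddOrder.Transitivity Cfsg.Agent.Lib.OddOrder.Rank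

universe u

variable {G : Type u} [Group G] [Finite G] {A : Subgroup G} {q : ℕ}

/-- A noncyclic abelian group of order prime to `X ≠ 1` fixes a nontrivial element. -/
theorem exists_fixed {E X : Subgroup G} [IsMulCommutative E] (hE : ¬ IsCyclic E)
    (hEX : E ≤ Subgroup.normalizer (X : Set G))
    (hcop : (Nat.card E).Coprime (Nat.card X)) (hX : X ≠ ⊥) :
    ∃ a ∈ E, a ≠ 1 ∧ X ⊓ Subgroup.centralizer ({a} : Set G) ≠ ⊥ := by
  by_contra hcon
  push Not at hcon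
  exact hX (le_bot_iff.1 ((Coprime.iSup_centralizer_eq hE hEX hcop).symm.le.trans
    (iSup₂_le fun a ha => (hcon a ha.1 ha.2).le)))

/-- An abelian group of order prime to `X ≠ 1` has a cocyclic subgroup with a fixed point. -/
theorem exists_cocyclic_fixed {E X : Subgroup G} [IsMulCommutative E]
    (hEX : E ≤ Subgroup.normalizer (X : Set G))
    (hcop : (Nat.card E).Coprime (Nat.card X)) (hX : X ≠ ⊥) :
    ∃ B ≤ E, (∃ a ∈ E, B ⊔ Subgroup.zpowers a = E) ∧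
      X ⊓ Subgroup.centralizer (B : Set G) ≠ ⊥ := by
  by_contra hcon
  push Not at hcon
  exact hX (le_bot_iff.1 ((Coprime.iSup_centralizer_cyclic_quotient_eq hEX hcop).symm.le.trans
    (iSup₂_le fun B hB => by
      obtain ⟨h1, a, ha, h2⟩ := hB
      exact (hcon B h1 ⟨a, ha, h2⟩).le)))

theorem coprime_max [Fact q.Prime] {H B Q E : Subgroup G} (hE : E ≤ A)
    (hqA : ¬ q ∣ Nat.card A) (hQ : Q ∈ Cfsg.invSubgroups H B {q}) :
    (Nat.card E).Coprime (Nat.card Q) :=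
  (coprime_of_pi' (inv_pi' hqA hQ)).coprime_dvd_left (Subgroup.card_dvd_of_le hE)

theorem le_centralizer_of_mem_center {b : G} (hb : b ∈ A ⊓ Subgroup.centralizer (A : Set G)) :
    A ≤ Subgroup.centralizer ({b} : Set G) := fun a ha =>
  Subgroup.mem_centralizer_iff.2 fun x hx => by
    rw [Set.mem_singleton_iff] at hx
    subst hx
    exact (Subgroup.mem_centralizer_iff.1 hb.2 a ha).symm

/-- If two maximal members are trivial or not, they share it. -/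
theorem max_eq_of_bot [Fact q.Prime] {Q₁ Q₂ : Subgroup G}
    (h₁ : Q₁ ∈ Cfsg.maxInvSubgroups ⊤ A {q}) (h₂ : Q₂ ∈ Cfsg.maxInvSubgroups ⊤ A {q})
    (h : Q₁ = ⊥) : Q₂ = Q₁ :=
  h₁.2 _ h₂.1 (h ▸ bot_le)

/-- BG 7.3, rank of `Z(A)` at least 3. -/
theorem trans_of_rank_three (hG : Cfsg.IsMinSimpleOddOrder G)
    (hA : Cfsg.TransitivityHypothesis A)
    (hZ : ¬ Cfsg.RankLE 2 ↥(A ⊓ Subgroup.centralizer (A : Set G))) [Fact q.Prime]
    (hqA : ¬ q ∣ Nat.card A) {Q₁ Q₂ : Subgroup G}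
    (h₁ : Q₁ ∈ Cfsg.maxInvSubgroups ⊤ A {q}) (h₂ : Q₂ ∈ Cfsg.maxInvSubgroups ⊤ A {q}) :
    ∃ k ∈ coreC A, Q₂ = MulAut.conj k • Q₁ := by
  rcases eq_or_ne Q₁ ⊥ with e | e₁
  · exact ⟨1, one_mem _, by rw [map_one, one_smul]; exact max_eq_of_bot h₁ h₂ e⟩
  rcases eq_or_ne Q₂ ⊥ with e | e₂
  · exact absurd (max_eq_of_bot h₂ h₁ e |>.trans e) e₁
  obtain ⟨p, hp, E, hEZ, he, hc⟩ := exists_of_not_rankLE hZ
  haveI : Fact p.Prime := ⟨hp⟩
  haveI := he.1
  have hEA : E ≤ A := hEZ.trans inf_le_left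
  obtain ⟨B, hBE, ⟨a, ha, hsup⟩, hB⟩ := exists_cocyclic_fixed (hEA.trans h₁.1.2.2)
    (coprime_max hEA hqA h₁.1) e₁
  have hBc : p < Nat.card B := by
    have := card_le_of_sup_zpowers he hBE ha hsup
    by_contra hle
    push Not at hle
    have := hc.trans_le (this.trans (Nat.mul_le_mul_right p hle))
    rw [pow_two] at this
    exact lt_irrefl _ this
  have heB := PGroups.elemAb_mono he hBE
  haveI := heB.1
  obtain ⟨b, hb, hb1, hfix⟩ := exists_fixed (elemAb_not_isCyclic heB hBc)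
    ((hBE.trans hEA).trans h₂.1.2.2) (coprime_max (hBE.trans hEA) hqA h₂.1) e₂
  refine conj_of_meet hG hA hqA h₁ h₂ (centralizer_singleton_ne_top hG hb1)
    (le_centralizer_of_mem_center (hEZ (hBE hb))) ?_ (by rw [inf_comm]; exact hfix)
  exact ne_bot_of_le_ne_bot hB (le_inf (inf_le_right.trans
    (Subgroup.centralizer_le (Set.singleton_subset_iff.2 hb))) inf_le_left)

/-- BG 7.3, rank of `Z(A)` at least 2 and `q` dividing `|C(A)|`. -/
theorem trans_of_rank_two (hG : Cfsg.IsMinSimpleOddOrder G)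
    (hA : Cfsg.TransitivityHypothesis A)
    (hZ : ¬ Cfsg.RankLE 1 ↥(A ⊓ Subgroup.centralizer (A : Set G))) [hq : Fact q.Prime]
    (hqA : ¬ q ∣ Nat.card A) (hqC : q ∣ Nat.card (Subgroup.centralizer (A : Set G)))
    {Q₁ Q₂ : Subgroup G}
    (h₁ : Q₁ ∈ Cfsg.maxInvSubgroups ⊤ A {q}) (h₂ : Q₂ ∈ Cfsg.maxInvSubgroups ⊤ A {q}) :
    ∃ k ∈ coreC A, Q₂ = MulAut.conj k • Q₁ := by
  obtain ⟨y, hy⟩ := exists_prime_orderOf_dvd_card' q hqC
  set Y := Subgroup.zpowers (y : G) with hY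
  have hyo : orderOf (y : G) = q := (Subgroup.orderOf_coe y).trans hy
  have hYC : Y ≤ Subgroup.centralizer (A : Set G) := Subgroup.zpowers_le.2 y.2
  have hYq : IsPGroup q Y := IsPGroup.of_card (n := 1) (by rw [Nat.card_zpowers, hyo, pow_one])
  have hYne : Y ≠ ⊥ := by
    rw [hY, Ne, Subgroup.zpowers_eq_bot]
    intro h
    rw [h, orderOf_one] at hyo
    exact hq.out.ne_one hyo.symm
  obtain ⟨Q₀, hQ₀, hYQ⟩ := exists_max_ge (Q := Y) (H := ⊤) (B := A) (π := {q})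
    (mem_inv.2 ⟨le_top, hYq, fun a ha => centralizer_le_normalizer Y
      (Subgroup.mem_centralizer_iff.2 fun z hz =>
        (Subgroup.mem_centralizer_iff.1 (hYC hz) a ha).symm)⟩)
  obtain ⟨p, hp, E, hEZ, he, hc⟩ := exists_of_not_rankLE hZ
  haveI : Fact p.Prime := ⟨hp⟩
  haveI := he.1
  have hEA : E ≤ A := hEZ.trans inf_le_left
  have key : ∀ Q ∈ Cfsg.maxInvSubgroups ⊤ A {q}, ∃ k ∈ coreC A, Q = MulAut.conj k • Q₀ := by
    intro Q hQ
    rcases eq_or_ne Q ⊥ with e | e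
    · exact absurd (le_bot_iff.1 ((max_eq_of_bot hQ hQ₀ e).trans e ▸ hYQ)) hYne
    obtain ⟨b, hb, hb1, hfix⟩ := exists_fixed
      (elemAb_not_isCyclic he (by rwa [pow_one] at hc)) (hEA.trans hQ.1.2.2)
      (coprime_max hEA hqA hQ.1) e
    refine conj_of_meet hG hA hqA hQ₀ hQ (centralizer_singleton_ne_top hG hb1)
      (le_centralizer_of_mem_center (hEZ hb)) ?_ (by rw [inf_comm]; exact hfix)
    exact ne_bot_of_le_ne_bot hYne (le_inf (hYC.trans
      (Subgroup.centralizer_le (Set.singleton_subset_iff.2 (hEA hb)))) hYQ)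
  obtain ⟨k₁, hk₁, e₁⟩ := key Q₁ h₁
  obtain ⟨k₂, hk₂, e₂⟩ := key Q₂ h₂
  refine ⟨k₂ * k₁⁻¹, mul_mem hk₂ (inv_mem hk₁), ?_⟩
  rw [e₁, e₂, ← Coprime.conj_smul_mul, inv_mul_cancel_right]

end Cfsg.Agent.Lib.OddOrder.Transitive
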