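import Cfsg.Agent.Lib.OddOrder.RankTwoKey
import Cfsg.Agent.Lib.OddOrder.RankTwoPrime
import Cfsg.Agent.Lib.OddOrder.BetaCore
import Cfsg.Agent.S1394
import Cfsg.Agent.S1451

/-!
# BG 10.9: centralizers of subgroups of type `(p, p)` of a maximal subgroup
-/

set_option autoImplicit false
set_option linter.style.haveILetI false
set_option linter.unusedSectionVars false

open scoped Pointwise commutatorElement

namespace Cfsg.Agent.Lib.OddOrder.RankTwoCentralizer

open Cfsg.Agent.Lib.OddOrder.MinSimple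

universe u

variable {G : Type u} [Group G] [Finite G]

/-- `M` is the only maximal subgroup over the normalizer of some subgroup of order `p` of `A`. -/
def Good (p : ℕ) (M A : Subgroup G) : Prop :=
  ∃ A₀ : Subgroup G, A₀ ≤ A ∧ Nat.card A₀ = p ∧ Subgroup.normalizer (A₀ : Set G) ≤ M ∧
    ∀ L : Subgroup G, IsCoatom L → Subgroup.normalizer (A₀ : Set G) ≤ L → L = M

section Nilpotent

variable {p : ℕ} [hp : Fact p.Prime]

/-- A nilpotent subgroup containing a Sylow subgroup contains no other `p`-subgroup. -/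
theorem le_sylow_of_nilpotent {N : Subgroup G} (hN : Group.IsNilpotent N) (P : Sylow p G)
    (hPN : (P : Subgroup G) ≤ N) {R : Subgroup G} (hR : IsPGroup p R) (hRN : R ≤ N) :
    R ≤ (P : Subgroup G) := by
  haveI := hN
  let S : Sylow p N := P.subtype hPN
  haveI hSn : (S : Subgroup N).Normal :=
    Sylow.normal_of_normalizerCondition Group.normalizerCondition_of_isNilpotent S
  obtain ⟨T, hT⟩ := (hR.comap_subtype (K := N)).exists_le_sylow
  haveI := Sylow.unique_of_normal S hSn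
  rw [Subsingleton.elim T S, Sylow.coe_subtype] at hT
  exact fun x hx => hT (show (⟨x, hRN hx⟩ : N) ∈ R.comap N.subtype from hx)

/-- A Sylow subgroup inside a nilpotent normal subgroup of `M` is normal in `M`. -/
theorem le_normalizer_of_nilpotent {M N : Subgroup G} (hN : Group.IsNilpotent N)
    (hMN : M ≤ Subgroup.normalizer (N : Set G)) (P : Sylow p G) (hPN : (P : Subgroup G) ≤ N) :
    M ≤ Subgroup.normalizer ((P : Subgroup G) : Set G) := by
  intro m hm
  refine Subgroup.mem_normalizer_fintype fun x hx => ?_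
  refine le_sylow_of_nilpotent hN P hPN (P.2.map (MulAut.conj m).toMonoidHom) ?_ ⟨x, hx, rfl⟩
  rintro _ ⟨y, hy, rfl⟩
  exact (Subgroup.mem_normalizer_iff.1 (hMN hm) y).1 (hPN hy)

end Nilpotent

variable {p : ℕ} [hp : Fact p.Prime]

theorem good_of_element (hG : Cfsg.IsMinSimpleOddOrder G) {M A : Subgroup G}
    (hA : Cfsg.IsElementaryAbelian p A) {a : G} (ha : a ∈ A) (ha1 : a ≠ 1)
    (h : ∀ L : Subgroup G, IsCoatom L → Subgroup.centralizer ({a} : Set G) ≤ L → L = M) :
    Good p M A := by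
  have hap : orderOf a = p := orderOf_eq_prime (hA.2 a ha) ha1
  have hc : Subgroup.centralizer ({a} : Set G) ≤
      Subgroup.normalizer (Subgroup.zpowers a : Set G) := by
    intro x hx
    refine Subgroup.centralizer_le_normalizer _ (Subgroup.mem_centralizer_iff.2 ?_)
    rintro _ ⟨i, rfl⟩
    exact (Commute.zpow_right (Subgroup.mem_centralizer_singleton_iff.1 hx : Commute x a) i).eq.symm
  have hz1 : Subgroup.zpowers a ≠ ⊥ := by rwa [Ne, Subgroup.zpowers_eq_bot]
  obtain ⟨L, hL, hNL⟩ := exists_coatom_ge hG (normalizer_ne_top hG hz1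
    (pgroup_ne_top hG (p := p) (IsPGroup.of_card (n := 1) (by
      rw [Nat.card_zpowers, hap, pow_one]))))
  exact ⟨Subgroup.zpowers a, Subgroup.zpowers_le.2 ha, by rw [Nat.card_zpowers, hap],
    (h L hL (hc.trans hNL)) ▸ hNL, fun L' hL' hN' => h L' hL' (hc.trans hN')⟩

theorem good_of_unique (hG : Cfsg.IsMinSimpleOddOrder G) {M A : Subgroup G} (hM : IsCoatom M)
    (hA : Cfsg.IsElementaryAbelian p A) {a : G} (ha : a ∈ A) (ha1 : a ≠ 1) {X : Subgroup G}
    (hX : Cfsg.InUniqueMaximal X) (hXM : X ≤ M)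
    (hXa : X ≤ Subgroup.centralizer ({a} : Set G)) : Good p M A :=
  good_of_element hG hA ha ha1 fun _ hL haL =>
    UniqueRank.eq_of_le hX hL (hXa.trans haL) hM hXM

theorem centralizer_le_of_good {M A : Subgroup G} (h : Good p M A) :
    Subgroup.centralizer (A : Set G) ≤ M := by
  obtain ⟨A₀, hle, -, hN, -⟩ := h
  exact (Subgroup.centralizer_le (SetLike.coe_subset_coe.2 hle)).trans
    ((Subgroup.centralizer_le_normalizer _).trans hN)

theorem good_of_mem_alpha (hG : Cfsg.IsMinSimpleOddOrder G) {M : Subgroup G} (hM : IsCoatom M)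
    {A : Subgroup G} (hAM : A ≤ M) (hA : Cfsg.IsElementaryAbelian p A) (hAc : Nat.card A = p ^ 2)
    (hα : p ∈ Cfsg.alpha M) : Good p M A := by
  have hAp : IsPGroup p A := IsPGroup.of_card hAc
  obtain ⟨P, hAP, hPM, -⟩ := Sigma.exists_sylow_ge (AlphaCore.alpha_subset_sigma hG hM hα) hAp hAM
  have hP3 : ¬ Cfsg.PRankLE p 2 (P : Subgroup G) := fun h =>
    hα.2 (InvariantPrime.prankLE_of_sylow P h M)
  have hPU : Cfsg.InUniqueMaximal (P : Subgroup G) :=
    UniquenessTheorem.of_rank hG (pgroup_ne_top hG P.2) fun h => hP3 (h p hp.out)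
  haveI : Nontrivial (P : Subgroup G) :=
    (Subgroup.nontrivial_iff_ne_bot _).2 (UniqueRank.ne_bot hG hPU)
  haveI := P.isPGroup'.center_nontrivial
  obtain ⟨n, hn, hnc⟩ := (P.isPGroup'.to_subgroup (Subgroup.center (P : Subgroup G))).nontrivial_iff_card.1
    inferInstance
  obtain ⟨z, hz⟩ := exists_prime_orderOf_dvd_card' (G := Subgroup.center (P : Subgroup G)) p
    ((dvd_pow_self p hn.ne').trans hnc.symm.dvd)
  set z' : G := ((z : (P : Subgroup G)) : G) with hz'
  have hzo : orderOf z' = p := by rw [hz', Subgroup.orderOf_coe, Subgroup.orderOf_coe, hz]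
  have hzP : ∀ x ∈ (P : Subgroup G), Commute x z' := fun x hx =>
    congrArg Subtype.val (Subgroup.mem_center_iff.1 z.2 ⟨x, hx⟩)
  by_cases hzA : z' ∈ A
  · exact good_of_unique hG hM hA hzA
      (fun e => hp.out.ne_one (by rw [← hzo, e, orderOf_one])) hPU hPM
      fun x hx => Subgroup.mem_centralizer_singleton_iff.2 (hzP x hx).eq
  -- `A` has a centralizer of rank three
  have hZ : Cfsg.IsElementaryAbelian p (Subgroup.zpowers z') :=
    ⟨inferInstance, fun x hx => orderOf_dvd_iff_pow_eq_one.1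
      (((Subgroup.zpowers z').orderOf_dvd_natCard hx).trans (by rw [Nat.card_zpowers, hzo]))⟩
  have hAz : A ≤ Subgroup.centralizer (Subgroup.zpowers z' : Set G) := fun x hx =>
    Subgroup.mem_centralizer_iff.2 (by
      rintro _ ⟨i, rfl⟩
      exact ((hzP x (hAP hx)).zpow_right i).eq.symm)
  have hsup := SCN.elemAb_sup hA hZ hAz
  have hlt : p ^ 2 < Nat.card ↥(A ⊔ Subgroup.zpowers z') := by
    refine lt_of_le_of_ne (hAc ▸ Subgroup.card_le_of_le le_sup_left) fun e => hzA ?_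
    rw [Subgroup.eq_of_le_of_card_ge (le_sup_left : A ≤ A ⊔ Subgroup.zpowers z')
      (hAc ▸ e.ge)]
    exact Subgroup.mem_sup_right (Subgroup.mem_zpowers z')
  have hle : A ⊔ Subgroup.zpowers z' ≤ Subgroup.centralizer (A : Set G) :=
    sup_le (Subgroup.le_centralizer_iff_isMulCommutative.2 hA.1)
      (Subgroup.le_centralizer_iff.1 hAz)
  have hAU := UniquenessTheorem.of_centralizer_rank hG
    (UniqueRank.not_rankLE_one le_rfl hA hAc.ge)
    fun h => Rank.not_prankLE_of_elemAb hle hsup hlt (h p hp.out)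
  obtain ⟨a, ha, ha1⟩ := A.bot_or_exists_ne_one.resolve_left (UniqueRank.ne_bot hG hAU)
  haveI := hA.1
  exact good_of_unique hG hM hA ha ha1 hAU hAM fun x hx =>
    Subgroup.mem_centralizer_singleton_iff.2
      (congrArg Subtype.val (hA.1.is_comm.comm ⟨x, hx⟩ ⟨a, ha⟩))

theorem transitivityHypothesis (hG : Cfsg.IsMinSimpleOddOrder G)
    (hpl : ∀ H : Subgroup G, H ≠ ⊤ → Cfsg.PLengthLE p 1 H) {M : Subgroup G} (hM : IsCoatom M)
    {A : Subgroup G} (hAM : A ≤ M) (hA : Cfsg.IsElementaryAbelian p A) (hAc : Nat.card A = p ^ 2)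
    (hα : p ∉ Cfsg.alpha M) : Cfsg.TransitivityHypothesis A := by
  have hr2 : Cfsg.PRankLE p 2 M := by
    by_contra h
    exact hα ⟨hp.out, h⟩
  refine NormedConstrained.of_pLength_one hG
    ((hAc ▸ dvd_pow_self p two_ne_zero : p ∣ Nat.card A).trans A.card_subgroup_dvd_card)
    (IsPGroup.of_card hAc) hA.1 (fun x hx => ⟨fun hxp => ?_, fun hxA => hA.2 x hxA⟩) hpl
  have hZ : Cfsg.IsElementaryAbelian p (Subgroup.zpowers x) :=
    ⟨inferInstance, by
      rintro _ ⟨i, rfl⟩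
      rw [← zpow_natCast, ← zpow_mul, mul_comm, zpow_mul, zpow_natCast, hxp, one_zpow]⟩
  have hsup := SCN.elemAb_sup hA hZ
    (Subgroup.le_centralizer_iff.1 (Subgroup.zpowers_le.2 hx))
  rw [← RankTwoPrime.eq_of_elemAb_ge hG hM hr2 hAM hA hAc hsup le_sup_left]
  exact Subgroup.mem_sup_right (Subgroup.mem_zpowers x)

/-- With transitivity, some Sylow `p`-subgroup over `A` is in `N(Q)'`. -/
theorem exists_sylow_le_derived (hG : Cfsg.IsMinSimpleOddOrder G)
    (hpl : ∀ H : Subgroup G, H ≠ ⊤ → Cfsg.PLengthLE p 1 H)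
    {A : Subgroup G} (hA : Cfsg.IsElementaryAbelian p A) (hAc : Nat.card A = p ^ 2)
    (hTH : Cfsg.TransitivityHypothesis A) {q : ℕ} [hq : Fact q.Prime] (hqp : q ≠ p)
    {Q : Subgroup G} (hQ : Q ∈ Cfsg.maxInvSubgroups ⊤ A {q})
    (hqC : q ∣ Nat.card (Subgroup.centralizer (A : Set G))) :
    ∃ P : Sylow p G, A ≤ P ∧
      (P : Subgroup G) ≤ ⁅Subgroup.normalizer (Q : Set G), Subgroup.normalizer (Q : Set G)⁆ := by
  have hAp : IsPGroup p A := IsPGroup.of_card hAc
  have hpA : p ∣ Nat.card A := hAc ▸ dvd_pow_self p two_ne_zero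
  have hqA : ¬ q ∣ Nat.card A := by
    rw [hAc]
    exact fun h => hqp ((Nat.prime_dvd_prime_iff_eq hq.out hp.out).1 (hq.out.dvd_of_dvd_pow h))
  have htr := Cfsg.Agent.S1394.result hG A hTH (UniqueRank.not_rankLE_one
    (le_inf le_rfl (Subgroup.le_centralizer_iff_isMulCommutative.2 hA.1)) hA hAc.ge) q hq.out hqA hqC
  obtain ⟨P, hAP⟩ := hAp.exists_le_sylow
  have hPπ : ∀ r : ℕ, r.Prime → r ∣ Nat.card (P : Subgroup G) → r ∣ Nat.card A := by
    intro r hr hrd
    obtain ⟨k, hk⟩ := IsPGroup.iff_card.1 P.isPGroup'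
    obtain rfl := (Nat.prime_dvd_prime_iff_eq hr hp.out).1 (hr.dvd_of_dvd_pow (hk ▸ hrd))
    exact hpA
  haveI : Group.IsNilpotent (P : Subgroup G) := P.isPGroup'.isNilpotent
  obtain ⟨-, -, hsub, hd⟩ := Cfsg.Agent.S1395.result hG A hTH q hq.out hqA (P : Subgroup G)
    (pgroup_ne_top hG P.2) hPπ hAP (SubnormSet.isSubnormal_of_isNilpotent _) htr
  obtain ⟨R, hR, -⟩ := Transitivity.exists_max_ge
    (Transitivity.bot_mem_inv (H := (⊤ : Subgroup G)) (B := (P : Subgroup G)) (π := ({q} : Set ℕ)))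
  obtain ⟨k, hk, hkQ⟩ := htr R (hsub hR) Q hQ
  have hkC : k ∈ Subgroup.centralizer (A : Set G) := piCoreOf_le _ _ hk
  refine ⟨k • P, fun a ha => ?_, ?_⟩
  · rw [Sylow.coe_subgroup_smul]
    refine ⟨a, hAP ha, ?_⟩
    show MulAut.conj k a = a
    rw [MulAut.conj_apply, (Subgroup.mem_centralizer_iff.1 hkC a ha).symm, mul_inv_cancel_right]
  · rw [Sylow.coe_subgroup_smul]
    have h1 := Subgroup.map_mono (f := (MulAut.conj k).toMonoidHom)
      ((le_inf le_rfl (SylowNormalizer.le_derived_normalizer hG hpl P)).trans (hd R hR).1)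
    rw [Subgroup.map_commutator] at h1
    refine le_trans h1 (Subgroup.commutator_mono ?_ ?_) <;>
    · rw [hkQ]
      exact Subgroup.le_normalizer_map _

/-- Some `b ∈ A` gives a nontrivial `[D, b] = [D, b, b]`. -/
theorem exists_commutator {A D : Subgroup G} (hA : IsMulCommutative A)
    {q : ℕ} [hq : Fact q.Prime] (hqp : q ≠ p) (hAp : IsPGroup p A) (hD : IsPGroup q D)
    (hAD : A ≤ Subgroup.normalizer (D : Set G)) (hnc : ¬ D ≤ Subgroup.centralizer (A : Set G)) :
    ∃ b ∈ A, ⁅D, Subgroup.zpowers b⁆ ≠ ⊥ ∧ ⁅D, Subgroup.zpowers b⁆ ≤ D ∧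
      A ≤ Subgroup.normalizer ((⁅D, Subgroup.zpowers b⁆ : Subgroup G) : Set G) ∧
      ⁅⁅D, Subgroup.zpowers b⁆, Subgroup.zpowers b⁆ = ⁅D, Subgroup.zpowers b⁆ := by
  obtain ⟨b, hb, hbD⟩ : ∃ b ∈ A, ⁅D, Subgroup.zpowers b⁆ ≠ ⊥ := by
    by_contra hcon
    push Not at hcon
    refine hnc (Subgroup.le_centralizer_iff.1 fun b hb => ?_)
    exact Subgroup.le_centralizer_iff.1 (Subgroup.commutator_eq_bot_iff_le_centralizer.1 (hcon b hb))
      (Subgroup.mem_zpowers b)
  have hbA : Subgroup.zpowers b ≤ A := Subgroup.zpowers_le.2 hb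
  haveI : Group.IsSolvable D := Coprime.isSolvable_of_isPGroup hD
  refine ⟨b, hb, hbD, Coprime.commutator_le_of_le_normalizer (hbA.trans hAD), fun x hx => ?_,
    Coprime.commutator_commutator_eq (hbA.trans hAD) ((IsPGroup.coprime_card_of_ne p q hqp.symm _ _
      hAp hD).coprime_dvd_left (Subgroup.card_dvd_of_le hbA)) (Or.inr inferInstance)⟩
  refine OddLocal.NarrowAut.le_normalizer_commutator (hAD hx) ?_
  refine Subgroup.centralizer_le_normalizer _ (Subgroup.mem_centralizer_iff.2 fun y hy => ?_)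
  exact congrArg Subtype.val (hA.is_comm.comm ⟨y, hbA hy⟩ ⟨x, hx⟩)

theorem good_of_alphaCore_ne_bot (hG : Cfsg.IsMinSimpleOddOrder G)
    (hpl : ∀ (r : ℕ) [Fact r.Prime], ∀ H : Subgroup G, H ≠ ⊤ → Cfsg.PLengthLE r 1 H)
    {M : Subgroup G} (hM : IsCoatom M) {A : Subgroup G} (hAM : A ≤ M)
    (hA : Cfsg.IsElementaryAbelian p A) (hAc : Nat.card A = p ^ 2) (hα : p ∉ Cfsg.alpha M)
    (hne : Cfsg.alphaCore M ≠ ⊥) : Good p M A := by
  haveI := hA.1
  haveI := solvable_of_ne_top hG hM.1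
  have hAp : IsPGroup p A := IsPGroup.of_card hAc
  have hAnc : ¬ IsCyclic A := Rank.elemAb_not_isCyclic hA (by
    rw [hAc]; exact lt_self_pow₀ hp.out.one_lt (by norm_num))
  have hTH := transitivityHypothesis hG (hpl p) hM hAM hA hAc hα
  obtain ⟨hHallM, hHall, -, -, -⟩ := AlphaCore.alphaCore_spec hG hM
  set Mα := Cfsg.alphaCore M with hMα
  obtain ⟨q, hq, hqd⟩ := Nat.exists_prime_and_dvd (mt Subgroup.card_eq_one.1 hne)
  haveI := Fact.mk hq
  have hqα : q ∈ Cfsg.alpha M := hHall.1 q hq hqd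
  have hqσ := AlphaCore.alpha_subset_sigma hG hM hqα
  have hqp : q ≠ p := fun e => hα (e ▸ hqα)
  have hq2 : q ≠ 2 := ne_two_of_dvd hG (Sigma.dvd_card_group hqσ)
  have hcop : (Nat.card A).Coprime (Nat.card Mα) := Nat.coprime_of_dvd fun r hr h1 h2 => by
    rw [hAc] at h1
    exact hα ((Nat.prime_dvd_prime_iff_eq hr hp.out).1 (hr.dvd_of_dvd_pow h1) ▸ hHall.1 r hr h2)
  have hMαM : Mα ≤ M := hHallM.1
  obtain ⟨Q, hQ, hAQ, -⟩ := Hall.Coprime.exists_invariant_ge
    (hAM.trans (Basic.le_normalizer_map_subtype M _)) hcop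
    (Coprime.isSolvable_of_le hMαM) ({q} : Set ℕ) (U := ⊥) bot_le
    (fun a ha => Subgroup.mem_normalizer_fintype fun x hx => by
      simp only [SetLike.mem_coe, Subgroup.mem_bot] at hx ⊢; simp [hx])
    fun r hr h => absurd (Subgroup.card_bot (G := G) ▸ h) hr.not_dvd_one
  have hQp : IsPGroup q Q := Transitivity.isPGroup_of_inv hQ.2.1
  have hQM : Q ≤ M := hQ.1.trans hMαM
  have hQidx : ¬ q ∣ Q.index := by
    rw [← Subgroup.relIndex_mul_index hQ.1]
    exact fun h => (hq.dvd_mul.1 h).elim (hQ.2.2 q hq rfl) (hHall.2 q hq hqα)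
  have hQ3 : ¬ Cfsg.PRankLE q 2 Q := fun h =>
    hqα.2 (InvariantPrime.prankLE_of_sylow (hQp.toSylow hQidx) h M)
  have hQU : Cfsg.InUniqueMaximal Q :=
    UniquenessTheorem.of_rank hG (pgroup_ne_top hG hQp) fun h => hQ3 (h q hq)
  have hQ1 := UniqueRank.ne_bot hG hQU
  have hQmax : Q ∈ Cfsg.maxInvSubgroups ⊤ A {q} :=
    ⟨Transitivity.mem_inv.2 ⟨le_top, hQp, hAQ⟩, fun R hR hle =>
      (hQp.toSylow hQidx).is_maximal' (Transitivity.mem_inv.1 hR).2.1 hle⟩
  have hcopQ : (Nat.card A).Coprime (Nat.card Q) := hcop.coprime_dvd_right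
    (Subgroup.card_dvd_of_le hQ.1)
  by_contra hbad
  have hnc : ¬ Q ≤ Subgroup.centralizer (A : Set G) := by
    intro h
    obtain ⟨a, ha, ha1⟩ := A.bot_or_exists_ne_one.resolve_left
      fun e => hAnc (by rw [e]; infer_instance)
    exact hbad (good_of_unique hG hM hA ha ha1 hQU hQM
      (h.trans (Subgroup.centralizer_le (Set.singleton_subset_iff.2 ha))))
  -- the key lemma
  have hkey : ∀ a ∈ A, a ≠ 1 → ∀ D : Subgroup G, D ≤ Q →
      D ≤ Subgroup.centralizer ({a} : Set G) → A ≤ Subgroup.normalizer (D : Set G) →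
      (∀ V : Subgroup G, V ≤ D → V ≠ ⊥ → ∀ b ∈ A, ⁅V, Subgroup.zpowers b⁆ = V →
        A ≤ Subgroup.normalizer (V : Set G) → Subgroup.centralizer (V : Set G) ≤ M ∧
        ∀ v ∈ V, v ≠ 1 → Commute v b → Subgroup.centralizer ({v} : Set G) ≤ M) →
      D ≤ Subgroup.centralizer (A : Set G) := by
    intro a ha ha1 D hDQ hDa hAD hsm
    by_contra hDA
    obtain ⟨b, hb, hV1, hVD, hAV, hVb⟩ :=
      exists_commutator hA.1 hqp hAp (hQp.to_le hDQ) hAD hDA
    obtain ⟨h1, h2⟩ := hsm _ hVD hV1 b hb hVb hAV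
    exact hbad (good_of_element hG hA ha ha1 fun L hL haL =>
      RankTwoKey.eq_of_centralizer_le hG hpl hM hAM hA hAc hTH hqσ hqp (hQp.to_le (hVD.trans hDQ))
        ((hVD.trans hDQ).trans hQM) hV1 ha ha1 (hVD.trans hDa) hAV hb hVb h1 h2 hL haL)
  by_cases hn : Cfsg.IsNarrow q Q
  · by_cases hCQ : Q ⊓ Subgroup.centralizer (A : Set G) = ⊥
    · -- `C_Q(A) = 1`
      set Z := Q ⊓ Subgroup.centralizer (Q : Set G) with hZ
      haveI : Nontrivial Q := (Subgroup.nontrivial_iff_ne_bot Q).2 hQ1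
      haveI := hQp.center_nontrivial
      have hZ1 : Z ≠ ⊥ := by
        obtain ⟨z, hz⟩ := exists_ne (1 : Subgroup.center Q)
        refine fun e => hz (Subtype.ext (Subtype.ext (Subgroup.mem_bot.1 (e ▸
          Subgroup.mem_inf.2 ⟨(z : Q).2, Subgroup.mem_centralizer_iff.2 fun x hx => ?_⟩))))
        exact congrArg Subtype.val (Subgroup.mem_center_iff.1 z.2 ⟨x, hx⟩)
      have hAZ : A ≤ Subgroup.normalizer (Z : Set G) := Coprime.le_normalizer_inf hAQ
        (hAQ.trans (Fitting.normalizer_le_normalizer_centralizer Q))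
      obtain ⟨a, ha, ha1, haZ⟩ := Transitive.exists_fixed hAnc hAZ
        (hcopQ.coprime_dvd_right (Subgroup.card_dvd_of_le inf_le_left)) hZ1
      have hAa : A ≤ Subgroup.centralizer ({a} : Set G) := fun x hx =>
        Subgroup.mem_centralizer_singleton_iff.2
          (congrArg Subtype.val (hA.1.is_comm.comm ⟨x, hx⟩ ⟨a, ha⟩))
      have hle := hkey a ha ha1 (Z ⊓ Subgroup.centralizer ({a} : Set G))
        (inf_le_left.trans inf_le_left) inf_le_right
        (Coprime.le_normalizer_inf hAZ (hAa.trans Subgroup.le_normalizer)) fun V hV hV1 b hb hVb hAV => by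
          have hVQ : Q ≤ Subgroup.centralizer (V : Set G) :=
            Subgroup.le_centralizer_iff.1 (hV.trans (inf_le_left.trans inf_le_right))
          constructor
          · obtain ⟨L, hL, hCL⟩ := exists_coatom_ge hG (centralizer_subgroup_ne_top hG hV1)
            rwa [UniqueRank.eq_of_le hQU hL (hVQ.trans hCL) hM hQM] at hCL
          · intro v hv hv1 hvb
            haveI : IsMulCommutative V := Subgroup.le_centralizer_iff_isMulCommutative.1
              ((hV.trans (inf_le_left.trans inf_le_left)).trans hVQ)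
            refine absurd ?_ hv1
            have h := Coprime.centralizer_inf_commutator_eq_bot
              ((Subgroup.zpowers_le.2 hb).trans hAV)
              ((hcopQ.coprime_dvd_left (Subgroup.card_dvd_of_le (Subgroup.zpowers_le.2 hb))).coprime_dvd_right
                (Subgroup.card_dvd_of_le (hV.trans (inf_le_left.trans inf_le_left))))
            rw [hVb] at h
            refine Subgroup.mem_bot.1 (h ▸ Subgroup.mem_inf.2 ⟨Subgroup.mem_inf.2 ⟨hv,
              Subgroup.mem_centralizer_iff.2 ?_⟩, hv⟩)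
            rintro _ ⟨i, rfl⟩
            exact (hvb.zpow_right i).eq.symm
      exact haZ (le_bot_iff.1 (hCQ ▸ le_inf (inf_le_left.trans inf_le_left) hle))
    · -- `C_Q(A) ≠ 1`
      have hqC : q ∣ Nat.card (Subgroup.centralizer (A : Set G)) := by
        haveI : Nontrivial ↥(Q ⊓ Subgroup.centralizer (A : Set G)) :=
          (Subgroup.nontrivial_iff_ne_bot _).2 hCQ
        obtain ⟨n, hn', hnc'⟩ :=
          (hQp.to_le (inf_le_left : Q ⊓ Subgroup.centralizer (A : Set G) ≤ Q)).nontrivial_iff_card.1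
            inferInstance
        exact ((dvd_pow_self q hn'.ne').trans hnc'.symm.dvd).trans
          (Subgroup.card_dvd_of_le inf_le_right)
      obtain ⟨P, hAP, hPd⟩ := exists_sylow_le_derived hG (hpl p) hA hAc hTH hqp hQmax hqC
      haveI := solvable_of_ne_top hG (normalizer_ne_top hG hQ1 (pgroup_ne_top hG hQp))
      refine hnc (Subgroup.le_centralizer_iff.1 fun x hx => ?_)
      refine OddLocal.NarrowAut.derived_centralizes hq2 hQp hn le_rfl (odd_card hG _)
        (hPd (hAP hx)) ?_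
      exact ((Nat.coprime_primes hp.out hq).2 hqp.symm).coprime_dvd_left
        (orderOf_dvd_of_pow_eq_one (hA.2 x hx))
  · -- `Q` is not narrow
    have hsmall : ∀ v ∈ Q, v ≠ 1 → Subgroup.centralizer ({v} : Set G) ≤ M := by
      intro v hv hv1
      obtain ⟨k, hk⟩ := IsPGroup.iff_orderOf.1 hQp ⟨v, hv⟩
      rw [Subgroup.orderOf_mk] at hk
      obtain ⟨j, rfl⟩ : ∃ j, k = j + 1 := Nat.exists_eq_succ_of_ne_zero fun e =>
        hv1 (orderOf_eq_one_iff.1 (by rw [hk, e, pow_zero]))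
      set w := v ^ q ^ j with hw
      have hwo : orderOf w = q := by
        rw [hw, orderOf_pow' _ (pow_ne_zero _ hq.ne_zero), hk,
          Nat.gcd_eq_right (pow_dvd_pow q j.le_succ), pow_succ',
          Nat.mul_div_cancel _ (pow_pos hq.pos j)]
      have hwe : Cfsg.IsElementaryAbelian q (Subgroup.zpowers w) :=
        ⟨inferInstance, fun x hx => orderOf_dvd_iff_pow_eq_one.1
          (((Subgroup.zpowers w).orderOf_dvd_natCard hx).trans (by rw [Nat.card_zpowers, hwo]))⟩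
      have h3 := UniqueAux.not_prankLE_centralizer_of_not_narrow hq2 hQp hn
        (Subgroup.zpowers_le.2 (pow_mem hv _)) hwe
      have hU := UniquenessTheorem.of_rank hG
        (pgroup_ne_top hG (hQp.to_le (inf_le_left : Q ⊓ _ ≤ Q))) fun h => h3 (h q hq)
      obtain ⟨L, hL, hwL⟩ := exists_coatom_ge hG (centralizer_singleton_ne_top hG (x := w)
        fun e => hq.ne_one (by rw [← hwo, e, orderOf_one]))
      rw [UniqueRank.eq_of_le hU hL ((inf_le_right.trans (Subgroup.centralizer_le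
        (Set.singleton_subset_iff.2 (Subgroup.mem_zpowers w)))).trans hwL) hM
        (inf_le_left.trans hQM)] at hwL
      refine le_trans (fun x hx => ?_) hwL
      exact Subgroup.mem_centralizer_singleton_iff.2
        (Commute.pow_right (Subgroup.mem_centralizer_singleton_iff.1 hx : Commute x v) _).eq
    refine hnc ((Coprime.iSup_centralizer_eq hAnc hAQ hcopQ).ge.trans (iSup₂_le fun a ha => ?_))
    refine hkey a ha.1 ha.2 _ inf_le_left inf_le_right
      (Coprime.le_normalizer_inf hAQ (le_trans (fun x hx => ?_) Subgroup.le_normalizer)) ?_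
    · exact Subgroup.mem_centralizer_singleton_iff.2
        (congrArg Subtype.val (hA.1.is_comm.comm ⟨x, hx⟩ ⟨a, ha.1⟩))
    · intro V hV hV1 b _ _ _
      refine ⟨?_, fun v hv hv1 _ => hsmall v (hV hv).1 hv1⟩
      obtain ⟨v, hv, hv1⟩ := V.bot_or_exists_ne_one.resolve_left hV1
      exact (Subgroup.centralizer_le (Set.singleton_subset_iff.2 hv)).trans
        (hsmall v (hV hv).1 hv1)

/-- The primes of `α(M)` are absent when `M_α = 1`. -/
theorem rankLE_two_of_alphaCore (hG : Cfsg.IsMinSimpleOddOrder G) {M : Subgroup G}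
    (hM : IsCoatom M) (h : Cfsg.alphaCore M = ⊥) : Cfsg.RankLE 2 M := by
  obtain ⟨⟨-, -, hrel⟩, -, -, -, -⟩ := AlphaCore.alphaCore_spec hG hM
  intro r hr
  by_contra hn
  haveI := Fact.mk hr
  refine hrel r hr ⟨hr, hn⟩ ?_
  rw [h, Subgroup.relIndex_bot_left]
  exact AlphaCore.sylow_dvd (M := M) ⟨hr, hn⟩

theorem isNilpotent_derived (hG : Cfsg.IsMinSimpleOddOrder G) {M : Subgroup G}
    (hM : IsCoatom M) (h : Cfsg.alphaCore M = ⊥) : Group.IsNilpotent ↥⁅M, M⁆ := by
  haveI := solvable_of_ne_top hG hM.1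
  haveI := (Cfsg.Agent.S1451.result (G := M) (odd_card hG M)
    (Or.inl (rankLE_two_of_alphaCore hG hM h))).1
  rw [← Subgroup.map_subtype_commutator]
  exact Group.nilpotent_of_mulEquiv
    (Subgroup.equivMapOfInjective (commutator M) M.subtype M.subtype_injective)

/-- A normal Sylow subgroup for some `σ(M)`-prime when `M` has rank two. -/
theorem exists_normal_sylow (hG : Cfsg.IsMinSimpleOddOrder G) {M : Subgroup G} (hM : IsCoatom M)
    (h : Cfsg.alphaCore M = ⊥) :
    ∃ q : ℕ, ∃ _ : Fact q.Prime, q ∈ Cfsg.sigma M ∧ ∃ Q : Sylow q G,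
      (Q : Subgroup G) ≤ M ∧ M ≤ Subgroup.normalizer ((Q : Subgroup G) : Set G) ∧
      (Q : Subgroup G) ≠ ⊥ := by
  haveI := solvable_of_ne_top hG hM.1
  have hne : (Nat.card M).primeFactors.Nonempty := Nat.nonempty_primeFactors.2
    ((Subgroup.one_lt_card_iff_ne_bot M).2 (coatom_ne_bot hG hM))
  set r := (Nat.card M).primeFactors.max' hne with hr
  obtain ⟨hrp, hrd, -⟩ := Nat.mem_primeFactors.1 ((Nat.card M).primeFactors.max'_mem hne)
  rw [← hr] at hrp hrd
  haveI := Fact.mk hrp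
  obtain ⟨N, hNc, hNπ, hNidx⟩ := (Cfsg.Agent.S1451.result (G := M) (odd_card hG M)
    (Or.inl (rankLE_two_of_alphaCore hG hM h))).2.2 (r - 1)
  have hrlt : r - 1 < r := Nat.sub_one_lt hrp.ne_zero
  have hNp : IsPGroup r N := Transitivity.isPGroup_of_inv fun s hs hsd => by
    refine le_antisymm ((Nat.card M).primeFactors.le_max' s (Nat.mem_primeFactors.2
      ⟨hs, hsd.trans N.card_subgroup_dvd_card, Nat.card_pos.ne'⟩)) ?_
    have := (hNπ s hs hsd).2
    omega
  have hNi : ¬ r ∣ N.index := hNidx r hrp ⟨hrp, hrlt⟩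
  let S : Sylow r M := hNp.toSylow hNi
  set Q₀ := N.map M.subtype with hQ₀
  haveI := hNc
  have hQM : Q₀ ≤ M := Subgroup.map_subtype_le _
  have hMQ : M ≤ Subgroup.normalizer (Q₀ : Set G) := Basic.le_normalizer_map_subtype M N
  have hQ1 : Q₀ ≠ ⊥ := by
    rw [hQ₀, Ne, Subgroup.map_eq_bot_iff_of_injective _ M.subtype_injective]
    intro e
    rw [e, Subgroup.index_bot] at hNi
    exact hNi hrd
  have hσ : r ∈ Cfsg.sigma M := ⟨hrp, hrd, S, by
    rw [IsPGroup.toSylow_coe, normalizer_eq_of_coatom hG hM hQM hQ1 hMQ]⟩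
  refine ⟨r, inferInstance, hσ, (hNp.map M.subtype).toSylow ?_, ?_⟩
  · have h := Sigma.not_dvd_index hσ S
    rwa [IsPGroup.toSylow_coe] at h
  · rw [IsPGroup.toSylow_coe]
    exact ⟨hQM, hMQ, hQ1⟩

theorem good_of_not_sigma (hG : Cfsg.IsMinSimpleOddOrder G)
    (hpl : ∀ (r : ℕ) [Fact r.Prime], ∀ H : Subgroup G, H ≠ ⊤ → Cfsg.PLengthLE r 1 H)
    {M : Subgroup G} (hM : IsCoatom M) {A : Subgroup G} (hAM : A ≤ M)
    (hA : Cfsg.IsElementaryAbelian p A) (hAc : Nat.card A = p ^ 2)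
    (hbot : Cfsg.alphaCore M = ⊥) (hσ : p ∉ Cfsg.sigma M) : Good p M A := by
  haveI := hA.1
  have hα : p ∉ Cfsg.alpha M := fun h => hσ (AlphaCore.alpha_subset_sigma hG hM h)
  have hAp : IsPGroup p A := IsPGroup.of_card hAc
  have hAnc : ¬ IsCyclic A := Rank.elemAb_not_isCyclic hA (by
    rw [hAc]; exact lt_self_pow₀ hp.out.one_lt (by norm_num))
  have hTH := transitivityHypothesis hG (hpl p) hM hAM hA hAc hα
  obtain ⟨q, hq, hqσ, Q, hQM, hMQ, hQ1⟩ := exists_normal_sylow hG hM hbot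
  haveI := hq
  have hqp : q ≠ p := fun e => hσ (e ▸ hqσ)
  have hnil := isNilpotent_derived hG hM hbot
  have hMM : M ≤ Subgroup.normalizer ((⁅M, M⁆ : Subgroup G) : Set G) := fun m hm =>
    OddLocal.NarrowAut.le_normalizer_commutator (Subgroup.le_normalizer hm)
      (Subgroup.le_normalizer hm)
  have hDerM : ⁅M, M⁆ ≤ M := OddLocal.NarrowAut.comm_le M
  set Z := (Q : Subgroup G) ⊓ Subgroup.centralizer ((Q : Subgroup G) : Set G) with hZdef
  have hZ1 : Z ≠ ⊥ := by
    haveI : Nontrivial (Q : Subgroup G) := (Subgroup.nontrivial_iff_ne_bot _).2 hQ1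
    haveI := Q.isPGroup'.center_nontrivial
    obtain ⟨z, hz⟩ := exists_ne (1 : Subgroup.center (Q : Subgroup G))
    refine fun e => hz (Subtype.ext (Subtype.ext (Subgroup.mem_bot.1 (e ▸
      Subgroup.mem_inf.2 ⟨(z : (Q : Subgroup G)).2, Subgroup.mem_centralizer_iff.2 fun x hx => ?_⟩))))
    exact congrArg Subtype.val (Subgroup.mem_center_iff.1 z.2 ⟨x, hx⟩)
  have hQD : (Q : Subgroup G) ≤ ⁅M, M⁆ := Sigma.le_derived hG hM hqσ Q.2 hQM
  -- the derived group centralizes `Z`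
  have hDZ : ⁅M, M⁆ ≤ Subgroup.centralizer (Z : Set G) := by
    intro y hy
    refine OddLocal.DerivedFitting.mem_of_primePow_parts fun s hs z hz hzs => ?_
    obtain ⟨k, hk⟩ := hzs
    have hzD : z ∈ ⁅M, M⁆ := Subgroup.zpowers_le.2 hy hz
    haveI := Fact.mk hs
    have hzp : IsPGroup s (Subgroup.zpowers z) :=
      IsPGroup.of_card (n := k) (by rw [Nat.card_zpowers, hk])
    by_cases hsq : s = q
    · subst hsq
      have hzQ := le_sylow_of_nilpotent hnil Q hQD hzp (Subgroup.zpowers_le.2 hzD)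
        (Subgroup.mem_zpowers z)
      exact Subgroup.le_centralizer_iff.1 (inf_le_right : Z ≤ _) hzQ
    · refine Subgroup.centralizer_le (SetLike.coe_subset_coe.2 (inf_le_left : Z ≤ _))
        (Basic.le_centralizer_of_nilpotent hnil (Subgroup.zpowers_le.2 hzD) hQD
          (IsPGroup.coprime_card_of_ne s q hsq _ _ hzp Q.2) (Subgroup.mem_zpowers z))
  have hMZ : M ≤ Subgroup.normalizer (Z : Set G) := Coprime.le_normalizer_inf hMQ
    (hMQ.trans (Fitting.normalizer_le_normalizer_centralizer _))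
  obtain ⟨a, ha, ha1, haZ⟩ := Transitive.exists_fixed hAnc (hAM.trans hMZ)
    ((IsPGroup.coprime_card_of_ne p q hqp.symm _ _ hAp (Q.2.to_le inf_le_left))) hZ1
  set D := Z ⊓ Subgroup.centralizer ({a} : Set G) with hD
  have hDQ : D ≤ (Q : Subgroup G) := inf_le_left.trans inf_le_left
  have hMD : M ≤ Subgroup.normalizer (D : Set G) := by
    intro m hm
    refine Subgroup.mem_normalizer_fintype fun d hd => ?_
    refine Subgroup.mem_inf.2 ⟨(Subgroup.mem_normalizer_iff.1 (hMZ hm) d).1 hd.1,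
      Subgroup.mem_centralizer_singleton_iff.2 ?_⟩
    have hc : ⁅m⁻¹, a⁆ ∈ ⁅M, M⁆ := Subgroup.commutator_mem_commutator (inv_mem hm) (hAM ha)
    have h1 : Commute d ⁅m⁻¹, a⁆ := Subgroup.mem_centralizer_iff.1 (hDZ hc) d hd.1
    have h2 : Commute d a := Subgroup.mem_centralizer_singleton_iff.1 hd.2
    have h3 := (h1.mul_right h2).eq
    rw [commutatorElement_def, inv_inv, inv_mul_cancel_right] at h3
    calc m * d * m⁻¹ * a = m * (d * (m⁻¹ * a * m)) * m⁻¹ := by group
      _ = m * ((m⁻¹ * a * m) * d) * m⁻¹ := by rw [h3]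
      _ = a * (m * d * m⁻¹) := by group
  by_cases hDA : D ≤ Subgroup.centralizer (A : Set G)
  · exfalso
    have hqC : q ∣ Nat.card (Subgroup.centralizer (A : Set G)) := by
      haveI : Nontrivial D := (Subgroup.nontrivial_iff_ne_bot _).2 haZ
      obtain ⟨n, hn, hnc⟩ := (Q.2.to_le hDQ).nontrivial_iff_card.1 inferInstance
      exact ((dvd_pow_self q hn.ne').trans hnc.symm.dvd).trans (Subgroup.card_dvd_of_le hDA)
    have hQmax : (Q : Subgroup G) ∈ Cfsg.maxInvSubgroups ⊤ A {q} :=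
      ⟨Transitivity.mem_inv.2 ⟨le_top, Q.2, hAM.trans hMQ⟩, fun R hR hle =>
        Q.is_maximal' (Transitivity.mem_inv.1 hR).2.1 hle⟩
    obtain ⟨P, -, hPd⟩ := exists_sylow_le_derived hG (hpl p) hA hAc hTH hqp hQmax hqC
    rw [normalizer_eq_of_coatom hG hM hQM hQ1 hMQ] at hPd
    have hPM : (P : Subgroup G) ≤ M := hPd.trans hDerM
    have hP1 : (P : Subgroup G) ≠ ⊥ := P.ne_bot_of_dvd_card
      ((hAc ▸ dvd_pow_self p two_ne_zero : p ∣ Nat.card A).trans A.card_subgroup_dvd_card)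
    refine hσ ⟨hp.out, (hAc ▸ dvd_pow_self p two_ne_zero : p ∣ Nat.card A).trans
      (Subgroup.card_dvd_of_le hAM), P.subtype hPM, ?_⟩
    rw [Sylow.coe_subtype, Subgroup.map_subgroupOf_eq_of_le hPM,
      normalizer_eq_of_coatom hG hM hPM hP1 (le_normalizer_of_nilpotent hnil hMM P hPd)]
  obtain ⟨b, hb, hV1, hVD, hAV, hVb⟩ :=
    exists_commutator hA.1 hqp hAp (Q.2.to_le hDQ) (hAM.trans hMD) hDA
  set V := ⁅D, Subgroup.zpowers b⁆ with hV
  have hMV : M ≤ Subgroup.normalizer (V : Set G) := by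
    intro m hm
    refine Subgroup.mem_normalizer_fintype fun x hx => ?_
    have hle : V ≤ V.comap (MulAut.conj m).toMonoidHom := by
      rw [hV, Subgroup.commutator_le]
      intro d hd y hy
      rw [Subgroup.mem_comap, map_commutatorElement]
      obtain ⟨i, rfl⟩ := hy
      have hd' : m * d * m⁻¹ ∈ D := (Subgroup.mem_normalizer_iff.1 (hMD hm) d).1 hd
      show ⁅m * d * m⁻¹, m * b ^ i * m⁻¹⁆ ∈ ⁅D, Subgroup.zpowers b⁆
      have hc : ⁅m, b ^ i⁆ ∈ ⁅M, M⁆ :=
        Subgroup.commutator_mem_commutator hm (zpow_mem (hAM hb) i)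
      have hmem : ⁅m * d * m⁻¹, b ^ i⁆ ∈ ⁅D, Subgroup.zpowers b⁆ :=
        Subgroup.commutator_mem_commutator hd' (zpow_mem (Subgroup.mem_zpowers b) i)
      have h1 : Commute (m * d * m⁻¹) ⁅m, b ^ i⁆ :=
        Subgroup.mem_centralizer_iff.1 (hDZ hc) _ hd'.1
      have h2 : Commute ⁅m * d * m⁻¹, b ^ i⁆ ⁅m, b ^ i⁆ :=
        Subgroup.mem_centralizer_iff.1 (hDZ hc) _ (hVD hmem).1
      have hye : m * b ^ i * m⁻¹ = ⁅m, b ^ i⁆ * b ^ i := by
        rw [commutatorElement_def, inv_mul_cancel_right]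
      have h3 : ⁅m * d * m⁻¹, ⁅m, b ^ i⁆ * b ^ i⁆ = ⁅m * d * m⁻¹, b ^ i⁆ := by
        generalize m * d * m⁻¹ = x at h1 h2 ⊢
        generalize ⁅m, b ^ i⁆ = c at h1 h2 ⊢
        rw [commutatorElement_def]
        calc x * (c * b ^ i) * x⁻¹ * (c * b ^ i)⁻¹
            = (x * c) * (b ^ i * x⁻¹ * (b ^ i)⁻¹) * c⁻¹ := by group
          _ = (c * x) * (b ^ i * x⁻¹ * (b ^ i)⁻¹) * c⁻¹ := by rw [h1.eq]
          _ = c * ⁅x, b ^ i⁆ * c⁻¹ := by rw [commutatorElement_def]; group
          _ = ⁅x, b ^ i⁆ := by rw [← h2.eq, mul_inv_cancel_right]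
      rw [hye, h3]
      exact hmem
    exact hle hx
  have hVM : V ≤ M := hVD.trans (hDQ.trans hQM)
  haveI hVc : IsMulCommutative V := Subgroup.le_centralizer_iff_isMulCommutative.1
    ((hVD.trans hDQ).trans (Subgroup.le_centralizer_iff.1
      (hVD.trans (inf_le_left.trans inf_le_right))))
  refine good_of_element hG hA ha ha1 fun L hL haL => ?_
  refine RankTwoKey.eq_of_centralizer_le hG hpl hM hAM hA hAc hTH hqσ hqp
    (Q.2.to_le (hVD.trans hDQ)) hVM hV1 ha ha1 (hVD.trans inf_le_right) hAV hb hVb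
    ((Subgroup.centralizer_le_normalizer _).trans (normalizer_eq_of_coatom hG hM hVM hV1 hMV).le)
    (fun v hv hv1 hvb => absurd ?_ hv1) hL haL
  have h := Coprime.centralizer_inf_commutator_eq_bot ((Subgroup.zpowers_le.2 hb).trans hAV)
    ((IsPGroup.coprime_card_of_ne p q hqp.symm _ _ (hAp.to_le (Subgroup.zpowers_le.2 hb))
      (Q.2.to_le (hVD.trans hDQ))))
  rw [hVb] at h
  refine Subgroup.mem_bot.1 (h ▸ Subgroup.mem_inf.2 ⟨Subgroup.mem_inf.2 ⟨hv,
    Subgroup.mem_centralizer_iff.2 ?_⟩, hv⟩)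
  rintro _ ⟨i, rfl⟩
  exact (hvb.zpow_right i).eq.symm

/-- BG 10.9. -/
theorem spec (hG : Cfsg.IsMinSimpleOddOrder G)
    (hpl : ∀ (r : ℕ) [Fact r.Prime], ∀ H : Subgroup G, H ≠ ⊤ → Cfsg.PLengthLE r 1 H)
    {M : Subgroup G} (hM : IsCoatom M) {A : Subgroup G} (hAM : A ≤ M)
    (hA : Cfsg.IsElementaryAbelian p A) (hAc : Nat.card A = p ^ 2) :
    Subgroup.centralizer (A : Set G) ≤ M ∧
      (¬ Good p M A →
        p ∈ Cfsg.sigma M ∧ Cfsg.alphaCore M = ⊥ ∧ Group.IsNilpotent (Cfsg.sigmaCore M)) := by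
  by_cases hgood : Good p M A
  · exact ⟨centralizer_le_of_good hgood, fun h => absurd hgood h⟩
  have hα : p ∉ Cfsg.alpha M := fun h => hgood (good_of_mem_alpha hG hM hAM hA hAc h)
  have hbot : Cfsg.alphaCore M = ⊥ := by
    by_contra h
    exact hgood (good_of_alphaCore_ne_bot hG hpl hM hAM hA hAc hα h)
  have hσ : p ∈ Cfsg.sigma M := by
    by_contra h
    exact hgood (good_of_not_sigma hG hpl hM hAM hA hAc hbot h)
  have hnil := isNilpotent_derived hG hM hbot
  refine ⟨?_, fun _ => ⟨hσ, hbot,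
    Cores.isNilpotent_of_le (BetaCore.sigmaCore_le_derived hG hM) hnil⟩⟩
  have hAp : IsPGroup p A := IsPGroup.of_card hAc
  have hr2 : Cfsg.PRankLE p 2 M := rankLE_two_of_alphaCore hG hM hbot p hp.out
  obtain ⟨P, hAP, hPM, -⟩ := Sigma.exists_sylow_ge hσ hAp hAM
  have hMP : M ≤ Subgroup.normalizer ((P : Subgroup G) : Set G) :=
    le_normalizer_of_nilpotent hnil (fun m hm => OddLocal.NarrowAut.le_normalizer_commutator
      (Subgroup.le_normalizer hm) (Subgroup.le_normalizer hm)) P (Sigma.le_derived hG hM hσ P.2 hPM)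
  have hP1 : (P : Subgroup G) ≠ ⊥ := P.ne_bot_of_dvd_card
    ((hAc ▸ dvd_pow_self p two_ne_zero : p ∣ Nat.card A).trans A.card_subgroup_dvd_card)
  set Z := Subgroup.closure {x : G | x ∈ (P : Subgroup G) ∧
    x ∈ Subgroup.centralizer ((P : Subgroup G) : Set G) ∧ x ^ p = 1} with hZ
  have hZA : Z ≤ A := by
    rw [hZ, Subgroup.closure_le]
    rintro x ⟨hxP, hxC, hxp⟩
    have hX : Cfsg.IsElementaryAbelian p (Subgroup.zpowers x) :=
      ⟨inferInstance, by
        rintro _ ⟨i, rfl⟩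
        rw [← zpow_natCast, ← zpow_mul, mul_comm, zpow_mul, zpow_natCast, hxp, one_zpow]⟩
    have hAx : A ≤ Subgroup.centralizer (Subgroup.zpowers x : Set G) :=
      hAP.trans (Subgroup.le_centralizer_iff.1 (Subgroup.zpowers_le.2 hxC))
    rw [SetLike.mem_coe, ← RankTwoPrime.eq_of_elemAb_ge hG hM hr2 hAM hA hAc
      (SCN.elemAb_sup hA hX hAx) le_sup_left]
    exact Subgroup.mem_sup_right (Subgroup.mem_zpowers x)
  have hMZ : M ≤ Subgroup.normalizer (Z : Set G) := by
    intro m hm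
    refine Subgroup.mem_normalizer_fintype fun x hx => ?_
    have hle : Z ≤ Z.comap (MulAut.conj m).toMonoidHom := by
      conv_lhs => rw [hZ]
      rw [Subgroup.closure_le]
      rintro y ⟨hy1, hy2, hy3⟩
      refine Subgroup.subset_closure ⟨(Subgroup.mem_normalizer_iff.1 (hMP hm) y).1 hy1,
        (Subgroup.mem_normalizer_iff.1
          (Fitting.normalizer_le_normalizer_centralizer _ (hMP hm)) y).1 hy2, ?_⟩
      rw [← map_pow, hy3, map_one]
    exact hle hx
  have hZ1 : Z ≠ ⊥ := by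
    haveI : Nontrivial (P : Subgroup G) := (Subgroup.nontrivial_iff_ne_bot _).2 hP1
    haveI := P.isPGroup'.center_nontrivial
    obtain ⟨n, hn, hnc⟩ :=
      (P.isPGroup'.to_subgroup (Subgroup.center (P : Subgroup G))).nontrivial_iff_card.1 inferInstance
    obtain ⟨z, hz⟩ := exists_prime_orderOf_dvd_card' (G := Subgroup.center (P : Subgroup G)) p
      ((dvd_pow_self p hn.ne').trans hnc.symm.dvd)
    have hzo : orderOf ((z : (P : Subgroup G)) : G) = p := by
      rw [Subgroup.orderOf_coe, Subgroup.orderOf_coe, hz]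
    intro e
    have hmem : ((z : (P : Subgroup G)) : G) ∈ Z := Subgroup.subset_closure
      ⟨(z : (P : Subgroup G)).2, Subgroup.mem_centralizer_iff.2 fun x hx =>
        congrArg Subtype.val (Subgroup.mem_center_iff.1 z.2 ⟨x, hx⟩),
        orderOf_dvd_iff_pow_eq_one.1 hzo.dvd⟩
    rw [e, Subgroup.mem_bot] at hmem
    rw [hmem, orderOf_one] at hzo
    exact hp.out.ne_one hzo.symm
  exact ((Subgroup.centralizer_le (SetLike.coe_subset_coe.2 hZA)).trans
    (Subgroup.centralizer_le_normalizer _)).trans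
      (normalizer_eq_of_coatom hG hM (hZA.trans hAM) hZ1 hMZ).le

end Cfsg.Agent.Lib.OddOrder.RankTwoCentralizer
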