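import Cfsg.Agent.Lib.OddOrder.Fitting
import Cfsg.Agent.Lib.OddOrder.Constrained

/-!
# The Bender method: two maximal subgroups containing each other's Fitting centres
-/

set_option autoImplicit false
set_option linter.style.haveILetI false

open scoped Pointwise commutatorElement

namespace Cfsg.Agent.Lib.OddOrder.BenderMax

open Cfsg.Agent.Lib.OddOrder.Fitting Cfsg.Agent.Lib.OddOrder.MinSimple

universe u

variable {G : Type u} [Group G] [Finite G]

theorem coprime_of_pgroup {p q : ℕ} [hp : Fact p.Prime] [hq : Fact q.Prime] (hpq : p ≠ q)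
    {Y : Subgroup G} (hY : IsPGroup q Y) : (Nat.card Y).Coprime p := by
  obtain ⟨i, hi⟩ := IsPGroup.iff_card.1 hY
  rw [hi]
  exact ((Nat.coprime_primes hq.out hp.out).2 hpq.symm).pow_left i

theorem normalizer_pCoreOf (hG : Cfsg.IsMinSimpleOddOrder G) {H : Subgroup G} (hH : IsCoatom H)
    {p : ℕ} [Fact p.Prime] (hp : p ∣ Nat.card (Cfsg.fittingOf H)) :
    Subgroup.normalizer (Cfsg.pCoreOf p H : Set G) = H :=
  normalizer_eq_of_coatom hG hH (CharP.pCoreOf_le p H) (dvd_card_fittingOf_iff.1 hp)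
    (CharP.le_normalizer_pCoreOf p H)

theorem normalizer_zPart (hG : Cfsg.IsMinSimpleOddOrder G) {H : Subgroup G} (hH : IsCoatom H)
    {p : ℕ} [Fact p.Prime] (hp : p ∣ Nat.card (Cfsg.fittingOf H)) :
    Subgroup.normalizer (zPart p H : Set G) = H :=
  normalizer_eq_of_coatom hG hH (inf_le_left.trans (CharP.pCoreOf_le p H)) (zPart_ne_bot hp)
    (le_normalizer_zPart p H)

theorem centralizer_zPart_le (hG : Cfsg.IsMinSimpleOddOrder G) {H : Subgroup G} (hH : IsCoatom H)
    {p : ℕ} [Fact p.Prime] (hp : p ∣ Nat.card (Cfsg.fittingOf H)) :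
    Subgroup.centralizer (zPart p H : Set G) ≤ H :=
  (Subgroup.centralizer_le_normalizer _).trans (normalizer_zPart hG hH hp).le

variable {H L : Subgroup G}

theorem commute_zPart (hG : Cfsg.IsMinSimpleOddOrder G) (hH : IsCoatom H)
    (hZ : ∀ (r : ℕ) [Fact r.Prime], r ∣ Nat.card (Cfsg.fittingOf H) → zPart r H ≤ L)
    {p s : ℕ} [Fact p.Prime] [Fact s.Prime] (hps : p ≠ s)
    (hp : p ∣ Nat.card (Cfsg.fittingOf H)) (hs : s ∣ Nat.card (Cfsg.fittingOf H))
    {x : G} (hx : x ∈ zPart s H) {u : G} (hu : u ∈ Cfsg.pCoreOf p L) : Commute x u := by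
  have hcop : (Nat.card (zPart s H)).Coprime p := coprime_of_pgroup hps (zPart_isPGroup s H)
  refine CharP.commute_of_axb (zPart_isPGroup p H)
    (hcop.coprime_dvd_left (Subgroup.orderOf_dvd_natCard _ hx))
    (fun b hb => (Subgroup.mem_centralizer_iff.1 hx.2 b (pCoreOf_le_fittingOf p H hb.1)).symm)
    (CharP.isPGroup_pCoreOf p L) ((hZ p hp).trans (CharP.le_normalizer_pCoreOf p L))
    (CharP.le_normalizer_pCoreOf p L (hZ s hs hx)) ?_ u hu
  intro v hv hvB
  have hvH : v ∈ H := centralizer_zPart_le hG hH hp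
    (Subgroup.mem_centralizer_iff.2 fun b hb => ((hvB b hb).eq).symm)
  exact Constrained.commute_of_mutual hcop (CharP.isPGroup_pCoreOf p L) hx hv
    (CharP.le_normalizer_pCoreOf p L (hZ s hs hx)) (le_normalizer_zPart s H hvH)

theorem pCoreOf_le (hG : Cfsg.IsMinSimpleOddOrder G) (hH : IsCoatom H)
    (hF2 : 2 ≤ (Nat.card (Cfsg.fittingOf H)).primeFactors.card)
    (hZ : ∀ (r : ℕ) [Fact r.Prime], r ∣ Nat.card (Cfsg.fittingOf H) → zPart r H ≤ L)
    {p : ℕ} [Fact p.Prime] (hp : p ∣ Nat.card (Cfsg.fittingOf H)) : Cfsg.pCoreOf p L ≤ H := by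
  obtain ⟨s, hs, hsd, hsp⟩ := exists_ne_prime hF2 p
  haveI := Fact.mk hs
  exact fun u hu => centralizer_zPart_le hG hH hsd (Subgroup.mem_centralizer_iff.2 fun x hx =>
    (commute_zPart hG hH hZ hsp.symm hp hsd hx hu).eq)

theorem dvd_fittingOf_iff (hG : Cfsg.IsMinSimpleOddOrder G) (hH : IsCoatom H) (hL : IsCoatom L)
    (hZ : ∀ (r : ℕ) [Fact r.Prime], r ∣ Nat.card (Cfsg.fittingOf H) → zPart r H ≤ L)
    (hbot : ∀ (r : ℕ) [Fact r.Prime], ¬ r ∣ Nat.card (Cfsg.fittingOf H) → Cfsg.pCoreOf r L = ⊥)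
    {s : ℕ} [Fact s.Prime] :
    s ∣ Nat.card (Cfsg.fittingOf L) ↔ s ∣ Nat.card (Cfsg.fittingOf H) := by
  constructor
  · intro h
    by_contra h'
    exact dvd_card_fittingOf_iff.1 h (hbot s h')
  · intro hs
    by_contra h'
    haveI := solvable_of_ne_top hG hL.1
    refine zPart_ne_bot hs ((Subgroup.eq_bot_iff_forall _).2 fun x hx => ?_)
    have hxF : x ∈ Cfsg.fittingOf L := inf_centralizer_fittingOf_le L
      ⟨hZ s hs hx, mem_centralizer_fittingOf fun r hr hrd u hu => by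
        have hrn : r ∣ Nat.card (Cfsg.fittingOf H) := by
          by_contra hh
          exact dvd_card_fittingOf_iff.1 hrd (hbot r hh)
        exact commute_zPart hG hH hZ (fun e => h' (by subst e; exact hrd)) hrn hs hx hu⟩
    obtain ⟨k, hk⟩ := IsPGroup.iff_card.1 (zPart_isPGroup s H)
    obtain ⟨i, -, hi⟩ := (Nat.dvd_prime_pow (Fact.out : s.Prime)).1
      (hk ▸ Subgroup.orderOf_dvd_natCard _ hx)
    have hxp := mem_pCoreOf_of_pow hxF hi
    rw [not_not.1 (mt dvd_card_fittingOf_iff.2 h'), Subgroup.mem_bot] at hxp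
    exact hxp

/-- One inclusion between the `p`-parts. -/
theorem pCoreOf_le_pCoreOf (hG : Cfsg.IsMinSimpleOddOrder G) (hH : IsCoatom H) (hL : IsCoatom L)
    (hF2 : 2 ≤ (Nat.card (Cfsg.fittingOf H)).primeFactors.card)
    (hπ : ∀ (r : ℕ) [Fact r.Prime],
      r ∣ Nat.card (Cfsg.fittingOf H) → r ∣ Nat.card (Cfsg.fittingOf L))
    (hHL : ∀ (r : ℕ) [Fact r.Prime], r ∣ Nat.card (Cfsg.fittingOf H) → Cfsg.pCoreOf r H ≤ L)
    (hLH : ∀ (r : ℕ) [Fact r.Prime], r ∣ Nat.card (Cfsg.fittingOf H) → Cfsg.pCoreOf r L ≤ H)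
    {p : ℕ} [hp : Fact p.Prime] (hpd : p ∣ Nat.card (Cfsg.fittingOf H)) :
    Cfsg.pCoreOf p L ≤ Cfsg.pCoreOf p H := by
  haveI := solvable_of_ne_top hG hH.1
  -- the parts commute across the two subgroups
  have hcross : ∀ (a b : ℕ) [Fact a.Prime] [Fact b.Prime], a ≠ b →
      a ∣ Nat.card (Cfsg.fittingOf H) → b ∣ Nat.card (Cfsg.fittingOf H) →
      ∀ x ∈ Cfsg.pCoreOf a H, ∀ u ∈ Cfsg.pCoreOf b L, Commute x u := by
    intro a b ha hb hab had hbd x hx u hu
    exact Constrained.commute_of_mutual (coprime_of_pgroup hab.symm (CharP.isPGroup_pCoreOf a H))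
      (CharP.isPGroup_pCoreOf b L) hx hu (CharP.le_normalizer_pCoreOf b L (hHL a had hx))
      (CharP.le_normalizer_pCoreOf a H (hLH b hbd hu))
  set S : Set G := {x | x ∈ H ∧ (∃ k, orderOf x = p ^ k) ∧
    ∀ s : ℕ, s.Prime → s ∣ Nat.card (Cfsg.fittingOf H) → s ≠ p →
      ∀ w ∈ Cfsg.pCoreOf s H, Commute x w} with hS
  set N₀ := Subgroup.closure S with hN₀
  have hN₀H : N₀ ≤ H := (Subgroup.closure_le H).2 fun x hx => hx.1
  have hHN : H ≤ Subgroup.normalizer (N₀ : Set G) := by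
    have key : ∀ g ∈ H, ∀ x ∈ N₀, g * x * g⁻¹ ∈ N₀ := by
      intro g hg x hx
      have hsub : N₀ ≤ N₀.comap (MulAut.conj g).toMonoidHom := by
        refine (Subgroup.closure_le _).2 ?_
        rintro w ⟨hwH, ⟨k, hk⟩, hwc⟩
        refine Subgroup.subset_closure ⟨mul_mem (mul_mem hg hwH) (inv_mem hg), ⟨k, ?_⟩, ?_⟩
        · rw [← hk]; exact ((SemiconjBy.conj_mk g w).orderOf_eq g).symm
        · intro s hs hsd hsp v hv
          haveI := Fact.mk hs
          have hv' : g⁻¹ * v * g ∈ Cfsg.pCoreOf s H :=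
            (Subgroup.mem_normalizer_iff''.1 (CharP.le_normalizer_pCoreOf s H hg) v).1 hv
          have h := hwc s hs hsd hsp _ hv'
          show g * w * g⁻¹ * v = v * (g * w * g⁻¹)
          calc g * w * g⁻¹ * v = g * (w * (g⁻¹ * v * g)) * g⁻¹ := by group
            _ = g * ((g⁻¹ * v * g) * w) * g⁻¹ := by rw [h.eq]
            _ = v * (g * w * g⁻¹) := by group
      exact hsub hx
    intro g hg
    rw [Subgroup.mem_normalizer_iff]
    refine fun x => ⟨key g hg x, fun hx => ?_⟩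
    have := key g⁻¹ (inv_mem hg) _ hx
    simpa [mul_assoc] using this
  have hPN : Cfsg.pCoreOf p L ≤ N₀ := by
    intro u hu
    refine Subgroup.subset_closure ⟨hLH p hpd hu, ?_, ?_⟩
    · obtain ⟨k, hk⟩ := IsPGroup.iff_card.1 (CharP.isPGroup_pCoreOf p L)
      obtain ⟨i, -, hi⟩ := (Nat.dvd_prime_pow hp.out).1
        (hk ▸ Subgroup.orderOf_dvd_natCard _ hu)
      exact ⟨i, hi⟩
    · intro s hs hsd hsp w hw
      haveI := Fact.mk hs
      exact (hcross s p hsp hsd hpd w hw u hu).symm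
  have hN₀L : N₀ ≤ L := by
    refine (Subgroup.closure_le L).2 ?_
    rintro c ⟨hcH, ⟨k, hck⟩, hcc⟩
    obtain ⟨s, hs, hsd, hsp⟩ := exists_ne_prime hF2 p
    haveI := Fact.mk hs
    have hCL : Subgroup.centralizer (Cfsg.pCoreOf s L : Set G) ≤ L :=
      (Subgroup.centralizer_le_normalizer _).trans (normalizer_pCoreOf hG hL (hπ s hsd)).le
    refine hCL (Subgroup.mem_centralizer_iff.2 fun u hu => ?_)
    have huH : u ∈ H := hLH s hsd hu
    set z := ⁅u, c⁆ with hz
    have hzH : z ∈ H := by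
      rw [hz, commutatorElement_def]
      exact mul_mem (mul_mem (mul_mem huH hcH) (inv_mem huH)) (inv_mem hcH)
    have hzC : z ∈ Subgroup.centralizer (Cfsg.fittingOf H : Set G) := by
      refine mem_centralizer_fittingOf fun r hr hrd w hw => ?_
      suffices z ∈ Subgroup.centralizer (Cfsg.pCoreOf r H : Set G) from
        (Subgroup.mem_centralizer_iff.1 this w hw).symm
      have hN : H ≤ Subgroup.normalizer
          (Subgroup.centralizer (Cfsg.pCoreOf r H : Set G) : Set G) :=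
        (CharP.le_normalizer_pCoreOf r H).trans (normalizer_le_normalizer_centralizer _)
      rcases eq_or_ne r p with rfl | hrp
      · have hu' : u ∈ Subgroup.centralizer (Cfsg.pCoreOf r H : Set G) :=
          Subgroup.mem_centralizer_iff.2 fun v hv => (hcross r s hsp.symm hrd hsd v hv u hu).eq
        rw [hz, commutatorElement_def, show u * c * u⁻¹ * c⁻¹ = u * (c * u⁻¹ * c⁻¹) by group]
        exact mul_mem hu' ((Subgroup.mem_normalizer_iff.1 (hN hcH) u⁻¹).1 (inv_mem hu'))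
      · have hc' : c ∈ Subgroup.centralizer (Cfsg.pCoreOf r H : Set G) :=
          Subgroup.mem_centralizer_iff.2 fun v hv => ((hcc r hr.out hrd hrp v hv).eq).symm
        rw [hz, commutatorElement_def]
        exact mul_mem ((Subgroup.mem_normalizer_iff.1 (hN huH) c).1 hc') (inv_mem hc')
    have hzF : z ∈ Cfsg.fittingOf H := inf_centralizer_fittingOf_le H ⟨hzH, hzC⟩
    have hzs : z ∈ Cfsg.pCoreOf s H := by
      obtain ⟨t, m, hm, hzo⟩ := Nat.exists_eq_pow_mul_and_not_dvd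
        (orderOf_pos z).ne' s hs.ne_one
      have hcp : (s ^ t).Coprime m := ((hs.coprime_iff_not_dvd).2 hm).pow_left t
      have hB := Nat.gcd_eq_gcd_ab (s ^ t) m
      rw [hcp] at hB
      set A := Nat.gcdA (s ^ t) m
      set B := Nat.gcdB (s ^ t) m
      set a := z ^ (((m : ℕ) : ℤ) * B) with ha
      set b := z ^ (((s ^ t : ℕ) : ℤ) * A) with hb
      have hab : z = a * b := by
        rw [ha, hb, ← zpow_add, add_comm, ← hB, Nat.cast_one, zpow_one]
      have hza : a ^ s ^ t = 1 := by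
        rw [ha, ← zpow_natCast, ← zpow_mul,
          show ((m : ℕ) : ℤ) * B * ((s ^ t : ℕ) : ℤ) = ((orderOf z : ℕ) : ℤ) * B by
            rw [hzo]; push_cast; ring,
          zpow_mul, zpow_natCast, pow_orderOf_eq_one, one_zpow]
      have hzb : b ^ m = 1 := by
        rw [hb, ← zpow_natCast, ← zpow_mul,
          show ((s ^ t : ℕ) : ℤ) * A * ((m : ℕ) : ℤ) = ((orderOf z : ℕ) : ℤ) * A by
            rw [hzo]; push_cast; ring,
          zpow_mul, zpow_natCast, pow_orderOf_eq_one, one_zpow]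
      have haF : a ∈ Cfsg.fittingOf H := zpow_mem hzF _
      have has : a ∈ Cfsg.pCoreOf s H := by
        obtain ⟨i, -, hi⟩ := (Nat.dvd_prime_pow hs).1 (orderOf_dvd_of_pow_eq_one hza)
        exact mem_pCoreOf_of_pow haF hi
      have hbu : Commute b u := by
        have hu2 : u ∈ Subgroup.centralizer (Subgroup.zpowers b : Set G) := by
          refine mem_centralizer_of_primary (Subgroup.zpowers_le.2 (zpow_mem hzF _)) ?_
          intro r hr hrd w hw
          rcases eq_or_ne r s with rfl | hrs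
          · have h1 : orderOf w ∣ m := (orderOf_dvd_of_mem_zpowers hw.1).trans
              (orderOf_dvd_of_pow_eq_one hzb)
            obtain ⟨i, hi⟩ := IsPGroup.iff_card.1 (CharP.isPGroup_pCoreOf r H)
            have h2 : orderOf w ∣ r ^ i := hi ▸ Subgroup.orderOf_dvd_natCard _ hw.2
            rw [orderOf_eq_one_iff.1 (Nat.eq_one_of_dvd_coprimes
              (((hs.coprime_iff_not_dvd).2 hm).pow_left i) h2 h1)]
            exact Commute.one_right u
          · exact (hcross r s hrs hrd hsd w hw.2 u hu).symm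
        exact Subgroup.mem_centralizer_iff.1 hu2 b (Subgroup.mem_zpowers b)
      -- `u⁻¹ * a` is an `s`-element
      have hW : IsPGroup s (Cfsg.pCoreOf s H ⊔ Cfsg.pCoreOf s L : Subgroup G) :=
        (CharP.isPGroup_pCoreOf s H).to_sup_of_normal_right' (CharP.isPGroup_pCoreOf s L)
          ((hHL s hsd).trans (CharP.le_normalizer_pCoreOf s L))
      obtain ⟨j, hj⟩ := IsPGroup.iff_card.1 hW
      have h1 : (u⁻¹ * a) ^ s ^ j = 1 := orderOf_dvd_iff_pow_eq_one.1 (hj ▸
        Subgroup.orderOf_dvd_natCard _ (mul_mem (Subgroup.mem_sup_right (inv_mem hu))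
          (Subgroup.mem_sup_left has)))
      have hub : Commute (u⁻¹ * a) b :=
        Commute.mul_left hbu.symm.inv_left (by rw [ha, hb]; exact Commute.zpow_zpow_self z _ _)
      have hconj : c * u⁻¹ * c⁻¹ = u⁻¹ * a * b := by
        rw [mul_assoc u⁻¹, ← hab, hz, commutatorElement_def]; group
      have h2 : (c * u⁻¹ * c⁻¹) ^ s ^ j = 1 := by
        rw [conj_pow, orderOf_dvd_iff_pow_eq_one.1 (hj ▸ Subgroup.orderOf_dvd_natCard _
          (Subgroup.mem_sup_right (inv_mem hu))), mul_one, mul_inv_cancel]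
      rw [hconj, hub.mul_pow, h1, one_mul] at h2
      have hb1 : b = 1 := orderOf_eq_one_iff.1 (Nat.eq_one_of_dvd_coprimes
        (((hs.coprime_iff_not_dvd).2 hm).pow_left j) (orderOf_dvd_of_pow_eq_one h2)
        (orderOf_dvd_of_pow_eq_one hzb))
      rw [hab, hb1, mul_one]
      exact has
    have hco : (orderOf c).Coprime s := by
      rw [hck]; exact ((Nat.coprime_primes hp.out hs).2 hsp.symm).pow_left k
    have h := CharP.commute_of_comm_mem (CharP.isPGroup_pCoreOf s H) hco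
      (fun w hw => hcc s hs hsd hsp w hw) (g := u⁻¹) (by rw [inv_inv]; exact hzs)
    have h' := h.inv_right
    rw [inv_inv] at h'
    exact h'.eq.symm
  have h1 : Cfsg.pCoreOf p L ≤ Cfsg.pCoreOf p N₀ :=
    CharP.le_pCoreOf (CharP.isPGroup_pCoreOf p L) hPN
      (hN₀L.trans (CharP.le_normalizer_pCoreOf p L))
  exact h1.trans (CharP.le_pCoreOf (CharP.isPGroup_pCoreOf p N₀)
    ((CharP.pCoreOf_le p N₀).trans hN₀H)
    (hHN.trans (CharP.normalizer_le_normalizer_map_char _)))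

/-- The Bender argument: `H = L`. -/
theorem eq_of_zPart_le (hG : Cfsg.IsMinSimpleOddOrder G) (hH : IsCoatom H) (hL : IsCoatom L)
    (hF2 : 2 ≤ (Nat.card (Cfsg.fittingOf H)).primeFactors.card)
    (hZ : ∀ (r : ℕ) [Fact r.Prime], r ∣ Nat.card (Cfsg.fittingOf H) → zPart r H ≤ L)
    (hbot : ∀ (r : ℕ) [Fact r.Prime], ¬ r ∣ Nat.card (Cfsg.fittingOf H) → Cfsg.pCoreOf r L = ⊥) :
    H = L := by
  have hπ : ∀ (r : ℕ) [Fact r.Prime],
      r ∣ Nat.card (Cfsg.fittingOf L) ↔ r ∣ Nat.card (Cfsg.fittingOf H) :=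
    fun r _ => dvd_fittingOf_iff hG hH hL hZ hbot
  have hF2' : 2 ≤ (Nat.card (Cfsg.fittingOf L)).primeFactors.card := by
    refine hF2.trans (Finset.card_le_card fun r hr => ?_)
    obtain ⟨h1, h2, -⟩ := Nat.mem_primeFactors.1 hr
    haveI := Fact.mk h1
    exact Nat.mem_primeFactors.2 ⟨h1, (hπ r).2 h2, Nat.card_pos.ne'⟩
  have hLH : ∀ (r : ℕ) [Fact r.Prime], r ∣ Nat.card (Cfsg.fittingOf H) → Cfsg.pCoreOf r L ≤ H :=
    fun r _ hr => pCoreOf_le hG hH hF2 hZ hr
  have hZ' : ∀ (r : ℕ) [Fact r.Prime], r ∣ Nat.card (Cfsg.fittingOf L) → zPart r L ≤ H :=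
    fun r _ hr => inf_le_left.trans (hLH r ((hπ r).1 hr))
  have hHL : ∀ (r : ℕ) [Fact r.Prime], r ∣ Nat.card (Cfsg.fittingOf H) → Cfsg.pCoreOf r H ≤ L :=
    fun r _ hr => pCoreOf_le hG hL hF2' hZ' ((hπ r).2 hr)
  obtain ⟨p, hp, hpd, -⟩ := exists_ne_prime hF2 0
  haveI := Fact.mk hp
  have h1 : Cfsg.pCoreOf p L ≤ Cfsg.pCoreOf p H :=
    pCoreOf_le_pCoreOf hG hH hL hF2 (fun r _ h => (hπ r).2 h) hHL hLH hpd
  have h2 : Cfsg.pCoreOf p H ≤ Cfsg.pCoreOf p L :=
    pCoreOf_le_pCoreOf hG hL hH hF2' (fun r _ h => (hπ r).1 h)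
      (fun r _ h => hLH r ((hπ r).1 h)) (fun r _ h => hHL r ((hπ r).1 h)) ((hπ p).2 hpd)
  rw [← normalizer_pCoreOf hG hH hpd, ← normalizer_pCoreOf hG hL ((hπ p).2 hpd),
    le_antisymm h1 h2]

end Cfsg.Agent.Lib.OddOrder.BenderMax
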