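import Cfsg.Agent.Lib.OddOrder.MoverBasics

/-!
# The primes of `M_σ ∩ H` for a moved `P` with `N(P) ≤ H` lie in `τ₃(H)`
-/

set_option autoImplicit false
set_option linter.style.haveILetI false
set_option linter.unusedSectionVars false

open scoped Pointwise commutatorElement

namespace Cfsg.Agent.Lib.OddOrder.MoverAlpha

open Cfsg.Agent.Lib.OddOrder.MinSimple

universe u

variable {G : Type u} [Group G] [Finite G] {p : ℕ} [hp : Fact p.Prime]

/-- No element of order `q ∈ β(M)` centralizes both `P` and an element moving `P`. -/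
theorem false_of_beta (hG : Cfsg.IsMinSimpleOddOrder G) {M H P : Subgroup G} (hM : IsCoatom M)
    (hH : IsCoatom H) (hτ : p ∈ Cfsg.tau3 M) (hPc : Nat.card P = p) (hPM : P ≤ M)
    (hNH : Subgroup.normalizer (P : Set G) ≤ H) {t : ℕ} [ht : Fact t.Prime] (htτ : t ∈ Cfsg.tau1 M)
    {y : G} (hy : orderOf y = t) (hyM : y ∈ M) (hyN : y ∈ Subgroup.normalizer (P : Set G))
    (hyC : y ∉ Subgroup.centralizer (P : Set G)) {q : ℕ} [hq : Fact q.Prime]
    (hqβ : q ∈ Cfsg.beta M) {x : G} (hxo : orderOf x = q) (hxM : x ∈ M)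
    (hxP : x ∈ Subgroup.centralizer (P : Set G)) (hxy : Commute x y) : False := by
  have hPp := ComplementLines.isPGroup_of_card hPc
  have hqM := AlphaCore.alpha_subset_sigma hG hM hqβ.1
  have hqp : p ≠ q := fun e => hτ.2.1 (e ▸ hqM)
  have hqt : t ≠ q := fun e => htτ.2.1 (e ▸ hqM)
  have htp : p ≠ t := by
    rintro rfl
    exact htτ.2.2.2.1 hτ.2.2.1
  have hyx : y ∈ Subgroup.centralizer (Subgroup.zpowers x : Set G) := by
    rw [SigmaDisjoint.centralizer_zpowers]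
    exact Subgroup.mem_centralizer_singleton_iff.2 hxy.eq.symm
  have hPx : P ≤ Subgroup.centralizer (Subgroup.zpowers x : Set G) := by
    rw [SigmaDisjoint.centralizer_zpowers]
    exact fun b hb =>
      Subgroup.mem_centralizer_singleton_iff.2 (Subgroup.mem_centralizer_iff.1 hxP b hb)
  have hyP : Subgroup.zpowers y ≤ Subgroup.normalizer (P : Set G) := Subgroup.zpowers_le.2 hyN
  obtain ⟨T, hTq, hxT, hTM, hAT, hTr⟩ := CentTauOne.exists_sylow_inv hG hM hqβ
    (SigmaDisjoint.zpowers_isPGroup hxo) (Subgroup.zpowers_le.2 hxM)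
    (A := P ⊔ Subgroup.zpowers y) (sup_le hPM (Subgroup.zpowers_le.2 hyM))
    (sup_le (hPx.trans (Subgroup.centralizer_le_normalizer _))
      (Subgroup.zpowers_le.2 (Subgroup.centralizer_le_normalizer _ hyx)))
    fun s hs hd hsβ => by
      have hsσ := AlphaCore.alpha_subset_sigma hG hM hsβ.1
      rcases SigmaSubgroup.relIndex_sup_right_le s hs hd hyP with h1 | h1
      · exact hτ.2.1 (Hall.prime_dvd_pgroup hp.out hs hPp h1 ▸ hsσ)
      · rw [Nat.card_zpowers, hy] at h1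
        exact htτ.2.1 ((Nat.prime_dvd_prime_iff_eq hs ht.out).1 h1 ▸ hsσ)
  have hPT := CentTauOne.centralizes_sylow (p := q) (q := p) (r := t) hG hM hqβ.1 hqβ.2 hqt hqp
    htp hy hyM htτ.2.1 (fun h => h.2.2.2 htτ.2.2.2.2) (P := Subgroup.zpowers x)
    (by rw [Nat.card_zpowers, hxo]) hxT hTq hTM hPp hPM (le_sup_left.trans hAT)
    (hAT (Subgroup.mem_sup_right (Subgroup.mem_zpowers y))) hyN
    (MoverBasics.commutator_eq hPc hyN hyC) hyx hPx
  have hTH : T ≤ H := (Subgroup.le_centralizer_iff.1 hPT).trans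
    ((Subgroup.centralizer_le_normalizer _).trans hNH)
  exact MaximalBasics.not_alpha_of_sigma hG hM hH (MaximalBasics.not_conj_of_normalizer hG hM
    hτ.2.1 (fun h => h.2.2.2 hτ.2.2.2) hPp (ComplementLines.ne_bot_of_card hPc) hNH) hqM
    ⟨hq.out, fun h => hTr (Rank.prankLE_mono hTH h)⟩

/-- With `P` moved by an element of prime order, `P` centralizes `M_σ ∩ H` and the primes of
`M_σ ∩ H` lie in `τ₃(H)`. -/
theorem mem_tau3 (hG : Cfsg.IsMinSimpleOddOrder G) {M H P : Subgroup G} (hM : IsCoatom M)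
    (hH : IsCoatom H) (hps : p ∉ Cfsg.sigma M) (hr1 : Cfsg.PRankLE p 1 M) (hPc : Nat.card P = p)
    (hPM : P ≤ M) (hfix : Cfsg.sigmaCore M ⊓ Subgroup.centralizer (P : Set G) ≠ ⊥)
    (hNH : Subgroup.normalizer (P : Set G) ≤ H) {t : ℕ} [ht : Fact t.Prime]
    {y : G} (hy : orderOf y = t) (hyM : y ∈ M) (hyN : y ∈ Subgroup.normalizer (P : Set G))
    (hyC : y ∉ Subgroup.centralizer (P : Set G)) :
    Cfsg.sigmaCore M ⊓ H ≤ Subgroup.centralizer (P : Set G) ∧
      ∀ q, q.Prime → q ∣ Nat.card ↥(Cfsg.sigmaCore M ⊓ H) → q ∈ Cfsg.tau3 H := by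
  have hPp := ComplementLines.isPGroup_of_card hPc
  have hnc := MaximalBasics.not_conj_of_normalizer hG hM hps (fun h => h.2.2.2 hr1) hPp
    (ComplementLines.ne_bot_of_card hPc) hNH
  have hPH : P ≤ H := Subgroup.le_normalizer.trans hNH
  have hpH := NormalizerSigma.sigma_of_fixed hG hM hps hr1 hPc hPM hfix hH hNH
  have hPσ := OddTau.Basic.pgroup_le_sigmaCore hG hH hpH hPp hPH
  have hXC := Subgroup.le_centralizer_iff.1 (SigmaMeet.centralizes hG hM hH hnc hps hPp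
    (le_inf hPM hPH) (Sigma.le_derived hG hH hpH hPp hPH))
  obtain ⟨hτ, htτ, -⟩ := MoverBasics.mem_tau hG hM hps hr1 hPc hPM hfix (k := 0)
    (by rw [hy, pow_one]) hyM hyN hyC
  refine ⟨hXC, fun q hq hqd => ?_⟩
  haveI := Fact.mk hq
  have hσ := SigmaHall.sigmaCore_isPiHallOf hG hM
  have hqM : q ∈ Cfsg.sigma M := hσ.2.1 q hq (hqd.trans (Subgroup.card_dvd_of_le inf_le_left))
  have hqH : q ∉ Cfsg.sigma H := TauTwoPartner.not_sigma hG hM hH hnc hqM
  obtain ⟨⟨x₁, hx₁σ, hx₁H⟩, hx₁o⟩ := exists_prime_orderOf_dvd_card'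
    (G := ↥(Cfsg.sigmaCore M ⊓ H)) q hqd
  rw [← Subgroup.orderOf_coe] at hx₁o
  simp only at hx₁o
  have hqr2 : Cfsg.PRankLE q 2 H := by
    by_contra h
    exact hqH (AlphaCore.alpha_subset_sigma hG hH ⟨hq, h⟩)
  have hqr : Cfsg.PRankLE q 1 H := by
    by_contra h
    refine ComplementLines.ne_bot_of_card hPc (le_bot_iff.1 ?_)
    rw [← TauTwoMeet.fixed_inf_eq_bot hG hM hH hqM ⟨hq, hqH, hqr2, h⟩
      (OddTau.Basic.sigmaCore_le M hx₁σ) hx₁H hx₁o]
    refine le_inf (le_inf hPσ fun b hb => Subgroup.mem_centralizer_singleton_iff.2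
      (Subgroup.mem_centralizer_iff.1 (hXC (Subgroup.mem_inf.2 ⟨hx₁σ, hx₁H⟩)) b hb)) hPM
  refine ⟨hq, hqH, ?_, hqr⟩
  by_contra hnd
  have hqτ : q ∈ Cfsg.tau1 H :=
    ⟨hq, hqH, hqd.trans (Subgroup.card_dvd_of_le inf_le_right), hnd, hqr⟩
  have hyH : y ∈ H := hNH hyN
  have hYD : Subgroup.zpowers y ≤ M ⊓ H := Subgroup.zpowers_le.2 (Subgroup.mem_inf.2 ⟨hyM, hyH⟩)
  have hqi : Cfsg.IsIdealPrime q G := by
    obtain ⟨a, ha, hne, -⟩ := MoverBasics.exists_comm hyN hyC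
    refine SigmaMeet.mem_ideal (TauTwoFacts.tauTwo hG) hG hH hM
      (MaximalBasics.not_conj_symm hnc) hqτ ?_ (T := Subgroup.zpowers y)
      (hYD.trans (inf_comm _ _).le) fun e => hne ?_
    · rw [← hx₁o]
      exact Subgroup.orderOf_dvd_natCard _ (Sigma.le_derived hG hM hqM
        (SigmaDisjoint.zpowers_isPGroup hx₁o)
        (Subgroup.zpowers_le.2 (OddTau.Basic.sigmaCore_le M hx₁σ)) (Subgroup.mem_zpowers x₁))
    · exact Subgroup.mem_bot.1 (e ▸ Subgroup.commutator_mem_commutator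
        (Subgroup.mem_inf.2 ⟨hPσ ha, hPM ha⟩) (Subgroup.mem_zpowers y))
  -- `y` centralizes an invariant Sylow subgroup of `M_σ ∩ H`
  obtain ⟨R₀, -, hyR⟩ := Coprime.exists_invariant_sylow_ge
    (SigmaMeet.le_normalizer_inf hYD)
    ((OddTau.Basic.coprime_sigmaCore (SigmaDisjoint.zpowers_isPGroup hy) htτ.2.1).coprime_dvd_right
      (Subgroup.card_dvd_of_le inf_le_left))
    (Or.inl inferInstance) q ⊥ bot_le IsPGroup.of_bot
    (fun g _ => Subgroup.mem_normalizer_iff.2 fun z => by simp)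
  set R := (R₀ : Subgroup _).map (Cfsg.sigmaCore M ⊓ H : Subgroup G).subtype with hR
  have hRX : R ≤ Cfsg.sigmaCore M ⊓ H := Subgroup.map_subtype_le _
  have hRy : ⁅R, Subgroup.zpowers y⁆ = ⊥ := by
    refine le_bot_iff.1 ?_
    rw [← Basic.inf_eq_bot_of_coprime (A := R) (B := ⁅H, H⁆) (Nat.coprime_of_dvd fun r hr h1 h2 =>
      hnd (Hall.prime_dvd_pgroup hq hr (R₀.2.map _) h1 ▸ h2))]
    exact le_inf (Subgroup.le_normalizer_iff_commutator_le_left.1 hyR)
      (Subgroup.commutator_mono (hRX.trans inf_le_right) (Subgroup.zpowers_le.2 hyH))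
  have hRd : q ∣ Nat.card R := by
    rw [hR, Subgroup.card_map_of_injective (Subgroup.subtype_injective _)]
    exact Sylow.dvd_card_of_dvd_card R₀ hqd
  obtain ⟨⟨x, hxR⟩, hxo⟩ := exists_prime_orderOf_dvd_card' (G := R) q hRd
  rw [← Subgroup.orderOf_coe] at hxo
  refine false_of_beta hG hM hH hτ hPc hPM hNH htτ hy hyM hyN hyC
    ⟨SigmaDisjoint.mem_alpha_of_ideal hqM hqi, hqi⟩ hxo
    (OddTau.Basic.sigmaCore_le M (hRX hxR).1) (hXC (hRX hxR)) ?_
  exact commutatorElement_eq_one_iff_mul_comm.1 (Subgroup.mem_bot.1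
    (hRy ▸ Subgroup.commutator_mem_commutator hxR (Subgroup.mem_zpowers y)))

end Cfsg.Agent.Lib.OddOrder.MoverAlpha
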