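import Cfsg.Agent.Lib.OddOrder.NormalizerSigma

/-!
# An element of prime order moving a subgroup of order `p ∉ σ(M)` with a fixed point on `M_σ`
-/

set_option autoImplicit false
set_option linter.style.haveILetI false
set_option linter.unusedSectionVars false

open scoped Pointwise commutatorElement

namespace Cfsg.Agent.Lib.OddOrder.MoverBasics

open Cfsg.Agent.Lib.OddOrder.MinSimple

universe u

variable {G : Type u} [Group G] [Finite G] {p : ℕ} [hp : Fact p.Prime]

/-- A moving element gives a nontrivial commutator in `P`. -/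
theorem exists_comm {P : Subgroup G} {y : G} (hyN : y ∈ Subgroup.normalizer (P : Set G))
    (hyC : y ∉ Subgroup.centralizer (P : Set G)) : ∃ a ∈ P, ⁅a, y⁆ ≠ 1 ∧ ⁅a, y⁆ ∈ P := by
  by_contra hcon
  refine hyC (Subgroup.mem_centralizer_iff.2 fun a ha =>
    commutatorElement_eq_one_iff_mul_comm.1 (by_contra fun h => hcon ⟨a, ha, h, ?_⟩))
  rw [commutatorElement_def, show a * y * a⁻¹ * y⁻¹ = a * (y * a⁻¹ * y⁻¹) by group]
  exact mul_mem ha ((Subgroup.mem_normalizer_iff.1 hyN _).1 (inv_mem ha))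

/-- `[P, ⟨y⟩] = P` for an element moving `P` of prime order. -/
theorem commutator_eq {P : Subgroup G} (hPc : Nat.card P = p) {y : G}
    (hyN : y ∈ Subgroup.normalizer (P : Set G)) (hyC : y ∉ Subgroup.centralizer (P : Set G)) :
    ⁅P, Subgroup.zpowers y⁆ = P := by
  refine le_antisymm
    (Subgroup.le_normalizer_iff_commutator_le_left.1 (Subgroup.zpowers_le.2 hyN)) ?_
  obtain ⟨a, ha, hne, hmem⟩ := exists_comm hyN hyC
  exact (ComplementLines.zpowers_eq_of_card hPc hmem hne).ge.trans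
    (Subgroup.zpowers_le.2 (Subgroup.commutator_mem_commutator ha (Subgroup.mem_zpowers y)))

/-- In a maximal `K` an element moving a subgroup of order `p ∉ σ(K)` is not in `K_σ`; its prime is
outside `σ(K)`. -/
theorem mover_not_sigma (hG : Cfsg.IsMinSimpleOddOrder G) {K P : Subgroup G} (hK : IsCoatom K)
    (hpK : p ∉ Cfsg.sigma K) (hPc : Nat.card P = p) (hPK : P ≤ K) {t k : ℕ} [ht : Fact t.Prime]
    {y : G} (hy : orderOf y = t ^ (k + 1)) (hyK : y ∈ K)
    (hyN : y ∈ Subgroup.normalizer (P : Set G)) (hyC : y ∉ Subgroup.centralizer (P : Set G)) :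
    t ∉ Cfsg.sigma K := by
  intro htσ
  obtain ⟨a, ha, hne, hmem⟩ := exists_comm hyN hyC
  have hYp : IsPGroup t (Subgroup.zpowers y) :=
    IsPGroup.of_card (n := k + 1) (by rw [Nat.card_zpowers, hy])
  have hyσ : y ∈ Cfsg.sigmaCore K := SigmaSubgroup.le_sigmaCore hG hK
    (Subgroup.zpowers_le.2 hyK) (fun r hr hd => Hall.prime_dvd_pgroup ht.out hr hYp hd ▸ htσ)
    (Subgroup.mem_zpowers y)
  refine hne (Subgroup.mem_bot.1 ?_)
  rw [← Basic.inf_eq_bot_of_coprime
    (OddTau.Basic.coprime_sigmaCore (ComplementLines.isPGroup_of_card hPc) hpK)]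
  refine Subgroup.mem_inf.2 ⟨hmem, ?_⟩
  rw [commutatorElement_def]
  exact mul_mem ((Subgroup.mem_normalizer_iff.1
    (OddTau.Basic.le_normalizer_sigmaCore K (hPK ha)) y).1 hyσ) (inv_mem hyσ)

/-- The prime of an element moving `P` lies in `τ₁(M)`, and `p ∈ τ₃(M)`. -/
theorem mem_tau (hG : Cfsg.IsMinSimpleOddOrder G) {M P : Subgroup G} (hM : IsCoatom M)
    (hps : p ∉ Cfsg.sigma M) (hr1 : Cfsg.PRankLE p 1 M) (hPc : Nat.card P = p) (hPM : P ≤ M)
    (hfix : Cfsg.sigmaCore M ⊓ Subgroup.centralizer (P : Set G) ≠ ⊥) {t k : ℕ} [ht : Fact t.Prime]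
    {y : G} (hy : orderOf y = t ^ (k + 1)) (hyM : y ∈ M)
    (hyN : y ∈ Subgroup.normalizer (P : Set G)) (hyC : y ∉ Subgroup.centralizer (P : Set G)) :
    p ∈ Cfsg.tau3 M ∧ t ∈ Cfsg.tau1 M ∧ ∀ r, r ∉ Cfsg.tau2 M := by
  have hPp := ComplementLines.isPGroup_of_card hPc
  have hpd : p ∣ Nat.card ↥⁅M, M⁆ := NormalizerSigma.dvd_card_of_mover hPc hyM hPM hyN hyC
  have hτ : p ∈ Cfsg.tau3 M := ⟨hp.out, hps, hpd, hr1⟩
  obtain ⟨H, hH, hNH⟩ := exists_coatom_ge hG (normalizer_ne_top hG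
    (ComplementLines.ne_bot_of_card hPc) (pgroup_ne_top hG hPp))
  have hnoτ := NormalizerSigma.not_mem_tau2 hG hM hτ hPc hPM hfix hH hNH
  have hYp : IsPGroup t (Subgroup.zpowers y) :=
    IsPGroup.of_card (n := k + 1) (by rw [Nat.card_zpowers, hy])
  have htσ := mover_not_sigma hG hM hps hPc hPM hy hyM hyN hyC
  have htr : Cfsg.PRankLE t 1 M := by
    by_contra h
    refine hnoτ t ⟨ht.out, htσ, ?_, h⟩
    by_contra h2
    exact htσ (AlphaCore.alpha_subset_sigma hG hM ⟨ht.out, h2⟩)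
  refine ⟨hτ, ⟨ht.out, htσ, ?_, fun hd => hyC ?_, htr⟩, hnoτ⟩
  · exact ((dvd_pow_self t k.succ_ne_zero).trans hy.symm.dvd).trans
      (Subgroup.orderOf_dvd_natCard M hyM)
  · exact ComplementLines.derived_centralizes_line hG hM hps hPc
      (SigmaDisjoint.le_derived_of_rank_one hG hr1 hpd hPp hPM)
      (SigmaDisjoint.le_derived_of_rank_one hG htr hd hYp (Subgroup.zpowers_le.2 hyM)
        (Subgroup.mem_zpowers y)) hyN

/-- `C_{M_σ}(y₀) ≰ C(P)`: otherwise `P` would be normal in `M`. -/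
theorem fixed_not_le (hG : Cfsg.IsMinSimpleOddOrder G) {M P : Subgroup G} (hM : IsCoatom M)
    (hτ : p ∈ Cfsg.tau3 M) (hPc : Nat.card P = p) (hPM : P ≤ M) {t : ℕ} [ht : Fact t.Prime]
    {y : G} (hy : orderOf y = t) (hyM : y ∈ M) (hyN : y ∈ Subgroup.normalizer (P : Set G))
    (hyC : y ∉ Subgroup.centralizer (P : Set G)) :
    ¬ Cfsg.sigmaCore M ⊓ Subgroup.centralizer ({y} : Set G) ≤
      Subgroup.centralizer (P : Set G) := by
  intro hle
  have hPp := ComplementLines.isPGroup_of_card hPc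
  have hσ := SigmaHall.sigmaCore_isPiHallOf hG hM
  have htσ := mover_not_sigma hG hM hτ.2.1 hPc hPM (k := 0) (by rw [hy, pow_one]) hyM hyN hyC
  have hpt : p ≠ t := by
    rintro rfl
    exact hyC (ComplementLines.pgroup_centralizes hPc (Y := Subgroup.zpowers y)
      (IsPGroup.of_card (n := 1) (by rw [Nat.card_zpowers, hy, pow_one]))
      (Subgroup.zpowers_le.2 hyN) (Subgroup.mem_zpowers y))
  have hYP : Subgroup.zpowers y ≤ Subgroup.normalizer (P : Set G) := Subgroup.zpowers_le.2 hyN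
  have hAM : P ⊔ Subgroup.zpowers y ≤ M := sup_le hPM (Subgroup.zpowers_le.2 hyM)
  haveI := solvable_of_ne_top hG hM.1
  have hPC : Cfsg.sigmaCore M ≤ Subgroup.centralizer (P : Set G) := by
    suffices h1 : (Cfsg.sigmaCore M ⊓ Subgroup.centralizer (P : Set G)).relIndex
        (Cfsg.sigmaCore M) = 1 from (Subgroup.relIndex_eq_one.1 h1).trans inf_le_right
    by_contra h1
    obtain ⟨s, hs, hd⟩ := Nat.exists_prime_and_dvd h1
    haveI := Fact.mk hs
    have hsσ : s ∈ Cfsg.sigma M := hσ.2.1 s hs (hd.trans (Subgroup.relIndex_dvd_card _ _))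
    have hcop : (Nat.card ↥(P ⊔ Subgroup.zpowers y)).Coprime
        (Nat.card (Cfsg.sigmaCore M)) := by
      refine Nat.coprime_of_dvd fun r hr h1 h2 => ?_
      rcases SigmaSubgroup.relIndex_sup_right_le r hr h1 hYP with h1 | h1
      · exact hτ.2.1 (Hall.prime_dvd_pgroup hp.out hr hPp h1 ▸ hσ.2.1 r hr h2)
      · rw [Nat.card_zpowers, hy] at h1
        exact htσ ((Nat.prime_dvd_prime_iff_eq hr ht.out).1 h1 ▸ hσ.2.1 r hr h2)
    -- `P` centralizes a Sylow subgroup, hence an invariant one, for each prime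
    obtain ⟨T₀, -, hAT⟩ := Coprime.exists_invariant_sylow_ge
      (hAM.trans (OddTau.Basic.le_normalizer_sigmaCore M)) hcop
      (Or.inr (Coprime.isSolvable_of_le (OddTau.Basic.sigmaCore_le M))) s ⊥ bot_le
      IsPGroup.of_bot (fun g _ => Subgroup.mem_normalizer_iff.2 fun z => by simp)
    set T := (T₀ : Subgroup _).map (Cfsg.sigmaCore M).subtype with hT
    have hTσ : T ≤ Cfsg.sigmaCore M := Subgroup.map_subtype_le _
    have hPT : P ≤ Subgroup.centralizer (T : Set G) := by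
      refine FixedCommutes.le_centralizer (p := s) (q := p) (r := t)
        (ne_two_of_dvd hG (hsσ.2.1.trans M.card_subgroup_dvd_card))
        (fun e => hτ.2.1 (e ▸ hsσ)) (fun e => htσ (e ▸ hsσ)) hpt inferInstance (odd_card hG M)
        T P y hy (T₀.2.map _) hPp (le_sup_left.trans hAT)
        (hAT (Subgroup.mem_sup_right (Subgroup.mem_zpowers y))) hyN
        (commutator_eq hPc hyN hyC) (hTσ.trans (OddTau.Basic.sigmaCore_le M)) hPM hyM
        fun w hw hwy _ => hle (Subgroup.mem_inf.2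
          ⟨hTσ hw, Subgroup.mem_centralizer_singleton_iff.2 hwy.symm⟩)
    refine T₀.not_dvd_index (hd.trans ?_)
    rw [← Basic.relIndex_map_subtype]
    exact Subgroup.relIndex_dvd_of_le_left _ (le_inf hTσ (Subgroup.le_centralizer_iff.1 hPT))
  obtain ⟨E, hE, hPE⟩ := BetaDerived.exists_compl_ge hG hM hPM fun s hs hd =>
    Hall.prime_dvd_pgroup hp.out hs hPp hd ▸ hτ.2.1
  have hMN : M ≤ Subgroup.normalizer (P : Set G) := (Basic.isComplIn_sup hE).ge.trans
    (sup_le (ComplementLines.compl_le_normalizer hG hM hE hτ hPc hPE).1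
      (hPC.trans (Subgroup.centralizer_le_normalizer _)))
  obtain ⟨H, hH, hNH⟩ := exists_coatom_ge hG (normalizer_ne_top hG
    (ComplementLines.ne_bot_of_card hPc) (pgroup_ne_top hG hPp))
  refine MaximalBasics.not_conj_of_normalizer hG hM hτ.2.1 (fun h => h.2.2.2 hτ.2.2.2) hPp
    (ComplementLines.ne_bot_of_card hPc) hNH 1 ?_
  rw [map_one]
  exact ((hM.le_iff.1 (hMN.trans hNH)).resolve_left hH.1).trans (Subgroup.map_id M).symm

end Cfsg.Agent.Lib.OddOrder.MoverBasics
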