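import Cfsg.Agent.Lib.OddOrder.MoverAlpha

/-!
# A mover of `P` has no fixed point in `M_σ ∩ H`
-/

set_option autoImplicit false
set_option linter.style.haveILetI false
set_option linter.unusedSectionVars false

open scoped Pointwise commutatorElement

namespace Cfsg.Agent.Lib.OddOrder.MoverFixed

open Cfsg.Agent.Lib.OddOrder.MinSimple

universe u

variable {G : Type u} [Group G] [Finite G] {q : ℕ} [hq : Fact q.Prime]

/-- An element of order `q` in `E'` is not central in `E` when the `q`-rank is one. -/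
theorem exists_not_commute (hG : Cfsg.IsMinSimpleOddOrder G) {E : Subgroup G}
    (hr1 : Cfsg.PRankLE q 1 E) {x : G} (hxo : orderOf x = q) (hxd : x ∈ ⁅E, E⁆) :
    ∃ e ∈ E, ¬ Commute e x := by
  by_contra hcon
  push Not at hcon
  rw [← Subgroup.map_subtype_commutator] at hxd
  obtain ⟨x', hx'd, rfl⟩ := hxd
  have hx'o : orderOf x' = q := by rw [← hxo]; exact (Subgroup.orderOf_coe x').symm
  have hcen : ∀ e : E, Commute e x' := fun e => Subtype.ext (hcon e e.2).eq
  obtain ⟨Q, hQ⟩ := (SigmaDisjoint.zpowers_isPGroup hx'o).exists_le_sylow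
  haveI hQc : IsCyclic Q := by
    haveI := SigmaCompl.isCyclic_of_prankLE_one hG (Subgroup.map_subtype_le _) hr1
      (Q.2.map E.subtype)
    exact ((Q : Subgroup E).equivMapOfInjective _ E.subtype_injective).isCyclic.2 inferInstance
  letI : CommGroup Q := IsCyclic.commGroup
  have key : ∀ (k : ℕ) (g₀ : E), g₀⁻¹ * x' ^ k * g₀ ∈ (Q : Subgroup E) →
      g₀⁻¹ * x' ^ k * g₀ = x' ^ k := fun k g₀ _ => by
    rw [mul_assoc, ← ((hcen g₀).pow_right k).eq, inv_mul_cancel_left]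
  have h1 : MonoidHom.transfer (MonoidHom.id Q) x' = 1 :=
    Abelianization.commutator_subset_ker _ hx'd
  rw [MonoidHom.transfer_eq_pow _ x' key] at h1
  have h2 : x' ^ (Q : Subgroup E).index = 1 := congrArg Subtype.val h1
  exact Q.not_dvd_index (hx'o.symm.dvd.trans (orderOf_dvd_of_pow_eq_one h2))

/-- In a complement some element normalizing `⟨y⟩` moves `⟨x⟩`. -/
theorem exists_mover (hG : Cfsg.IsMinSimpleOddOrder G) {H E : Subgroup G} (hH : IsCoatom H)
    (hE : Cfsg.IsComplIn E (Cfsg.sigmaCore H) H) (hqτ : q ∈ Cfsg.tau3 H) {x : G}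
    (hxo : orderOf x = q) (hxE : x ∈ E) {t : ℕ} [ht : Fact t.Prime]
    (htr : Cfsg.PRankLE t 1 H) {y : G} (hy : orderOf y = t) (hyE : y ∈ E) (hxy : Commute x y) :
    ∃ c ∈ E, c ∈ Subgroup.normalizer (Subgroup.zpowers y : Set G) ∧
      c ∈ Subgroup.normalizer (Subgroup.zpowers x : Set G) ∧
      c ∉ Subgroup.centralizer (Subgroup.zpowers x : Set G) := by
  have hXc : Nat.card (Subgroup.zpowers x) = q := by rw [Nat.card_zpowers, hxo]
  obtain ⟨hEN, hXd⟩ := ComplementLines.compl_le_normalizer hG hH hE hqτ hXc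
    (Subgroup.zpowers_le.2 hxE)
  obtain ⟨e, he, hex⟩ := exists_not_commute hG (E := E) (Rank.prankLE_mono hE.1 hqτ.2.2.2) hxo
    (hXd (Subgroup.mem_zpowers x))
  by_contra hcon
  push Not at hcon
  refine hex (Subgroup.mem_centralizer_singleton_iff.1 ?_)
  rw [← SigmaDisjoint.centralizer_zpowers]
  set C₀ := E ⊓ Subgroup.centralizer (Subgroup.zpowers x : Set G) with hC₀
  have hyC₀ : y ∈ C₀ := Subgroup.mem_inf.2 ⟨hyE, by
    rw [SigmaDisjoint.centralizer_zpowers]
    exact Subgroup.mem_centralizer_singleton_iff.2 hxy.eq.symm⟩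
  obtain ⟨T₀, hT₀⟩ := ((SigmaDisjoint.zpowers_isPGroup hy).comap_subtype
    (K := C₀)).exists_le_sylow
  set T := (T₀ : Subgroup C₀).map C₀.subtype with hT
  have hTC : T ≤ C₀ := Subgroup.map_subtype_le _
  have hyT : y ∈ T := ⟨⟨y, hyC₀⟩, hT₀ (Subgroup.mem_zpowers y : (⟨y, hyC₀⟩ : C₀) ∈
    (Subgroup.zpowers y).comap C₀.subtype), rfl⟩
  haveI := SigmaCompl.isCyclic_of_prankLE_one hG (hTC.trans (inf_le_left.trans hE.1)) htr
    (T₀.2.map C₀.subtype)
  have hn : E ≤ Subgroup.normalizer (C₀ : Set G) :=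
    Coprime.le_normalizer_inf Subgroup.le_normalizer
      (hEN.trans (Fitting.normalizer_le_normalizer_centralizer _))
  have hsup := RankTwoKey.sup_normalizer_of_normal inf_le_left hn hTC (T₀.2.map _) fun hd =>
    T₀.not_dvd_index (by rwa [← Basic.relIndex_map_subtype])
  have hle : E ⊓ Subgroup.normalizer (T : Set G) ≤
      Subgroup.centralizer (Subgroup.zpowers x : Set G) := by
    rintro n ⟨hnE, hnT⟩
    refine hcon n hnE (Subgroup.mem_normalizer_iff_map_conj_eq.2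
      (Cyclic.eq_of_card_eq_of_isCyclic (W := T) ?_ (Subgroup.zpowers_le.2 hyT)
        (Subgroup.card_map_of_injective (MulAut.conj n).injective))) (hEN hnE)
    rintro _ ⟨z, hz, rfl⟩
    exact (Subgroup.mem_normalizer_iff.1 hnT z).1 (Subgroup.zpowers_le.2 hyT hz)
  exact (hsup.ge.trans (sup_le inf_le_right hle)) he

variable {p : ℕ} [hp : Fact p.Prime]

/-- An element of prime order of `M_σ ∩ H` does not commute with a mover of `P`. -/
theorem false_of_commute (hG : Cfsg.IsMinSimpleOddOrder G) {M H P : Subgroup G} (hM : IsCoatom M)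
    (hH : IsCoatom H) (hps : p ∉ Cfsg.sigma M) (hr1 : Cfsg.PRankLE p 1 M) (hPc : Nat.card P = p)
    (hPM : P ≤ M) (hfix : Cfsg.sigmaCore M ⊓ Subgroup.centralizer (P : Set G) ≠ ⊥)
    (hNH : Subgroup.normalizer (P : Set G) ≤ H) {t : ℕ} [ht : Fact t.Prime]
    {y : G} (hy : orderOf y = t) (hyM : y ∈ M) (hyN : y ∈ Subgroup.normalizer (P : Set G))
    (hyC : y ∉ Subgroup.centralizer (P : Set G)) {x : G} (hxo : orderOf x = q)
    (hx : x ∈ Cfsg.sigmaCore M ⊓ H) (hxy : Commute x y) : False := by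
  have hPp := ComplementLines.isPGroup_of_card hPc
  have hP1 := ComplementLines.ne_bot_of_card hPc
  have hnc := MaximalBasics.not_conj_of_normalizer hG hM hps (fun h => h.2.2.2 hr1) hPp hP1 hNH
  have hPH : P ≤ H := Subgroup.le_normalizer.trans hNH
  have hyH : y ∈ H := hNH hyN
  obtain ⟨hXC, hX3⟩ := MoverAlpha.mem_tau3 hG hM hH hps hr1 hPc hPM hfix hNH hy hyM hyN hyC
  obtain ⟨hτ, htτ, -⟩ := MoverBasics.mem_tau hG hM hps hr1 hPc hPM hfix (k := 0)
    (by rw [hy, pow_one]) hyM hyN hyC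
  have hqτ : q ∈ Cfsg.tau3 H := hX3 q hq.out (hxo ▸ Subgroup.orderOf_dvd_natCard _ hx)
  have hxσ : x ∈ Cfsg.sigmaCore M := hx.1
  have hxH : x ∈ H := hx.2
  have hxM : x ∈ M := OddTau.Basic.sigmaCore_le M hxσ
  have hqM : q ∈ Cfsg.sigma M := (SigmaHall.sigmaCore_isPiHallOf hG hM).2.1 q hq.out
    (hxo ▸ Subgroup.orderOf_dvd_natCard _ hxσ)
  have hXc : Nat.card (Subgroup.zpowers x) = q := by rw [Nat.card_zpowers, hxo]
  have hx1 : x ≠ 1 := fun e => hq.out.ne_one (by rw [← hxo, e, orderOf_one])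
  have hxC : x ∈ Subgroup.centralizer (P : Set G) := hXC hx
  have hPx : P ≤ Subgroup.centralizer ({x} : Set G) := fun b hb =>
    Subgroup.mem_centralizer_singleton_iff.2 (Subgroup.mem_centralizer_iff.1 hxC b hb)
  have hPσ := OddTau.Basic.pgroup_le_sigmaCore hG hH
    (NormalizerSigma.sigma_of_fixed hG hM hps hr1 hPc hPM hfix hH hNH) hPp hPH
  have hNxM : Subgroup.normalizer (Subgroup.zpowers x : Set G) ≤ M :=
    NormalizerSigma.normalizer_le hG hM hH hxo hqM hxM hxH hqτ.2.1 hqτ.2.2.2 fun e =>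
      hP1 (le_bot_iff.1 (e ▸ le_inf hPσ hPx))
  have hYc : Nat.card (Subgroup.zpowers y) = t := by rw [Nat.card_zpowers, hy]
  have hfixy : Cfsg.sigmaCore M ⊓ Subgroup.centralizer (Subgroup.zpowers y : Set G) ≠ ⊥ := by
    rw [SigmaDisjoint.centralizer_zpowers]
    exact fun e => hx1 (Subgroup.mem_bot.1 (e ▸ Subgroup.mem_inf.2
      ⟨hxσ, Subgroup.mem_centralizer_singleton_iff.2 hxy.eq⟩))
  obtain ⟨N, hN, hNN⟩ := exists_coatom_ge hG (normalizer_ne_top hG
    (ComplementLines.ne_bot_of_card hYc)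
    (pgroup_ne_top hG (ComplementLines.isPGroup_of_card hYc)))
  have hCN : Subgroup.centralizer ({y} : Set G) ≤ N := by
    rw [← SigmaDisjoint.centralizer_zpowers]
    exact (Subgroup.centralizer_le_normalizer _).trans hNN
  have htN : t ∈ Cfsg.sigma N :=
    NormalizerSigma.sigma_of_tau1 hG hM htτ hYc (Subgroup.zpowers_le.2 hyM) hfixy hN hNN
  have htH : t ∉ Cfsg.sigma H := by
    intro htH
    have heq := NormalizerSigma.eq_of_sigma hG hH hN hy htH hyH htN hNN
    exact MoverBasics.fixed_not_le hG hM hτ hPc hPM hy hyM hyN hyC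
      ((inf_le_inf_left _ (hCN.trans heq.le)).trans hXC)
  -- a complement of `H_σ` over `x` and `y`
  have hYX : Subgroup.zpowers y ≤ Subgroup.normalizer (Subgroup.zpowers x : Set G) :=
    Subgroup.zpowers_le.2 (Subgroup.centralizer_le_normalizer _ (by
      rw [SigmaDisjoint.centralizer_zpowers]
      exact Subgroup.mem_centralizer_singleton_iff.2 hxy.eq.symm))
  obtain ⟨E, hE, hXYE⟩ := BetaDerived.exists_compl_ge hG hH
    (Y := Subgroup.zpowers x ⊔ Subgroup.zpowers y)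
    (sup_le (Subgroup.zpowers_le.2 hxH) (Subgroup.zpowers_le.2 hyH)) fun r hr hd => by
      rcases SigmaSubgroup.relIndex_sup_right_le r hr hd hYX with h1 | h1
      · rw [hXc] at h1; exact (Nat.prime_dvd_prime_iff_eq hr hq.out).1 h1 ▸ hqτ.2.1
      · rw [hYc] at h1; exact (Nat.prime_dvd_prime_iff_eq hr ht.out).1 h1 ▸ htH
  have hxE : x ∈ E := hXYE (Subgroup.mem_sup_left (Subgroup.mem_zpowers x))
  have hyE : y ∈ E := hXYE (Subgroup.mem_sup_right (Subgroup.mem_zpowers y))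
  have hEM : E ≤ M := (ComplementLines.compl_le_normalizer hG hH hE hqτ hXc
    (Subgroup.zpowers_le.2 hxE)).1.trans hNxM
  have htr : Cfsg.PRankLE t 1 H := by
    by_contra h
    have h2 : Cfsg.PRankLE t 2 H := by
      by_contra h3
      exact htH (AlphaCore.alpha_subset_sigma hG hH ⟨ht.out, h3⟩)
    obtain ⟨A, hAE, hA⟩ := OddTau.TauTwoAbelian.exists_ctx hG hH hE ⟨ht.out, htH, h2, h⟩
    exact Rank.not_prankLE_of_elemAb (hAE.trans hEM) hA.elem
      (by rw [hA.card, pow_one]; exact lt_self_pow₀ ht.out.one_lt one_lt_two) htτ.2.2.2.2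
  obtain ⟨c, hcE, hcY, hcX, hcC⟩ := exists_mover hG hH hE hqτ hxo hxE htr hy hyE hxy
  obtain ⟨s, k, hs, w, hwc, hwo, -, hwX, hwC⟩ :=
    ComplementLines.exists_primePow_moving hXc hcX hcC
  have hwE : w ∈ E := Subgroup.zpowers_le.2 hcE hwc
  have hwY : w ∈ Subgroup.normalizer (Subgroup.zpowers y : Set G) :=
    Subgroup.zpowers_le.2 hcY hwc
  have hwM : w ∈ M := hEM hwE
  have hwH : w ∈ H := hE.1 hwE
  have hxN : x ∈ N := hCN (Subgroup.mem_centralizer_singleton_iff.2 hxy.eq)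
  have hXN : Subgroup.zpowers x ≤ N := Subgroup.zpowers_le.2 hxN
  have hwN : w ∈ N := hNN hwY
  have hncN : ∀ g : G, N ≠ M.map (MulAut.conj g).toMonoidHom :=
    MaximalBasics.not_conj_symm (NormalizerSigma.not_conj_of_mem_sigma htN htτ.2.1)
  have hqN : q ∉ Cfsg.sigma N := TauTwoPartner.not_sigma hG hM hN hncN hqM
  have hyN' : y ∈ N := hCN (Subgroup.mem_centralizer_singleton_iff.2 rfl)
  have hyσN : y ∈ Cfsg.sigmaCore N :=
    OddTau.Basic.pgroup_le_sigmaCore hG hN htN (SigmaDisjoint.zpowers_isPGroup hy)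
      (Subgroup.zpowers_le.2 hyN') (Subgroup.mem_zpowers y)
  have hyx : y ∈ Subgroup.centralizer ({x} : Set G) :=
    Subgroup.mem_centralizer_singleton_iff.2 hxy.eq.symm
  have hy1 : y ≠ 1 := fun e => ht.out.ne_one (by rw [← hy, e, orderOf_one])
  have hqrN : Cfsg.PRankLE q 1 N := by
    by_contra h
    have h2 : Cfsg.PRankLE q 2 N := by
      by_contra h3
      exact hqN (AlphaCore.alpha_subset_sigma hG hN ⟨hq.out, h3⟩)
    exact hy1 (Subgroup.mem_bot.1 (TauTwoMeet.fixed_inf_eq_bot hG hM hN hqM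
      ⟨hq.out, hqN, h2, h⟩ hxM hxN hxo ▸
        Subgroup.mem_inf.2 ⟨Subgroup.mem_inf.2 ⟨hyσN, hyx⟩, hyM⟩))
  have hfixN : Cfsg.sigmaCore N ⊓ Subgroup.centralizer (Subgroup.zpowers x : Set G) ≠ ⊥ := by
    rw [SigmaDisjoint.centralizer_zpowers]
    exact fun e => hy1 (Subgroup.mem_bot.1 (e ▸ Subgroup.mem_inf.2 ⟨hyσN, hyx⟩))
  obtain ⟨hqτN, hsτN, -⟩ :=
    MoverBasics.mem_tau hG hN hqN hqrN hXc hXN hfixN hwo hwN hwX hwC
  -- the element of prime order `w₀`
  set w₀ := w ^ s ^ k with hw₀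
  have hw₀o : orderOf w₀ = s := ComplementLines.orderOf_pow_prime hs.out hwo
  by_cases hw₀C : w₀ ∈ Subgroup.centralizer (Subgroup.zpowers x : Set G)
  swap
  · -- `w₀` moves `⟨x⟩`: then `t ∈ τ₃(M)`
    refine htτ.2.2.2.1 ((MoverAlpha.mem_tau3 hG hN hM hqN hqrN hXc hXN hfixN hNxM hw₀o
      (pow_mem hwN _) (pow_mem hwX _) hw₀C).2 t ht.out ?_).2.2.1
    exact hy ▸ Subgroup.orderOf_dvd_natCard _ (Subgroup.mem_inf.2 ⟨hyσN, hyM⟩)
  -- `w` centralizes `y`
  have hwy : Commute y w := by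
    refine commutatorElement_eq_one_iff_mul_comm.1 (Subgroup.mem_bot.1 ?_)
    rw [← Basic.inf_eq_bot_of_coprime (A := Subgroup.zpowers y) (B := ⁅M, M⁆) (by
      rw [hYc]; exact ht.out.coprime_iff_not_dvd.2 htτ.2.2.2.1)]
    refine Subgroup.mem_inf.2 ⟨?_, Subgroup.commutator_mem_commutator hyM hwM⟩
    rw [commutatorElement_def, show y * w * y⁻¹ * w⁻¹ = y * (w * y⁻¹ * w⁻¹) by group]
    exact mul_mem (Subgroup.mem_zpowers y)
      ((Subgroup.mem_normalizer_iff.1 hwY _).1 (inv_mem (Subgroup.mem_zpowers y)))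
  have hWc : Nat.card (Subgroup.zpowers w₀) = s := by rw [Nat.card_zpowers, hw₀o]
  obtain ⟨N', hN', hNN'⟩ := exists_coatom_ge hG (normalizer_ne_top hG
    (ComplementLines.ne_bot_of_card hWc)
    (pgroup_ne_top hG (ComplementLines.isPGroup_of_card hWc)))
  have hCN' : Subgroup.centralizer ({w₀} : Set G) ≤ N' := by
    rw [← SigmaDisjoint.centralizer_zpowers]
    exact (Subgroup.centralizer_le_normalizer _).trans hNN'
  have hsN' : s ∈ Cfsg.sigma N' := by
    refine NormalizerSigma.sigma_of_tau1 hG hN hsτN hWc (Subgroup.zpowers_le.2 (pow_mem hwN _))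
      (fun e => hy1 ?_) hN' hNN'
    rw [SigmaDisjoint.centralizer_zpowers] at e
    exact Subgroup.mem_bot.1 (e ▸ Subgroup.mem_inf.2
      ⟨hyσN, Subgroup.mem_centralizer_singleton_iff.2 (hwy.pow_right _).eq⟩)
  have hxN' : x ∈ N' := hCN' (Subgroup.mem_centralizer_singleton_iff.2
    (Subgroup.mem_centralizer_iff.1 hw₀C x (Subgroup.mem_zpowers x)))
  have hwN' : w ∈ N' := hCN' (Subgroup.mem_centralizer_singleton_iff.2
    ((Commute.refl w).pow_right _).eq)
  have hqN' : q ∈ Cfsg.sigma N' := by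
    by_contra h
    exact MoverBasics.mover_not_sigma hG hN' h hXc (Subgroup.zpowers_le.2 hxN') hwo hwN' hwX hwC
      hsN'
  obtain ⟨g, hg⟩ := SigmaDisjoint.conj_of_sigma_inter (TauTwoFacts.tauTwo hG)
    (NonabelianFacts.nonabelianUnique hG) hG hN' hM hqN' hqM
  have hsM : s ∈ Cfsg.sigma M := hg ▸ NormalizerSigma.sigma_conj hsN' g
  have hWp : IsPGroup s (Subgroup.zpowers w) :=
    IsPGroup.of_card (n := k + 1) (by rw [Nat.card_zpowers, hwo])
  have hwσ := OddTau.Basic.pgroup_le_sigmaCore hG hM hsM hWp (Subgroup.zpowers_le.2 hwM)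
    (Subgroup.mem_zpowers w)
  have hsH : s ∈ Cfsg.tau3 H := hX3 s hs.out
    (((dvd_pow_self s k.succ_ne_zero).trans hwo.symm.dvd).trans
      (Subgroup.orderOf_dvd_natCard _ (Subgroup.mem_inf.2 ⟨hwσ, hwH⟩)))
  exact hwC (ComplementLines.derived_centralizes_line hG hH hqτ.2.1 hXc
    (SigmaDisjoint.le_derived_of_rank_one hG hqτ.2.2.2 hqτ.2.2.1
      (SigmaDisjoint.zpowers_isPGroup hxo) (Subgroup.zpowers_le.2 hxH))
    (SigmaDisjoint.le_derived_of_rank_one hG hsH.2.2.2 hsH.2.2.1 hWp (Subgroup.zpowers_le.2 hwH)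
      (Subgroup.mem_zpowers w)) hwX)

end Cfsg.Agent.Lib.OddOrder.MoverFixed
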