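import Cfsg.Agent.Lib.OddOrder.TauTwoPartner
import Cfsg.Agent.Lib.OddOrder.ComplementLines
import Cfsg.Agent.Lib.OddOrder.CentTauOne

/-!
# BG 13.13: for `p ∈ τ₁(M) ∪ τ₃(M)` and `C_{M_σ}(P) ≠ 1`, `p ∈ σ(H)` for `N(P) ≤ H`
-/

set_option autoImplicit false
set_option linter.style.haveILetI false
set_option linter.unusedSectionVars false

open scoped Pointwise commutatorElement

namespace Cfsg.Agent.Lib.OddOrder.NormalizerSigma

open Cfsg.Agent.Lib.OddOrder.MinSimple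

universe u

variable {G : Type u} [Group G] [Finite G] {p : ℕ} [hp : Fact p.Prime]

/-- `[c, a] ∈ P` generates `P` when `c` normalizes but does not centralize `P`. -/
theorem dvd_card_of_mover {P D : Subgroup G} (hPc : Nat.card P = p) {c : G} (hcD : c ∈ D)
    (hPD : P ≤ D) (hcN : c ∈ Subgroup.normalizer (P : Set G))
    (hcC : c ∉ Subgroup.centralizer (P : Set G)) : p ∣ Nat.card ↥⁅D, D⁆ := by
  obtain ⟨a, ha, hac⟩ : ∃ a ∈ P, ⁅a, c⁆ ≠ 1 := by
    by_contra hcon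
    push Not at hcon
    exact hcC (Subgroup.mem_centralizer_iff.2 fun a ha =>
      commutatorElement_eq_one_iff_mul_comm.1 (hcon a ha))
  have hmem : ⁅a, c⁆ ∈ P := by
    rw [commutatorElement_def, show a * c * a⁻¹ * c⁻¹ = a * (c * a⁻¹ * c⁻¹) by group]
    exact mul_mem ha ((Subgroup.mem_normalizer_iff.1 hcN _).1 (inv_mem ha))
  have hz := ComplementLines.zpowers_eq_of_card hPc hmem hac
  exact hPc ▸ Subgroup.card_dvd_of_le (hz.ge.trans
    (Subgroup.zpowers_le.2 (Subgroup.commutator_mem_commutator (hPD ha) hcD)))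

/-- BG 13.13 for `p ∈ τ₁(M)`. -/
theorem sigma_of_tau1 (hG : Cfsg.IsMinSimpleOddOrder G) {M H P : Subgroup G} (hM : IsCoatom M)
    (hτ : p ∈ Cfsg.tau1 M) (hPc : Nat.card P = p) (hPM : P ≤ M)
    (hfix : Cfsg.sigmaCore M ⊓ Subgroup.centralizer (P : Set G) ≠ ⊥) (hH : IsCoatom H)
    (hNH : Subgroup.normalizer (P : Set G) ≤ H) : p ∈ Cfsg.sigma H := by
  rcases SigmaEmbedding.mem_sigma_or_tau2 hG hH (ComplementLines.isPGroup_of_card hPc)
    (ComplementLines.ne_bot_of_card hPc) hNH with h | hτ2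
  · exact h
  exfalso
  obtain ⟨q, _, x, c, L, hqM, hxσ, hxP, hxo, -, -, -, -, -, hcH, -, hcx, hcN, hcC⟩ :=
    TauTwoPartner.exists_partner hG hM hH hτ.2.1 hτ.2.2.2.2 hPc hPM hfix hNH hτ2
  have hXp : IsPGroup q (Subgroup.zpowers x) := SigmaDisjoint.zpowers_isPGroup hxo
  have hX1 : Subgroup.zpowers x ≠ ⊥ := by
    rw [Ne, Subgroup.zpowers_eq_bot]
    exact fun e => (Fact.out : q.Prime).ne_one (by rw [← hxo, e, orderOf_one])
  have hxH : x ∈ H := hNH (Subgroup.centralizer_le_normalizer _ hxP)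
  have hcentN : Subgroup.centralizer ({x} : Set G) ≤
      Subgroup.normalizer (Subgroup.zpowers x : Set G) := by
    rw [← SigmaDisjoint.centralizer_zpowers]
    exact Subgroup.centralizer_le_normalizer _
  have hPD : P ≤ H ⊓ Subgroup.normalizer (Subgroup.zpowers x : Set G) :=
    le_inf (Subgroup.le_normalizer.trans hNH) fun a ha => hcentN
      (Subgroup.mem_centralizer_singleton_iff.2 (Subgroup.mem_centralizer_iff.1 hxP a ha))
  refine (SigmaSubgroup.bound_of_le (TauTwoFacts.tauTwo hG) hG hM hqM hXp hX1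
    (Subgroup.zpowers_le.2 ((OddTau.Basic.sigmaCore_le M) hxσ)) hH
    (fun e => hτ2.2.2.2 (e ▸ hτ.2.2.2.2)) (Subgroup.zpowers_le.2 hxH) hτ.2.2.1 hτ.2.1
    (RankTwoPrime.not_ideal hG hH hτ2.2.2.1 hτ2.2.2.2)).2 hτ ?_
  exact dvd_card_of_mover hPc (Subgroup.mem_inf.2 ⟨hcH, hcentN hcx⟩) hPD hcN hcC

/-- If `N(⟨x⟩) ≤ N` and `q ∈ σ(N)`, for `x ∈ M` of order `q ∈ σ(M)`, then `N = M`. -/
theorem eq_of_sigma (hG : Cfsg.IsMinSimpleOddOrder G) {M N : Subgroup G} (hM : IsCoatom M)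
    (hN : IsCoatom N) {q : ℕ} [Fact q.Prime] {x : G} (hxo : orderOf x = q)
    (hqM : q ∈ Cfsg.sigma M) (hxM : x ∈ M) (hqN : q ∈ Cfsg.sigma N)
    (hNN : Subgroup.normalizer (Subgroup.zpowers x : Set G) ≤ N) : N = M := by
  refine BetaDerived.eq_of_centralizer_le hG hM hqM (SigmaDisjoint.zpowers_isPGroup hxo) ?_
    (Subgroup.zpowers_le.2 hxM) (Subgroup.le_normalizer.trans hNN)
    ((Subgroup.centralizer_le_normalizer _).trans hNN)
    (SigmaDisjoint.conj_of_sigma_inter (TauTwoFacts.tauTwo hG)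
      (NonabelianFacts.nonabelianUnique hG) hG hM hN hqM hqN)
  rw [Ne, Subgroup.zpowers_eq_bot]
  exact fun e => (Fact.out : q.Prime).ne_one (by rw [← hxo, e, orderOf_one])

/-- If `x` of order `q` lies in `M ∩ L` with `q ∈ σ(M) ∩ τ₁(L)` and has a fixed point on `L_σ`,
then `N(⟨x⟩) ≤ M`. -/
theorem normalizer_le_of_tau1 (hG : Cfsg.IsMinSimpleOddOrder G) {M L : Subgroup G} (hM : IsCoatom M)
    (hL : IsCoatom L) {q : ℕ} [Fact q.Prime] {x : G} (hxo : orderOf x = q)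
    (hqM : q ∈ Cfsg.sigma M) (hxM : x ∈ M) (hxL : x ∈ L) (hqL : q ∈ Cfsg.tau1 L)
    (hfix : Cfsg.sigmaCore L ⊓ Subgroup.centralizer ({x} : Set G) ≠ ⊥) :
    Subgroup.normalizer (Subgroup.zpowers x : Set G) ≤ M := by
  have hXc : Nat.card (Subgroup.zpowers x) = q := by rw [Nat.card_zpowers, hxo]
  obtain ⟨N, hN, hNN⟩ := exists_coatom_ge hG (normalizer_ne_top hG
    (ComplementLines.ne_bot_of_card hXc)
    (pgroup_ne_top hG (ComplementLines.isPGroup_of_card hXc)))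
  rw [← SigmaDisjoint.centralizer_zpowers] at hfix
  exact eq_of_sigma hG hM hN hxo hqM hxM
    (sigma_of_tau1 hG hL hqL hXc (Subgroup.zpowers_le.2 hxL) hfix hN hNN) hNN ▸ hNN

omit hp in
/-- `σ` is invariant under conjugation. -/
theorem sigma_conj {L : Subgroup G} {r : ℕ} (hr : r ∈ Cfsg.sigma L) (g : G) :
    r ∈ Cfsg.sigma (L.map (MulAut.conj g).toMonoidHom) := by
  haveI := Fact.mk hr.1
  obtain ⟨S, -, hSL, hNS⟩ := Sigma.exists_sylow_ge hr (X := ⊥) IsPGroup.of_bot bot_le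
  have hle : ((g • S : Sylow r G) : Subgroup G) ≤ L.map (MulAut.conj g).toMonoidHom := by
    rw [Sylow.coe_subgroup_smul]
    exact Subgroup.map_mono hSL
  refine ⟨hr.1, ?_, (g • S).subtype hle, ?_⟩
  · rw [Subgroup.card_map_of_injective (MulAut.conj g).injective]
    exact hr.2.1
  rw [Sylow.coe_subtype, Subgroup.map_subgroupOf_eq_of_le hle, Sylow.coe_subgroup_smul]
  intro x hx
  refine OddTau.Exceptional.mem_conj.2 (hNS (Subgroup.mem_normalizer_iff.2 fun y => ?_))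
  have hm : ∀ z : G, z ∈ (MulAut.conj g • (S : Subgroup G) : Subgroup G) ↔
      g⁻¹ * z * g ∈ (S : Subgroup G) := fun z => OddTau.Exceptional.mem_conj
  have h := Subgroup.mem_normalizer_iff.1 hx (g * y * g⁻¹)
  rw [hm, hm] at h
  simpa [mul_assoc] using h

/-- Maximal subgroups with different `σ` are not conjugate. -/
theorem not_conj_of_mem_sigma {M L : Subgroup G} {r : ℕ} (hrL : r ∈ Cfsg.sigma L)
    (hrM : r ∉ Cfsg.sigma M) (g : G) : M ≠ L.map (MulAut.conj g).toMonoidHom :=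
  fun e => hrM (e ▸ sigma_conj hrL g)

/-- If a prime of `τ₃(M)` has a subgroup of order `p` with a fixed point on `M_σ` whose normalizer
lies in a maximal `H` with `p ∈ τ₂(H)`, then `τ₂(M) = ∅`. -/
theorem not_mem_tau2 (hG : Cfsg.IsMinSimpleOddOrder G) {M H P : Subgroup G} (hM : IsCoatom M)
    (hτ : p ∈ Cfsg.tau3 M) (hPc : Nat.card P = p) (hPM : P ≤ M)
    (hfix : Cfsg.sigmaCore M ⊓ Subgroup.centralizer (P : Set G) ≠ ⊥) (hH : IsCoatom H)
    (hNH : Subgroup.normalizer (P : Set G) ≤ H) (r : ℕ) : r ∉ Cfsg.tau2 M := by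
  intro hr
  haveI := Fact.mk hr.1
  have hPp := ComplementLines.isPGroup_of_card hPc
  have hnc := MaximalBasics.not_conj_of_normalizer hG hM hτ.2.1 (fun h => h.2.2.2 hτ.2.2.2) hPp
    (ComplementLines.ne_bot_of_card hPc) hNH
  obtain ⟨E, hE, hPE⟩ := BetaDerived.exists_compl_ge hG hM hPM fun s hs hd =>
    Hall.prime_dvd_pgroup hp.out hs hPp hd ▸ hτ.2.1
  obtain ⟨A, hAE, hA⟩ := OddTau.TauTwoAbelian.exists_ctx hG hM hE hr
  have hEH : E ≤ H := (ComplementLines.compl_le_normalizer hG hM hE hτ hPc hPE).1.trans hNH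
  have hσ := SigmaHall.sigmaCore_isPiHallOf hG hM
  refine TauTwoMeet.no_plane hG hM hH hnc (Y := Cfsg.sigmaCore M ⊓ H) ?_
    (fun s hs hd => hσ.2.1 s hs (hd.trans (Subgroup.card_dvd_of_le inf_le_left))) inf_le_right
    ((hA.card ▸ dvd_pow_self r two_ne_zero).trans (Subgroup.card_dvd_of_le (hAE.trans hE.1)))
    hr.2.1 (RankTwoPrime.not_ideal hG hM hr.2.2.1 hr.2.2.2) hA.elem (by rw [hA.card])
    (hAE.trans hEH) (SigmaMeet.le_normalizer_inf (le_inf (hAE.trans hE.1) (hAE.trans hEH)))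
  intro e
  refine hfix (le_bot_iff.1 ?_)
  rw [← e]
  exact inf_le_inf_left _ ((Subgroup.centralizer_le_normalizer _).trans hNH)

/-- BG 13.13 for `p ∈ τ₃(M)`. -/
theorem sigma_of_tau3 (hG : Cfsg.IsMinSimpleOddOrder G) {M H P : Subgroup G} (hM : IsCoatom M)
    (hτ : p ∈ Cfsg.tau3 M) (hPc : Nat.card P = p) (hPM : P ≤ M)
    (hfix : Cfsg.sigmaCore M ⊓ Subgroup.centralizer (P : Set G) ≠ ⊥) (hH : IsCoatom H)
    (hNH : Subgroup.normalizer (P : Set G) ≤ H) : p ∈ Cfsg.sigma H := by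
  have hPp := ComplementLines.isPGroup_of_card hPc
  rcases SigmaEmbedding.mem_sigma_or_tau2 hG hH hPp (ComplementLines.ne_bot_of_card hPc) hNH with
    h | hτ2
  · exact h
  exfalso
  have hnoτ := not_mem_tau2 hG hM hτ hPc hPM hfix hH hNH
  obtain ⟨q, _, x, c, L, hqM, hxσ, hxP, hxo, hL, hpL, hPσL, hxL, hqL, hcH, hcL, hcx, hcN, hcC⟩ :=
    TauTwoPartner.exists_partner hG hM hH hτ.2.1 hτ.2.2.2 hPc hPM hfix hNH hτ2
  have hxM : x ∈ M := OddTau.Basic.sigmaCore_le M hxσ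
  have hNxM : Subgroup.normalizer (Subgroup.zpowers x : Set G) ≤ M := by
    refine normalizer_le_of_tau1 hG hM hL hxo hqM hxM hxL hqL fun e => ?_
    refine ComplementLines.ne_bot_of_card hPc (le_bot_iff.1 ?_)
    rw [← e]
    exact le_inf hPσL fun a ha =>
      Subgroup.mem_centralizer_singleton_iff.2 (Subgroup.mem_centralizer_iff.1 hxP a ha)
  have hcM : c ∈ M := hNxM (by
    rw [← SigmaDisjoint.centralizer_zpowers] at hcx
    exact Subgroup.centralizer_le_normalizer _ hcx)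
  obtain ⟨t, k, ht, y, hyc, hyo, htp, hyN, hyC⟩ :=
    ComplementLines.exists_primePow_moving hPc hcN hcC
  have hyx : y ∈ Subgroup.centralizer ({x} : Set G) := Subgroup.zpowers_le.2 hcx hyc
  have hyM : y ∈ M := Subgroup.zpowers_le.2 hcM hyc
  have hyL : y ∈ L := Subgroup.zpowers_le.2 hcL hyc
  have hyH : y ∈ H := Subgroup.zpowers_le.2 hcH hyc
  have hYp : IsPGroup t (Subgroup.zpowers y) :=
    IsPGroup.of_card (n := k + 1) (by rw [Nat.card_zpowers, hyo])
  have htM : t ∣ Nat.card M :=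
    ((dvd_pow_self t k.succ_ne_zero).trans hyo.symm.dvd).trans (Subgroup.orderOf_dvd_natCard M hyM)
  obtain ⟨a, ha, hay⟩ : ∃ a ∈ P, ⁅a, y⁆ ≠ 1 := by
    by_contra hcon
    push Not at hcon
    exact hyC (Subgroup.mem_centralizer_iff.2 fun a ha =>
      commutatorElement_eq_one_iff_mul_comm.1 (hcon a ha))
  have hayP : ⁅a, y⁆ ∈ P := by
    rw [commutatorElement_def, show a * y * a⁻¹ * y⁻¹ = a * (y * a⁻¹ * y⁻¹) by group]
    exact mul_mem ha ((Subgroup.mem_normalizer_iff.1 hyN _).1 (inv_mem ha))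
  have hPMd : P ≤ ⁅M, M⁆ :=
    SigmaDisjoint.le_derived_of_rank_one hG hτ.2.2.2 hτ.2.2.1 hPp hPM
  -- `t ∈ τ₁(M)`
  have htσ : t ∉ Cfsg.sigma M := by
    intro htσ
    have hyσ : y ∈ Cfsg.sigmaCore M := SigmaSubgroup.le_sigmaCore hG hM
      (Subgroup.zpowers_le.2 hyM) (fun r hr hd => Hall.prime_dvd_pgroup ht.out hr hYp hd ▸ htσ)
      (Subgroup.mem_zpowers y)
    refine hay (Subgroup.mem_bot.1 ?_)
    rw [← Basic.inf_eq_bot_of_coprime (OddTau.Basic.coprime_sigmaCore hPp hτ.2.1)]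
    refine Subgroup.mem_inf.2 ⟨hayP, ?_⟩
    rw [commutatorElement_def]
    exact mul_mem ((Subgroup.mem_normalizer_iff.1
      (OddTau.Basic.le_normalizer_sigmaCore M (hPM ha)) y).1 hyσ) (inv_mem hyσ)
  have htr1 : Cfsg.PRankLE t 1 M := by
    by_contra h
    refine hnoτ t ⟨ht.out, htσ, ?_, h⟩
    by_contra h2
    exact htσ (AlphaCore.alpha_subset_sigma hG hM ⟨ht.out, h2⟩)
  have htd : ¬ t ∣ Nat.card ↥⁅M, M⁆ := fun hd => hyC
    (ComplementLines.derived_centralizes_line hG hM hτ.2.1 hPc hPMd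
      (SigmaDisjoint.le_derived_of_rank_one hG htr1 hd hYp (Subgroup.zpowers_le.2 hyM)
        (Subgroup.mem_zpowers y)) hyN)
  have htτ : t ∈ Cfsg.tau1 M := ⟨ht.out, htσ, htM, htd, htr1⟩
  -- `q ∈ β(M)`
  have hqi : Cfsg.IsIdealPrime q G := by
    refine SigmaMeet.mem_ideal (TauTwoFacts.tauTwo hG) hG hL hM
      (not_conj_of_mem_sigma hpL hτ.2.1) hqL ?_ (T := Subgroup.zpowers y)
      (Subgroup.zpowers_le.2 (Subgroup.mem_inf.2 ⟨hyL, hyM⟩)) fun e => hay ?_
    · rw [← hxo]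
      exact Subgroup.orderOf_dvd_natCard _ (Sigma.le_derived hG hM hqM
        (SigmaDisjoint.zpowers_isPGroup hxo) (Subgroup.zpowers_le.2 hxM) (Subgroup.mem_zpowers x))
    · exact Subgroup.mem_bot.1 (e ▸ Subgroup.commutator_mem_commutator
        (Subgroup.mem_inf.2 ⟨hPσL ha, hPM ha⟩) (Subgroup.mem_zpowers y))
  have hqβ : q ∈ Cfsg.beta M := ⟨SigmaDisjoint.mem_alpha_of_ideal hqM hqi, hqi⟩
  set y0 := y ^ t ^ k with hy0
  have hy0o : orderOf y0 = t := ComplementLines.orderOf_pow_prime ht.out hyo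
  have hy0M : y0 ∈ M := pow_mem hyM _
  by_cases hy0C : y0 ∈ Subgroup.centralizer (P : Set G)
  swap
  · -- `y0` moves `P`
    have hqp : p ≠ q := fun e => hτ.2.1 (e ▸ hqM)
    have hqt : t ≠ q := fun e => htσ (e ▸ hqM)
    have hy0N : y0 ∈ Subgroup.normalizer (P : Set G) := pow_mem hyN _
    have hy0x : y0 ∈ Subgroup.centralizer (Subgroup.zpowers x : Set G) := by
      rw [SigmaDisjoint.centralizer_zpowers]
      exact pow_mem hyx _
    have hPx : P ≤ Subgroup.centralizer (Subgroup.zpowers x : Set G) := by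
      rw [SigmaDisjoint.centralizer_zpowers]
      exact fun b hb =>
        Subgroup.mem_centralizer_singleton_iff.2 (Subgroup.mem_centralizer_iff.1 hxP b hb)
    have hy0P : Subgroup.zpowers y0 ≤ Subgroup.normalizer (P : Set G) := Subgroup.zpowers_le.2 hy0N
    obtain ⟨T, hTq, hxT, hTM, hAT, hTr⟩ := CentTauOne.exists_sylow_inv hG hM hqβ
      (SigmaDisjoint.zpowers_isPGroup hxo) (Subgroup.zpowers_le.2 hxM)
      (A := P ⊔ Subgroup.zpowers y0) (sup_le hPM (Subgroup.zpowers_le.2 hy0M))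
      (sup_le (hPx.trans (Subgroup.centralizer_le_normalizer _))
        (Subgroup.zpowers_le.2 (Subgroup.centralizer_le_normalizer _ hy0x)))
      fun s hs hd hsβ => by
        have hsσ := AlphaCore.alpha_subset_sigma hG hM hsβ.1
        rcases SigmaSubgroup.relIndex_sup_right_le s hs hd hy0P with h1 | h1
        · exact hτ.2.1 (Hall.prime_dvd_pgroup hp.out hs hPp h1 ▸ hsσ)
        · rw [Nat.card_zpowers, hy0o] at h1
          exact htσ ((Nat.prime_dvd_prime_iff_eq hs ht.out).1 h1 ▸ hsσ)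
    have hPy : ⁅P, Subgroup.zpowers y0⁆ = P := by
      refine le_antisymm (Subgroup.le_normalizer_iff_commutator_le_left.1 hy0P) ?_
      obtain ⟨b, hb, hby⟩ : ∃ b ∈ P, ⁅b, y0⁆ ≠ 1 := by
        by_contra hcon
        push Not at hcon
        exact hy0C (Subgroup.mem_centralizer_iff.2 fun b hb =>
          commutatorElement_eq_one_iff_mul_comm.1 (hcon b hb))
      have hbm := Subgroup.commutator_mem_commutator hb (Subgroup.mem_zpowers y0)
      exact (ComplementLines.zpowers_eq_of_card hPc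
        (Subgroup.le_normalizer_iff_commutator_le_left.1 hy0P hbm) hby).ge.trans
        (Subgroup.zpowers_le.2 hbm)
    have hPT := CentTauOne.centralizes_sylow (p := q) (q := p) (r := t) hG hM hqβ.1 hqi hqt hqp
      htp.symm hy0o hy0M htσ (hnoτ t) (P := Subgroup.zpowers x) (by rw [Nat.card_zpowers, hxo])
      hxT hTq hTM hPp hPM (le_sup_left.trans hAT)
      (hAT (Subgroup.mem_sup_right (Subgroup.mem_zpowers y0))) hy0N hPy hy0x hPx
    have hTH : T ≤ H := (Subgroup.le_centralizer_iff.1 hPT).trans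
      ((Subgroup.centralizer_le_normalizer _).trans hNH)
    refine MaximalBasics.not_alpha_of_sigma hG hM hH (MaximalBasics.not_conj_of_normalizer hG hM
      hτ.2.1 (fun h => h.2.2.2 hτ.2.2.2) hPp (ComplementLines.ne_bot_of_card hPc) hNH) hqM
      ⟨(Fact.out : q.Prime), fun h => hTr (Rank.prankLE_mono hTH h)⟩
  -- `y0` centralizes `P`
  have hY0c : Nat.card (Subgroup.zpowers y0) = t := by rw [Nat.card_zpowers, hy0o]
  obtain ⟨N, hN, hNN⟩ := exists_coatom_ge hG (normalizer_ne_top hG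
    (ComplementLines.ne_bot_of_card hY0c)
    (pgroup_ne_top hG (ComplementLines.isPGroup_of_card hY0c)))
  have hCN : Subgroup.centralizer ({y0} : Set G) ≤ N := by
    rw [← SigmaDisjoint.centralizer_zpowers]
    exact (Subgroup.centralizer_le_normalizer _).trans hNN
  have hxy0 : x ∈ Subgroup.centralizer ({y0} : Set G) := Subgroup.mem_centralizer_singleton_iff.2
    ((Subgroup.mem_centralizer_singleton_iff.1 (pow_mem hyx (t ^ k))).symm)
  have htN : t ∈ Cfsg.sigma N := by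
    refine sigma_of_tau1 hG hM htτ hY0c (Subgroup.zpowers_le.2 hy0M) (fun e => ?_) hN hNN
    refine (Fact.out : q.Prime).ne_one (by rw [← hxo, orderOf_eq_one_iff, ← Subgroup.mem_bot, ← e]
                                           exact Subgroup.mem_inf.2 ⟨hxσ, by
                                             rw [SigmaDisjoint.centralizer_zpowers]; exact hxy0⟩)
  have hPN : P ≤ N := fun b hb => hCN
    (Subgroup.mem_centralizer_singleton_iff.2 (Subgroup.mem_centralizer_iff.1 hy0C b hb))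
  have hyN' : y ∈ N := hCN (Subgroup.mem_centralizer_singleton_iff.2
    ((Commute.refl y).pow_right (t ^ k)).eq)
  have hyσN : y ∈ Cfsg.sigmaCore N := SigmaSubgroup.le_sigmaCore hG hN (Subgroup.zpowers_le.2 hyN')
    (fun r hr hd => Hall.prime_dvd_pgroup ht.out hr hYp hd ▸ htN) (Subgroup.mem_zpowers y)
  have hmN : ⁅a, y⁆ ∈ Cfsg.sigmaCore N := by
    rw [commutatorElement_def]
    exact mul_mem ((Subgroup.mem_normalizer_iff.1
      (OddTau.Basic.le_normalizer_sigmaCore N (hPN ha)) y).1 hyσN) (inv_mem hyσN)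
  have hpN : p ∈ Cfsg.sigma N := by
    refine (SigmaHall.sigmaCore_isPiHallOf hG hN).2.1 p hp.out ?_
    rw [← hPc, ← ComplementLines.zpowers_eq_of_card hPc hayP hay, Nat.card_zpowers]
    exact Subgroup.orderOf_dvd_natCard _ hmN
  refine hyC (BetaDerived.derived_centralizes hG hN
    (fun h => RankTwoPrime.not_ideal hG hH hτ2.2.2.1 hτ2.2.2.2 h.2) hPp
    (Sigma.le_derived hG hN hpN hPp hPN)
    (Sigma.le_derived hG hN htN hYp (Subgroup.zpowers_le.2 hyN') (Subgroup.mem_zpowers y)) hyN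
    (hyo ▸ ((Nat.coprime_primes ht.out hp.out).2 htp).pow_left _))

/-- BG 13.13: for `p ∈ τ₁(M) ∪ τ₃(M)` and `C_{M_σ}(P) ≠ 1`, `p ∈ σ(H)` for maximal `H ≥ N(P)`. -/
theorem sigma_of_fixed (hG : Cfsg.IsMinSimpleOddOrder G) {M H P : Subgroup G} (hM : IsCoatom M)
    (hps : p ∉ Cfsg.sigma M) (hr1 : Cfsg.PRankLE p 1 M) (hPc : Nat.card P = p) (hPM : P ≤ M)
    (hfix : Cfsg.sigmaCore M ⊓ Subgroup.centralizer (P : Set G) ≠ ⊥) (hH : IsCoatom H)
    (hNH : Subgroup.normalizer (P : Set G) ≤ H) : p ∈ Cfsg.sigma H := by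
  have hpM : p ∣ Nat.card M := hPc ▸ Subgroup.card_dvd_of_le hPM
  by_cases hd : p ∣ Nat.card ↥⁅M, M⁆
  · exact sigma_of_tau3 hG hM ⟨hp.out, hps, hd, hr1⟩ hPc hPM hfix hH hNH
  · exact sigma_of_tau1 hG hM ⟨hp.out, hps, hpM, hd, hr1⟩ hPc hPM hfix hH hNH

/-- If `x` of order `q` lies in `M ∩ L` with `q ∈ σ(M)`, `q ∉ σ(L)`, `r_q(L) ≤ 1` and `x` has a
fixed point on `L_σ`, then `N(⟨x⟩) ≤ M`. -/
theorem normalizer_le (hG : Cfsg.IsMinSimpleOddOrder G) {M L : Subgroup G} (hM : IsCoatom M)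
    (hL : IsCoatom L) {q : ℕ} [Fact q.Prime] {x : G} (hxo : orderOf x = q)
    (hqM : q ∈ Cfsg.sigma M) (hxM : x ∈ M) (hxL : x ∈ L) (hqσ : q ∉ Cfsg.sigma L)
    (hqr : Cfsg.PRankLE q 1 L)
    (hfix : Cfsg.sigmaCore L ⊓ Subgroup.centralizer ({x} : Set G) ≠ ⊥) :
    Subgroup.normalizer (Subgroup.zpowers x : Set G) ≤ M := by
  have hXc : Nat.card (Subgroup.zpowers x) = q := by rw [Nat.card_zpowers, hxo]
  obtain ⟨N, hN, hNN⟩ := exists_coatom_ge hG (normalizer_ne_top hG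
    (ComplementLines.ne_bot_of_card hXc)
    (pgroup_ne_top hG (ComplementLines.isPGroup_of_card hXc)))
  rw [← SigmaDisjoint.centralizer_zpowers] at hfix
  exact eq_of_sigma hG hM hN hxo hqM hxM
    (sigma_of_fixed hG hL hqσ hqr hXc (Subgroup.zpowers_le.2 hxL) hfix hN hNN) hNN ▸ hNN

end Cfsg.Agent.Lib.OddOrder.NormalizerSigma
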