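import Mathlib
import Cfsg.Agent.Lib.OddLocal.GL2Odd
import Cfsg.Agent.Lib.Cores.Basic
import Cfsg.Agent.Lib.Cores.MinNormal

/-!
# An odd order solvable subgroup of `GL(2, p)` has a `p`-group as derived subgroup
-/

set_option autoImplicit false
set_option linter.style.haveILetI false

open Matrix
open scoped commutatorElement

namespace Cfsg.Agent.Lib.OddOrder.OddGL2

open Cfsg.Agent.Lib.OddLocal

universe u v

variable {F : Type v} [Field F] (p : ℕ) [hp : Fact p.Prime] [CharP F p] (hp2 : p ≠ 2)

include hp hp2 in
theorem commutator_pow_eq_one_sl {X : Type u} [Group X] [Finite X] [Group.IsSolvable X]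
    (hodd : Odd (Nat.card X)) (φ : X →* Matrix (Fin 2) (Fin 2) F) (hinj : Function.Injective φ)
    (hdet : ∀ g, (φ g).det = 1) : ∀ z ∈ commutator X, z ^ p = 1 := by
  classical
  by_cases hu : ∃ u : X, u ≠ 1 ∧ u ^ p = 1
  · obtain ⟨u, hu1, hup⟩ := hu
    have ht : (φ u).trace = 2 := (GL2Odd.pow_eq_one_iff_trace p hp2 hodd φ hinj hdet).1 hup
    obtain ⟨v, hv0, hv⟩ : ∃ v : Fin 2 → F, v ≠ 0 ∧ φ u *ᵥ v = v := by
      have hd' : (φ u - 1).det = 0 := by
        have hdu := hdet u
        rw [Matrix.trace_fin_two] at ht
        simp [Matrix.det_fin_two] at hdu ⊢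
        linear_combination hdu - ht
      obtain ⟨v, hv0, hv⟩ := Matrix.exists_mulVec_eq_zero_iff.mpr hd'
      exact ⟨v, hv0, by rwa [Matrix.sub_mulVec, Matrix.one_mulVec, sub_eq_zero] at hv⟩
    have hu' : φ u ≠ 1 := fun h => hu1 (hinj (by rw [h, map_one]))
    have hline : ∀ g : X, ∃ a : F, φ g *ᵥ v = a • v := by
      intro g
      have hc : (g⁻¹ * u * g) ^ p = 1 := by
        have := conj_pow (a := g⁻¹) (b := u) (i := p)
        rw [inv_inv] at this
        rw [this, hup, mul_one, inv_mul_cancel]
      have hfix := GL2Odd.unipotent_fix_common p hp2 hodd φ hinj hdet hu1 hup hc hv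
      have h2 : φ u *ᵥ (φ g *ᵥ v) = φ g *ᵥ v := by
        rw [Matrix.mulVec_mulVec, ← map_mul, show u * g = g * (g⁻¹ * u * g) by group, map_mul,
          ← Matrix.mulVec_mulVec, hfix]
      obtain ⟨a, ha⟩ := Submodule.mem_span_singleton.1 (GL2Odd.fixed_mem_span hu' hv0 hv h2)
      exact ⟨a, ha.symm⟩
    have hfixz : ∀ z ∈ commutator X, φ z *ᵥ v = v := by
      intro z hz
      rw [commutator_eq_closure] at hz
      induction hz using Subgroup.closure_induction with
      | mem w hw =>
        obtain ⟨g, h, rfl⟩ := hw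
        obtain ⟨a, ha⟩ := hline g
        obtain ⟨b, hb⟩ := hline h
        obtain ⟨a', ha'⟩ := hline g⁻¹
        obtain ⟨b', hb'⟩ := hline h⁻¹
        have haa : a' * a = 1 := by
          have : φ (g⁻¹ * g) *ᵥ v = v := by rw [inv_mul_cancel, map_one, Matrix.one_mulVec]
          rw [map_mul, ← Matrix.mulVec_mulVec, ha, Matrix.mulVec_smul, ha', smul_smul] at this
          by_contra hne
          have h0 : (a * a' - 1) • v = 0 := by rw [sub_smul, this, one_smul, sub_self]
          rcases smul_eq_zero.1 h0 with h | h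
          · exact hne (by rw [mul_comm]; exact sub_eq_zero.1 h)
          · exact hv0 h
        have hbb : b' * b = 1 := by
          have : φ (h⁻¹ * h) *ᵥ v = v := by rw [inv_mul_cancel, map_one, Matrix.one_mulVec]
          rw [map_mul, ← Matrix.mulVec_mulVec, hb, Matrix.mulVec_smul, hb', smul_smul] at this
          by_contra hne
          have h0 : (b * b' - 1) • v = 0 := by rw [sub_smul, this, one_smul, sub_self]
          rcases smul_eq_zero.1 h0 with h | h
          · exact hne (by rw [mul_comm]; exact sub_eq_zero.1 h)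
          · exact hv0 h
        rw [commutatorElement_def, map_mul, map_mul, map_mul,
          ← Matrix.mulVec_mulVec, hb', Matrix.mulVec_smul, ← Matrix.mulVec_mulVec, ha',
          Matrix.mulVec_smul, ← Matrix.mulVec_mulVec, hb, Matrix.mulVec_smul, ha, smul_smul,
          smul_smul, smul_smul]
        have : b' * (a' * (b * a)) = 1 := by linear_combination a' * a * hbb + haa
        rw [show b' * a' * b * a = b' * (a' * (b * a)) by ring, this, one_smul]
      | one => rw [map_one, Matrix.one_mulVec]
      | mul a b _ _ ha hb => rw [map_mul, ← Matrix.mulVec_mulVec, hb, ha]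
      | inv a _ ha =>
        conv_lhs => rw [← ha]
        rw [Matrix.mulVec_mulVec, ← map_mul, inv_mul_cancel, map_one,
          Matrix.one_mulVec]
    intro z hz
    refine (GL2Odd.pow_eq_one_iff_trace p hp2 hodd φ hinj hdet).2 ?_
    have h0 : (φ z - 1).det = 0 := Matrix.exists_mulVec_eq_zero_iff.mp
      ⟨v, hv0, by rw [Matrix.sub_mulVec, Matrix.one_mulVec, hfixz z hz, sub_self]⟩
    have hd1 := hdet z
    rw [Matrix.trace_fin_two]
    simp [Matrix.det_fin_two] at hd1 h0
    linear_combination hd1 - h0
  · push Not at hu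
    have hYc : ∀ a b : X, a * b = b * a := by
      intro a b
      rcases subsingleton_or_nontrivial (X) with h | h
      · exact Subsingleton.elim _ _
      obtain ⟨N, hNn, hN1, hmin⟩ := Cores.MinNormal.exists_minimal (G := X)
      haveI := hNn
      haveI hNc := Cores.MinNormal.isMulCommutative_of_solvable hN1 hmin
      haveI : Nontrivial N := (Subgroup.nontrivial_iff_ne_bot N).2 hN1
      obtain ⟨x, hx⟩ := exists_ne (1 : N)
      have hx1 : (x : X) ≠ 1 := fun h => hx (Subtype.ext h)
      have hcen : ∀ g : X, g * (x : X) = (x : X) * g := by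
        intro g
        refine GL2Odd.commute_of_normalizes p hp2 hodd φ hinj hdet (hu _ hx1) ?_
        exact congrArg Subtype.val (hNc.is_comm.comm ⟨_, hNn.conj_mem _ x.2 g⟩ x)
      exact GL2Odd.commute_trans p hp2 hodd φ hinj hdet hx1 (hcen a) (hcen b)
    intro z hz
    have : commutator X = ⊥ := by
      rw [commutator_eq_closure, Subgroup.closure_eq_bot_iff]
      rintro _ ⟨g, h, rfl⟩
      exact commutatorElement_eq_one_iff_mul_comm.2 (hYc g h)
    rw [this, Subgroup.mem_bot] at hz
    rw [hz, one_pow]


include hp hp2 in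
theorem commutator_pow_eq_one {X : Type u} [Group X] [Finite X] [Group.IsSolvable X]
    (hodd : Odd (Nat.card X)) (φ : X →* Matrix (Fin 2) (Fin 2) F) (hinj : Function.Injective φ) :
    ∀ z ∈ commutator X, z ^ p = 1 := by
  classical
  obtain ⟨j, hj⟩ := hodd
  set d : X →* F := Matrix.detMonoidHom.comp φ with hd
  have hdm : ∀ g : X, d g ^ (2 * j + 1) = 1 := by
    intro g; rw [← map_pow, ← hj, pow_card_eq_one', map_one]
  have hd0 : ∀ g : X, d g ≠ 0 := by
    intro g h
    have := hdm g
    rw [h, zero_pow (by omega)] at this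
    exact zero_ne_one this
  let ψ : X →* Matrix (Fin 2) (Fin 2) F :=
    { toFun := fun g => (d g) ^ j • φ g
      map_one' := by simp
      map_mul' := fun g h => by
        rw [map_mul, map_mul, mul_pow, smul_mul_smul_comm] }
  have hψ : ∀ g : X, ψ g = (d g) ^ j • φ g := fun _ => rfl
  have hdetψ : ∀ g : X, (ψ g).det = 1 := by
    intro g
    rw [hψ, Matrix.det_smul, Fintype.card_fin, show (φ g).det = d g from rfl,
      ← pow_mul, ← pow_succ, mul_comm j 2, hdm]
  clear_value ψ
  -- pass to the image of `ψ`
  let π : X →* ψ.toHomUnits.range := ψ.toHomUnits.rangeRestrict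
  let φ' : ψ.toHomUnits.range →* Matrix (Fin 2) (Fin 2) F :=
    (Units.coeHom _).comp ψ.toHomUnits.range.subtype
  have hπs : Function.Surjective π := ψ.toHomUnits.rangeRestrict_surjective
  have hinj' : Function.Injective φ' := fun a b h => Subtype.ext (Units.ext h)
  have hφ' : ∀ g : X, φ' (π g) = ψ g := fun g => MonoidHom.coe_toHomUnits ψ g
  haveI : Finite ψ.toHomUnits.range := Finite.of_surjective π hπs
  have hdet' : ∀ y : ψ.toHomUnits.range, (φ' y).det = 1 := fun y => by
    obtain ⟨g, rfl⟩ := hπs y
    rw [hφ', hdetψ]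
  have hoddY : Odd (Nat.card ψ.toHomUnits.range) :=
    (show Odd (Nat.card X) from ⟨j, hj⟩).of_dvd_nat (Subgroup.card_dvd_of_surjective π hπs)
  have hback : ∀ z : X, d z = 1 → (π z) ^ p = 1 → z ^ p = 1 := by
    intro z hz h
    have h1 : ψ (z ^ p) = 1 := by
      rw [← hφ', map_pow π, h, map_one]
    apply hinj
    rw [map_one]
    rw [hψ, map_pow d, hz, one_pow, one_pow, one_smul] at h1
    exact h1
  have hdcomm : ∀ z ∈ commutator X, d z = 1 := by
    intro z hz
    rw [commutator_eq_closure] at hz
    induction hz using Subgroup.closure_induction with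
    | mem w hw =>
      obtain ⟨a, b, rfl⟩ := hw
      have h1 : d (a * b) = d (b * a) := by rw [map_mul, map_mul, mul_comm]
      have h2 : ⁅a, b⁆ * (b * a) = a * b := by rw [commutatorElement_def]; group
      have h3 := congrArg d h2
      rw [map_mul, h1] at h3
      exact mul_left_eq_self₀.1 h3 |>.resolve_right (hd0 _)
    | one => exact map_one d
    | mul a b _ _ ha hb => rw [map_mul, ha, hb, one_mul]
    | inv a _ ha =>
      have := congrArg d (inv_mul_cancel a)
      rw [map_mul, ha, mul_one, map_one] at this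
      exact this
  intro z hz
  haveI : Group.IsSolvable ψ.toHomUnits.range := Group.isSolvable_of_surjective hπs
  refine hback z (hdcomm z hz) (commutator_pow_eq_one_sl p hp2 hoddY φ' hinj' hdet' _ ?_)
  rw [commutator_def] at hz ⊢
  have h := Subgroup.mem_map_of_mem π hz
  rw [Subgroup.map_commutator] at h
  exact Subgroup.commutator_mono le_top le_top h

/-- Automorphism groups of groups of exponent `p` and order at most `p²`. -/
theorem commutator_pow_eq_one_of_action (hp2 : p ≠ 2) {A : Type u} [Group A] [Finite A]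
    [Group.IsSolvable A] (hodd : Odd (Nat.card A)) {V : Type v} [CommGroup V] [Finite V]
    (hexp : ∀ x : V, x ^ p = 1) (hcard : Nat.card V ≤ p ^ 2) (f : A →* MulAut V)
    (hf : Function.Injective f) : ∀ z ∈ commutator A, z ^ p = 1 := by
  have h0 : ∀ x : Additive V, p • x = 0 := fun x => hexp (Additive.toMul x)
  letI : Module (ZMod p) (Additive V) := @AddCommGroup.zmodModule p (Additive V) Additive.addCommGroup h0
  haveI hfin : Module.Finite (ZMod p) (Additive V) := Module.Finite.of_finite
  set n := Module.finrank (ZMod p) (Additive V) with hn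
  have hcn : Nat.card V = p ^ n := by
    have h0 : Nat.card (Additive V) = Nat.card (ZMod p) ^ Module.finrank (ZMod p) (Additive V) :=
      Module.natCard_eq_pow_finrank
    rw [Nat.card_zmod, ← hn] at h0
    exact (Nat.card_congr Additive.ofMul).trans h0
  have hn2 : n ≤ 2 := (Nat.pow_le_pow_iff_right hp.out.one_lt).1 (hcn ▸ hcard)
  let L : A → (Additive V →ₗ[ZMod p] Additive V) := fun g =>
    ((f g).toMonoidHom.toAdditive).toZModLinearMap p
  have hL : ∀ (g : A) (x : V), L g (Additive.ofMul x) = Additive.ofMul (f g x) := fun _ _ => rfl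
  have hL1 : L 1 = LinearMap.id := by
    apply LinearMap.ext; intro x; induction x using Additive.rec with
    | ofMul x => rw [hL, map_one]; rfl
  have hLm : ∀ g h, L (g * h) = (L g).comp (L h) := by
    intro g h
    apply LinearMap.ext; intro x; induction x using Additive.rec with
    | ofMul x => rw [hL, map_mul]; rfl
  have hLinj : ∀ g h, L g = L h → g = h := by
    intro g h e
    apply hf
    apply MulEquiv.ext
    intro x
    exact Additive.ofMul.injective (by rw [← hL, ← hL, e])
  rcases (show n ≤ 1 ∨ n = 2 by omega) with h1 | h2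
  · -- the automorphism group of a group of order at most `p` is commutative
    haveI hcyc : IsCyclic V := by
      rcases Nat.le_one_iff_eq_zero_or_eq_one.1 h1 with h0 | h0
      · rw [h0, pow_zero] at hcn
        haveI := (Nat.card_eq_one_iff_unique.1 hcn).1
        infer_instance
      · exact isCyclic_of_prime_card (p := p) (by rw [hcn, h0, pow_one])
    have hcomm : ∀ g h : A, g * h = h * g := by
      intro g h
      obtain ⟨a, ha⟩ := hcyc.exists_generator
      obtain ⟨i, hi⟩ := Subgroup.mem_zpowers_iff.1 (ha (f g a))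
      obtain ⟨k, hk⟩ := Subgroup.mem_zpowers_iff.1 (ha (f h a))
      apply hf
      apply MulEquiv.ext
      intro x
      obtain ⟨t, rfl⟩ := Subgroup.mem_zpowers_iff.1 (ha x)
      simp only [map_mul, MulAut.mul_apply, map_zpow]
      rw [← hi, ← hk, map_zpow, map_zpow, ← hi, ← hk, ← zpow_mul a i k, ← zpow_mul a k i, mul_comm i]
    intro z hz
    have : commutator A = ⊥ := by
      rw [commutator_eq_closure, Subgroup.closure_eq_bot_iff]
      rintro _ ⟨g, h, rfl⟩
      exact commutatorElement_eq_one_iff_mul_comm.2 (hcomm g h)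
    rw [this, Subgroup.mem_bot] at hz
    rw [hz, one_pow]
  · let b : Module.Basis (Fin 2) (ZMod p) (Additive V) :=
      (Module.finBasis (ZMod p) (Additive V)).reindex (finCongr (hn ▸ h2))
    let φ : A →* Matrix (Fin 2) (Fin 2) (ZMod p) :=
      { toFun := fun g => LinearMap.toMatrix b b (L g)
        map_one' := by rw [hL1, LinearMap.toMatrix_id]
        map_mul' := fun g h => by rw [hLm, LinearMap.toMatrix_comp b b b] }
    exact commutator_pow_eq_one (F := ZMod p) p hp2 hodd φ
      fun g h e => hLinj g h ((LinearMap.toMatrix b b).injective e)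

end Cfsg.Agent.Lib.OddOrder.OddGL2
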