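import Cfsg.Agent.Lib.Isometry.Criterion
set_option autoImplicit false

/-!
# Extending a coherent set by a pair of conjugate characters when one coefficient is known

The variant of `Criterion.coherent_extend` in which the numerical hypothesis is replaced by the
value of a coefficient; used where the numerical inequality degenerates into an equality,
Peterfalvi (9.11).
-/

namespace Cfsg.Agent.Lib.OddOrder.PF9Extend

open scoped ComplexConjugate Classical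
open Cfsg.Agent.Lib.Isometry.Inner Cfsg.Agent.Lib.Isometry.Coherence Cfsg.Agent.Lib.Isometry.Criterion
open Cfsg.Agent.Lib.Induced.Basic (classInner_add_left classInner_add_right classInner_sub_left
  classInner_sub_right classInner_smul_left classInner_smul_right classInner_conj_symm)
open Cfsg.Agent.Lib.Characters.Basic (classInner_zero_left classInner_zero_right classInner_sum_left
  classInner_sum_right)

universe u v
variable {L : Type u} [Group L] [Fintype L] {G : Type v} [Group G] [Fintype G]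
variable {S : Set (L → ℂ)} {τ : (L → ℂ) → (G → ℂ)} {R : (L → ℂ) → Finset (G → ℂ)}

/-- Extension by `χ` and its conjugate, given the coefficient of the difference at `χ₁`. -/
theorem coherent_extend_of_coeff (hS : Cfsg.IsCoherenceSystem S τ R) (d n : (L → ℂ) → ℕ)
    (hd : ∀ φ ∈ S, φ 1 = (d φ : ℂ)) (hn : ∀ φ ∈ S, Cfsg.classInner φ φ = (n φ : ℂ))
    (S₁ : Finset (L → ℂ)) (hS₁ : ↑S₁ ⊆ S) (hS₁c : ∀ φ ∈ S₁, Cfsg.conjFun φ ∈ S₁)
    {T₁ : (L → ℂ) → (G → ℂ)} (hT₁ : Cfsg.IsLinearIsometryOn (Cfsg.zspan (↑S₁ : Set (L → ℂ))) T₁)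
    (hagree : ∀ α ∈ Cfsg.zspanOn (↑S₁ : Set (L → ℂ)) {1}ᶜ, T₁ α = τ α) {χ : L → ℂ} (hχ : χ ∈ S)
    (hχ₁ : χ ∉ S₁) (hχ₂ : Cfsg.conjFun χ ∉ S₁) {χ₁ : L → ℂ} (h₁ : χ₁ ∈ S₁)
    {a : ℕ} (ha : d χ = d χ₁ * a)
    (hcoeff : Cfsg.classInner (τ (χ - (a : ℂ) • χ₁)) (T₁ χ₁) = -((a * n χ₁ : ℕ) : ℂ)) :
    Cfsg.IsCoherent (↑S₁ ∪ {χ, Cfsg.conjFun χ} : Set (L → ℂ)) {1}ᶜ τ := by
  have hmS : ∀ {φ : L → ℂ}, φ ∈ S₁ → φ ∈ S := fun h => hS₁ h
  have hnpos : ∀ φ ∈ S, 0 < n φ := by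
    intro φ hφ
    obtain ⟨m, hm0, hm, -⟩ := sys_norm hS hφ
    rw [hn φ hφ] at hm
    have e : n φ = m := by exact_mod_cast hm
    omega
  obtain ⟨k, -, hk, hcard, hkc⟩ := sys_norm hS hχ
  have hd1 : (0 : ℝ) < d χ₁ := by
    rcases Nat.eq_zero_or_pos (d χ₁) with h | h
    · exact absurd (by rw [hd χ₁ (hmS h₁), h, Nat.cast_zero]) (sys_one_ne_zero hS (hmS h₁))
    · exact_mod_cast h
  have hapos : 0 < a := by
    rcases Nat.eq_zero_or_pos a with h | h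
    · exact absurd (by rw [hd χ hχ, ha, h, mul_zero, Nat.cast_zero]) (sys_one_ne_zero hS hχ)
    · exact h
  set w := χ - (a : ℂ) • χ₁ with hwdef
  have hwz : ∀ U : Set (L → ℂ), χ ∈ U → χ₁ ∈ U → w ∈ Cfsg.zspanOn U {1}ᶜ := fun U h h' =>
    mem_zspanOn_one.2 ⟨zspan_sub (subset_zspan U h)
      (by simpa using zspan_smul (a : ℤ) (subset_zspan U h')),
      by rw [hwdef, Pi.sub_apply, Pi.smul_apply, hd χ hχ, hd χ₁ (hmS h₁), ha, smul_eq_mul]
         push_cast; ring⟩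
  have hw := hwz S hχ (hmS h₁)
  set v := τ w with hvdef
  have hv : Cfsg.IsGeneralizedCharacter G v := hS.isometry.2.2.2 _ hw
  have neφ : ∀ φ ∈ S₁, φ ≠ χ ∧ φ ≠ Cfsg.conjFun χ := fun φ h =>
    ⟨fun e => hχ₁ (e ▸ h), fun e => hχ₂ (e ▸ h)⟩
  have oχ : ∀ φ ∈ S₁, Cfsg.classInner χ φ = 0 := fun φ h =>
    hS.orthogonal χ hχ φ (hmS h) (neφ φ h).1.symm
  have oχ' : ∀ φ ∈ S₁, Cfsg.classInner (Cfsg.conjFun χ) φ = 0 := fun φ h =>
    hS.orthogonal _ (hS.conj_mem χ hχ) φ (hmS h) (neφ φ h).2.symm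
  have oφ : ∀ φ ∈ S₁, Cfsg.classInner φ χ = 0 := fun φ h =>
    hS.orthogonal φ (hmS h) χ hχ (neφ φ h).1
  have oφ' : ∀ φ ∈ S₁, Cfsg.classInner φ (Cfsg.conjFun χ) = 0 := fun φ h =>
    hS.orthogonal φ (hmS h) _ (hS.conj_mem χ hχ) (neφ φ h).2
  have hperp : ∀ φ ∈ S₁, ∀ r ∈ R χ, Cfsg.classInner r (T₁ φ) = 0 := by
    intro φ hφ r hr
    obtain ⟨x, hx⟩ := image_mem hS hS₁ hT₁ hagree (Finset.mem_coe.2 hφ) (hS₁c φ hφ)
    rw [hx, classInner_sum_right]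
    refine Finset.sum_eq_zero fun s hs => ?_
    rw [classInner_smul_right, ← classInner_conj_symm s r,
      sys_disjoint hS hχ (hmS hφ) (neφ φ hφ).1 (neφ φ hφ).2 s hs r hr, map_zero, mul_zero]
  have hin : Cfsg.classInner v (τ (χ - Cfsg.conjFun χ)) = (k : ℂ) := by
    rw [hvdef, hS.isometry.2.2.1 _ hw _ (sys_diff_mem hS hχ), hwdef, classInner_sub_left,
      classInner_smul_left, classInner_sub_right, classInner_sub_right, hk, sys_orth_conj hS hχ,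
      oφ χ₁ h₁, oφ' χ₁ h₁]
    ring
  obtain ⟨x, hx, hxge, hxsum, hres⟩ := sys_project hS hχ hv hin
  set X := ∑ r ∈ R χ, (x r : ℂ) • r with hXdef
  have hX : Cfsg.IsGeneralizedCharacter G X :=
    gen_sum _ fun r hr => gen_intCast_smul (hS.virtual χ hχ r hr) _
  have hXperp : ∀ φ ∈ S₁, Cfsg.classInner X (T₁ φ) = 0 := by
    intro φ hφ
    rw [hXdef, classInner_sum_left]
    exact Finset.sum_eq_zero fun r hr => by rw [classInner_smul_left, hperp φ hφ r hr, mul_zero]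
  have hTgen : ∀ φ ∈ S₁, Cfsg.IsGeneralizedCharacter G (T₁ φ) := fun φ h =>
    hT₁.2.2.2 _ (subset_zspan _ (Finset.mem_coe.2 h))
  have hTin : ∀ φ ∈ S₁, ∀ ψ ∈ S₁, Cfsg.classInner (T₁ φ) (T₁ ψ) = Cfsg.classInner φ ψ :=
    fun φ h ψ h' => hT₁.2.2.1 _ (subset_zspan _ (Finset.mem_coe.2 h)) _
      (subset_zspan _ (Finset.mem_coe.2 h'))
  have hcex : ∀ φ, ∃ c : ℤ, φ ∈ S₁ → Cfsg.classInner v (T₁ φ) = c := fun φ => by
    by_cases hφ : φ ∈ S₁
    · obtain ⟨c, hc⟩ := classInner_gen_int hv (hTgen φ hφ); exact ⟨c, fun _ => hc⟩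
    · exact ⟨0, fun h => absurd h hφ⟩
  choose c hc using hcex
  set δ : (L → ℂ) → ℝ := fun φ => if φ = χ₁ then 1 else 0 with hδ
  set b : ℤ := c χ₁ + (a : ℤ) * n χ₁ with hb
  have hrel : ∀ φ ∈ S₁, (d χ₁ : ℝ) * ((c φ : ℝ) + a * n χ₁ * δ φ) = d φ * b := by
    intro φ hφ
    set z := ((d χ₁ : ℤ) : ℂ) • φ - ((d φ : ℤ) : ℂ) • χ₁ with hzdef
    have m1 : φ ∈ Cfsg.zspan (↑S₁ : Set (L → ℂ)) := subset_zspan _ (Finset.mem_coe.2 hφ)
    have m2 : χ₁ ∈ Cfsg.zspan (↑S₁ : Set (L → ℂ)) := subset_zspan _ (Finset.mem_coe.2 h₁)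
    have hz : z ∈ Cfsg.zspanOn (↑S₁ : Set (L → ℂ)) {1}ᶜ := mem_zspanOn_one.2
      ⟨zspan_sub (zspan_smul _ m1) (zspan_smul _ m2),
        by rw [hzdef, Pi.sub_apply, Pi.smul_apply, Pi.smul_apply, hd φ (hmS hφ),
            hd χ₁ (hmS h₁), smul_eq_mul, smul_eq_mul]
           push_cast; ring⟩
    have h' := hS.isometry.2.2.1 w hw z (zspanOn_mono _ hS₁ hz)
    rw [← hvdef, ← hagree z hz, hzdef, span_iso_sub hT₁ (zspan_smul _ m1) (zspan_smul _ m2),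
      span_iso_smul hT₁ m1, span_iso_smul hT₁ m2, classInner_sub_right, classInner_smul_right,
      classInner_smul_right, map_intCast, map_intCast, hc φ hφ, hc χ₁ h₁, classInner_sub_right,
      classInner_smul_right, classInner_smul_right, map_intCast, map_intCast, hwdef,
      classInner_sub_left, classInner_sub_left, classInner_smul_left, classInner_smul_left,
      oχ φ hφ, oχ χ₁ h₁, hn χ₁ (hmS h₁)] at h'
    have h'' : (d χ₁ : ℂ) * c φ - d φ * c χ₁ =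
        d χ₁ * (0 - a * Cfsg.classInner χ₁ φ) - d φ * (0 - a * n χ₁) := by
      simpa using h'
    have hin1 : Cfsg.classInner χ₁ φ = ((n χ₁ * δ φ : ℝ) : ℂ) := by
      by_cases he : φ = χ₁
      · rw [he, hn χ₁ (hmS h₁)]; simp [hδ]
      · rw [hS.orthogonal χ₁ (hmS h₁) φ (hmS hφ) (Ne.symm he)]; simp [hδ, he]
    rw [hin1] at h''
    have hreal : (d χ₁ : ℝ) * c φ - d φ * c χ₁ =
        d χ₁ * (0 - a * (n χ₁ * δ φ)) - d φ * (0 - a * n χ₁) := by exact_mod_cast h''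
    rw [hb]; push_cast
    linarith
  set q : ℝ := ∑ φ ∈ S₁, ((d φ : ℝ) ^ 2 / (n φ : ℝ)) with hq
  have hbess := bessel S₁ T₁ (fun φ => (n φ : ℝ)) (fun φ => (c φ : ℝ)) (v - X)
    (fun i hi j hj h => by rw [hTin i hi j hj, hS.orthogonal i (hmS hi) j (hmS hj) h])
    (fun i hi => by rw [hTin i hi i hi, hn i (hmS hi)]; simp)
    (fun i hi => by exact_mod_cast (hnpos i (hmS hi)).ne')
    (fun i hi => by rw [classInner_sub_left, hXperp i hi, sub_zero, hc i hi]; simp)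
  have hsumc : ∑ φ ∈ S₁, (c φ : ℝ) ^ 2 / (n φ : ℝ) =
      (b : ℝ) ^ 2 * q / (d χ₁ : ℝ) ^ 2 - 2 * a * b + (a : ℝ) ^ 2 * n χ₁ := by
    have e : ∀ φ ∈ S₁, (c φ : ℝ) ^ 2 / (n φ : ℝ) =
        (b : ℝ) ^ 2 / (d χ₁ : ℝ) ^ 2 * ((d φ : ℝ) ^ 2 / (n φ : ℝ)) +
          δ φ * ((a : ℝ) ^ 2 * n χ₁ - 2 * a * b) := by
      intro φ hφ
      have hcφ : (c φ : ℝ) = d φ * b / d χ₁ - a * n χ₁ * δ φ := by
        rw [← hrel φ hφ]; field_simp; ring
      have hn1 : (n χ₁ : ℝ) ≠ 0 := by exact_mod_cast (hnpos χ₁ (hmS h₁)).ne'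
      rw [hcφ]
      by_cases he : φ = χ₁
      · subst he; simp only [hδ, if_pos]; field_simp; ring
      · simp only [hδ, if_neg he]; field_simp; ring
    rw [Finset.sum_congr rfl e, Finset.sum_add_distrib, ← Finset.mul_sum, ← Finset.sum_mul, ← hq]
    simp only [hδ, Finset.sum_ite_eq', if_pos h₁]
    ring
  have hvv : Cfsg.classInner v v = (((k : ℝ) + (a : ℝ) ^ 2 * n χ₁ : ℝ) : ℂ) := by
    rw [hvdef, hS.isometry.2.2.1 _ hw _ hw, hwdef, classInner_sub_left, classInner_sub_right,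
      classInner_sub_right, classInner_smul_left, classInner_smul_left, classInner_smul_right,
      classInner_smul_right, hk, oχ χ₁ h₁, oφ χ₁ h₁, hn χ₁ (hmS h₁), map_natCast]
    push_cast; ring
  have hnn := classInner_self_re_nonneg
    (v - X - ∑ i ∈ S₁, (((c i : ℝ) / (n i : ℝ) : ℝ) : ℂ) • T₁ i)
  rw [hbess, hres, hvv, hsumc] at hnn
  simp only [Complex.sub_re, Complex.intCast_re, Complex.ofReal_re] at hnn
  have hxge' : (k : ℝ) ≤ ((∑ r ∈ R χ, x r ^ 2 : ℤ) : ℝ) := by exact_mod_cast hxge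
  have hb0 : b = 0 := by
    have h1 := hc χ₁ h₁
    rw [hvdef, hwdef, hcoeff] at h1
    have h2 : c χ₁ = -((a * n χ₁ : ℕ) : ℤ) := by exact_mod_cast h1.symm
    rw [hb, h2]; push_cast; ring
  have hxle : ∑ r ∈ R χ, x r ^ 2 ≤ (k : ℤ) := by
    rw [hb0] at hnn
    have : ((∑ r ∈ R χ, x r ^ 2 : ℤ) : ℝ) ≤ (((k : ℤ)) : ℝ) := by
      push_cast at hnn ⊢
      have : (0:ℝ) ^ 2 * q / (d χ₁ : ℝ) ^ 2 = 0 := by norm_num
      linarith
    exact Int.cast_le.1 this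
  have hxk : ∑ r ∈ R χ, x r ^ 2 = (k : ℤ) := le_antisymm hxle hxge
  have hveq : v = X - (a : ℂ) • T₁ χ₁ := by
    have h0 : v - X - ∑ i ∈ S₁, (((c i : ℝ) / (n i : ℝ) : ℝ) : ℂ) • T₁ i = 0 := by
      apply eq_zero_of_classInner_self
      rw [hbess, hres, hvv, hsumc, hxk, hb0]
      push_cast; ring
    have hsum : ∑ i ∈ S₁, (((c i : ℝ) / (n i : ℝ) : ℝ) : ℂ) • T₁ i = -((a : ℂ) • T₁ χ₁) := by
      rw [Finset.sum_eq_single χ₁]
      · have h' := hrel χ₁ h₁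
        rw [hb0, hδ] at h'
        have e : (c χ₁ : ℝ) = -(a * n χ₁ : ℝ) := by
          simp only [if_pos, Int.cast_zero, mul_zero, mul_eq_zero, hd1.ne', false_or] at h'
          linarith
        rw [e, neg_div, mul_div_assoc, div_self (by exact_mod_cast (hnpos χ₁ (hmS h₁)).ne'),
          mul_one, ← neg_smul]
        congr 1; push_cast; ring
      · intro i hi hne
        have h' := hrel i hi
        rw [hb0, hδ] at h'
        have e : (c i : ℝ) = 0 := by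
          simpa [hne, hd1.ne'] using h'
        rw [e, zero_div, Complex.ofReal_zero, zero_smul]
      · exact fun h => absurd h₁ h
    rw [hsum] at h0
    exact sub_eq_zero.1 (by rw [← h0]; abel)
  have hXX : Cfsg.classInner X X = (k : ℂ) := by
    have : (∑ r ∈ R χ, x r * x r : ℤ) = (k : ℤ) := by
      rw [← hxk]; exact Finset.sum_congr rfl fun r _ => (sq _).symm
    calc Cfsg.classInner X X = ∑ r ∈ R χ, (x r : ℂ) * x r := by
          rw [hXdef, classInner_sum_left]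
          refine Finset.sum_congr rfl fun r hr => ?_
          rw [classInner_smul_left, classInner_sum_right, Finset.sum_eq_single r
            (fun s hs hne => by rw [classInner_smul_right, hS.orthonormal χ hχ r hr s hs,
              if_neg hne.symm, mul_zero]) (fun h => absurd hr h), classInner_smul_right,
            hS.orthonormal χ hχ r hr r hr, if_pos rfl, map_intCast, mul_one]
      _ = _ := by exact_mod_cast this
  set E := τ (χ - Cfsg.conjFun χ) with hEdef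
  have hXE : Cfsg.classInner X E = (k : ℂ) := by
    rw [hEdef, hS.sum_eq χ hχ, classInner_sum_right, ← show ((∑ r ∈ R χ, x r : ℤ) : ℂ) = (k : ℂ) by
      rw [hxsum]; simp, Int.cast_sum]
    refine Finset.sum_congr rfl fun r hr => ?_
    rw [hXdef, classInner_sum_left, Finset.sum_eq_single r
      (fun s hs hne => by rw [classInner_smul_left, hS.orthonormal χ hχ s hs r hr, if_neg hne,
        mul_zero]) (fun h => absurd hr h), classInner_smul_left, hS.orthonormal χ hχ r hr r hr,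
      if_pos rfl, mul_one]
  have hEX : Cfsg.classInner E X = (k : ℂ) := by
    rw [← classInner_conj_symm X E, hXE, map_natCast]
  have hEE : Cfsg.classInner E E = 2 * (k : ℂ) := by
    rw [hEdef, hS.isometry.2.2.1 _ (sys_diff_mem hS hχ) _ (sys_diff_mem hS hχ), classInner_sub_left,
      classInner_sub_right, classInner_sub_right, hk, hkc, sys_orth_conj hS hχ,
      ← classInner_conj_symm χ (Cfsg.conjFun χ), sys_orth_conj hS hχ, map_zero]
    ring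
  have hEperp : ∀ φ ∈ S₁, Cfsg.classInner E (T₁ φ) = 0 := fun φ hφ => by
    rw [hEdef, hS.sum_eq χ hχ, classInner_sum_left]
    exact Finset.sum_eq_zero fun r hr => hperp φ hφ r hr
  have hXperp' : ∀ φ ∈ S₁, Cfsg.classInner (T₁ φ) X = 0 := fun φ h => by
    rw [← classInner_conj_symm X, hXperp φ h, map_zero]
  have hEperp' : ∀ φ ∈ S₁, Cfsg.classInner (T₁ φ) E = 0 := fun φ h => by
    rw [← classInner_conj_symm E, hEperp φ h, map_zero]
  set S₀ := insert χ (insert (Cfsg.conjFun χ) S₁) with hS₀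
  have hcoe : (↑S₀ : Set (L → ℂ)) = ↑S₁ ∪ {χ, Cfsg.conjFun χ} := by
    ext y; simp [hS₀]
  have hS₀S : ∀ y ∈ S₀, y ∈ S := by
    intro y hy
    simp only [hS₀, Finset.mem_insert] at hy
    rcases hy with rfl | rfl | h
    exacts [hχ, hS.conj_mem χ hχ, hmS h]
  set f := fun y => if y = χ then X else if y = Cfsg.conjFun χ then X - E else T₁ y with hf
  have fχ : f χ = X := by simp [hf]
  have fχ' : f (Cfsg.conjFun χ) = X - E := by simp [hf, hS.conj_ne χ hχ]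
  have fφ : ∀ φ ∈ S₁, f φ = T₁ φ := fun φ h => by simp [hf, (neφ φ h).1, (neφ φ h).2]
  rw [← hcoe]
  have o : Cfsg.classInner χ (Cfsg.conjFun χ) = 0 := sys_orth_conj hS hχ
  have o' : Cfsg.classInner (Cfsg.conjFun χ) χ = 0 := by rw [← classInner_conj_symm, o, map_zero]
  refine coherent_of_images (fun p hp r hr => hS.orthogonal p (hS₀S p hp) r (hS₀S r hr))
    (fun p hp => sys_ne_zero hS (hS₀S p hp)) f ?_ ?_ ?_ ?_
  · intro y hy
    simp only [hS₀, Finset.mem_insert] at hy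
    rcases hy with rfl | rfl | h
    · rw [fχ]; exact hX
    · rw [fχ']; exact gen_sub hX (hS.isometry.2.2.2 _ (sys_diff_mem hS hχ))
    · rw [fφ y h]; exact hTgen y h
  · intro p hp r hr
    simp only [hS₀, Finset.mem_insert] at hp hr
    rcases hp with rfl | rfl | hp <;> rcases hr with rfl | rfl | hr
    · rw [fχ, hXX, hk]
    · rw [fχ, fχ', classInner_sub_right, hXX, hXE, o, sub_self]
    · rw [fχ, fφ r hr, hXperp r hr, oχ r hr]
    · rw [fχ, fχ', classInner_sub_left, hXX, hEX, o', sub_self]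
    · rw [fχ', classInner_sub_left, classInner_sub_right, classInner_sub_right, hXX, hXE, hEX,
        hEE, hkc]; ring
    · rw [fχ', fφ r hr, classInner_sub_left, hXperp r hr, hEperp r hr, oχ' r hr, sub_self]
    · rw [fχ, fφ p hp, hXperp' p hp, oφ p hp]
    · rw [fχ', fφ p hp, classInner_sub_right, hXperp' p hp, hEperp' p hp, oφ' p hp, sub_self]
    · rw [fφ p hp, fφ r hr, hTin p hp r hr]
  · exact exists_ne_zero_zspanOn hS hχ (by simp [hS₀]) (by simp [hS₀])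
  · intro T hT α hα
    obtain ⟨hαs, hα1⟩ := mem_zspanOn_one.1 hα
    set W := Submodule.span ℤ (↑S₁ : Set (L → ℂ)) with hW
    set e := χ - Cfsg.conjFun χ with he
    have key : ∀ β ∈ Cfsg.zspan (↑S₀ : Set (L → ℂ)), ∃ m l : ℤ,
        β - (m : ℂ) • w - (l : ℂ) • e ∈ W := by
      intro β hβ
      induction hβ using Submodule.span_induction with
      | mem z hz =>
        simp only [hS₀, Finset.mem_coe, Finset.mem_insert] at hz
        rcases hz with rfl | rfl | hz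
        · refine ⟨1, 0, ?_⟩
          have : z - ((1 : ℤ) : ℂ) • w - ((0 : ℤ) : ℂ) • e = ((a : ℤ) : ℂ) • χ₁ := by
            simp [hwdef]
          rw [this]; exact zspan_smul _ (subset_zspan _ (Finset.mem_coe.2 h₁))
        · refine ⟨1, -1, ?_⟩
          have : Cfsg.conjFun χ - ((1 : ℤ) : ℂ) • w - ((-1 : ℤ) : ℂ) • e = ((a : ℤ) : ℂ) • χ₁ := by
            simp [hwdef, he]
          rw [this]; exact zspan_smul _ (subset_zspan _ (Finset.mem_coe.2 h₁))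
        · exact ⟨0, 0, by simpa using Submodule.subset_span (Finset.mem_coe.2 hz)⟩
      | zero => exact ⟨0, 0, by simp⟩
      | add p r _ _ ihp ihr =>
        obtain ⟨m, l, hp⟩ := ihp
        obtain ⟨m', l', hr⟩ := ihr
        refine ⟨m + m', l + l', ?_⟩
        convert W.add_mem hp hr using 1
        push_cast; rw [add_smul, add_smul]; abel
      | smul t p _ ih =>
        obtain ⟨m, l, hp⟩ := ih
        refine ⟨t * m, t * l, ?_⟩
        convert W.smul_mem t hp using 1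
        funext y
        simp only [Pi.sub_apply, Pi.smul_apply, zsmul_eq_mul, smul_eq_mul, Pi.mul_apply, Pi.intCast_apply]
        push_cast; ring
    obtain ⟨m, l, hβ⟩ := key α hαs
    set β := α - (m : ℂ) • w - (l : ℂ) • e
    have hw1 : w 1 = 0 := (mem_zspanOn_one.1 hw).2
    have he1 : e 1 = 0 := (mem_zspanOn_one.1 (sys_diff_mem hS hχ)).2
    have hβ1 : β ∈ Cfsg.zspanOn (↑S₁ : Set (L → ℂ)) {1}ᶜ :=
      mem_zspanOn_one.2 ⟨hβ, by simp [β, hα1, hw1, he1]⟩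
    have Tw : T w = τ w := by
      rw [hwdef, map_sub, map_smul, hT χ (by simp [hS₀]), hT χ₁ (by simp [hS₀, h₁]), fχ, fφ χ₁ h₁]
      exact hveq.symm
    have Te : T e = τ e := by
      rw [he, map_sub, hT χ (by simp [hS₀]), hT _ (by simp [hS₀]), fχ, fχ', sub_sub_cancel]
    have Tβ : T β = τ β := by
      rw [← hagree β hβ1]
      exact span_iso_agree hT₁ T (fun y hy => by
        rw [hT y (by simp [hS₀, Finset.mem_coe.1 hy]), fφ y hy]) hβ1.1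
    have dec : α = β + ((m : ℂ) • w + (l : ℂ) • e) := by simp only [β]; abel
    have mW : (m : ℂ) • w ∈ Cfsg.zspanOn S {1}ᶜ := by
      rw [Int.cast_smul_eq_zsmul]; exact (zspanOnMod S {1}ᶜ).smul_mem m hw
    have mE : (l : ℂ) • e ∈ Cfsg.zspanOn S {1}ᶜ := by
      rw [Int.cast_smul_eq_zsmul]; exact (zspanOnMod S {1}ᶜ).smul_mem l (sys_diff_mem hS hχ)
    rw [dec, map_add, map_add, map_smul, map_smul, Tw, Te, Tβ,
      hS.isometry.1 _ (zspanOn_mono _ hS₁ hβ1) _ ((zspanOnMod S {1}ᶜ).add_mem mW mE),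
      hS.isometry.1 _ mW _ mE, iso_smul hS.isometry hw, iso_smul hS.isometry (sys_diff_mem hS hχ)]

section Degenerate

variable (hS : Cfsg.IsCoherenceSystem S τ R) (d n : (L → ℂ) → ℕ)
    (hd : ∀ φ ∈ S, φ 1 = (d φ : ℂ)) (hn : ∀ φ ∈ S, Cfsg.classInner φ φ = (n φ : ℂ))
    (S₁ : Finset (L → ℂ)) (hS₁ : ↑S₁ ⊆ S) (hS₁c : ∀ φ ∈ S₁, Cfsg.conjFun φ ∈ S₁)
    {T₁ : (L → ℂ) → (G → ℂ)} (hT₁ : Cfsg.IsLinearIsometryOn (Cfsg.zspan (↑S₁ : Set (L → ℂ))) T₁)
    (hagree : ∀ α ∈ Cfsg.zspanOn (↑S₁ : Set (L → ℂ)) {1}ᶜ, T₁ α = τ α)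
    {χ₁ : L → ℂ} (h₁ : χ₁ ∈ S₁) (hd₁ : ∀ ξ ∈ S₁, d ξ = d χ₁) (hn₁ : ∀ ξ ∈ S₁, n ξ = 1)
    {b : ℕ} (hcard : S₁.card = 2 * b)

include hS hd hn hS₁ hS₁c hT₁ hagree h₁ hd₁ hn₁ hcard

/-- When the numerical criterion is an equality, the extension by an irreducible `χ` can only fail
with all the coefficients `⟨τ (χ - b χ₁), ξ^τ⟩` equal to `1`, apart from a shift by `b` at `χ₁`. -/
theorem extend_or {χ : L → ℂ} (hχ : χ ∈ S) (hχ₁ : χ ∉ S₁) (hnχ : n χ = 1)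
    (hdχ : d χ = d χ₁ * b) :
    Cfsg.IsCoherent (↑S₁ ∪ {χ, Cfsg.conjFun χ} : Set (L → ℂ)) {1}ᶜ τ ∨
      ∀ ξ ∈ S₁, Cfsg.classInner (τ (χ - (b : ℂ) • χ₁)) (T₁ ξ) =
        ((if ξ = χ₁ then 1 - (b : ℤ) else 1 : ℤ) : ℂ) := by
  have hb : 1 ≤ b := by
    have := Finset.card_pos.2 ⟨χ₁, h₁⟩
    omega
  set w := χ - (b : ℂ) • χ₁ with hwdef
  have hw : w ∈ Cfsg.zspanOn S {1}ᶜ := mem_zspanOn_one.2
    ⟨zspan_sub (subset_zspan S hχ) (by simpa using zspan_smul (b : ℤ) (subset_zspan S (hS₁ h₁))),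
      by rw [hwdef, Pi.sub_apply, Pi.smul_apply, hd χ hχ, hd χ₁ (hS₁ h₁), hdχ, smul_eq_mul]
         push_cast; ring⟩
  have hv : Cfsg.IsGeneralizedCharacter G (τ w) := hS.isometry.2.2.2 _ hw
  have m : ∀ {ξ}, ξ ∈ S₁ → ξ ∈ Cfsg.zspan (↑S₁ : Set (L → ℂ)) := fun h =>
    subset_zspan _ (Finset.mem_coe.2 h)
  have hTin : ∀ ξ ∈ S₁, ∀ η ∈ S₁, Cfsg.classInner (T₁ ξ) (T₁ η) = if ξ = η then 1 else 0 := by
    intro ξ hξ η hη
    rw [hT₁.2.2.1 _ (m hξ) _ (m hη)]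
    split_ifs with he
    · rw [← he, hn ξ (hS₁ hξ), hn₁ ξ hξ, Nat.cast_one]
    · exact hS.orthogonal ξ (hS₁ hξ) η (hS₁ hη) he
  obtain ⟨c₁, hc₁⟩ := classInner_gen_int hv (hT₁.2.2.2 _ (m h₁))
  have oχ : ∀ ξ ∈ S₁, Cfsg.classInner χ ξ = 0 := fun ξ h =>
    hS.orthogonal χ hχ ξ (hS₁ h) fun e => hχ₁ (e ▸ h)
  have hc : ∀ ξ ∈ S₁, Cfsg.classInner (τ w) (T₁ ξ) =
      (((c₁ + b) - (if ξ = χ₁ then (b : ℤ) else 0) : ℤ) : ℂ) := by
    intro ξ hξ
    by_cases he : ξ = χ₁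
    · rw [he, hc₁, if_pos rfl, add_sub_cancel_right]
    · have hz : ξ - χ₁ ∈ Cfsg.zspanOn (↑S₁ : Set (L → ℂ)) {1}ᶜ := mem_zspanOn_one.2
        ⟨zspan_sub (m hξ) (m h₁), by rw [Pi.sub_apply, hd ξ (hS₁ hξ), hd χ₁ (hS₁ h₁), hd₁ ξ hξ, sub_self]⟩
      have h' := hS.isometry.2.2.1 w hw _ (zspanOn_mono _ hS₁ hz)
      rw [← hagree _ hz, span_iso_sub hT₁ (m hξ) (m h₁), classInner_sub_right, hc₁, hwdef,
        classInner_sub_left, classInner_smul_left, classInner_sub_right, classInner_sub_right,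
        oχ ξ hξ, oχ χ₁ h₁, hn χ₁ (hS₁ h₁), hn₁ χ₁ h₁,
        hS.orthogonal χ₁ (hS₁ h₁) ξ (hS₁ hξ) (Ne.symm he)] at h'
      rw [if_neg he, sub_zero, Int.cast_add, Int.cast_natCast, hwdef, eq_add_of_sub_eq h']
      push_cast; ring
  set c : (L → ℂ) → ℤ := fun ξ => (c₁ + b) - (if ξ = χ₁ then (b : ℤ) else 0) with hcdef
  have hbess := bessel S₁ T₁ (fun _ => 1) (fun ξ => (c ξ : ℝ)) (τ w)
    (fun i hi j hj h => by rw [hTin i hi j hj, if_neg h])
    (fun i hi => by rw [hTin i hi i hi, if_pos rfl]; simp) (fun _ _ => one_ne_zero)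
    (fun i hi => by rw [hc i hi]; simp only [hcdef]; split_ifs <;> push_cast <;> rfl)
  have hvv : Cfsg.classInner (τ w) (τ w) = ((1 + (b : ℝ) ^ 2 : ℝ) : ℂ) := by
    rw [hS.isometry.2.2.1 _ hw _ hw, hwdef, classInner_sub_left, classInner_sub_right,
      classInner_sub_right, classInner_smul_left, classInner_smul_left, classInner_smul_right,
      classInner_smul_right, hn χ hχ, hnχ, oχ χ₁ h₁, hn χ₁ (hS₁ h₁), hn₁ χ₁ h₁, map_natCast,
      ← classInner_conj_symm χ χ₁, oχ χ₁ h₁, map_zero]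
    push_cast; ring
  have hnn := classInner_self_re_nonneg
    (τ w - ∑ i ∈ S₁, (((c i : ℝ) / (1 : ℝ) : ℝ) : ℂ) • T₁ i)
  rw [hbess, hvv, Complex.sub_re, Complex.ofReal_re, Complex.ofReal_re] at hnn
  simp only [div_one] at hnn
  have hsum : ∑ ξ ∈ S₁, (c ξ : ℝ) ^ 2 =
      2 * b * ((c₁ : ℝ) + b) ^ 2 - 2 * b * ((c₁ : ℝ) + b) + (b : ℝ) ^ 2 := by
    have e : ∀ ξ ∈ S₁, (c ξ : ℝ) ^ 2 = ((c₁ : ℝ) + b) ^ 2 +
        (if ξ = χ₁ then (b : ℝ) ^ 2 - 2 * b * ((c₁ : ℝ) + b) else 0) := by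
      intro ξ _
      simp only [hcdef]
      split_ifs <;> push_cast <;> ring
    rw [Finset.sum_congr rfl e, Finset.sum_add_distrib, Finset.sum_const, nsmul_eq_mul,
      Finset.sum_ite_eq', if_pos h₁, hcard]
    push_cast; ring
  rw [hsum] at hnn
  have h2 : 2 * (b : ℤ) * ((c₁ + b) * (c₁ + b - 1)) ≤ 1 := by
    have h3 : ((2 * (b : ℤ) * ((c₁ + b) * (c₁ + b - 1)) : ℤ) : ℝ) ≤ ((1 : ℤ) : ℝ) := by
      push_cast; linarith
    exact Int.cast_le.1 h3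
  have hβ : c₁ + b = 0 ∨ c₁ + b = 1 := by
    rcases le_or_gt (c₁ + (b : ℤ)) 0 with h | h
    · left
      by_contra hne
      have h4 : 1 ≤ (c₁ + (b : ℤ)) * (c₁ + b - 1) := by
        have : c₁ + (b : ℤ) ≤ -1 := by omega
        nlinarith
      nlinarith
    · right
      by_contra hne
      have h4 : 1 ≤ (c₁ + (b : ℤ)) * (c₁ + b - 1) := by
        have : 2 ≤ c₁ + (b : ℤ) := by omega
        nlinarith
      nlinarith
  rcases hβ with h | h
  · refine Or.inl (coherent_extend_of_coeff hS d n hd hn S₁ hS₁ hS₁c hT₁ hagree hχ hχ₁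
      (fun e => hχ₁ (by simpa [conjFun_conjFun] using hS₁c _ e)) h₁ hdχ ?_)
    rw [← hwdef, hc₁, hn₁ χ₁ h₁, mul_one, show c₁ = -(b : ℤ) by omega]
    push_cast; rfl
  · refine Or.inr fun ξ hξ => ?_
    rw [hc ξ hξ, h]
    congr 1
    split_ifs <;> ring

omit hS₁c in
/-- If the degenerate alternative holds for all of `Ξ`, the image `Γ` of the difference of a
character orthogonal to all of them and `χ₁` bounds their number. -/
theorem card_le_norm (hb : 2 ≤ b) (Ξ : Finset (L → ℂ)) (hΞ : ↑Ξ ⊆ S)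
    (hΞ₁ : ∀ χ ∈ Ξ, χ ∉ S₁) (hnΞ : ∀ χ ∈ Ξ, n χ = 1) (hdΞ : ∀ χ ∈ Ξ, d χ = d χ₁ * b)
    (hbad : ∀ χ ∈ Ξ, ∀ ξ ∈ S₁, Cfsg.classInner (τ (χ - (b : ℂ) • χ₁)) (T₁ ξ) =
        ((if ξ = χ₁ then 1 - (b : ℤ) else 1 : ℤ) : ℂ))
    {Γ : G → ℂ} (hΓ : Cfsg.IsGeneralizedCharacter G Γ) {N : ℝ}
    (hΓΓ : Cfsg.classInner Γ Γ = ((N + 1 : ℝ) : ℂ))
    (hΓT : ∀ ξ ∈ S₁, ξ ≠ χ₁ → Cfsg.classInner Γ (τ (ξ - χ₁)) = 1)
    (hΓv : ∀ χ ∈ Ξ, Cfsg.classInner Γ (τ (χ - (b : ℂ) • χ₁)) = (b : ℂ)) :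
    (Ξ.card : ℝ) ≤ N := by
  have m : ∀ {ξ}, ξ ∈ S₁ → ξ ∈ Cfsg.zspan (↑S₁ : Set (L → ℂ)) := fun h =>
    subset_zspan _ (Finset.mem_coe.2 h)
  have hTgen : ∀ ξ ∈ S₁, Cfsg.IsGeneralizedCharacter G (T₁ ξ) := fun ξ h => hT₁.2.2.2 _ (m h)
  have hTin : ∀ ξ ∈ S₁, ∀ η ∈ S₁, Cfsg.classInner (T₁ ξ) (T₁ η) = if ξ = η then 1 else 0 := by
    intro ξ hξ η hη
    rw [hT₁.2.2.1 _ (m hξ) _ (m hη)]
    split_ifs with he
    · rw [← he, hn ξ (hS₁ hξ), hn₁ ξ hξ, Nat.cast_one]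
    · exact hS.orthogonal ξ (hS₁ hξ) η (hS₁ hη) he
  obtain ⟨g, hg⟩ := classInner_gen_int hΓ (hTgen χ₁ h₁)
  have hgξ : ∀ ξ ∈ S₁, Cfsg.classInner Γ (T₁ ξ) = ((g + if ξ = χ₁ then 0 else 1 : ℤ) : ℂ) := by
    intro ξ hξ
    split_ifs with he
    · rw [he, hg, add_zero]
    · have hz : ξ - χ₁ ∈ Cfsg.zspanOn (↑S₁ : Set (L → ℂ)) {1}ᶜ := mem_zspanOn_one.2
        ⟨zspan_sub (m hξ) (m h₁), by rw [Pi.sub_apply, hd ξ (hS₁ hξ), hd χ₁ (hS₁ h₁), hd₁ ξ hξ, sub_self]⟩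
      have h' := hΓT ξ hξ he
      rw [← hagree _ hz, span_iso_sub hT₁ (m hξ) (m h₁), classInner_sub_right, hg] at h'
      rw [eq_add_of_sub_eq h']
      push_cast; ring
  set e : (L → ℂ) → ℤ := fun ξ => g + if ξ = χ₁ then 0 else 1 with he_def
  set c : (L → ℂ) → ℤ := fun ξ => if ξ = χ₁ then 1 - (b : ℤ) else 1 with hc_def
  set P := ∑ ξ ∈ S₁, (c ξ : ℂ) • T₁ ξ with hP
  set X : (L → ℂ) → (G → ℂ) := fun χ => τ (χ - (b : ℂ) • χ₁) - P with hXdef
  have hPT : ∀ ξ ∈ S₁, Cfsg.classInner P (T₁ ξ) = (c ξ : ℂ) := by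
    intro ξ hξ
    rw [hP, classInner_sum_left, Finset.sum_eq_single ξ
      (fun η hη hne => by rw [classInner_smul_left, hTin η hη ξ hξ, if_neg hne, mul_zero])
      (fun h => absurd hξ h), classInner_smul_left, hTin ξ hξ ξ hξ, if_pos rfl, mul_one]
  have hXT : ∀ χ ∈ Ξ, ∀ ξ ∈ S₁, Cfsg.classInner (X χ) (T₁ ξ) = 0 := fun χ hχ ξ hξ => by
    rw [hXdef, classInner_sub_left, hbad χ hχ ξ hξ, hPT ξ hξ, hc_def, sub_self]
  have hXP : ∀ χ ∈ Ξ, Cfsg.classInner (X χ) P = 0 := fun χ hχ => by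
    rw [hP, classInner_sum_right]
    exact Finset.sum_eq_zero fun ξ hξ => by rw [classInner_smul_right, hXT χ hχ ξ hξ, mul_zero]
  have hcsq : ∑ ξ ∈ S₁, (c ξ : ℂ) * c ξ = (b : ℂ) ^ 2 := by
    have e' : ∀ ξ ∈ S₁, (c ξ : ℂ) * c ξ = 1 + if ξ = χ₁ then (b : ℂ) ^ 2 - 2 * b else 0 := by
      intro ξ _
      simp only [hc_def]
      split_ifs <;> push_cast <;> ring
    rw [Finset.sum_congr rfl e', Finset.sum_add_distrib, Finset.sum_const, nsmul_eq_mul,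
      Finset.sum_ite_eq', if_pos h₁, hcard]
    push_cast; ring
  have hwmem : ∀ χ ∈ Ξ, χ - (b : ℂ) • χ₁ ∈ Cfsg.zspanOn S {1}ᶜ := fun χ hχ => mem_zspanOn_one.2
    ⟨zspan_sub (subset_zspan S (hΞ hχ)) (by simpa using zspan_smul (b : ℤ) (subset_zspan S (hS₁ h₁))),
      by rw [Pi.sub_apply, Pi.smul_apply, hd χ (hΞ hχ), hd χ₁ (hS₁ h₁), hdΞ χ hχ, smul_eq_mul]
         push_cast; ring⟩
  have hXX : ∀ χ ∈ Ξ, ∀ η ∈ Ξ, Cfsg.classInner (X χ) (X η) = if χ = η then 1 else 0 := by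
    intro χ hχ η hη
    have h1 : Cfsg.classInner (X χ) (X η) = Cfsg.classInner (X χ) (τ (η - (b : ℂ) • χ₁)) := by
      conv_lhs => rw [hXdef]
      simp only [classInner_sub_right]
      rw [show Cfsg.classInner (τ (χ - (b : ℂ) • χ₁) - P) P = Cfsg.classInner (X χ) P from rfl,
        hXP χ hχ, sub_zero]
    have hPv : Cfsg.classInner P (τ (η - (b : ℂ) • χ₁)) = (b : ℂ) ^ 2 := by
      rw [hP, classInner_sum_left, ← hcsq]
      refine Finset.sum_congr rfl fun ξ hξ => ?_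
      rw [classInner_smul_left, ← classInner_conj_symm _ (T₁ ξ), hbad η hη ξ hξ, map_intCast]
    rw [h1, hXdef, classInner_sub_left, hPv, hS.isometry.2.2.1 _ (hwmem χ hχ) _ (hwmem η hη),
      classInner_sub_left, classInner_smul_left, classInner_sub_right, classInner_sub_right,
      classInner_smul_right, classInner_smul_right, map_natCast, hn χ₁ (hS₁ h₁), hn₁ χ₁ h₁,
      hS.orthogonal χ (hΞ hχ) χ₁ (hS₁ h₁) (fun e => hΞ₁ χ hχ (e ▸ h₁)),
      hS.orthogonal χ₁ (hS₁ h₁) η (hΞ hη) (fun e => hΞ₁ η hη (e ▸ h₁))]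
    split_ifs with hee
    · rw [← hee, hn χ (hΞ hχ), hnΞ χ hχ]; push_cast; ring
    · rw [hS.orthogonal χ (hΞ hχ) η (hΞ hη) hee]; push_cast; ring
  set k : ℤ := (b : ℤ) - ∑ ξ ∈ S₁, c ξ * e ξ with hk
  have hΓX : ∀ χ ∈ Ξ, Cfsg.classInner Γ (X χ) = (k : ℂ) := by
    intro χ hχ
    rw [hXdef, classInner_sub_right, hΓv χ hχ, hP, classInner_sum_right, hk, Int.cast_sub,
      Int.cast_natCast, Int.cast_sum]
    congr 1
    refine Finset.sum_congr rfl fun ξ hξ => ?_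
    rw [classInner_smul_right, hgξ ξ hξ, map_intCast, ← Int.cast_mul]
  have hk0 : k ≠ 0 := by
    have hsum : ∑ ξ ∈ S₁, c ξ * e ξ = g * b + 2 * b - 1 := by
      have e' : ∀ ξ ∈ S₁, c ξ * e ξ = (g + 1) + if ξ = χ₁ then -(b : ℤ) * g - 1 else 0 := by
        intro ξ _
        simp only [hc_def, he_def]
        split_ifs <;> ring
      rw [Finset.sum_congr rfl e', Finset.sum_add_distrib, Finset.sum_const, nsmul_eq_mul,
        Finset.sum_ite_eq', if_pos h₁, hcard]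
      push_cast; ring
    rw [hk, hsum]
    intro h0
    have h1 : (b : ℤ) * (g + 1) = 1 := by linarith
    have := Int.eq_one_of_mul_eq_one_right (by omega : (0 : ℤ) ≤ b) h1
    omega
  have he2 : (1 : ℤ) ≤ ∑ ξ ∈ S₁, e ξ ^ 2 := by
    have hcard2 : 2 ≤ S₁.card := by omega
    obtain ⟨ξ, hξ, hne⟩ := Finset.exists_mem_ne (by omega : 1 < S₁.card) χ₁
    have h1 := Finset.add_le_sum (f := fun ξ => e ξ ^ 2) (fun i _ => sq_nonneg (e i)) hξ h₁ hne
    simp only [he_def, if_neg hne, if_true, add_zero] at h1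
    refine le_trans ?_ h1
    nlinarith [mul_self_nonneg (2 * g + 1)]
  have hb1 := bessel S₁ T₁ (fun _ => 1) (fun ξ => (e ξ : ℝ)) Γ
    (fun i hi j hj h => by rw [hTin i hi j hj, if_neg h])
    (fun i hi => by rw [hTin i hi i hi, if_pos rfl]; simp) (fun _ _ => one_ne_zero)
    (fun i hi => by rw [hgξ i hi]; simp only [he_def]; split_ifs <;> push_cast <;> rfl)
  set Γ' := Γ - ∑ ξ ∈ S₁, (((e ξ : ℝ) / (1 : ℝ) : ℝ) : ℂ) • T₁ ξ with hΓ'
  have hb2 := bessel Ξ X (fun _ => 1) (fun _ => (k : ℝ)) Γ'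
    (fun i hi j hj h => by rw [hXX i hi j hj, if_neg h])
    (fun i hi => by rw [hXX i hi i hi, if_pos rfl]; simp) (fun _ _ => one_ne_zero)
    (fun i hi => by
      rw [hΓ', classInner_sub_left, hΓX i hi, classInner_sum_left, Finset.sum_eq_zero fun ξ hξ => by
        rw [classInner_smul_left, ← classInner_conj_symm (X i), hXT i hi ξ hξ, map_zero, mul_zero],
        sub_zero]
      simp)
  have hnn := classInner_self_re_nonneg
    (Γ' - ∑ i ∈ Ξ, (((k : ℝ) / (1 : ℝ) : ℝ) : ℂ) • X i)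
  rw [hb2, hb1, hΓΓ] at hnn
  simp only [Complex.sub_re, Complex.ofReal_re, div_one, Finset.sum_const, nsmul_eq_mul] at hnn
  have hk1 : (1 : ℝ) ≤ (k : ℝ) ^ 2 := by
    have : (1 : ℤ) ≤ k ^ 2 := by
      rcases lt_or_gt_of_ne hk0 with h | h <;> nlinarith
    exact_mod_cast this
  have he3 : (1 : ℝ) ≤ ∑ ξ ∈ S₁, (e ξ : ℝ) ^ 2 := by exact_mod_cast he2
  have : (Ξ.card : ℝ) * 1 ≤ Ξ.card * (k : ℝ) ^ 2 :=
    mul_le_mul_of_nonneg_left hk1 (Nat.cast_nonneg _)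
  linarith

end Degenerate

end Cfsg.Agent.Lib.OddOrder.PF9Extend
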