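import Cfsg.Agent.Lib.OddOrder.PF9Support
import Cfsg.Agent.Lib.OddOrder.PF9Extend
import Cfsg.Agent.Lib.Isometry.Iterate

/-!
# Peterfalvi (9.11): coherence of `S(H₀ C')`

Proved from the isometry on the virtual characters vanishing off `A`; in the degenerate case
`p = 2 a + 1` with all degrees `q a` or `q u` the extension lemma of `PF9Extend` is used with the
character induced from the principal character of `H C₁`.
-/

set_option autoImplicit false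
set_option linter.style.haveILetI false
set_option linter.unusedSectionVars false

namespace Cfsg.Agent.Lib.OddOrder.PF9Char

open scoped Pointwise ComplexConjugate
open Cfsg.Agent.Lib.Induced.Basic Cfsg.Agent.Lib.Characters.Basic
open Cfsg.Agent.Lib.Isometry

universe u v

theorem pow_arith (q : ℕ) (hq : 3 ≤ q) : q ^ 2 + 2 * q + 6 < 3 * 2 ^ q := by
  induction q, hq using Nat.le_induction with
  | base => norm_num
  | succ n hn ih => rw [pow_succ 2 n]; nlinarith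

variable {L : Type u} [Group L] [Fintype L] {K H U W₁ W₂ H₀ C : Subgroup L} {p q : ℕ} [K.Normal]
  [H.Normal] [H₀.Normal] [Fintype ↥K] (S : Setting K H U W₁ W₂ H₀ C p q)

include S

/-- What is known about a member of `S(H₀ C')`. -/
theorem Setting.member_data {φ : L → ℂ} (hφ : φ ∈ seqS K H (H₀ ⊔ ⁅C, C⁆)) :
    ∃ (θ : ↥K → ℂ) (k : ℕ), Cfsg.IsIrrCharacter ↥K θ ∧ (∀ a : ↥K, (a : L) ∈ H₀ → θ a = θ 1) ∧
      (∃ x : ↥K, (x : L) ∈ H ∧ θ x ≠ θ 1) ∧ φ = Cfsg.indFun K θ ∧ θ 1 = (k : ℂ) ∧ 0 < k ∧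
      k ≤ C.relIndex U ∧ φ 1 = ((q * k : ℕ) : ℂ) := by
  obtain ⟨θ, h1, h2, h3, rfl⟩ := hφ
  obtain ⟨k, hk0, hk, hku⟩ := S.theta_degree_le h1 h2
  exact ⟨θ, k, h1, fun a ha => h2 a (Subgroup.mem_sup_left ha), h3, rfl, hk, hk0, hku, S.indFun_degree hk⟩

theorem Setting.two_mul_le {H₁ C₁ : Subgroup L} {a : ℕ} (D : LineData H U W₁ H₀ H₁ C₁ p a) :
    Odd a ∧ 2 * a ≤ p - 1 := by
  have hodda : Odd a := S.odd.of_dvd_nat (D.index_C₁ ▸ (Subgroup.relIndex_dvd_card C₁ U).trans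
    (Subgroup.card_subgroup_dvd_card U))
  refine ⟨hodda, ?_⟩
  obtain ⟨k, hk⟩ := D.dvd
  obtain ⟨j, hj⟩ := S.odd_p
  obtain ⟨i, hi⟩ := hodda
  have := S.prime_p.two_le
  rcases Nat.lt_or_ge k 2 with hk2 | hk2
  · interval_cases k <;> omega
  · calc 2 * a ≤ k * a := Nat.mul_le_mul_right a hk2
      _ = p - 1 := by rw [hk, mul_comm]

/-- (9.11). -/
theorem coreCoherence (hD : Dichotomy H U W₁ H₀ p) : CoreCoherence.{u, v} K H H₀ C := by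
  classical
  intro G _ _ A τ R hS hA hE _
  set u := C.relIndex U with hu
  have hfin := Coherence.finite_of_orthogonal hS.orthogonal fun χ h => Coherence.sys_ne_zero hS h
  set Sall := hfin.toFinset with hSall
  have hcoe : (↑Sall : Set (L → ℂ)) = seqS K H (H₀ ⊔ ⁅C, C⁆) := hfin.coe_toFinset
  rcases id hD with hgal | ⟨H₁, C₁, a, D⟩
  · -- the Galois case: all degrees equal
    have hdeg : ∀ φ ∈ seqS K H (H₀ ⊔ ⁅C, C⁆), φ 1 = ((q * u : ℕ) : ℂ) := fun φ hφ => by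
      obtain ⟨θ, k, h1, h2, h3, -, hk, hk0, hku, hφ1⟩ := S.member_data hφ
      obtain ⟨j, hj⟩ := (degrees S θ h1 h2 h3).1 hgal
      rw [hk, Nat.cast_inj] at hj
      rw [hφ1, show k = u from le_antisymm hku (Nat.le_of_dvd hk0 ⟨j, hj⟩)]
    exact EqualDegree.coherent_of_equal_degree hS fun φ hφ ψ hψ => by rw [hdeg φ hφ, hdeg ψ hψ]
  have hdvd : ∀ φ ∈ seqS K H (H₀ ⊔ ⁅C, C⁆), ∃ (θ : ↥K → ℂ) (k : ℕ), Cfsg.IsIrrCharacter ↥K θ ∧
      (∀ a : ↥K, (a : L) ∈ H₀ → θ a = θ 1) ∧ (∃ x : ↥K, (x : L) ∈ H ∧ θ x ≠ θ 1) ∧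
      φ = Cfsg.indFun K θ ∧ θ 1 = (k : ℂ) ∧ a ≤ k ∧ k ≤ u ∧ a ∣ k ∧ φ 1 = ((q * k : ℕ) : ℂ) := by
    intro φ hφ
    obtain ⟨θ, k, h1, h2, h3, h4, hk, hk0, hku, hφ1⟩ := S.member_data hφ
    obtain ⟨j, hj⟩ := (degrees S θ h1 h2 h3).2 H₁ C₁ a D
    rw [hk, Nat.cast_inj] at hj
    exact ⟨θ, k, h1, h2, h3, h4, hk, Nat.le_of_dvd hk0 ⟨j, hj⟩, hku, ⟨j, hj⟩, hφ1⟩
  by_cases hau : a = u
  · have hdeg : ∀ φ ∈ seqS K H (H₀ ⊔ ⁅C, C⁆), φ 1 = ((q * u : ℕ) : ℂ) := fun φ hφ => by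
      obtain ⟨θ, k, -, -, -, -, -, hak, hku, -, hφ1⟩ := hdvd φ hφ
      rw [hφ1, show k = u by omega]
    exact EqualDegree.coherent_of_equal_degree hS fun φ hφ ψ hψ => by rw [hdeg φ hφ, hdeg ψ hψ]
  set b := C.relIndex C₁ with hb
  have hub : u = b * a := S.relIndex_C_eq D
  obtain ⟨hodda, h2a⟩ := S.two_mul_le D
  have ha1 := D.one_lt
  have hq0 := S.prime_q.pos
  have hb0 : 0 < b := Nat.pos_of_ne_zero Subgroup.index_ne_zero_of_finite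
  have hb2 : 2 ≤ b := by
    rcases Nat.lt_or_ge b 2 with h | h
    · exact absurd (by rw [hub, show b = 1 by omega, one_mul]) hau
    · exact h
  -- degrees and norms
  have hdex : ∀ φ : L → ℂ, ∃ m : ℕ, φ ∈ seqS K H (H₀ ⊔ ⁅C, C⁆) → φ 1 = (m : ℂ) := fun φ => by
    by_cases h : φ ∈ seqS K H (H₀ ⊔ ⁅C, C⁆)
    · obtain ⟨m, hm⟩ := exists_degree (hS.isCharacter φ h)
      exact ⟨m, fun _ => hm⟩
    · exact ⟨0, fun h' => absurd h' h⟩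
  choose d hd using hdex
  have hnex : ∀ φ : L → ℂ, ∃ m : ℕ, φ ∈ seqS K H (H₀ ⊔ ⁅C, C⁆) →
      Cfsg.classInner φ φ = (m : ℂ) := fun φ => by
    by_cases h : φ ∈ seqS K H (H₀ ⊔ ⁅C, C⁆)
    · obtain ⟨m, hm⟩ := exists_classInner_nat (hS.isCharacter φ h) (hS.isCharacter φ h)
      exact ⟨m, fun _ => hm⟩
    · exact ⟨0, fun h' => absurd h' h⟩
  choose n hn using hnex
  have hdval : ∀ {φ : L → ℂ}, φ ∈ seqS K H (H₀ ⊔ ⁅C, C⁆) → ∀ {m : ℕ}, φ 1 = (m : ℂ) → d φ = m :=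
    fun {φ} hφ {m} h => Nat.cast_injective (R := ℂ) ((hd φ hφ).symm.trans h)
  have hnpos : ∀ φ ∈ seqS K H (H₀ ⊔ ⁅C, C⁆), 0 < n φ := fun φ hφ => by
    obtain ⟨m, hm0, hm, -⟩ := Coherence.sys_norm hS hφ
    rw [show n φ = m from Nat.cast_injective (R := ℂ) ((hn φ hφ).symm.trans hm)]
    exact hm0
  have hnirr : ∀ {φ : L → ℂ}, φ ∈ seqS K H (H₀ ⊔ ⁅C, C⁆) → Cfsg.IsIrrCharacter L φ → n φ = 1 :=
    fun {φ} hφ h => Nat.cast_injective (R := ℂ)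
      ((hn φ hφ).symm.trans ((classInner_self_irr ⟨φ, h⟩).trans Nat.cast_one.symm))
  -- the members of least degree
  set S₁ := Sall.filter fun φ => d φ = q * a with hS₁def
  have hS₁sub : (↑S₁ : Set (L → ℂ)) ⊆ seqS K H (H₀ ⊔ ⁅C, C⁆) := fun φ hφ =>
    hfin.mem_toFinset.1 (Finset.mem_filter.1 hφ).1
  have hd₁ : ∀ φ ∈ S₁, d φ = q * a := fun φ hφ => (Finset.mem_filter.1 hφ).2
  have hn₁ : ∀ φ ∈ S₁, n φ = 1 := fun φ hφ => by
    obtain ⟨θ, k, h1, h2, h3, rfl, hk, -, -, -, hφ1⟩ := hdvd φ (hS₁sub hφ)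
    refine hnirr (hS₁sub hφ) (S.isIrr_of_degree hD h1 h2 h3 ?_)
    rw [hk]
    intro e
    have hka : q * k = q * a := (hdval (hS₁sub hφ) hφ1).symm.trans (hd₁ _ hφ)
    exact hau ((Nat.eq_of_mul_eq_mul_left hq0 hka).symm.trans (Nat.cast_injective e))
  have hS₁c : ∀ φ ∈ S₁, Cfsg.conjFun φ ∈ S₁ := fun φ hφ => by
    have hc := hS.conj_mem φ (hS₁sub hφ)
    refine Finset.mem_filter.2 ⟨hfin.mem_toFinset.2 hc, ?_⟩
    rw [← hd₁ φ hφ]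
    exact hdval hc ((Coherence.sys_conj_one hS (hS₁sub hφ)).trans (hd φ (hS₁sub hφ)))
  have hCle : H₀ ⊔ ⁅C, C⁆ ≤ H₀ ⊔ C := sup_le_sup_left (Subgroup.commutator_le_self C) H₀
  obtain ⟨T', hT'card, hT'⟩ := S.exists_small_members hD D hau
  have hT'S₁ : T' ⊆ S₁ := fun φ hφ => by
    obtain ⟨h1, -, h2, -⟩ := hT' φ hφ
    exact Finset.mem_filter.2 ⟨hfin.mem_toFinset.2 (seqS_mono hCle h1),
      hdval (seqS_mono hCle h1) h2⟩
  have hn2 : 2 * u ≤ a * S₁.card := by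
    calc 2 * u = 2 * a * b := by rw [hub]; ring
      _ ≤ (p - 1) * b := Nat.mul_le_mul_right b h2a
      _ ≤ a * T'.card := hT'card
      _ ≤ a * S₁.card := Nat.mul_le_mul_left a (Finset.card_le_card hT'S₁)
  obtain ⟨χ₁, h₁⟩ : S₁.Nonempty := by
    rw [← Finset.card_pos]
    refine Nat.pos_of_ne_zero fun h0 => ?_
    rw [h0, mul_zero, hub] at hn2
    nlinarith
  have hcoh₁ : Cfsg.IsCoherent (↑S₁ : Set (L → ℂ)) {1}ᶜ τ :=
    EqualDegree.coherent_of_equal_degree (R := R)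
      (Iterate.sys_mono hS hS₁sub ⟨χ₁, Finset.mem_coe.2 h₁⟩ fun φ hφ => hS₁c φ hφ)
      fun φ hφ ψ hψ => by
        rw [hd φ (hS₁sub hφ), hd ψ (hS₁sub hψ), hd₁ φ hφ, hd₁ ψ hψ]
  -- a coherent set with a large enough sum extends to everything
  have finish : ∀ S₂ : Finset (L → ℂ), (↑S₂ : Set (L → ℂ)) ⊆ seqS K H (H₀ ⊔ ⁅C, C⁆) →
      (∀ φ ∈ S₂, Cfsg.conjFun φ ∈ S₂) → Cfsg.IsCoherent (↑S₂ : Set (L → ℂ)) {1}ᶜ τ → χ₁ ∈ S₂ →
      (2 * (q * u : ℕ) * (q * a : ℕ) : ℝ) < ∑ ξ ∈ S₂, ((d ξ : ℝ) ^ 2 / (n ξ : ℝ)) →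
      Cfsg.IsCoherent (seqS K H (H₀ ⊔ ⁅C, C⁆)) {1}ᶜ τ := by
    intro S₂ hsub hc hcoh hmem hlt
    have h := Iterate.extend_many_norm hS d n hd hn S₂ hsub hc hcoh hmem Sall hcoe.le
      (fun φ hφ => hfin.mem_toFinset.2 (hS.conj_mem φ (hfin.mem_toFinset.1 hφ)))
      fun φ hφ _ => by
        have hφS := hfin.mem_toFinset.1 hφ
        obtain ⟨θ, k, -, -, -, -, -, -, hku, hak, hφ1⟩ := hdvd φ hφS
        rw [hd₁ χ₁ h₁, hdval hφS hφ1]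
        refine ⟨Nat.mul_dvd_mul_left q hak, lt_of_le_of_lt ?_ hlt⟩
        have : (q * k : ℕ) ≤ q * u := Nat.mul_le_mul_left q hku
        gcongr
    rwa [Finset.union_eq_right.2 fun φ hφ => hfin.mem_toFinset.2 (hsub hφ), hcoe] at h
  have hsum₁ : ∑ ξ ∈ S₁, ((d ξ : ℝ) ^ 2 / (n ξ : ℝ)) = (S₁.card : ℝ) * ((q * a : ℕ) : ℝ) ^ 2 := by
    rw [Finset.sum_congr rfl fun ξ hξ => by rw [hd₁ ξ hξ, hn₁ ξ hξ, Nat.cast_one, div_one],
      Finset.sum_const, nsmul_eq_mul]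
  by_cases hstrict : 2 * u < a * S₁.card
  · refine finish S₁ hS₁sub hS₁c hcoh₁ h₁ ?_
    rw [hsum₁]
    have h : (2 * u : ℝ) < (a : ℝ) * S₁.card := by exact_mod_cast hstrict
    have hqa : (0 : ℝ) < (q : ℝ) ^ 2 * a := by positivity
    push_cast
    nlinarith
  have hextra : ∀ χ : L → ℂ, χ ∈ seqS K H (H₀ ⊔ ⁅C, C⁆) → χ ∉ S₁ →
      Cfsg.IsCoherent (↑S₁ ∪ {χ, Cfsg.conjFun χ} : Set (L → ℂ)) {1}ᶜ τ →
      Cfsg.IsCoherent (seqS K H (H₀ ⊔ ⁅C, C⁆)) {1}ᶜ τ := by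
    intro χ hχ hχ₁ hcoh
    refine finish (S₁ ∪ {χ, Cfsg.conjFun χ}) ?_ ?_ ?_ (Finset.mem_union_left _ h₁) ?_
    · intro φ hφ
      simp only [Finset.coe_union, Finset.coe_insert, Finset.coe_singleton, Set.mem_union,
        Set.mem_insert_iff, Set.mem_singleton_iff] at hφ
      rcases hφ with h | rfl | rfl
      exacts [hS₁sub h, hχ, hS.conj_mem χ hχ]
    · intro φ hφ
      simp only [Finset.mem_union, Finset.mem_insert, Finset.mem_singleton] at hφ ⊢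
      rcases hφ with h | rfl | rfl
      · exact Or.inl (hS₁c φ h)
      · exact Or.inr (Or.inr rfl)
      · exact Or.inr (Or.inl (Isometry.Inner.conjFun_conjFun χ))
    · rwa [Finset.coe_union, Finset.coe_insert, Finset.coe_singleton]
    · obtain ⟨θ, k, -, -, -, -, -, hak, -, -, hχ1⟩ := hdvd χ hχ
      have hpos : (0 : ℝ) < (d χ : ℝ) ^ 2 / (n χ : ℝ) := by
        have h1 : 0 < d χ := by rw [hdval hχ hχ1]; exact Nat.mul_pos hq0 (by omega)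
        have h2 := hnpos χ hχ
        positivity
      calc (2 * (q * u : ℕ) * (q * a : ℕ) : ℝ)
          ≤ (S₁.card : ℝ) * ((q * a : ℕ) : ℝ) ^ 2 := by
            have h : (2 * u : ℝ) ≤ (a : ℝ) * S₁.card := by exact_mod_cast hn2
            have hqa : (0 : ℝ) ≤ (q : ℝ) ^ 2 * a := by positivity
            push_cast
            nlinarith
        _ < ∑ ξ ∈ insert χ S₁, ((d ξ : ℝ) ^ 2 / (n ξ : ℝ)) := by
            rw [Finset.sum_insert hχ₁, hsum₁]; linarith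
        _ ≤ _ := Finset.sum_le_sum_of_subset_of_nonneg (fun x hx => by
              rcases Finset.mem_insert.1 hx with rfl | h
              · exact Finset.mem_union_right _ (Finset.mem_insert_self _ _)
              · exact Finset.mem_union_left _ h) fun ξ _ _ => by positivity
  by_cases hbet : ∃ φ ∈ seqS K H (H₀ ⊔ ⁅C, C⁆), ∃ k : ℕ,
      φ 1 = ((q * k : ℕ) : ℂ) ∧ a < k ∧ k < u
  · obtain ⟨χ, hχ, k, hχ1, hak, hku⟩ := hbet
    have hdχ := hdval hχ hχ1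
    have hχ₁ : χ ∉ S₁ := fun h => by
      have := Nat.eq_of_mul_eq_mul_left hq0 (hdχ.symm.trans (hd₁ χ h))
      omega
    have hχ₂ : Cfsg.conjFun χ ∉ S₁ := fun h => hχ₁ (by
      simpa [Isometry.Inner.conjFun_conjFun] using hS₁c _ h)
    obtain ⟨θ, k', -, -, -, -, -, -, -, hak', hχ1'⟩ := hdvd χ hχ
    refine hextra χ hχ hχ₁ (Criterion.coherent_extend hS d n hd hn S₁ hS₁sub hS₁c hcoh₁ hχ hχ₁ hχ₂ h₁
      ?_ ?_)
    · rw [hd₁ χ₁ h₁, hdval hχ hχ1']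
      exact Nat.mul_dvd_mul_left q hak'
    · rw [hsum₁, hdχ, hd₁ χ₁ h₁]
      have h : (2 * u : ℝ) ≤ (a : ℝ) * S₁.card := by exact_mod_cast hn2
      have hk : (k : ℝ) < u := by exact_mod_cast hku
      have hqa : (0 : ℝ) < (q : ℝ) ^ 2 * a := by positivity
      push_cast
      nlinarith
  -- the degenerate case
  have heq : a * S₁.card = 2 * u := le_antisymm (not_lt.1 hstrict) hn2
  have hcard : S₁.card = 2 * b := Nat.eq_of_mul_eq_mul_left (by omega : 0 < a)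
    (by rw [heq, hub]; ring)
  have hp2a : p - 1 = 2 * a := by
    refine le_antisymm (Nat.le_of_mul_le_mul_right ?_ hb0) h2a
    calc (p - 1) * b ≤ a * T'.card := hT'card
      _ ≤ a * S₁.card := Nat.mul_le_mul_left a (Finset.card_le_card hT'S₁)
      _ = 2 * a * b := by rw [heq, hub]; ring
  have hT'eq : T' = S₁ := Finset.eq_of_subset_of_card_le hT'S₁ (by
    refine Nat.le_of_mul_le_mul_left ?_ (by omega : 0 < a)
    calc a * S₁.card = 2 * a * b := by rw [heq, hub]; ring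
      _ ≤ (p - 1) * b := Nat.mul_le_mul_right b h2a
      _ ≤ a * T'.card := hT'card)
  have hinter : ∀ v : W₁, (v : L) ≠ 1 → C₁ ⊓ Cw C₁ (v : L) = C := fun v hv => by
    refine (S.inf_eq_or_between hD D hau hv).resolve_right fun h => hbet ?_
    obtain ⟨φ, hφ, k, h1, h2, h3⟩ := h
    exact ⟨φ, seqS_mono hCle hφ, k, h1, h2, h3⟩
  have hba : b ≤ a := by
    obtain ⟨w, hw, hw1⟩ := S.exists_W₁
    calc b = (C₁ ⊓ Cw C₁ w).relIndex C₁ := by rw [hinter ⟨w, hw⟩ hw1]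
      _ = (Cw C₁ w).relIndex C₁ := by rw [inf_comm, Subgroup.inf_relIndex_right]
      _ ≤ (Cw C₁ w).relIndex U := Subgroup.relIndex_le_of_le_right D.C₁_le Subgroup.index_ne_zero_of_finite
      _ = a := S.relIndex_Cw D ⟨w, hw⟩
  obtain ⟨Ξ, hΞcard, hΞ⟩ := S.exists_large_members hD D
  have hΞS : (↑Ξ : Set (L → ℂ)) ⊆ seqS K H (H₀ ⊔ ⁅C, C⁆) := fun φ hφ =>
    seqS_mono hCle (hΞ φ hφ).1
  have hdΞ : ∀ χ ∈ Ξ, d χ = d χ₁ * b := fun χ hχ => by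
    rw [hdval (hΞS hχ) (hΞ χ hχ).2.2.1, hd₁ χ₁ h₁, ← hu, hub]; ring
  have hΞ₁ : ∀ χ ∈ Ξ, χ ∉ S₁ := fun χ hχ h => by
    have h' := hdΞ χ hχ
    rw [hd₁ χ h, hd₁ χ₁ h₁] at h'
    have : 1 = b := Nat.eq_of_mul_eq_mul_left (Nat.mul_pos hq0 (by omega : 0 < a))
      (by rw [mul_one]; exact h')
    omega
  have hnΞ : ∀ χ ∈ Ξ, n χ = 1 := fun χ hχ => hnirr (hΞS hχ) (hΞ χ hχ).2.1
  obtain ⟨-, T₁, hT₁, hagree⟩ := id hcoh₁
  by_cases hgood : ∃ χ ∈ Ξ, Cfsg.IsCoherent (↑S₁ ∪ {χ, Cfsg.conjFun χ} : Set (L → ℂ)) {1}ᶜ τ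
  · obtain ⟨χ, hχ, hcoh⟩ := hgood
    exact hextra χ (hΞS hχ) (hΞ₁ χ hχ) hcoh
  exfalso
  have hbad : ∀ χ ∈ Ξ, ∀ ξ ∈ S₁, Cfsg.classInner (τ (χ - (b : ℂ) • χ₁)) (T₁ ξ) =
      ((if ξ = χ₁ then 1 - (b : ℤ) else 1 : ℤ) : ℂ) := fun χ hχ =>
    (PF9Extend.extend_or hS d n hd hn S₁ hS₁sub hS₁c hT₁ hagree h₁
      (fun ξ hξ => by rw [hd₁ ξ hξ, hd₁ χ₁ h₁]) hn₁ hcard (hΞS hχ) (hΞ₁ χ hχ) (hnΞ χ hχ)
      (hdΞ χ hχ)).resolve_left fun h => hgood ⟨χ, hχ, h⟩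
  obtain ⟨φ₀, N, hφ₀c, hφ₀1, ⟨f₀, hf₀⟩, hφ₀φ₀, hN, horth⟩ := S.exists_phi D hinter
  set E := {α : L → ℂ | Cfsg.IsGeneralizedCharacter L α ∧ ∀ x, x ∉ A → α x = 0} with hEdef
  have hvan : ∀ ξ ∈ S₁, ∀ y : L, y ≠ 1 → y ∉ A → ξ y = 0 := fun ξ hξ y hy1 hy => by
    obtain ⟨-, -, -, f, hf⟩ := hT' ξ (hT'eq ▸ hξ)
    rw [hf]
    exact S.indFun_vanish D hA le_rfl f hy1 hy
  have hgen : ∀ φ ∈ seqS K H (H₀ ⊔ ⁅C, C⁆), Cfsg.IsGeneralizedCharacter L φ := fun φ h =>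
    Coherence.sys_gen hS h
  have hΓmem : φ₀ - χ₁ ∈ E := by
    refine ⟨Inner.gen_sub (Inner.gen_of_isCharacter hφ₀c) (hgen χ₁ (hS₁sub h₁)), fun y hy => ?_⟩
    by_cases hy1 : y = 1
    · rw [hy1, Pi.sub_apply, hφ₀1, hd χ₁ (hS₁sub h₁), hd₁ χ₁ h₁, sub_self]
    · rw [Pi.sub_apply, hvan χ₁ h₁ y hy1 hy, hf₀, S.indFun_vanish D hA le_rfl f₀ hy1 hy, sub_self]
  have hξmem : ∀ ξ ∈ S₁, ξ - χ₁ ∈ E := fun ξ hξ => by
    refine ⟨Inner.gen_sub (hgen ξ (hS₁sub hξ)) (hgen χ₁ (hS₁sub h₁)), fun y hy => ?_⟩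
    by_cases hy1 : y = 1
    · rw [hy1, Pi.sub_apply, hd ξ (hS₁sub hξ), hd₁ ξ hξ, hd χ₁ (hS₁sub h₁), hd₁ χ₁ h₁, sub_self]
    · rw [Pi.sub_apply, hvan χ₁ h₁ y hy1 hy, hvan ξ hξ y hy1 hy, sub_self]
  have hχmem : ∀ χ ∈ Ξ, χ - (b : ℂ) • χ₁ ∈ E := fun χ hχ => by
    refine ⟨Inner.gen_sub (hgen χ (hΞS hχ)) (by
      simpa using Inner.gen_intCast_smul (hgen χ₁ (hS₁sub h₁)) (b : ℤ)), fun y hy => ?_⟩
    by_cases hy1 : y = 1
    · rw [hy1, Pi.sub_apply, Pi.smul_apply, hd χ (hΞS hχ), hdΞ χ hχ, hd χ₁ (hS₁sub h₁), smul_eq_mul]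
      push_cast; ring
    · obtain ⟨f, hf⟩ := (hΞ χ hχ).2.2.2
      rw [Pi.sub_apply, Pi.smul_apply, hvan χ₁ h₁ y hy1 hy, hf,
        S.indFun_vanish D hA (S.C_le_C₁ D) f hy1 hy]
      simp
  have horth' : ∀ φ ∈ seqS K H (H₀ ⊔ ⁅C, C⁆), Cfsg.classInner φ₀ φ = 0 := fun φ hφ => by
    obtain ⟨θ, h1, -, h3, rfl⟩ := hφ
    exact horth θ h1 h3
  have horth'' : ∀ φ ∈ seqS K H (H₀ ⊔ ⁅C, C⁆), Cfsg.classInner φ φ₀ = 0 := fun φ hφ => by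
    rw [← classInner_conj_symm, horth' φ hφ, map_zero]
  have hs₁ : Cfsg.classInner χ₁ χ₁ = 1 := by rw [hn χ₁ (hS₁sub h₁), hn₁ χ₁ h₁, Nat.cast_one]
  have hm := PF9Extend.card_le_norm hS d n hd hn S₁ hS₁sub hT₁ hagree h₁
    (fun ξ hξ => by rw [hd₁ ξ hξ, hd₁ χ₁ h₁]) hn₁ hcard hb2 Ξ hΞS hΞ₁ hnΞ hdΞ hbad
    (Γ := τ (φ₀ - χ₁)) (hE.2.2.2 _ hΓmem) (N := N) (by
      rw [hE.2.2.1 _ hΓmem _ hΓmem, classInner_sub_left, classInner_sub_right, classInner_sub_right,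
        hφ₀φ₀, horth' χ₁ (hS₁sub h₁), horth'' χ₁ (hS₁sub h₁), hs₁]
      push_cast; ring)
    (fun ξ hξ hne => by
      rw [hE.2.2.1 _ hΓmem _ (hξmem ξ hξ), classInner_sub_left, classInner_sub_right,
        classInner_sub_right, horth' ξ (hS₁sub hξ), horth' χ₁ (hS₁sub h₁), hs₁,
        hS.orthogonal χ₁ (hS₁sub h₁) ξ (hS₁sub hξ) (Ne.symm hne)]
      ring)
    (fun χ hχ => by
      rw [hE.2.2.1 _ hΓmem _ (hχmem χ hχ), classInner_sub_left, classInner_sub_right,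
        classInner_sub_right, classInner_smul_right, classInner_smul_right, map_natCast,
        horth' χ (hΞS hχ), horth' χ₁ (hS₁sub h₁), hs₁,
        hS.orthogonal χ₁ (hS₁sub h₁) χ (hΞS hχ) (fun e => hΞ₁ χ hχ (e ▸ h₁))]
      ring)
  have hmb : Ξ.card * b + a ≤ a * b + q * a := by
    have h1 : (Ξ.card : ℝ) * b ≤ N * b := mul_le_mul_of_nonneg_right hm (Nat.cast_nonneg b)
    have h2 : (Ξ.card : ℝ) * b + a ≤ (a : ℝ) * b + (q : ℝ) * a := by nlinarith [hN]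
    exact_mod_cast h2
  -- the final count
  have hq3 : 3 ≤ q := by
    rcases S.prime_q.eq_two_or_odd with h | h
    · exfalso
      have hq : Odd q := S.odd.of_dvd_nat (S.card_W₁ ▸ Subgroup.card_subgroup_dvd_card W₁)
      rw [h] at hq
      exact absurd hq (by decide)
    · have := S.prime_q.two_le; omega
  have ha3 : 3 ≤ a := by obtain ⟨i, hi⟩ := hodda; omega
  obtain ⟨r, hr⟩ : ∃ r, q = r + 2 := ⟨q - 2, by omega⟩
  rw [hp2a] at hΞcard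
  have key : 2 ^ q * a ^ r ≤ (q + 2) * a + q * (q - 1) := by
    obtain ⟨q', hq'⟩ : ∃ q', q = q' + 1 := ⟨q - 1, by omega⟩
    rw [hq', Nat.add_sub_cancel]
    rw [hq'] at hmb
    have hmb' : Ξ.card * b ≤ a * b + q' * a := by nlinarith
    have h : a ^ 2 * (2 ^ q * a ^ r) ≤ a ^ 2 * ((q + 2) * a + q * q') := by
      calc a ^ 2 * (2 ^ q * a ^ r) = (2 * a) ^ q := by rw [mul_pow, hr]; ring
        _ ≤ u * (q * Ξ.card + 2 * a) := hΞcard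
        _ = a * q * (Ξ.card * b) + 2 * a ^ 2 * b := by rw [hub]; ring
        _ ≤ a * q * (a * b + q' * a) + 2 * a ^ 2 * b := by gcongr
        _ = a ^ 2 * ((q + 2) * b + q * q') := by ring
        _ ≤ _ := by gcongr
    rw [hq'] at h
    exact Nat.le_of_mul_le_mul_left h (by positivity)
  have har : a ≤ a ^ r := Nat.le_self_pow (by omega) a
  have h1 : 2 ^ q * a ≤ (q + 2) * a + q * (q - 1) := le_trans (Nat.mul_le_mul_left _ har) key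
  have h2 := pow_arith q hq3
  obtain ⟨q', hq'⟩ : ∃ q', q = q' + 1 := ⟨q - 1, by omega⟩
  rw [hq', Nat.add_sub_cancel] at h1
  rw [hq'] at h2
  nlinarith [Nat.mul_le_mul_left (2 ^ (q' + 1)) ha3]

end Cfsg.Agent.Lib.OddOrder.PF9Char
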