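import Cfsg.Agent.Lib.OddOrder.PF9Lines
import Cfsg.Agent.Lib.Clifford.Ito

/-!
# Peterfalvi, section 9: the characters induced from linear characters of `H ⋊ X`, `C ≤ X ≤ U`
-/

set_option autoImplicit false
set_option linter.style.haveILetI false
set_option linter.unusedSectionVars false

namespace Cfsg.Agent.Lib.OddOrder.PF9Char

open scoped Pointwise ComplexConjugate
open Cfsg.Agent.Lib.Clifford.Basic (conjC)
open Cfsg.Agent.Lib.Induced.Basic Cfsg.Agent.Lib.Characters.Basic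

universe u

section General

variable {G : Type u} [Group G] [Fintype G] (N : Subgroup G) [N.Normal]

/-- Equal induced characters come from conjugate characters. -/
theorem conj_of_indFun_eq {θ η : N → ℂ} (hθ : Cfsg.IsIrrCharacter N θ)
    (hη : Cfsg.IsIrrCharacter N η) (h : Cfsg.indFun N θ = Cfsg.indFun N η) :
    ∃ g : G, conjC N g η = θ := by
  by_contra hcon
  push Not at hcon
  have h0 : Nat.card {g : G // conjC N g η = θ} = 0 := by
    rw [Nat.card_eq_zero]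
    exact Or.inl ⟨fun g => hcon g g.2⟩
  have h1 := Induced.Mackey.card_mul_classInner_indFun N hθ hη
  have h2 := Induced.Mackey.card_mul_classInner_indFun N hθ hθ
  rw [h0, ← h, h2, Nat.cast_zero, Nat.cast_eq_zero, Nat.card_eq_zero] at h1
  rcases h1 with h1 | h1
  · exact h1.false ⟨1, Clifford.Basic.conjC_one N θ⟩
  · exact not_finite {g : G // conjC N g θ = θ}

/-- Fibres of induction from a normal subgroup have at most as many members as the index. -/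
theorem card_le_index_mul_image [DecidableEq (G → ℂ)] (P : Finset (N → ℂ))
    (hP : ∀ θ ∈ P, Cfsg.IsIrrCharacter N θ) :
    P.card ≤ N.index * (P.image (Cfsg.indFun N)).card := by
  classical
  refine Finset.card_le_mul_card_image (f := Cfsg.indFun N) P _ fun φ hφ => ?_
  obtain ⟨θ₀, hθ₀, rfl⟩ := Finset.mem_image.1 hφ
  set F := P.filter fun θ => Cfsg.indFun N θ = Cfsg.indFun N θ₀
  have hg : ∀ θ : F, ∃ g : G, conjC N g θ₀ = θ := fun θ =>
    conj_of_indFun_eq N (hP _ (Finset.mem_filter.1 θ.2).1) (hP _ hθ₀) (Finset.mem_filter.1 θ.2).2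
  choose g hg using hg
  have hinj : Function.Injective fun θ : F => ((g θ : G) : G ⧸ N) := by
    intro a b he
    have hm : (g a)⁻¹ * g b ∈ N := QuotientGroup.eq.1 he
    refine Subtype.ext ?_
    have e : conjC N (g b) θ₀ = conjC N (g a) θ₀ := by
      conv_lhs => rw [show g b = g a * ((g a)⁻¹ * g b) by group]
      rw [Clifford.Basic.conjC_mul]
      exact Clifford.Basic.conjC_of_mem N (isClassFunction_irr ⟨_, Clifford.Basic.isIrrCharacter_conjC N _
        (hP _ hθ₀)⟩) hm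
    exact (hg a).symm.trans (e.symm.trans (hg b))
  calc F.card = Nat.card F := by rw [Nat.card_eq_fintype_card, Fintype.card_coe]
    _ ≤ Nat.card (G ⧸ N) := Nat.card_le_card_of_injective _ hinj
    _ = N.index := rfl

/-- Induction from a normal subgroup of prime index is irreducible unless the character is
invariant. -/
theorem isIrr_indFun_of_prime_index (hq : N.index.Prime) {θ : N → ℂ}
    (hθ : Cfsg.IsIrrCharacter N θ) {g₀ : G} (hne : conjC N g₀ θ ≠ θ) :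
    Cfsg.IsIrrCharacter G (Cfsg.indFun N θ) := by
  refine Induced.Mackey.isIrrCharacter_indFun N hθ fun g hg => ?_
  by_contra hgN
  have hle := Clifford.Basic.le_inertia N (isClassFunction_irr ⟨θ, hθ⟩)
  have hmul := Subgroup.relIndex_mul_index hle
  rcases (Nat.dvd_prime hq).1 ⟨_, hmul.symm⟩ with h1 | h1
  · exact hgN (Subgroup.relIndex_eq_one.1 h1 hg)
  · rw [h1] at hmul
    have h2 : (Clifford.Basic.inertia N θ).index = 1 := (Nat.mul_eq_left hq.ne_zero).1 hmul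
    exact hne (Subgroup.index_eq_one.1 h2 ▸ Subgroup.mem_top g₀ :)

end General

section Setting

variable {L : Type u} [Group L] [Fintype L] {K H U W₁ W₂ H₀ C : Subgroup L} {p q : ℕ} [K.Normal]
  [H.Normal] [H₀.Normal] (S : Setting K H U W₁ W₂ H₀ C p q)

include S

namespace Setting

theorem sup_le {X : Subgroup L} (hX : X ≤ U) : H ⊔ X ≤ K := _root_.sup_le S.H_le (hX.trans S.U_le)

theorem disjoint {X : Subgroup L} (hX : X ≤ U) : H ⊓ X = ⊥ :=
  le_bot_iff.1 ((inf_le_inf_left H hX).trans S.H_inf_U.le)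

theorem conj_mem_X {X : Subgroup L} (hX : X ≤ U) (hCX : C ≤ X) {v : L} (hv : v ∈ U) {x : L}
    (hx : x ∈ X) : v * x * v⁻¹ ∈ X := by
  have h1 := X.mul_mem (hCX (S.quot_comm v hv x (hX hx))) hx
  rwa [inv_mul_cancel_right] at h1

/-- `H ⊔ X` is normal in `K`. -/
theorem normal_subgroupOf {X : Subgroup L} (hX : X ≤ U) (hCX : C ≤ X) :
    ((H ⊔ X).subgroupOf K).Normal := by
  rw [Subgroup.normal_subgroupOf_iff (S.sup_le hX)]
  intro n k hn hk
  obtain ⟨h, hh, v, hv, rfl⟩ := S.exists_mul hk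
  obtain ⟨h', hh', x, hx, rfl⟩ := Subgroup.mem_sup_of_normal_left.1 hn
  have e : h * v * (h' * x) * (h * v)⁻¹ = h * ((v * h' * v⁻¹) * (v * x * v⁻¹)) * h⁻¹ := by group
  rw [e]
  exact (H ⊔ X).mul_mem ((H ⊔ X).mul_mem (Subgroup.mem_sup_left hh)
    ((H ⊔ X).mul_mem (Subgroup.mem_sup_left (S.conj_mem_H v hh'))
      (Subgroup.mem_sup_right (S.conj_mem_X hX hCX hv hx))))
    (Subgroup.mem_sup_left (H.inv_mem hh))

theorem index_sup {X : Subgroup L} (hX : X ≤ U) :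
    ((H ⊔ X).subgroupOf K).index = X.relIndex U := by
  have hcard : ∀ Y : Subgroup L, Y ≤ U → Nat.card ↥(H ⊔ Y) = Nat.card H * Nat.card Y := by
    intro Y hY
    have h1 := Subgroup.relIndex_mul_relIndex (⊥ : Subgroup L) H (H ⊔ Y) bot_le le_sup_left
    have h2 : H.relIndex (H ⊔ Y) = Nat.card Y := by
      rw [sup_comm, Subgroup.relIndex_sup_right, ← Subgroup.inf_relIndex_right,
        S.disjoint hY, Subgroup.relIndex_bot_left]
    rwa [Subgroup.relIndex_bot_left, Subgroup.relIndex_bot_left, h2, eq_comm] at h1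
  have h1 := Subgroup.relIndex_mul_relIndex (⊥ : Subgroup L) (H ⊔ X) K bot_le (S.sup_le hX)
  have h2 := Subgroup.relIndex_mul_relIndex (⊥ : Subgroup L) X U bot_le hX
  simp only [Subgroup.relIndex_bot_left] at h1 h2
  have h3 := hcard U le_rfl
  rw [S.H_sup_U] at h3
  rw [hcard X hX, h3, ← h2, mul_assoc] at h1
  exact Nat.eq_of_mul_eq_mul_left Nat.card_pos (Nat.eq_of_mul_eq_mul_left Nat.card_pos h1)

/-- The character induced to `K` from a function on `H ⊔ X`. -/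
noncomputable def _root_.Cfsg.Agent.Lib.OddOrder.PF9Char.thetaFun [Fintype ↥K] {N : Subgroup L}
    (f : ↥N → ℂ) : ↥K → ℂ :=
  Cfsg.indFun (N.subgroupOf K) fun x => f ⟨((x : ↥K) : L), Subgroup.mem_subgroupOf.mp x.2⟩

end Setting

section Theta

variable [Fintype ↥K] {X : Subgroup L} (ν : ↥(H ⊔ X) →* ℂˣ) (lam : Lin H H₀)

/-- `ν` seen on `(H ⊔ X).subgroupOf K`. -/
def pull (K : Subgroup L) {N : Subgroup L} (ν : ↥N →* ℂˣ) : ↥(N.subgroupOf K) →* ℂˣ :=
  MonoidHom.mk' (fun x => ν ⟨((x : ↥K) : L), Subgroup.mem_subgroupOf.mp x.2⟩) fun x y => by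
    rw [← map_mul]; rfl

/-- `ν` extends `lam`. -/
def Extends : Prop := ∀ h : ↥H, ν ⟨h, Subgroup.mem_sup_left h.2⟩ = lam.1 h

variable (hX : X ≤ U) (hCX : C ≤ X) (hν : Extends ν lam) (hstab : stab U lam ≤ X)

namespace Setting

include hX

theorem thetaFun_one :
    thetaFun (K := K) (fun x => (ν x : ℂ)) 1 = (X.relIndex U : ℂ) := by
  rw [thetaFun, indFun_one, S.index_sup hX]
  rw [show (⟨((((1 : ↥((H ⊔ X).subgroupOf K))) : ↥K) : L), _⟩ : ↥(H ⊔ X)) = 1 from rfl, map_one,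
    Units.val_one, mul_one]

theorem indFun_thetaFun (f : ↥(H ⊔ X) → ℂ) :
    Cfsg.indFun K (thetaFun (K := K) f) = Cfsg.indFun (H ⊔ X) f :=
  indFun_trans (H ⊔ X) K (S.sup_le hX) f

theorem indFun_thetaFun_one :
    Cfsg.indFun K (thetaFun (K := K) fun x => (ν x : ℂ)) 1 = ((q * X.relIndex U : ℕ) : ℂ) := by
  have hK : K.index = q := by
    rw [← S.card_W₁]
    exact (Subgroup.isComplement'_of_disjoint_and_mul_eq_univ (disjoint_iff.2 S.K_inf_W₁)
      (by rw [← Subgroup.normal_mul, S.K_sup_W₁, Subgroup.coe_top])).symm.index_eq_card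
  rw [indFun_one, S.thetaFun_one ν hX, hK, Nat.cast_mul]

include hCX

/-- Off `H ⊔ X` the induced character vanishes. -/
theorem thetaFun_eq_zero (f : ↥(H ⊔ X) → ℂ) {k : ↥K} (hk : (k : L) ∉ H ⊔ X) :
    thetaFun (K := K) f k = 0 := by
  haveI := S.normal_subgroupOf hX hCX
  exact indFun_eq_zero_of_not_mem_normal _ _ fun h => hk (Subgroup.mem_subgroupOf.1 h)

/-- A subgroup whose `U`-conjugates lie in the kernel of `ν` lies in the kernel of `θ`. -/
theorem thetaFun_ker {a : ↥K}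
    (ha : ∀ k : ↥K, ∃ h : (k : L) * a * (k : L)⁻¹ ∈ H ⊔ X, ν ⟨_, h⟩ = 1) :
    thetaFun (K := K) (fun x => (ν x : ℂ)) a = thetaFun (K := K) (fun x => (ν x : ℂ)) 1 := by
  classical
  simp only [thetaFun, Cfsg.indFun]
  congr 1
  refine Finset.sum_congr rfl fun k _ => ?_
  obtain ⟨hm, hv⟩ := ha k⁻¹
  have hm' : k⁻¹ * a * k ∈ (H ⊔ X).subgroupOf K := by
    rw [Subgroup.mem_subgroupOf]; simpa using hm
  have h1 : k⁻¹ * 1 * k ∈ (H ⊔ X).subgroupOf K := by simp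
  rw [extendByZero_of_mem _ _ hm', extendByZero_of_mem _ _ h1]
  have e1 : ν ⟨((k⁻¹ * 1 * k : ↥K) : L), Subgroup.mem_subgroupOf.mp h1⟩ = 1 :=
    (congrArg ν (Subtype.ext (by simp))).trans ν.map_one
  have e2 : ν ⟨((k⁻¹ * a * k : ↥K) : L), Subgroup.mem_subgroupOf.mp hm'⟩ = 1 :=
    (congrArg ν (Subtype.ext (by simp))).trans hv
  rw [e1, e2]

include hν

theorem exists_twist {g : ↥K} {ν' : ↥(H ⊔ X) →* ℂˣ} {lam' : Lin H H₀} (hν' : Extends ν' lam')
    [((H ⊔ X).subgroupOf K).Normal]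
    (he : conjC ((H ⊔ X).subgroupOf K) g
        (fun x => (pull K ν x : ℂ)) = fun x => (pull K ν' x : ℂ)) :
    twist (g : L) lam = lam' := by
  refine Subtype.ext (MonoidHom.ext fun h => Units.ext ?_)
  have hm : (⟨(h : L), S.H_le h.2⟩ : ↥K) ∈ (H ⊔ X).subgroupOf K :=
    Subgroup.mem_subgroupOf.2 (Subgroup.mem_sup_left h.2)
  have h1 := congrFun he ⟨_, hm⟩
  rw [Clifford.Basic.conjC_apply] at h1
  rw [twist_apply]
  exact ((congrArg Units.val (hν ⟨_, S.conj_mem_H g h.2⟩)).symm.trans h1).trans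
    (congrArg Units.val (hν' h))

include hstab

theorem isIrr_thetaFun : Cfsg.IsIrrCharacter ↥K (thetaFun (K := K) fun x => (ν x : ℂ)) := by
  classical
  haveI := S.normal_subgroupOf hX hCX
  have hlin : Cfsg.IsIrrCharacter ↥((H ⊔ X).subgroupOf K) fun x => (pull K ν x : ℂ) :=
    (Characters.Linear.linChar (pull K ν)).2
  refine Induced.Mackey.isIrrCharacter_indFun ((H ⊔ X).subgroupOf K) hlin fun g hg => ?_
  rw [Subgroup.mem_subgroupOf]
  have ht := S.exists_twist ν lam hX hCX hν hν hg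
  obtain ⟨h, hh, v, hv, he⟩ := S.exists_mul g.2
  rw [← he, twist_mul, S.twist_of_mem_H hh] at ht
  rw [← he]
  exact (H ⊔ X).mul_mem (Subgroup.mem_sup_left hh) (Subgroup.mem_sup_right (hstab ⟨hv, ht⟩))

end Setting

end Theta

section Members

variable [Fintype ↥K]

namespace Setting

/-- `H₀ ⊔ A` is normalised by `K` if `A ≤ C` is normalised by `U`. -/
theorem conj_mem_sup {A : Subgroup L} (hA : A ≤ C) (hAU : ∀ v ∈ U, ∀ a ∈ A, v * a * v⁻¹ ∈ A)
    {k : L} (hk : k ∈ K) {z : L} (hz : z ∈ H₀ ⊔ A) : k * z * k⁻¹ ∈ H₀ ⊔ A := by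
  obtain ⟨h₀, hh₀, c, hc, rfl⟩ := Subgroup.mem_sup_of_normal_left.1 hz
  obtain ⟨h, hh, v, hv, rfl⟩ := S.exists_mul hk
  set c' := v * c * v⁻¹ with hc'
  have hcA : c' ∈ A := hAU v hv c hc
  have h1 : h * c' * h⁻¹ * c'⁻¹ ∈ H₀ := by
    have := H₀.inv_mem (((S.mem_C c').1 (hA hcA)).2 h hh)
    simpa [mul_assoc] using this
  rw [show h * v * (h₀ * c) * (h * v)⁻¹ = (h * v * h₀ * (h * v)⁻¹) * ((h * c' * h⁻¹ * c'⁻¹) * c') by
    rw [hc']; group]
  exact (H₀ ⊔ A).mul_mem (Subgroup.mem_sup_left (S.H₀_normal.conj_mem h₀ hh₀ (h * v)))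
    ((H₀ ⊔ A).mul_mem (Subgroup.mem_sup_left h1) (Subgroup.mem_sup_right hcA))

variable {X : Subgroup L} (ν : ↥(H ⊔ X) →* ℂˣ) {lam : Lin H H₀}

theorem thetaFun_not_ker (hX : X ≤ U) (hCX : C ≤ X) (hν : Extends ν lam) (hne : lam.1 ≠ 1) :
    ∃ x : ↥K, (x : L) ∈ H ∧
      thetaFun (K := K) (fun y => (ν y : ℂ)) x ≠ thetaFun (K := K) (fun y => (ν y : ℂ)) 1 := by
  classical
  haveI : Fintype ↥H := Fintype.ofFinite _
  by_contra hcon
  push Not at hcon
  have hsum : ∑ h : ↥H, thetaFun (K := K) (fun y => (ν y : ℂ)) ⟨h, S.H_le h.2⟩ = 0 := by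
    simp only [thetaFun, Cfsg.indFun, ← Finset.mul_sum]
    rw [Finset.sum_comm, Finset.sum_eq_zero, mul_zero]
    intro k _
    have hne' : (twist ((k : L)⁻¹) lam).1 ≠ 1 := fun e => hne ((twist_eq_one_iff _ _).1 e)
    obtain ⟨h₁, hh₁⟩ : ∃ h₁ : ↥H, (twist ((k : L)⁻¹) lam).1 h₁ ≠ 1 := by
      by_contra hc; push Not at hc; exact hne' (MonoidHom.ext hc)
    have e : ∀ h : ↥H, Cfsg.extendByZero ((H ⊔ X).subgroupOf K)
        (fun y => (ν ⟨((y : ↥K) : L), Subgroup.mem_subgroupOf.mp y.2⟩ : ℂ))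
          (k⁻¹ * ⟨h, S.H_le h.2⟩ * k) = ((twist ((k : L)⁻¹) lam).1 h : ℂ) := by
      intro h
      have hm : ((k⁻¹ * ⟨h, S.H_le h.2⟩ * k : ↥K) : L) ∈ H := by
        simpa using S.conj_mem_H (k : L)⁻¹ h.2
      rw [extendByZero_of_mem _ _ (Subgroup.mem_subgroupOf.2 (Subgroup.mem_sup_left hm))]
      refine congrArg Units.val ((hν ⟨_, hm⟩).trans ?_)
      rw [twist_apply]
      exact congrArg lam.1 (Subtype.ext (by simp))
    simp only [e]
    have hmul : ((twist ((k : L)⁻¹) lam).1 h₁ : ℂ) * ∑ h : ↥H, ((twist ((k : L)⁻¹) lam).1 h : ℂ) =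
        ∑ h : ↥H, ((twist ((k : L)⁻¹) lam).1 h : ℂ) := by
      rw [Finset.mul_sum]
      exact Fintype.sum_equiv (Equiv.mulLeft h₁) _ _ fun h => by simp
    refine (mul_eq_zero.1 (show (((twist ((k : L)⁻¹) lam).1 h₁ : ℂ) - 1) *
      ∑ h : ↥H, ((twist ((k : L)⁻¹) lam).1 h : ℂ) = 0 by rw [sub_mul, hmul, one_mul, sub_self])).resolve_left ?_
    rw [sub_eq_zero, Units.val_eq_one]
    exact hh₁
  rw [Finset.sum_congr rfl fun (h : ↥H) _ => hcon ⟨(h : L), S.H_le h.2⟩ h.2, Finset.sum_const, nsmul_eq_mul,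
    S.thetaFun_one ν hX] at hsum
  rcases mul_eq_zero.1 hsum with e | e
  · rw [Nat.cast_eq_zero] at e
    exact (Finset.card_ne_zero.2 ⟨1, Finset.mem_univ _⟩) e
  · exact (Subgroup.index_ne_zero_of_finite (H := X.subgroupOf U)) (Nat.cast_eq_zero.1 e)

/-- The characters of `K` obtained from a set of linear characters of `H / H₀` with stabiliser `X`. -/
theorem exists_thetas (Λ : Finset (Lin H H₀)) (hX : X ≤ U) (hCX : C ≤ X)
    (hne : ∀ lam ∈ Λ, lam.1 ≠ 1) (hfix : ∀ lam ∈ Λ, X ≤ stab U lam)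
    (hstab : ∀ lam ∈ Λ, stab U lam ≤ X) :
    ∃ T : Finset (↥K → ℂ), Λ.card * C.relIndex X ≤ X.relIndex U * T.card ∧
      ∀ θ ∈ T, Cfsg.IsIrrCharacter ↥K θ ∧ θ 1 = (X.relIndex U : ℂ) ∧
        (∀ a : ↥K, (a : L) ∈ H₀ ⊔ C → θ a = θ 1) ∧ (∃ x : ↥K, (x : L) ∈ H ∧ θ x ≠ θ 1) ∧
        ∃ lam ∈ Λ, ∃ ν : ↥(H ⊔ X) →* ℂˣ, Extends ν lam ∧
          θ = thetaFun (K := K) fun x => (ν x : ℂ) := by
  classical
  haveI := S.normal_subgroupOf hX hCX
  obtain ⟨hfin, hcard⟩ := card_lin (A := X) (B := C)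
    (fun a ha c hc => S.C_conj_U (hX ha) hc)
    (fun x hx y hy => S.quot_comm x (hX hx) y (hX hy))
  haveI := Fintype.ofFinite (Lin X C)
  have hext : ∀ z : {lam // lam ∈ Λ} × Lin X C, ∃ ν : ↥(H ⊔ X) →* ℂˣ, Extends ν z.1.1 ∧
      ∀ x : ↥X, ν ⟨x, Subgroup.mem_sup_right x.2⟩ = z.2.1 x := fun z =>
    exists_ext (S.disjoint hX) (fun x _ h hh => S.conj_mem_H x hh) z.1.1.1 z.2.1 fun x hx h => by
      have h1 := DFunLike.congr_fun (congrArg Subtype.val (hfix _ z.1.2 hx).2) h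
      rw [twist_apply] at h1
      exact h1
  choose ν hν1 hν2 using hext
  set P : Finset (↥((H ⊔ X).subgroupOf K) → ℂ) :=
    Finset.univ.image fun z => fun y => (pull K (ν z) y : ℂ) with hP
  refine ⟨P.image (Cfsg.indFun _), ?_, fun θ hθ => ?_⟩
  · have hinj : Function.Injective fun z => fun y => (pull K (ν z) y : ℂ) := by
      intro z z' he
      have hval : ∀ y : ↥(H ⊔ X), ν z y = ν z' y := fun y => Units.ext
        (congrFun he ⟨⟨y, S.sup_le hX y.2⟩, Subgroup.mem_subgroupOf.2 y.2⟩)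
      refine Prod.ext (Subtype.ext (Subtype.ext (MonoidHom.ext fun h => ?_)))
        (Subtype.ext (MonoidHom.ext fun x => ?_))
      · rw [← hν1 z h, ← hν1 z' h, hval]
      · rw [← hν2 z x, ← hν2 z' x, hval]
    have h1 := card_le_index_mul_image ((H ⊔ X).subgroupOf K) P fun φ hφ => by
      obtain ⟨z, -, rfl⟩ := Finset.mem_image.1 hφ
      exact (Characters.Linear.linChar (pull K (ν z))).2
    rw [S.index_sup hX, hP, Finset.card_image_of_injective _ hinj, Finset.card_univ,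
      Fintype.card_prod, Fintype.card_coe, Fintype.card_eq_nat_card, hcard] at h1
    exact h1
  · obtain ⟨φ, hφ, rfl⟩ := Finset.mem_image.1 hθ
    obtain ⟨z, -, rfl⟩ := Finset.mem_image.1 hφ
    refine ⟨S.isIrr_thetaFun (ν z) z.1.1 hX hCX (hν1 z) (hstab _ z.1.2), S.thetaFun_one (ν z) hX,
      fun a ha => S.thetaFun_ker (ν z) hX hCX fun k => ?_,
      S.thetaFun_not_ker (ν z) hX hCX (hν1 z) (hne _ z.1.2), z.1.1, z.1.2, ν z, hν1 z, rfl⟩
    have hm := S.conj_mem_sup (le_refl C) (fun v hv c hc => S.C_conj_U hv hc) k.2 ha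
    obtain ⟨h₀, hh₀, c, hc, he⟩ := Subgroup.mem_sup_of_normal_left.1 hm
    refine ⟨_root_.sup_le (S.H₀_le.trans le_sup_left) (hCX.trans le_sup_right) hm, ?_⟩
    have e : (⟨(k : L) * a * (k : L)⁻¹,
        _root_.sup_le (S.H₀_le.trans le_sup_left) (hCX.trans le_sup_right) hm⟩ : ↥(H ⊔ X)) =
        ⟨h₀, Subgroup.mem_sup_left (S.H₀_le hh₀)⟩ * ⟨c, Subgroup.mem_sup_right (hCX hc)⟩ :=
      Subtype.ext he.symm
    rw [e, map_mul, hν1 z ⟨h₀, S.H₀_le hh₀⟩, hν2 z ⟨c, hCX hc⟩, z.1.1.2 _ hh₀, z.2.2 _ hc, one_mul]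

theorem index_K : K.index = q := by
  rw [← S.card_W₁]
  exact (Subgroup.isComplement'_of_disjoint_and_mul_eq_univ (disjoint_iff.2 S.K_inf_W₁)
    (by rw [← Subgroup.normal_mul, S.K_sup_W₁, Subgroup.coe_top])).symm.index_eq_card

/-- Inducing a set of characters of `K` on to `L`. -/
theorem exists_members (A : Subgroup L) (T : Finset (↥K → ℂ))
    (hT : ∀ θ ∈ T, Cfsg.IsIrrCharacter ↥K θ ∧ (∀ a : ↥K, (a : L) ∈ A → θ a = θ 1) ∧
      (∃ x : ↥K, (x : L) ∈ H ∧ θ x ≠ θ 1) ∧ ∃ g : L, conjC K g θ ≠ θ) :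
    ∃ T' : Finset (L → ℂ), T.card ≤ q * T'.card ∧
      ∀ φ ∈ T', φ ∈ seqS K H A ∧ Cfsg.IsIrrCharacter L φ ∧ ∃ θ ∈ T, φ = Cfsg.indFun K θ := by
  classical
  refine ⟨T.image (Cfsg.indFun K), ?_, fun φ hφ => ?_⟩
  · have h := card_le_index_mul_image K T fun θ hθ => (hT θ hθ).1
    rwa [S.index_K] at h
  · obtain ⟨θ, hθ, rfl⟩ := Finset.mem_image.1 hφ
    obtain ⟨h1, h2, h3, g, hg⟩ := hT θ hθ
    exact ⟨⟨θ, h1, h2, h3, rfl⟩,
      isIrr_indFun_of_prime_index K (S.index_K ▸ S.prime_q) h1 hg, θ, hθ, rfl⟩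

end Setting

end Members

end Setting

end Cfsg.Agent.Lib.OddOrder.PF9Char
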