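import Cfsg.Agent.Lib.OddOrder.Interface.PF9Char
import Cfsg.Agent.Lib.Clifford.Basic
import Cfsg.Agent.Lib.Induced.Mackey
import Cfsg.Agent.Lib.Characters.Linear
import Cfsg.Agent.Lib.Characters.Kernel

/-!
# Peterfalvi, section 9: the linear characters of `H / H₀` and their stabilisers
-/

set_option autoImplicit false
set_option linter.style.haveILetI false
set_option linter.unusedSectionVars false

namespace Cfsg.Agent.Lib.OddOrder.PF9Char

open scoped Pointwise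

universe u

variable {L : Type u} [Group L] [Finite L]

/-- If `g` normalises `M ⊇ H₀` and only the elements of `H₀` have trivial commutator with `g` modulo
`H₀`, every element of `M` is such a commutator modulo `H₀`. -/
theorem exists_commutator_mul {H₀ M : Subgroup L} [hn : H₀.Normal] (hle : H₀ ≤ M) {g : L}
    (hg : ∀ x, x ∈ M → g * x * g⁻¹ ∈ M) (hcomm : ∀ x ∈ M, ∀ y ∈ M, x * y * x⁻¹ * y⁻¹ ∈ H₀)
    (hfix : ∀ x ∈ M, g * x * g⁻¹ * x⁻¹ ∈ H₀ → x ∈ H₀) {m : L} (hm : m ∈ M) :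
    ∃ x ∈ M, m⁻¹ * (g * x * g⁻¹ * x⁻¹) ∈ H₀ := by
  classical
  set π := QuotientGroup.mk' H₀
  have hker : ∀ {z : L}, π z = 1 ↔ z ∈ H₀ := fun {z} => QuotientGroup.eq_one_iff z
  have hM : ∀ y : ↥(M.map π), π g * (y : L ⧸ H₀) * (π g)⁻¹ * (y : L ⧸ H₀)⁻¹ ∈ M.map π := by
    rintro ⟨_, x, hx, rfl⟩
    exact ⟨g * x * g⁻¹ * x⁻¹, M.mul_mem (hg x hx) (M.inv_mem hx), by simp⟩
  let f : ↥(M.map π) → ↥(M.map π) := fun y => ⟨_, hM y⟩
  have hinj : Function.Injective f := by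
    rintro ⟨_, x, hx, rfl⟩ ⟨_, y, hy, rfl⟩ he
    have he' : π g * π x * (π g)⁻¹ * (π x)⁻¹ = π g * π y * (π g)⁻¹ * (π y)⁻¹ := congrArg Subtype.val he
    have hcm : ∀ {a b : L}, a ∈ M → b ∈ M → π a * π b = π b * π a := fun {a b} ha hb => by
      rw [← map_mul, ← map_mul, ← mul_inv_eq_one, ← map_inv, ← map_mul, hker, mul_inv_rev,
        show a * b * (a⁻¹ * b⁻¹) = a * b * a⁻¹ * b⁻¹ by group]
      exact hcomm a ha b hb
    apply Subtype.ext
    show π x = π y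
    set z := y⁻¹ * x with hz
    have hzM : z ∈ M := M.mul_mem (M.inv_mem hy) hx
    have hz0 : z ∈ H₀ := by
      refine hfix z hzM (hker.1 ?_)
      rw [map_mul, map_mul, map_mul, map_inv, map_inv]
      have hgx : π g * π x * (π g)⁻¹ = π g * π y * (π g)⁻¹ * (π y)⁻¹ * π x :=
        mul_inv_eq_iff_eq_mul.1 he'
      have e1 : π g * π z * (π g)⁻¹ = (π g * π y * (π g)⁻¹)⁻¹ * (π g * π x * (π g)⁻¹) := by
        rw [hz, map_mul, map_inv]; group
      rw [e1, hgx, ← mul_assoc, ← mul_assoc, inv_mul_cancel, one_mul, hz, map_mul, map_inv]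
      rw [hcm (M.inv_mem hy) hx |>.trans rfl |> fun h => (by rwa [map_inv] at h : (π y)⁻¹ * π x = π x * (π y)⁻¹)]
      group
    have := hker.2 hz0
    rw [hz, map_mul, map_inv, inv_mul_eq_one] at this
    exact this.symm
  obtain ⟨⟨_, x, hx, rfl⟩, he⟩ := (Finite.injective_iff_surjective.1 hinj) ⟨π m, m, hm, rfl⟩
  refine ⟨x, hx, hker.1 ?_⟩
  have he' : π g * π x * (π g)⁻¹ * (π x)⁻¹ = π m := congrArg Subtype.val he
  rw [map_mul, map_mul, map_mul, map_mul, map_inv, map_inv, map_inv, he', inv_mul_cancel]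

/-- An element acting on `H` and fixing a coset of `H₀` in `H` other than `H₀` centralises a
non-identity element of `H`. -/
theorem exists_fixed {H₀ H : Subgroup L} [hn : H₀.Normal] (hle : H₀ ≤ H) {x : L}
    (hx : ∀ h, h ∈ H → x * h * x⁻¹ ∈ H) {h₁ : L} (h₁H : h₁ ∈ H) (h₁0 : h₁ ∉ H₀)
    (hfix : x * h₁ * x⁻¹ * h₁⁻¹ ∈ H₀) : ∃ h ∈ H, h ≠ 1 ∧ x * h = h * x := by
  by_contra hcon
  push Not at hcon
  have h' : h₁⁻¹ * (x * h₁ * x⁻¹) ∈ H₀ := by
    have := hn.conj_mem _ hfix h₁⁻¹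
    simpa [mul_assoc] using this
  let f : ↥H₀ → ↥H₀ := fun h =>
    ⟨(h : L)⁻¹ * (x * h * x⁻¹), H₀.mul_mem (H₀.inv_mem h.2) (hn.conj_mem _ h.2 x)⟩
  have key : ∀ a ∈ H, ∀ b ∈ H, a⁻¹ * (x * a * x⁻¹) = b⁻¹ * (x * b * x⁻¹) → a = b := by
    intro a ha b hb he
    by_contra hne
    refine hcon (b * a⁻¹) (H.mul_mem hb (H.inv_mem ha))
      (fun e => hne (mul_inv_eq_one.1 e).symm) ?_
    rw [← mul_inv_eq_iff_eq_mul]
    calc x * (b * a⁻¹) * x⁻¹
        = b * (b⁻¹ * (x * b * x⁻¹)) * (a⁻¹ * (x * a * x⁻¹))⁻¹ * a⁻¹ := by group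
      _ = b * a⁻¹ := by rw [← he]; group
  have hf : Function.Injective f := fun a b he =>
    Subtype.ext (key a (hle a.2) b (hle b.2) (congrArg Subtype.val he))
  obtain ⟨h₀, he⟩ := (Finite.injective_iff_surjective.1 hf) ⟨_, h'⟩
  exact h₁0 (key h₁ h₁H h₀ (hle h₀.2) (congrArg Subtype.val he).symm ▸ h₀.2)

/-- Homomorphisms on the two factors of a semidirect product, the first invariant under the second,
combine. -/
theorem exists_ext {H X : Subgroup L} (hdis : H ⊓ X = ⊥) (hX : ∀ x ∈ X, ∀ h ∈ H, x * h * x⁻¹ ∈ H)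
    (lam : ↥H →* ℂˣ) (μ : ↥X →* ℂˣ)
    (hinv : ∀ (x : L) (hx : x ∈ X) (h : ↥H), lam ⟨x * h * x⁻¹, hX x hx h h.2⟩ = lam h) :
    ∃ ν : ↥(H ⊔ X) →* ℂˣ, (∀ h : ↥H, ν ⟨h, Subgroup.mem_sup_left h.2⟩ = lam h) ∧
      ∀ x : ↥X, ν ⟨x, Subgroup.mem_sup_right x.2⟩ = μ x := by
  classical
  have hnX : X ≤ Subgroup.normalizer (H : Set L) := fun x hx => by
    rw [Subgroup.mem_normalizer_iff]
    intro h
    refine ⟨hX x hx h, fun hh => ?_⟩
    have := hX x⁻¹ (X.inv_mem hx) _ hh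
    simpa [mul_assoc] using this
  have hdec : ∀ y : ↥(H ⊔ X), ∃ (h : ↥H) (x : ↥X), (h : L) * x = y := fun y => by
    have hy : (y : L) ∈ (H : Set L) * (X : Set L) := by
      rw [← Subgroup.coe_mul_of_right_le_normalizer_left H X hnX]
      exact y.2
    obtain ⟨h, hh, x, hx, he⟩ := Set.mem_mul.1 hy
    exact ⟨⟨h, hh⟩, ⟨x, hx⟩, he⟩
  choose a b hab using hdec
  have huniq : ∀ (h h' : ↥H) (x x' : ↥X), (h : L) * x = h' * x' → h = h' ∧ x = x' := by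
    intro h h' x x' he
    have h1 : (h' : L)⁻¹ * h = x' * (x : L)⁻¹ := by
      rw [inv_mul_eq_iff_eq_mul, ← mul_assoc, ← he, mul_inv_cancel_right]
    have h2 : (h' : L)⁻¹ * h ∈ H ⊓ X :=
      ⟨H.mul_mem (H.inv_mem h'.2) h.2, h1 ▸ X.mul_mem x'.2 (X.inv_mem x.2)⟩
    rw [hdis, Subgroup.mem_bot, inv_mul_eq_one] at h2
    have e : h = h' := Subtype.ext h2.symm
    subst e
    exact ⟨rfl, Subtype.ext (mul_left_cancel he)⟩
  refine ⟨MonoidHom.mk' (fun y => lam (a y) * μ (b y)) fun y z => ?_, fun h => ?_, fun x => ?_⟩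
  · set c : ↥H := ⟨(b y : L) * a z * (b y : L)⁻¹, hX _ (b y).2 _ (a z).2⟩ with hc
    have he : ((a y * c : ↥H) : L) * ((b y * b z : ↥X) : L) = (a (y * z) : L) * b (y * z) := by
      rw [hab (y * z), Subgroup.coe_mul, Subgroup.coe_mul, Subgroup.coe_mul]
      conv_rhs => rw [← hab y, ← hab z]
      simp [hc, mul_assoc]
    obtain ⟨e1, e2⟩ := huniq _ _ _ _ he
    show lam (a (y * z)) * μ (b (y * z)) = _
    rw [← e1, ← e2, map_mul, map_mul, hinv _ (b y).2 (a z), mul_mul_mul_comm]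
  · obtain ⟨e1, e2⟩ := huniq _ h _ 1 ((hab ⟨h, Subgroup.mem_sup_left h.2⟩).trans (mul_one _).symm)
    show lam (a _) * μ (b _) = _
    rw [e1, e2, map_one, mul_one]
  · obtain ⟨e1, e2⟩ := huniq _ 1 _ x ((hab ⟨x, Subgroup.mem_sup_right x.2⟩).trans (one_mul _).symm)
    show lam (a _) * μ (b _) = _
    rw [e1, e2, map_one, one_mul]

/-- The linear characters of `H` with `H₀` in the kernel. -/
abbrev Lin (H H₀ : Subgroup L) : Type u := {lam : ↥H →* ℂˣ // ∀ x : ↥H, (x : L) ∈ H₀ → lam x = 1}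

/-- `g` fixes `lam`. -/
def Fixes {H H₀ : Subgroup L} (g : L) (lam : Lin H H₀) : Prop :=
  ∀ x y : ↥H, (y : L) = g * x * g⁻¹ → lam.1 y = lam.1 x

/-- A character fixed by `g` is trivial on every `g`-invariant subgroup on which `g` has no fixed
cosets besides `H₀`. -/
theorem eq_one_on {H H₀ M : Subgroup L} [H₀.Normal] (hle : H₀ ≤ M) (hMH : M ≤ H) {g : L}
    (hg : ∀ x, x ∈ M → g * x * g⁻¹ ∈ M) (hcomm : ∀ x ∈ M, ∀ y ∈ M, x * y * x⁻¹ * y⁻¹ ∈ H₀)
    (hfix : ∀ x ∈ M, g * x * g⁻¹ * x⁻¹ ∈ H₀ → x ∈ H₀) {lam : Lin H H₀} (hl : Fixes g lam)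
    (x : ↥H) (hx : (x : L) ∈ M) : lam.1 x = 1 := by
  obtain ⟨y, hy, he⟩ := exists_commutator_mul hle hg hcomm hfix hx
  set y' : ↥H := ⟨y, hMH hy⟩
  set z : ↥H := ⟨g * y * g⁻¹, hMH (hg y hy)⟩
  have h1 : lam.1 (x⁻¹ * (z * y'⁻¹)) = 1 := lam.2 _ (by simpa [z, y'] using he)
  rw [map_mul, map_mul, map_inv, map_inv, hl y' z rfl, mul_inv_cancel, mul_one, inv_eq_one] at h1
  exact h1

section Setting

variable {K H U W₁ W₂ H₀ C : Subgroup L} {p q : ℕ} (S : Setting K H U W₁ W₂ H₀ C p q)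

include S

namespace Setting

theorem conj_mem_H (g : L) {h : L} (hh : h ∈ H) : g * h * g⁻¹ ∈ H := S.H_normal.conj_mem h hh g

theorem comm_mem_mono {M : Subgroup L} (hM : M ≤ H) :
    ∀ x ∈ M, ∀ y ∈ M, x * y * x⁻¹ * y⁻¹ ∈ H₀ := fun x hx y hy =>
  S.commutator_mem x (hM hx) y (hM hy)

theorem C_le : C ≤ U := S.C_lt.le

theorem conj_mem_U {w : L} (hw : w ∈ W₁) {u : L} (hu : u ∈ U) : w * u * w⁻¹ ∈ U :=
  (Subgroup.mem_normalizer_iff.1 (S.W₁_normalizes hw) u).1 hu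

theorem C_conj_U {x : L} (hx : x ∈ U) {c : L} (hc : c ∈ C) : x * c * x⁻¹ ∈ C := by
  have h1 := C.mul_mem (S.quot_comm x hx c (S.C_le hc)) hc
  rwa [inv_mul_cancel_right] at h1

theorem C_conj_W {w : L} (hw : w ∈ W₁) {c : L} (hc : c ∈ C) : w * c * w⁻¹ ∈ C := by
  rw [S.mem_C] at hc ⊢
  refine ⟨S.conj_mem_U hw hc.1, fun h hh => ?_⟩
  have h1 := S.H₀_normal.conj_mem _ (hc.2 (w⁻¹ * h * w) (by simpa using S.conj_mem_H w⁻¹ hh)) w
  convert h1 using 1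
  group

theorem exists_mul {k : L} (hk : k ∈ K) : ∃ h ∈ H, ∃ u ∈ U, h * u = k := by
  haveI := S.H_normal
  rw [← S.H_sup_U] at hk
  exact Subgroup.mem_sup_of_normal_left.1 hk

theorem exists_mul_W (g : L) : ∃ k ∈ K, ∃ w ∈ W₁, k * w = g := by
  haveI := S.K_normal
  exact Subgroup.mem_sup_of_normal_left.1 (S.K_sup_W₁ ▸ Subgroup.mem_top g)

/-- Elements of `H` fix every member of `Lin H H₀`. -/
theorem fixes_of_mem {h : L} (hh : h ∈ H) (lam : Lin H H₀) : Fixes h lam := fun x y he => by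
  have e : y = ⟨h, hh⟩ * x * ⟨h, hh⟩⁻¹ := Subtype.ext he
  rw [e, map_mul, map_mul, map_inv, mul_comm (lam.1 _) (lam.1 x), mul_inv_cancel_right]

/-- Elements of `C` fix every member of `Lin H H₀`. -/
theorem fixes_of_mem_C {c : L} (hc : c ∈ C) (lam : Lin H H₀) : Fixes c lam := fun x y he => by
  have h1 := ((S.mem_C c).1 hc).2 x x.2
  have h2 := lam.2 (y * x⁻¹) (by simpa [he] using h1)
  rwa [map_mul, map_inv, mul_inv_eq_one] at h2

/-- In the Galois case an element of `U` fixing a non-trivial member of `Lin H H₀` lies in `C`. -/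
theorem galois_stab (hgal : IsGalois H U H₀) {lam : Lin H H₀} (hne : lam.1 ≠ 1) {u : L} (hu : u ∈ U)
    (hfix : Fixes u lam) : u ∈ C := by
  haveI := S.H₀_normal
  by_contra huC
  set π := QuotientGroup.mk' H₀
  have hker : ∀ {z : L}, π z = 1 ↔ z ∈ H₀ := fun {z} => QuotientGroup.eq_one_iff z
  let N : Subgroup L := H ⊓ (Subgroup.centralizer {π u}).comap π
  have hN : ∀ h, h ∈ N ↔ h ∈ H ∧ u * h * u⁻¹ * h⁻¹ ∈ H₀ := by
    intro h
    have e : π (u * h * u⁻¹ * h⁻¹) = 1 ↔ π h * π u = π u * π h := by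
      rw [map_mul, map_inv, mul_inv_eq_one, map_mul, map_mul, map_inv, mul_inv_eq_iff_eq_mul]
      exact eq_comm
    rw [← hker, e]
    exact and_congr Iff.rfl Subgroup.mem_centralizer_singleton_iff
  have hH₀N : H₀ ≤ N := fun h hh => (hN h).2 ⟨S.H₀_le hh,
    H₀.mul_mem (S.H₀_normal.conj_mem h hh u) (H₀.inv_mem hh)⟩
  have hUN : U ≤ Subgroup.normalizer (N : Set L) := by
    have h1 : ∀ v ∈ U, ∀ h ∈ N, v * h * v⁻¹ ∈ N := by
      intro v hv h hh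
      obtain ⟨hhH, hh'⟩ := (hN h).1 hh
      refine (hN _).2 ⟨S.conj_mem_H v hhH, ?_⟩
      have hc := (S.mem_C _).1 (S.quot_comm u hu v hv)
      have hd := hc.2 (v * (u * h * u⁻¹) * v⁻¹) (S.conj_mem_H v (S.conj_mem_H u hhH))
      rw [← hker, map_mul, map_inv, mul_inv_eq_one] at hd hh' ⊢
      simp only [map_mul, map_inv] at hd hh' ⊢
      have key : π u * (π v * π h * (π v)⁻¹) * (π u)⁻¹ = π v * π h * (π v)⁻¹ := by
        calc π u * (π v * π h * (π v)⁻¹) * (π u)⁻¹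
            = π u * π v * (π u)⁻¹ * (π v)⁻¹ * (π v * (π u * π h * (π u)⁻¹) * (π v)⁻¹) *
                (π u * π v * (π u)⁻¹ * (π v)⁻¹)⁻¹ := by group
          _ = π v * (π u * π h * (π u)⁻¹) * (π v)⁻¹ := hd
          _ = π v * π h * (π v)⁻¹ := by rw [hh']
      exact key
    intro v hv
    rw [Subgroup.mem_normalizer_iff]
    refine fun h => ⟨h1 v hv h, fun hh => ?_⟩
    simpa [mul_assoc] using h1 v⁻¹ (U.inv_mem hv) _ hh
  rcases hgal N hH₀N (fun h hh => ((hN h).1 hh).1) hUN with e | e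
  · exact hne (MonoidHom.ext fun x => eq_one_on S.H₀_le le_rfl (fun y hy => S.conj_mem_H u hy)
      S.commutator_mem (fun y hy h => e ▸ (hN y).2 ⟨hy, h⟩) hfix x x.2)
  · exact huC ((S.mem_C u).2 ⟨hu, fun h hh => ((hN h).1 (e.symm ▸ hh)).2⟩)

end Setting

end Setting

end Cfsg.Agent.Lib.OddOrder.PF9Char
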