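import Cfsg.Agent.Lib.OddOrder.PF9Coherence

/-!
# Peterfalvi (9.8)–(9.11): the four results of `Interface/PF9Char`, from its hypotheses
-/

set_option autoImplicit false

namespace Cfsg.Agent.Lib.OddOrder.PF9Char

universe u v

variable {L : Type u} [Group L] [Fintype L] {K H U W₁ W₂ H₀ C : Subgroup L} {p q : ℕ}

/-- (9.8)–(9.11). -/
theorem character_half (S : Setting K H U W₁ W₂ H₀ C p q) (hD : Dichotomy H U W₁ H₀ p) :
    Degrees K H U W₁ H₀ C p ∧ Reducible K H U H₀ C p q ∧ IrreducibleQU K H U H₀ C p q ∧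
      CoreCoherence.{u, v} K H H₀ C := by
  classical
  haveI := S.K_normal
  haveI := S.H_normal
  haveI := S.H₀_normal
  haveI : Fintype ↥K := Fintype.ofFinite _
  exact ⟨degrees S, reducible S hD, irreducibleQU S hD, coreCoherence S hD⟩

end Cfsg.Agent.Lib.OddOrder.PF9Char
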