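import Cfsg.Agent.Lib.OddOrder.PF9Induced

/-!
# Peterfalvi (9.8)(a), (9.9)(a): divisibility of the degrees
-/

set_option autoImplicit false
set_option linter.style.haveILetI false
set_option linter.unusedSectionVars false

namespace Cfsg.Agent.Lib.OddOrder.PF9Char

open scoped Pointwise ComplexConjugate
open Cfsg.Agent.Lib.Clifford.Basic (conjC inertia)
open Cfsg.Agent.Lib.Induced.Basic Cfsg.Agent.Lib.Characters.Basic

universe u

section Conjugates

variable {L : Type u} [Group L]

/-- The conjugate of `C₁` attached to `w`. -/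
def Cw (C₁ : Subgroup L) (w : L) : Subgroup L := C₁.map (MulAut.conj w).toMonoidHom

theorem mem_Cw {C₁ : Subgroup L} {w u : L} : u ∈ Cw C₁ w ↔ w⁻¹ * u * w ∈ C₁ := by
  constructor
  · rintro ⟨x, hx, rfl⟩
    simpa [mul_assoc] using hx
  · exact fun h => ⟨_, h, by simp [mul_assoc]⟩

variable [Finite L] {K H U W₁ W₂ H₀ C H₁ C₁ : Subgroup L} {p q a : ℕ}
  [H.Normal] [H₀.Normal]
  (S : Setting K H U W₁ W₂ H₀ C p q) (D : LineData H U W₁ H₀ H₁ C₁ p a)

include S D

theorem Setting.Cw_le (w : W₁) : Cw C₁ (w : L) ≤ U := fun u hu => by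
  have := S.conj_mem_U w.2 (D.C₁_le (mem_Cw.1 hu))
  simpa [mul_assoc] using this

theorem Setting.relIndex_Cw (w : W₁) : (Cw C₁ (w : L)).relIndex U = a := by
  have hU : U.map (MulAut.conj (w : L)).toMonoidHom = U := by
    ext u
    constructor
    · rintro ⟨x, hx, rfl⟩
      exact S.conj_mem_U w.2 hx
    · intro hu
      refine ⟨(w : L)⁻¹ * u * w, ?_, by simp [mul_assoc]⟩
      simpa using S.conj_mem_U (W₁.inv_mem w.2) hu
  rw [← D.index_C₁, Cw]
  conv_lhs => rw [← hU]
  exact Subgroup.relIndex_map_map_of_injective _ _ (MulAut.conj (w : L)).injective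

theorem Setting.stab_le_Cw {lam : Lin H H₀} {w : W₁} (hw : Setting.Supp D lam w) :
    stab U lam ≤ Cw C₁ (w : L) := fun _ hu => mem_Cw.2 (S.conj_mem_C₁ D hw hu)

/-- A non-trivial character is non-trivial on some line. -/
theorem Setting.exists_supp {lam : Lin H H₀} (hne : lam.1 ≠ 1) :
    ∃ w : W₁, Setting.Supp D lam w := by
  by_contra hcon
  push Not at hcon
  refine hne ?_
  have h := (S.lines_bijective D).1 (a₁ := lam) (a₂ := ⟨1, fun _ _ => rfl⟩) (funext fun w =>
    Subtype.ext ((not_not.1 (hcon w)).trans (MonoidHom.ext fun x => by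
      rw [resTo_apply, twist_apply]; rfl)))
  exact congrArg Subtype.val h

end Conjugates

section Main

variable {L : Type u} [Group L] [Fintype L] {K H U W₁ W₂ H₀ C : Subgroup L} {p q : ℕ} [K.Normal]
  [H.Normal] [H₀.Normal] [Fintype ↥K] (S : Setting K H U W₁ W₂ H₀ C p q)

include S

/-- A character of `K` in question has degree divisible by `|U : stab λ|` for some `λ ≠ 1`. -/
theorem Setting.exists_stab_dvd {θ : ↥K → ℂ} (hθ : Cfsg.IsIrrCharacter ↥K θ)
    (hker : ∀ a : ↥K, (a : L) ∈ H₀ → θ a = θ 1) (hH : ∃ x : ↥K, (x : L) ∈ H ∧ θ x ≠ θ 1) :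
    ∃ lam : Lin H H₀, lam.1 ≠ 1 ∧ ∃ k : ℕ, θ 1 = (((stab U lam).relIndex U * k : ℕ) : ℂ) := by
  classical
  haveI hn : (H.subgroupOf K).Normal := Subgroup.Normal.subgroupOf inferInstance K
  set N := H.subgroupOf K with hN
  haveI : Fintype ↥N := Fintype.ofFinite _
  have hres : Cfsg.IsCharacter ↥N fun n : N => θ n :=
    isCharacter_comp N.subtype (IsCharacter_of_isIrrCharacter hθ)
  set B : Subgroup ↥N := (H₀.subgroupOf K).subgroupOf N with hB
  haveI : (H₀.subgroupOf K).Normal := Subgroup.Normal.subgroupOf inferInstance K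
  haveI : B.Normal := Subgroup.Normal.subgroupOf inferInstance N
  obtain ⟨f, hf, hfπ, -⟩ := Characters.Kernel.exists_descend B hres fun g hg =>
    hker g (Subgroup.mem_subgroupOf.1 (Subgroup.mem_subgroupOf.1 hg))
  haveI : Fintype (↥N ⧸ B) := Fintype.ofFinite _
  obtain ⟨c, hc⟩ := Clifford.Basic.exists_constituent hf fun e => by
    have h1 := congrFun hfπ 1
    rw [e] at h1
    exact Clifford.Basic.degree_pos hθ h1.symm
  have hcomm : ∀ x y : ↥N ⧸ B, x * y = y * x := fun x y => by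
    induction x using QuotientGroup.induction_on with
    | _ a => induction y using QuotientGroup.induction_on with
      | _ b =>
        rw [← QuotientGroup.mk_mul, ← QuotientGroup.mk_mul, QuotientGroup.eq, hB,
          Subgroup.mem_subgroupOf, Subgroup.mem_subgroupOf]
        have h := S.commutator_mem _ (H.inv_mem (Subgroup.mem_subgroupOf.1 b.2)) _
          (H.inv_mem (Subgroup.mem_subgroupOf.1 a.2))
        convert h using 1
        simp [mul_assoc]
  have hc1 := Characters.Linear.degree_eq_one_of_comm hcomm c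
  set φ : Cfsg.IrrCharacter ↥N := ⟨(c : ↥N ⧸ B → ℂ) ∘ QuotientGroup.mk' B,
    isIrrCharacter_comp _ (QuotientGroup.mk'_surjective B) c.2⟩ with hφdef
  have hinner : Cfsg.classInner (fun n : N => θ n) φ ≠ 0 := by
    rw [← hfπ]
    refine Clifford.Basic.classInner_comp_ne_zero (QuotientGroup.mk' B) hf hc ?_
    rw [show ((c : ↥N ⧸ B → ℂ) ∘ QuotientGroup.mk' B) = (φ : ↥N → ℂ) from rfl,
      classInner_self_irr φ]
    exact one_ne_zero
  have hφ1 : (φ : ↥N → ℂ) 1 = 1 := by
    show (c : ↥N ⧸ B → ℂ) (QuotientGroup.mk' B 1) = 1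
    rw [map_one, hc1]
  let e : ↥H →* ↥N := (Subgroup.subgroupOfEquivOfLe S.H_le).symm.toMonoidHom
  have he : ∀ n : ↥N, e ⟨((n : ↥K) : L), Subgroup.mem_subgroupOf.1 n.2⟩ = n := fun n => rfl
  let lam : Lin H H₀ := ⟨(Characters.Linear.degOneHom (isCharacter_irr φ) hφ1).comp e, fun x hx => by
    refine Units.ext ?_
    rw [MonoidHom.comp_apply, Characters.Linear.degOneHom_apply, Units.val_one]
    show (c : ↥N ⧸ B → ℂ) (QuotientGroup.mk' B (e x)) = 1
    rw [show QuotientGroup.mk' B (e x) = 1 from (QuotientGroup.eq_one_iff _).2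
      (Subgroup.mem_subgroupOf.2 (Subgroup.mem_subgroupOf.2 hx)), hc1]⟩
  have hlam : ∀ n : ↥N, ((lam.1 ⟨((n : ↥K) : L), Subgroup.mem_subgroupOf.1 n.2⟩ : ℂˣ) : ℂ) =
      (φ : ↥N → ℂ) n := fun n => by
    show ((Characters.Linear.degOneHom (isCharacter_irr φ) hφ1 (e _) : ℂˣ) : ℂ) = _
    rw [Characters.Linear.degOneHom_apply, he]
  refine ⟨lam, fun e1 => ?_, ?_⟩
  · have hconst : ∀ n : ↥N, (φ : ↥N → ℂ) n = 1 := fun n => by
      rw [← hlam, e1]; rfl
    have h := Clifford.Basic.restrict_eq_smul N hθ φ hinner fun g => funext fun n => by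
      rw [Clifford.Basic.conjC_apply, hconst, hconst]
    obtain ⟨x, hx, hne⟩ := hH
    refine hne ?_
    have h1 := congrFun h ⟨x, Subgroup.mem_subgroupOf.2 hx⟩
    have h2 := congrFun h 1
    simp only [Pi.smul_apply, hconst] at h1 h2
    exact h1.trans h2.symm
  · have hinert : inertia N (φ : ↥N → ℂ) = (H ⊔ stab U lam).subgroupOf K := by
      ext g
      rw [Clifford.Basic.mem_inertia, Subgroup.mem_subgroupOf]
      have hiff : conjC N g (φ : ↥N → ℂ) = (φ : ↥N → ℂ) ↔ twist (g : L) lam = lam := by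
        constructor
        · intro h
          refine Subtype.ext (MonoidHom.ext fun y => Units.ext ?_)
          have h1 := congrFun h ⟨⟨y, S.H_le y.2⟩, Subgroup.mem_subgroupOf.2 y.2⟩
          rw [Clifford.Basic.conjC_apply, ← hlam, ← hlam] at h1
          rw [twist_apply]
          exact h1
        · intro h
          funext n
          rw [Clifford.Basic.conjC_apply, ← hlam, ← hlam]
          conv_rhs => rw [← h, twist_apply]
          rfl
      rw [hiff]
      obtain ⟨h', hh', v, hv, hg⟩ := S.exists_mul g.2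
      rw [← hg, twist_mul, S.twist_of_mem_H hh']
      refine ⟨fun ht => (H ⊔ stab U lam).mul_mem (Subgroup.mem_sup_left hh')
        (Subgroup.mem_sup_right ⟨hv, ht⟩), fun hm => ?_⟩
      have hv' : v ∈ H ⊔ stab U lam := by
        have := (H ⊔ stab U lam).mul_mem (Subgroup.mem_sup_left (H.inv_mem hh')) hm
        rwa [inv_mul_cancel_left] at this
      obtain ⟨h'', hh'', s, hs, hvs⟩ := Subgroup.mem_sup_of_normal_left.1 hv'
      rw [← hvs, twist_mul, S.twist_of_mem_H hh'', hs.2]
    have hdeg := Clifford.Basic.clifford_degree N hθ φ hinner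
    obtain ⟨k, hk⟩ := exists_classInner_nat hres (isCharacter_irr φ)
    refine ⟨k, ?_⟩
    rw [hdeg, hk, hφ1, mul_one, hinert, S.index_sup (stab_le lam)]
    push_cast
    ring

/-- (9.8)(a) and (9.9)(a). -/
theorem degrees : Degrees K H U W₁ H₀ C p := by
  intro θ hθ hker hH
  obtain ⟨lam, hne, k, hk⟩ := S.exists_stab_dvd hθ hker hH
  refine ⟨fun hgal => ⟨k, ?_⟩, fun H₁ C₁ a D => ?_⟩
  · rw [← S.galois_stab_eq hgal hne, hk]
  · obtain ⟨w, hw⟩ := S.exists_supp D hne
    obtain ⟨j, hj⟩ := Subgroup.relIndex_dvd_of_le_left U (S.stab_le_Cw D hw)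
    rw [S.relIndex_Cw D] at hj
    exact ⟨j * k, by rw [hk, hj, mul_assoc]⟩

end Main

end Cfsg.Agent.Lib.OddOrder.PF9Char
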