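import Cfsg.Agent.Lib.OddOrder.PF9Reducible
import Cfsg.Agent.Lib.ExtPrim.EndField

/-!
# Peterfalvi (9.10): an irreducible member of degree `q u`, or the exceptional Galois case
-/

set_option autoImplicit false
set_option linter.style.haveILetI false
set_option linter.unusedSectionVars false

namespace Cfsg.Agent.Lib.OddOrder.PF9Char

open scoped Pointwise ComplexConjugate
open Cfsg.Agent.Lib.Clifford.Basic (conjC)
open Cfsg.Agent.Lib.Induced.Basic Cfsg.Agent.Lib.Characters.Basic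

universe u

variable {L : Type u} [Group L] [Fintype L] {K H U W₁ W₂ H₀ C : Subgroup L} {p q : ℕ} [K.Normal]
  [H.Normal] [H₀.Normal] [Fintype ↥K] (S : Setting K H U W₁ W₂ H₀ C p q)

include S

namespace Setting

/-- `H₀ ⊔ A` lies in the kernel of the induced character when the linear character kills `A`. -/
theorem thetaFun_ker_sup {A X : Subgroup L} (hA : A ≤ C) (hAU : ∀ v ∈ U, ∀ a ∈ A, v * a * v⁻¹ ∈ A)
    (hX : X ≤ U) (hCX : C ≤ X) (ν : ↥(H ⊔ X) →* ℂˣ) {lam : Lin H H₀} (hν : Extends ν lam)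
    (hνA : ∀ (a : L) (ha : a ∈ A), ν ⟨a, Subgroup.mem_sup_right (hCX (hA ha))⟩ = 1)
    (a : ↥K) (ha : (a : L) ∈ H₀ ⊔ A) :
    thetaFun (K := K) (fun x => (ν x : ℂ)) a = thetaFun (K := K) (fun x => (ν x : ℂ)) 1 := by
  refine S.thetaFun_ker ν hX hCX fun k => ?_
  have hm := S.conj_mem_sup hA hAU k.2 ha
  obtain ⟨h₀, hh₀, c, hc, he⟩ := Subgroup.mem_sup_of_normal_left.1 hm
  have hle : H₀ ⊔ A ≤ H ⊔ X :=
    _root_.sup_le (S.H₀_le.trans le_sup_left) ((hA.trans hCX).trans le_sup_right)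
  refine ⟨hle hm, ?_⟩
  have e : (⟨(k : L) * a * (k : L)⁻¹, hle hm⟩ : ↥(H ⊔ X)) =
      ⟨h₀, Subgroup.mem_sup_left (S.H₀_le hh₀)⟩ * ⟨c, Subgroup.mem_sup_right (hCX (hA hc))⟩ :=
    Subtype.ext he.symm
  rw [e, map_mul, hν ⟨h₀, S.H₀_le hh₀⟩, hνA c hc, lam.2 _ hh₀, one_mul]

variable (hD : Dichotomy H U W₁ H₀ p)

include hD

theorem card_fixed_ne {w : L} (hw : w ∈ W₁) (hw1 : w ≠ 1) :
    Nat.card {lam : Lin H H₀ // twist w lam = lam ∧ lam.1 ≠ 1} = p - 1 := by
  classical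
  obtain ⟨hfinL, -⟩ := S.card_Lin
  haveI := Fintype.ofFinite (Lin H H₀)
  refine le_antisymm ?_ ?_
  · obtain ⟨T, hcard, -, hall⟩ := S.exists_fixed_family hD hw hw1
    have hex : ∀ lam : {lam : Lin H H₀ // twist w lam = lam ∧ lam.1 ≠ 1}, ∃ ν : ↥(H ⊔ C) →* ℂˣ,
        Extends ν lam.1 ∧ thetaFun (K := K) (fun x => (ν x : ℂ)) ∈ T := fun lam => by
      obtain ⟨ν, ⟨h1, -⟩, h2, h3, h4, h5⟩ := S.exists_fixed_theta hD hw hw1 lam.2.2 lam.2.1
      exact ⟨ν, h1, hall _ h2 (fun a ha => h3 a (Subgroup.mem_sup_left ha)) h5 h4⟩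
    choose ν hν hmem using hex
    rw [← hcard, show T.card = Nat.card {θ // θ ∈ T} by rw [Nat.card_eq_fintype_card, Fintype.card_coe]]
    refine Nat.card_le_card_of_injective
      (fun lam => (⟨_, hmem lam⟩ : {θ // θ ∈ T})) fun a b e => ?_
    exact Subtype.ext (S.fixed_theta_inj hD hw hw1 a.2.2 a.2.1 b.2.2 b.2.1 (hν a) (hν b)
      (congrArg Subtype.val e :))
  · have h1 := S.card_fixed_lin_ge hw hw1
    have h2 : Nat.card {lam : Lin H H₀ // twist w lam = lam} ≤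
        Nat.card {lam : Lin H H₀ // twist w lam = lam ∧ lam.1 ≠ 1} + 1 := by
      rw [Nat.card_eq_fintype_card, Nat.card_eq_fintype_card, ← Fintype.card_option]
      refine Fintype.card_le_of_injective
        (fun lam => if h : lam.1.1 = 1 then none else some ⟨lam.1, lam.2, h⟩) fun a b he => ?_
      simp only at he
      split_ifs at he with ha hb
      · exact Subtype.ext (Subtype.ext (ha.trans hb.symm))
      · exact Subtype.ext (Subtype.ext_iff.1 (Option.some.inj he) :)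
    omega

/-- A `w`-fixed induced character comes from a `U`-conjugate of a fixed linear character and kills
`C`. -/
theorem fixed_origin {w : L} (hw : w ∈ W₁) (hw1 : w ≠ 1) {lam : Lin H H₀} (hne : lam.1 ≠ 1)
    (hst : stab U lam = C) {ν : ↥(H ⊔ C) →* ℂˣ} (hν : Extends ν lam)
    (hfix : conjC K w (thetaFun (K := K) fun x => (ν x : ℂ)) = thetaFun (K := K) fun x => (ν x : ℂ)) :
    (∃ lam₀ : Lin H H₀, twist w lam₀ = lam₀ ∧ lam₀.1 ≠ 1 ∧ ∃ g ∈ U, twist g lam₀ = lam) ∧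
      ∀ c : ↥C, ν ⟨c, Subgroup.mem_sup_right c.2⟩ = 1 := by
  classical
  haveI := S.normal_subgroupOf S.C_le le_rfl
  obtain ⟨T, -, hT, hall⟩ := S.exists_fixed_family hD hw hw1
  have hker := S.thetaFun_ker_sup (A := ⊥) bot_le
    (fun v _ a ha => by rw [Subgroup.mem_bot.1 ha]; simp) S.C_le le_rfl ν hν
    (fun a ha => by
      have e : (⟨a, Subgroup.mem_sup_right (bot_le (a := C) ha)⟩ : ↥(H ⊔ C)) = 1 :=
        Subtype.ext (Subgroup.mem_bot.1 ha)
      exact (congrArg ν e).trans (map_one ν))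
  have hmem := hall _ (S.isIrr_thetaFun ν lam S.C_le le_rfl hν hst.le)
    (fun a ha => hker a (Subgroup.mem_sup_left ha)) hfix (S.thetaFun_not_ker ν S.C_le le_rfl hν hne)
  obtain ⟨-, -, -, -, lam₀, ν₀, hf, hn, hν₀, hC₀, he⟩ := hT _ hmem
  obtain ⟨g, hg⟩ := conj_of_indFun_eq ((H ⊔ C).subgroupOf K)
    (θ := fun x => (pull K ν x : ℂ)) (η := fun x => (pull K ν₀ x : ℂ))
    (Characters.Linear.linChar (pull K ν)).2 (Characters.Linear.linChar (pull K ν₀)).2 he
  refine ⟨⟨lam₀, hf, hn, ?_⟩, fun c => ?_⟩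
  · have ht := S.exists_twist ν₀ lam₀ S.C_le le_rfl hν₀ hν hg
    obtain ⟨h, hh, u, hu, hgu⟩ := S.exists_mul g.2
    rw [← hgu, twist_mul, S.twist_of_mem_H hh] at ht
    exact ⟨u, hu, ht⟩
  · have hcK : (c : L) ∈ K := S.U_le (S.C_le c.2)
    have hm : (⟨c, hcK⟩ : ↥K) ∈ (H ⊔ C).subgroupOf K :=
      Subgroup.mem_subgroupOf.2 (Subgroup.mem_sup_right c.2)
    have h1 := congrFun hg ⟨_, hm⟩
    rw [Clifford.Basic.conjC_apply] at h1
    have h2 : (g : L) * c * (g : L)⁻¹ ∈ H₀ ⊔ C :=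
      S.conj_mem_sup le_rfl (fun v hv a ha => S.C_conj_U hv ha) g.2 (Subgroup.mem_sup_right c.2)
    obtain ⟨h₀, hh₀, c', hc', he'⟩ := Subgroup.mem_sup_of_normal_left.1 h2
    have hle : H₀ ⊔ C ≤ H ⊔ C := sup_le_sup_right S.H₀_le C
    have e : (⟨(g : L) * c * (g : L)⁻¹, hle h2⟩ : ↥(H ⊔ C)) =
        ⟨h₀, Subgroup.mem_sup_left (S.H₀_le hh₀)⟩ * ⟨c', Subgroup.mem_sup_right hc'⟩ :=
      Subtype.ext he'.symm
    have h3 : ν₀ ⟨(g : L) * c * (g : L)⁻¹, hle h2⟩ = 1 := by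
      rw [e, map_mul, hν₀ ⟨h₀, S.H₀_le hh₀⟩, hC₀ ⟨c', hc'⟩, lam₀.2 _ hh₀, one_mul]
    exact Units.ext (h1.symm.trans (congrArg Units.val h3))

/-- A non-fixed induced character gives the irreducible member sought. -/
theorem irreducibleQU_of_not_fixed {w : L} {lam : Lin H H₀} (hne : lam.1 ≠ 1)
    (hst : stab U lam = C) {ν : ↥(H ⊔ C) →* ℂˣ} (hν : Extends ν lam)
    (hνC : ∀ (a : L) (ha : a ∈ ⁅C, C⁆),
      ν ⟨a, Subgroup.mem_sup_right (Subgroup.commutator_le_self C ha)⟩ = 1)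
    (hnf : conjC K w (thetaFun (K := K) fun x => (ν x : ℂ)) ≠ thetaFun (K := K) fun x => (ν x : ℂ)) :
    IrreducibleQU K H U H₀ C p q := by
  have hA : ∀ v ∈ U, ∀ a ∈ ⁅C, C⁆, v * a * v⁻¹ ∈ ⁅C, C⁆ := fun v hv a ha => by
    have hle : (⁅C, C⁆ : Subgroup L).map (MulAut.conj v).toMonoidHom ≤ ⁅C, C⁆ := by
      rw [Subgroup.map_commutator]
      have hC : C.map (MulAut.conj v).toMonoidHom ≤ C := by
        rintro _ ⟨c, hc, rfl⟩
        exact S.C_conj_U hv hc
      exact Subgroup.commutator_mono hC hC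
    exact hle ⟨a, ha, rfl⟩
  refine Or.inl ⟨_, ⟨_, S.isIrr_thetaFun ν lam S.C_le le_rfl hν hst.le,
    S.thetaFun_ker_sup (Subgroup.commutator_le_self C) hA S.C_le le_rfl ν hν hνC,
    S.thetaFun_not_ker ν S.C_le le_rfl hν hne, rfl⟩,
    isIrr_indFun_of_prime_index K (S.index_K ▸ S.prime_q)
      (S.isIrr_thetaFun ν lam S.C_le le_rfl hν hst.le) hnf,
    S.indFun_thetaFun_one ν S.C_le, ν, S.indFun_thetaFun S.C_le _⟩

/-- A character in no orbit of a fixed one gives the irreducible member sought. -/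
theorem irreducibleQU_of_not_orbit {w : L} (hw : w ∈ W₁) (hw1 : w ≠ 1) {lam : Lin H H₀}
    (hne : lam.1 ≠ 1) (hst : stab U lam = C)
    (hno : ∀ lam₀ : Lin H H₀, twist w lam₀ = lam₀ → lam₀.1 ≠ 1 → ∀ g ∈ U, twist g lam₀ ≠ lam) :
    IrreducibleQU K H U H₀ C p q := by
  obtain ⟨ν, hν, hν1⟩ := exists_ext (S.disjoint S.C_le) (fun x _ h hh => S.conj_mem_H x hh) lam.1
    (1 : ↥C →* ℂˣ) fun x hx h => S.fixes_of_mem_C hx lam h _ rfl
  refine S.irreducibleQU_of_not_fixed (w := w) hD hne hst hν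
    (fun a ha => hν1 ⟨a, Subgroup.commutator_le_self C ha⟩) fun hfix => ?_
  obtain ⟨⟨lam₀, h1, h2, g, hg, h3⟩, -⟩ := S.fixed_origin hD hw hw1 hne hst hν hfix
  exact hno lam₀ h1 h2 g hg h3

omit hD in
theorem odd_p : Odd p := by
  haveI : Finite L := inferInstance
  have h1 : p ∣ Nat.card L := (Dvd.intro_left _ (by rw [← pow_succ, Nat.sub_add_cancel
    S.prime_q.one_le]) : p ∣ p ^ q).trans (by
      rw [← S.H₀_relIndex]
      exact (Subgroup.relIndex_dvd_card H₀ H).trans (Subgroup.card_subgroup_dvd_card H))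
  exact S.odd.of_dvd_nat h1

omit hD in
/-- Restriction to the line commutes with the action of `U`. -/
theorem resTo_twist_congr {H₁ C₁ : Subgroup L} {a : ℕ} (D : LineData H U W₁ H₀ H₁ C₁ p a)
    {μ μ' : Lin H H₀} (he : resTo D.le_H μ = resTo D.le_H μ') {v : L} (hv : v ∈ U) :
    resTo D.le_H (twist v μ) = resTo D.le_H (twist v μ') := by
  refine Subtype.ext (MonoidHom.ext fun t => ?_)
  rw [resTo_apply, resTo_apply, twist_apply, twist_apply]
  exact DFunLike.congr_fun (congrArg Subtype.val he)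
    ⟨v * t * v⁻¹, (Subgroup.mem_normalizer_iff.1 (D.normalizes hv) t).1 t.2⟩

omit hD in
theorem resTo_twist_mul_C₁ {H₁ C₁ : Subgroup L} {a : ℕ} (D : LineData H U W₁ H₀ H₁ C₁ p a)
    (μ : Lin H H₀) (v : L) {c : L} (hc : c ∈ C₁) :
    resTo D.le_H (twist (v * c) μ) = resTo D.le_H (twist v μ) := by
  refine Subtype.ext (MonoidHom.ext fun t => ?_)
  rw [resTo_apply, resTo_apply, twist_mul, twist_apply]
  have h1 := (twist v μ).2 (⟨c * t * c⁻¹, S.conj_mem_H c (D.le_H t.2)⟩ * ⟨t, D.le_H t.2⟩⁻¹)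
    (((D.mem_C₁ c).1 hc).2 t t.2)
  rwa [map_mul, map_inv, mul_inv_eq_one] at h1

/-- In the line case some character with stabiliser `C` is in no orbit of a fixed one. -/
theorem exists_not_orbit {H₁ C₁ : Subgroup L} {a : ℕ} (D : LineData H U W₁ H₀ H₁ C₁ p a) {w : L}
    (hw : w ∈ W₁) (hw1 : w ≠ 1) : ∃ lam : Lin H H₀, lam.1 ≠ 1 ∧ stab U lam = C ∧
      ∀ lam₀ : Lin H H₀, twist w lam₀ = lam₀ → lam₀.1 ≠ 1 → ∀ g ∈ U, twist g lam₀ ≠ lam := by
  classical
  obtain ⟨hfin1, hcard1⟩ := card_lin (A := H₁) (B := H₀) (fun a _ b hb => S.H₀_normal.conj_mem b hb a)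
    (S.comm_mem_mono D.le_H)
  rw [D.relIndex] at hcard1
  haveI := Fintype.ofFinite (Lin H₁ H₀)
  haveI : Finite W₁ := inferInstance
  have hp3 : 2 * a ≤ p - 1 := by
    have hp := S.prime_p.two_le
    have hodda : Odd a := S.odd.of_dvd_nat (D.index_C₁ ▸ (Subgroup.relIndex_dvd_card C₁ U).trans
      (Subgroup.card_subgroup_dvd_card U))
    obtain ⟨k, hk⟩ := D.dvd
    rcases Nat.lt_or_ge k 2 with hk2 | hk2
    · interval_cases k
      · omega
      · obtain ⟨j, hj⟩ := S.odd_p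
        obtain ⟨i, hi⟩ := hodda
        omega
    · calc 2 * a ≤ k * a := Nat.mul_le_mul_right a hk2
        _ = p - 1 := by rw [hk, mul_comm]
  let one₁ : Lin H₁ H₀ := ⟨1, fun _ _ => rfl⟩
  obtain ⟨x, hx⟩ : ∃ x : Lin H₁ H₀, x ≠ one₁ := Fintype.exists_ne_of_one_lt_card (by
    rw [Fintype.card_eq_nat_card, hcard1]; exact S.prime_p.one_lt) one₁
  obtain ⟨μ₀, hμ₀⟩ := (S.lines_bijective D).2 fun _ => x
  haveI : Fintype (↥U ⧸ C₁.subgroupOf U) := Fintype.ofFinite _
  let O : Finset (Lin H₁ H₀) :=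
    insert one₁ (Finset.univ.image fun z : ↥U ⧸ C₁.subgroupOf U =>
      resTo D.le_H (twist ((z.out : ↥U) : L) μ₀))
  have hO : O.card < Fintype.card (Lin H₁ H₀) := by
    refine lt_of_le_of_lt ((Finset.card_insert_le _ _).trans (Nat.add_le_add_right Finset.card_image_le 1)) ?_
    rw [Finset.card_univ, Fintype.card_eq_nat_card, Fintype.card_eq_nat_card, hcard1,
      show Nat.card (↥U ⧸ C₁.subgroupOf U) = a from D.index_C₁]
    have := D.one_lt
    omega
  obtain ⟨y, hy⟩ : ∃ y, y ∉ O := by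
    by_contra hcon
    push Not at hcon
    exact absurd (Finset.eq_univ_iff_forall.2 hcon ▸ hO) (by rw [Finset.card_univ]; exact lt_irrefl _)
  obtain ⟨μ, hμ⟩ := (S.lines_bijective D).2 fun v => if (v : L) = w then y else x
  have hsupp : ∀ v : W₁, Setting.Supp D μ v := fun v h1 => by
    have h2 : (if (v : L) = w then y else x) = one₁ := by
      rw [← congrFun hμ v]; exact Subtype.ext h1
    split_ifs at h2
    · exact hy (h2 ▸ Finset.mem_insert_self _ _)
    · exact hx h2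
  refine ⟨μ, fun h1 => hsupp 1 ?_, le_antisymm (fun u hu =>
    S.mem_C_of_forall D hu.1 fun v => S.conj_mem_C₁ D (hsupp v) hu) (S.C_le_stab μ),
    fun lam₀ hf _ g hg ht => hy ?_⟩
  · refine MonoidHom.ext fun t => ?_
    rw [resTo_apply, twist_apply, h1]
    rfl
  · have hμ1 : resTo D.le_H μ = x := by
      have := congrFun hμ 1
      simp only [OneMemClass.coe_one, twist_one] at this
      rwa [if_neg (Ne.symm hw1)] at this
    have hμw : resTo D.le_H (twist w μ) = y := by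
      have := congrFun hμ ⟨w, hw⟩
      simpa using this
    have hμ₀1 : resTo D.le_H μ₀ = x := by
      have := congrFun hμ₀ 1
      simpa [twist_one] using this
    set v := g⁻¹ * (w⁻¹ * g * w)
    have hv : v ∈ U := U.mul_mem (U.inv_mem hg) (by simpa using S.conj_mem_U (W₁.inv_mem hw) hg)
    have h1 : twist v μ = twist w μ := by
      have e : g * v = w⁻¹ * g * w := by simp [v, mul_assoc]
      have e2 : g * w = w * (w⁻¹ * g * w) := by group
      rw [← ht, ← twist_mul, ← twist_mul, e, e2, twist_mul w (w⁻¹ * g * w), hf]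
    rw [← hμw, ← h1, S.resTo_twist_congr D (hμ1.trans hμ₀1.symm) hv]
    refine Finset.mem_insert_of_mem (Finset.mem_image.2
      ⟨((⟨v, hv⟩ : ↥U) : ↥U ⧸ C₁.subgroupOf U), Finset.mem_univ _, ?_⟩)
    obtain ⟨c, hc⟩ := QuotientGroup.mk_out_eq_mul (C₁.subgroupOf U) ⟨v, hv⟩
    rw [hc, Subgroup.coe_mul]
    exact S.resTo_twist_mul_C₁ D μ₀ v (Subgroup.mem_subgroupOf.1 c.2)

omit hD in
/-- In the Galois case with `C = 1` the group `U` is cyclic and semiregular on `H / H₀`. -/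
theorem galois_cyclic (hgal : IsGalois H U H₀) (hC : C = ⊥) : IsCyclic U ∧
    ∀ x ∈ U, x ≠ 1 → ∀ h ∈ H, x * h * x⁻¹ * h⁻¹ ∈ H₀ → h ∈ H₀ := by
  classical
  haveI hBn : (H₀.subgroupOf H).Normal := Subgroup.Normal.subgroupOf inferInstance H
  have hcommU : ∀ a b : ↥U, a * b = b * a := fun a b => by
    have h1 := S.quot_comm a a.2 b b.2
    rw [hC, Subgroup.mem_bot, mul_inv_eq_one, mul_inv_eq_iff_eq_mul] at h1
    exact Subtype.ext h1
  have hsemi : ∀ x ∈ U, x ≠ 1 → ∀ h ∈ H, x * h * x⁻¹ * h⁻¹ ∈ H₀ → h ∈ H₀ := by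
    intro x hx hx1 h hh hfix
    set π := QuotientGroup.mk' H₀
    have hker : ∀ {z : L}, π z = 1 ↔ z ∈ H₀ := fun {z} => QuotientGroup.eq_one_iff z
    let N : Subgroup L := H ⊓ (Subgroup.centralizer {π x}).comap π
    have hN : ∀ z, z ∈ N ↔ z ∈ H ∧ x * z * x⁻¹ * z⁻¹ ∈ H₀ := by
      intro z
      have e : π (x * z * x⁻¹ * z⁻¹) = 1 ↔ π z * π x = π x * π z := by
        rw [map_mul, map_inv, mul_inv_eq_one, map_mul, map_mul, map_inv, mul_inv_eq_iff_eq_mul]
        exact eq_comm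
      rw [← hker, e]
      exact and_congr Iff.rfl Subgroup.mem_centralizer_singleton_iff
    have hH₀N : H₀ ≤ N := fun z hz => (hN z).2 ⟨S.H₀_le hz,
      H₀.mul_mem (S.H₀_normal.conj_mem z hz x) (H₀.inv_mem hz)⟩
    have h1 : ∀ v ∈ U, ∀ z ∈ N, v * z * v⁻¹ ∈ N := by
      intro v hv z hz
      obtain ⟨hzH, hz'⟩ := (hN z).1 hz
      refine (hN _).2 ⟨S.conj_mem_H v hzH, ?_⟩
      have hxv : x * v = v * x := congrArg Subtype.val (hcommU ⟨x, hx⟩ ⟨v, hv⟩)
      have e : x * (v * z * v⁻¹) * x⁻¹ * (v * z * v⁻¹)⁻¹ = v * (x * z * x⁻¹ * z⁻¹) * v⁻¹ := by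
        calc x * (v * z * v⁻¹) * x⁻¹ * (v * z * v⁻¹)⁻¹
            = (x * v) * z * (x * v)⁻¹ * (v * z⁻¹ * v⁻¹) := by group
          _ = _ := by rw [hxv]; group
      rw [e]
      exact S.H₀_normal.conj_mem _ hz' v
    have hUN : U ≤ Subgroup.normalizer (N : Set L) := fun v hv => by
      rw [Subgroup.mem_normalizer_iff]
      refine fun z => ⟨h1 v hv z, fun hz => ?_⟩
      simpa [mul_assoc] using h1 v⁻¹ (U.inv_mem hv) _ hz
    rcases hgal N hH₀N (fun z hz => ((hN z).1 hz).1) hUN with e | e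
    · exact e ▸ (hN h).2 ⟨hh, hfix⟩
    · refine absurd (Subgroup.mem_bot.1 (hC ▸ (S.mem_C x).2 ⟨hx, fun z hz => ?_⟩)) hx1
      exact ((hN z).1 (e.symm ▸ hz)).2
  refine ⟨?_, hsemi⟩
  let cg : CommGroup (↥H ⧸ H₀.subgroupOf H) :=
    { (inferInstance : Group (↥H ⧸ H₀.subgroupOf H)) with
      mul_comm := fun x y => by
        induction x using QuotientGroup.induction_on with
        | _ a => induction y using QuotientGroup.induction_on with
          | _ b =>
            rw [← QuotientGroup.mk_mul, ← QuotientGroup.mk_mul, QuotientGroup.eq]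
            have h := S.commutator_mem _ (H.inv_mem b.2) _ (H.inv_mem a.2)
            rw [Subgroup.mem_subgroupOf]
            convert h using 1
            simp [mul_assoc] }
  letI := cg
  have hmap : ∀ g : ↥U, H₀.subgroupOf H ≤
      (H₀.subgroupOf H).comap (MulAut.conjNormal (g : L) : MulAut ↥H).toMonoidHom := fun g z hz => by
    rw [Subgroup.mem_comap, Subgroup.mem_subgroupOf, MulEquiv.coe_toMonoidHom,
      MulAut.conjNormal_apply]
    exact S.H₀_normal.conj_mem _ (Subgroup.mem_subgroupOf.1 hz) _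
  let ρ : ↥U →* AddMonoid.End (Additive (↥H ⧸ H₀.subgroupOf H)) :=
    { toFun := fun g => MonoidHom.toAdditive
        (QuotientGroup.map _ _ (MulAut.conjNormal (g : L) : MulAut ↥H).toMonoidHom (hmap g))
      map_one' := AddMonoidHom.ext fun x => by
        induction x with
        | _ x => induction x using QuotientGroup.induction_on with
          | _ a =>
            show Additive.ofMul (QuotientGroup.mk ((MulAut.conjNormal ((1 : ↥U) : L) : MulAut ↥H) a)) = _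
            rw [OneMemClass.coe_one, map_one]
            rfl
      map_mul' := fun g g' => AddMonoidHom.ext fun x => by
        induction x with
        | _ x => induction x using QuotientGroup.induction_on with
          | _ a =>
            show Additive.ofMul (QuotientGroup.mk ((MulAut.conjNormal ((g * g' : ↥U) : L) : MulAut ↥H) a)) = _
            rw [Subgroup.coe_mul, map_mul]
            rfl }
  haveI : Nontrivial (Additive (↥H ⧸ H₀.subgroupOf H)) := by
    rw [← Finite.one_lt_card_iff_nontrivial]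
    show 1 < Nat.card (↥H ⧸ H₀.subgroupOf H)
    rw [show Nat.card (↥H ⧸ H₀.subgroupOf H) = p ^ q from S.H₀_relIndex]
    exact Nat.one_lt_pow S.prime_q.ne_zero S.prime_p.one_lt
  have hirr : ∀ B : AddSubgroup (Additive (↥H ⧸ H₀.subgroupOf H)),
      (∀ v : ↥U, ∀ x ∈ B, ρ v x ∈ B) → B = ⊥ ∨ B = ⊤ := by
    intro B hB
    set π := QuotientGroup.mk' (H₀.subgroupOf H)
    let N : Subgroup L := ((AddSubgroup.toSubgroup' B).comap π).map H.subtype
    have hN : ∀ z : ↥H, (z : L) ∈ N ↔ Additive.ofMul (π z) ∈ B := fun z =>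
      ⟨fun ⟨y, hy, e⟩ => (show y = z from Subtype.ext e) ▸ hy, fun hz => ⟨z, hz, rfl⟩⟩
    have hle : N ≤ H := Subgroup.map_subtype_le _
    have hH₀N : H₀ ≤ N := fun z hz => (hN ⟨z, S.H₀_le hz⟩).2 (by
      rw [show π ⟨z, S.H₀_le hz⟩ = 1 from (QuotientGroup.eq_one_iff _).2 (Subgroup.mem_subgroupOf.2 hz)]
      exact B.zero_mem)
    have h1 : ∀ v ∈ U, ∀ z ∈ N, v * z * v⁻¹ ∈ N := fun v hv z hz => by
      have h := hB ⟨v, hv⟩ _ ((hN ⟨z, hle hz⟩).1 hz)
      refine (hN ⟨v * z * v⁻¹, S.conj_mem_H v (hle hz)⟩).2 ?_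
      rw [show (⟨v * z * v⁻¹, S.conj_mem_H v (hle hz)⟩ : ↥H) =
        (MulAut.conjNormal v : MulAut ↥H) ⟨z, hle hz⟩ from Subtype.ext (MulAut.conjNormal_apply (H := H) v ⟨z, hle hz⟩).symm]
      exact h
    have hUN : U ≤ Subgroup.normalizer (N : Set L) := fun v hv => by
      rw [Subgroup.mem_normalizer_iff]
      refine fun z => ⟨h1 v hv z, fun hz => ?_⟩
      simpa [mul_assoc] using h1 v⁻¹ (U.inv_mem hv) _ hz
    rcases hgal N hH₀N hle hUN with e | e
    · left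
      rw [AddSubgroup.eq_bot_iff_forall]
      intro x hx
      obtain ⟨z, hz⟩ := QuotientGroup.mk'_surjective (H₀.subgroupOf H) x.toMul
      have h2 : (z : L) ∈ H₀ := e ▸ (hN z).2 (by rw [hz]; exact hx)
      show x = Additive.ofMul 1
      rw [← (QuotientGroup.eq_one_iff z).2 (Subgroup.mem_subgroupOf.2 h2)]
      exact congrArg Additive.ofMul hz.symm
    · right
      rw [AddSubgroup.eq_top_iff']
      intro x
      obtain ⟨z, hz⟩ := QuotientGroup.mk'_surjective (H₀.subgroupOf H) x.toMul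
      have h2 := (hN z).1 (e.symm ▸ z.2)
      rwa [hz] at h2
  have hR := ExtPrim.EndField.genRing_isField ρ hcommU hirr
  letI := hR.toField
  let ι : ↥U →* ExtPrim.EndField.genRing ρ :=
    { toFun := fun w => ⟨ρ w, Subring.subset_closure ⟨w, rfl⟩⟩
      map_one' := Subtype.ext (map_one ρ)
      map_mul' := fun a b => Subtype.ext (map_mul ρ a b) }
  refine isCyclic_of_injective_ringHom ι ((injective_iff_map_eq_one ι).2 fun g hg => Subtype.ext ?_)
  rw [Subgroup.coe_one]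
  refine Subgroup.mem_bot.1 (hC ▸ (S.mem_C g).2 ⟨g.2, fun h hh => ?_⟩)
  have h1 : ρ g (Additive.ofMul (QuotientGroup.mk (⟨h, hh⟩ : ↥H))) =
      Additive.ofMul (QuotientGroup.mk (⟨h, hh⟩ : ↥H)) := by
    rw [show ρ g = 1 from congrArg Subtype.val hg]
    rfl
  have h2 := QuotientGroup.eq.1 (Additive.ofMul.injective h1)
  rw [Subgroup.mem_subgroupOf] at h2
  have h3 := S.H₀_normal.conj_mem _ (H₀.inv_mem h2) h
  simpa [MulAut.conjNormal_apply, mul_assoc] using h3

end Setting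

/-- (9.10). -/
theorem irreducibleQU (hD : Dichotomy H U W₁ H₀ p) : IrreducibleQU K H U H₀ C p q := by
  classical
  obtain ⟨w, hw, hw1⟩ := S.exists_W₁
  by_cases hno : ∃ lam : Lin H H₀, lam.1 ≠ 1 ∧ stab U lam = C ∧
      ∀ lam₀ : Lin H H₀, twist w lam₀ = lam₀ → lam₀.1 ≠ 1 → ∀ g ∈ U, twist g lam₀ ≠ lam
  · obtain ⟨lam, h1, h2, h3⟩ := hno
    exact S.irreducibleQU_of_not_orbit hD hw hw1 h1 h2 h3
  rcases id hD with hgal | ⟨H₁, C₁, a, D⟩
  swap
  · exact absurd (S.exists_not_orbit hD D hw hw1) hno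
  obtain ⟨hfinL, hcardL⟩ := S.card_Lin
  haveI := Fintype.ofFinite (Lin H H₀)
  have hp2 := S.prime_p.two_le
  have hcardF := S.card_fixed_ne hD hw hw1
  by_cases hCC : ⁅C, C⁆ = C
  swap
  · obtain ⟨hfinC, hcardC⟩ := card_lin (A := C) (B := ⁅C, C⁆)
      (fun a ha b hb => C.commutator_le_self |>.trans le_rfl |> fun hle => by
        have h := Subgroup.commutator_mem_commutator ha (hle hb)
        have := (⁅C, C⁆).mul_mem h hb
        rwa [commutatorElement_def, inv_mul_cancel_right] at this)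
      (fun x hx y hy => by simpa [commutatorElement_def] using Subgroup.commutator_mem_commutator hx hy)
    obtain ⟨⟨lam, hf, hne⟩⟩ : Nonempty {lam : Lin H H₀ // twist w lam = lam ∧ lam.1 ≠ 1} :=
      (Nat.card_pos_iff.1 (by omega)).1
    have h1 : 1 < Nat.card (Lin C ⁅C, C⁆) := by
      rw [hcardC]
      refine (Nat.two_le_iff _).2 ⟨Subgroup.index_ne_zero_of_finite, fun h => hCC ?_⟩
      exact le_antisymm (Subgroup.commutator_le_self C) (Subgroup.relIndex_eq_one.1 h)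
    haveI := Fintype.ofFinite (Lin C ⁅C, C⁆)
    obtain ⟨μ, hμ⟩ := Fintype.exists_ne_of_one_lt_card
      (Fintype.card_eq_nat_card (α := Lin C ⁅C, C⁆) ▸ h1) ⟨1, fun _ _ => rfl⟩
    obtain ⟨ν, hν, hν1⟩ := exists_ext (S.disjoint S.C_le) (fun x _ h hh => S.conj_mem_H x hh) lam.1
      μ.1 fun x hx h => S.fixes_of_mem_C hx lam h _ rfl
    have hst := S.stab_fixed hD hw hw1 hne hf
    refine S.irreducibleQU_of_not_fixed (w := w) hD hne hst hν
      (fun a ha => (hν1 ⟨a, Subgroup.commutator_le_self C ha⟩).trans (μ.2 _ ha)) fun hfix => hμ ?_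
    exact Subtype.ext (MonoidHom.ext fun c =>
      (hν1 c).symm.trans ((S.fixed_origin hD hw hw1 hne hst hν hfix).2 c))
  have hC : C = ⊥ := by
    by_contra hne
    haveI : Group.IsSolvable ↥K := S.solvable
    have hle : C ≤ K := S.C_le.trans S.U_le
    have h1 := Group.IsSolvable.commutator_lt_of_ne_bot (H := C.subgroupOf K) (by
      rw [ne_eq, Subgroup.subgroupOf_eq_bot, disjoint_iff, inf_of_le_left hle]
      exact hne)
    have h2 : (⁅C.subgroupOf K, C.subgroupOf K⁆).map K.subtype = C := by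
      rw [Subgroup.map_commutator, Subgroup.map_subgroupOf_eq_of_le hle, hCC]
    exact h1.ne (Subgroup.map_injective K.subtype_injective
      (h2.trans (Subgroup.map_subgroupOf_eq_of_le hle).symm))
  obtain ⟨hcyc, hsemi⟩ := S.galois_cyclic hgal hC
  refine Or.inr ⟨hgal, hC, hcyc, ?_, hsemi⟩
  have hbij : Function.Bijective
      (fun z : ↥U × {lam : Lin H H₀ // twist w lam = lam ∧ lam.1 ≠ 1} =>
        (⟨twist (z.1 : L) z.2.1, fun e => z.2.2.2 ((twist_eq_one_iff _ _).1 e)⟩ :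
          {lam : Lin H H₀ // lam.1 ≠ 1})) := by
    refine ⟨fun a b e => ?_, fun μ => ?_⟩
    · have e' : twist (a.1 : L) a.2.1 = twist (b.1 : L) b.2.1 := congrArg Subtype.val e
      have h := congrArg (twist (b.1 : L)⁻¹) e'
      rw [← twist_mul, ← twist_mul, mul_inv_cancel, twist_one] at h
      obtain ⟨h1, h2⟩ := S.fixed_twist_eq hD hw hw1 b.2.2.2 b.2.2.1 a.2.2.1
        (U.mul_mem a.1.2 (U.inv_mem b.1.2)) h
      rw [hC, Subgroup.mem_bot, mul_inv_eq_one] at h1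
      exact Prod.ext (Subtype.ext h1) (Subtype.ext h2.symm)
    · push Not at hno
      obtain ⟨lam₀, h1, h2, g, hg, h3⟩ := hno μ.1 μ.2 (S.galois_stab_eq hgal μ.2)
      exact ⟨(⟨g, hg⟩, ⟨lam₀, h1, h2⟩), Subtype.ext h3⟩
  have h1 := Nat.card_eq_of_bijective _ hbij
  rw [Nat.card_prod, hcardF] at h1
  rw [h1, ← hcardL, Nat.card_eq_fintype_card, Nat.card_eq_fintype_card,
    Fintype.card_subtype_compl (fun lam : Lin H H₀ => lam.1 = 1)]
  congr 1
  rw [Fintype.card_eq_one_iff]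
  exact ⟨⟨⟨1, fun _ _ => rfl⟩, rfl⟩, fun z => Subtype.ext (Subtype.ext z.2)⟩

end Cfsg.Agent.Lib.OddOrder.PF9Char
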