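import Cfsg.Agent.Lib.OddOrder.PF9Basic

/-!
# Peterfalvi, section 9: the lines of `H / H₀` and the characters of `H / H₀`
-/

set_option autoImplicit false
set_option linter.style.haveILetI false
set_option linter.unusedSectionVars false

namespace Cfsg.Agent.Lib.OddOrder.PF9Char

open scoped Pointwise

universe u

variable {L : Type u} [Group L] [Finite L]

/-- The number of linear characters of an abelian section. -/
theorem card_lin {A B : Subgroup L} (hBA : ∀ a ∈ A, ∀ b ∈ B, a * b * a⁻¹ ∈ B)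
    (hcomm : ∀ x ∈ A, ∀ y ∈ A, x * y * x⁻¹ * y⁻¹ ∈ B) :
    Finite (Lin A B) ∧ Nat.card (Lin A B) = B.relIndex A := by
  classical
  set B' := B.subgroupOf A with hB'
  haveI hn : B'.Normal := ⟨fun n hn g => hBA g g.2 n hn⟩
  let cg : CommGroup (↥A ⧸ B') :=
    { (inferInstance : Group (↥A ⧸ B')) with
      mul_comm := fun x y => by
        induction x using QuotientGroup.induction_on with
        | _ a => induction y using QuotientGroup.induction_on with
          | _ b =>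
            rw [← QuotientGroup.mk_mul, ← QuotientGroup.mk_mul, QuotientGroup.eq]
            have h := hcomm _ (A.inv_mem b.2) _ (A.inv_mem a.2)
            show ((a * b)⁻¹ * (b * a) : ↥A) ∈ B'
            rw [hB', Subgroup.mem_subgroupOf]
            convert h using 1
            simp [mul_assoc] }
  let e : Lin A B ≃ (↥A ⧸ B' →* ℂˣ) :=
    { toFun := fun lam => QuotientGroup.lift B' lam.1 fun x hx => lam.2 x hx
      invFun := fun μ => ⟨μ.comp (QuotientGroup.mk' B'), fun x hx => by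
        show μ (x : ↥A ⧸ B') = 1
        rw [(QuotientGroup.eq_one_iff x).2 hx, map_one]⟩
      left_inv := fun lam => Subtype.ext (MonoidHom.ext fun x => rfl)
      right_inv := fun μ => MonoidHom.ext fun x => by
        induction x using QuotientGroup.induction_on with
        | _ a => rfl }
  have hcard : Nat.card (↥A ⧸ B' →* ℂˣ) = B'.index := by
    rw [CommGroup.card_monoidHom_of_hasEnoughRootsOfUnity (↥A ⧸ B') ℂ, Subgroup.index_eq_card]
  have hfin : Nat.card (↥A ⧸ B' →* ℂˣ) ≠ 0 := by rw [hcard]; exact Subgroup.index_ne_zero_of_finite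
  haveI := Nat.finite_of_card_ne_zero hfin
  exact ⟨Finite.of_equiv _ e.symm, (Nat.card_congr e).trans hcard⟩

section Twist

variable {H H₀ : Subgroup L} [H.Normal] [H₀.Normal]

/-- Conjugation acting on the linear characters of `H / H₀`. -/
def twist (g : L) (lam : Lin H H₀) : Lin H H₀ :=
  ⟨lam.1.comp (MulAut.conjNormal g : MulAut ↥H).toMonoidHom, fun x hx => lam.2 _ (by
    rw [MulEquiv.coe_toMonoidHom, MulAut.conjNormal_apply]
    exact ‹H₀.Normal›.conj_mem _ hx g)⟩

theorem twist_apply (g : L) (lam : Lin H H₀) (x : ↥H) :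
    (twist g lam).1 x = lam.1 ⟨g * x * g⁻¹, ‹H.Normal›.conj_mem x x.2 g⟩ :=
  congrArg lam.1 (Subtype.ext (MulAut.conjNormal_apply g x))

theorem twist_mul (g k : L) (lam : Lin H H₀) : twist (g * k) lam = twist k (twist g lam) :=
  Subtype.ext (MonoidHom.ext fun x => by
    simp only [twist_apply]
    exact congrArg lam.1 (Subtype.ext (by simp [mul_assoc])))

theorem twist_one (lam : Lin H H₀) : twist (1 : L) lam = lam :=
  Subtype.ext (MonoidHom.ext fun x => by
    simp only [twist_apply]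
    exact congrArg lam.1 (Subtype.ext (by simp)))

theorem twist_eq_iff {g : L} {lam : Lin H H₀} : twist g lam = lam ↔ Fixes g lam := by
  refine ⟨fun h x y he => ?_, fun h => Subtype.ext (MonoidHom.ext fun x => ?_)⟩
  · conv_rhs => rw [← h, twist_apply]
    exact congrArg lam.1 (Subtype.ext he)
  · rw [twist_apply]
    exact h x _ rfl

theorem twist_injective (g : L) : Function.Injective (twist (H := H) (H₀ := H₀) g) := fun a b h => by
  have := congrArg (twist g⁻¹) h
  rwa [← twist_mul, ← twist_mul, mul_inv_cancel, twist_one, twist_one] at this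

theorem twist_eq_one_iff (g : L) (lam : Lin H H₀) : (twist g lam).1 = 1 ↔ lam.1 = 1 := by
  refine ⟨fun h => MonoidHom.ext fun x => ?_, fun h => MonoidHom.ext fun x => by
    rw [twist_apply, h]; rfl⟩
  have h' := DFunLike.congr_fun h ⟨g⁻¹ * x * g, by simpa using ‹H.Normal›.conj_mem x x.2 g⁻¹⟩
  rw [twist_apply] at h'
  refine Eq.trans ?_ h'
  exact congrArg lam.1 (Subtype.ext (by simp [mul_assoc]))

/-- The stabiliser in `U` of a linear character of `H / H₀`. -/
def stab (U : Subgroup L) (lam : Lin H H₀) : Subgroup L where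
  carrier := {g | g ∈ U ∧ twist g lam = lam}
  one_mem' := ⟨U.one_mem, twist_one lam⟩
  mul_mem' := fun {a b} ha hb => ⟨U.mul_mem ha.1 hb.1, by rw [twist_mul, ha.2, hb.2]⟩
  inv_mem' := fun {a} ha => ⟨U.inv_mem ha.1, by
    conv_lhs => rw [← ha.2]
    rw [← twist_mul, mul_inv_cancel, twist_one]⟩

theorem mem_stab {U : Subgroup L} {lam : Lin H H₀} {g : L} :
    g ∈ stab U lam ↔ g ∈ U ∧ twist g lam = lam := Iff.rfl

theorem stab_le {U : Subgroup L} (lam : Lin H H₀) : stab U lam ≤ U := fun _ h => h.1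

/-- The restriction of a linear character to a subgroup of `H`. -/
def resTo {M : Subgroup L} (hM : M ≤ H) (lam : Lin H H₀) : Lin M H₀ :=
  ⟨lam.1.comp (Subgroup.inclusion hM), fun x hx => lam.2 (Subgroup.inclusion hM x) hx⟩

theorem resTo_apply {M : Subgroup L} (hM : M ≤ H) (lam : Lin H H₀) (x : ↥M) :
    (resTo hM lam).1 x = lam.1 ⟨x, hM x.2⟩ := rfl

end Twist

section Setting

variable {K H U W₁ W₂ H₀ C : Subgroup L} {p q : ℕ} [H.Normal] [H₀.Normal]
  (S : Setting K H U W₁ W₂ H₀ C p q)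

include S

namespace Setting

theorem card_Lin : Finite (Lin H H₀) ∧ Nat.card (Lin H H₀) = p ^ q := by
  have h := card_lin (A := H) (B := H₀) (fun a _ b hb => S.H₀_normal.conj_mem b hb a) S.commutator_mem
  rwa [S.H₀_relIndex] at h

theorem C_le_stab (lam : Lin H H₀) : C ≤ stab U lam := fun _ hc =>
  ⟨S.C_le hc, twist_eq_iff.2 (S.fixes_of_mem_C hc lam)⟩

theorem stab_conj_U {x : L} (hx : x ∈ U) (lam : Lin H H₀) {s : L} (hs : s ∈ stab U lam) :
    x * s * x⁻¹ ∈ stab U lam := by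
  have h := (stab U lam).mul_mem (S.C_le_stab lam (S.quot_comm x hx s hs.1)) hs
  rwa [inv_mul_cancel_right] at h

theorem twist_of_mem_H {h : L} (hh : h ∈ H) (lam : Lin H H₀) : twist h lam = lam :=
  twist_eq_iff.2 (S.fixes_of_mem hh lam)

theorem galois_stab_eq (hgal : IsGalois H U H₀) {lam : Lin H H₀} (hne : lam.1 ≠ 1) :
    stab U lam = C :=
  le_antisymm (fun _ hu => S.galois_stab hgal hne hu.1 (twist_eq_iff.1 hu.2)) (S.C_le_stab lam)

end Setting

variable {H₁ C₁ : Subgroup L} {a : ℕ} (D : LineData H U W₁ H₀ H₁ C₁ p a)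

include D

namespace Setting

omit S in
theorem _root_.Cfsg.Agent.Lib.OddOrder.PF9Char.LineData.C₁_le : C₁ ≤ U := fun u hu => ((D.mem_C₁ u).1 hu).1

theorem C_le_C₁ : C ≤ C₁ := fun c hc =>
  (D.mem_C₁ c).2 ⟨S.C_le hc, fun h hh => ((S.mem_C c).1 hc).2 h (D.le_H hh)⟩

theorem C₁_conj_U {x : L} (hx : x ∈ U) {c : L} (hc : c ∈ C₁) : x * c * x⁻¹ ∈ C₁ := by
  have h := C₁.mul_mem (S.C_le_C₁ D (S.quot_comm x hx c (D.C₁_le hc))) hc
  rwa [inv_mul_cancel_right] at h

/-- A non-trivial restriction to the line pins the stabiliser inside `C₁`. -/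
theorem mem_C₁_of_fixes {lam : Lin H H₀} (hne : (resTo D.le_H lam).1 ≠ 1) {u : L}
    (hu : u ∈ stab U lam) : u ∈ C₁ := by
  by_contra huC
  obtain ⟨x₀, hx₀, hbad⟩ : ∃ x₀ ∈ H₁, u * x₀ * u⁻¹ * x₀⁻¹ ∉ H₀ := by
    by_contra hcon
    push Not at hcon
    exact huC ((D.mem_C₁ u).2 ⟨hu.1, hcon⟩)
  refine hne (MonoidHom.ext fun x => ?_)
  refine eq_one_on D.H₀_le D.le_H (fun y hy => (Subgroup.mem_normalizer_iff.1 (D.normalizes hu.1) y).1 hy)
    (S.comm_mem_mono D.le_H) (fun y hy hfix => ?_) (twist_eq_iff.1 hu.2) ⟨x, D.le_H x.2⟩ x.2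
  by_contra hy0
  -- the fixed cosets form a subgroup between `H₀` and `H₁`
  set π := QuotientGroup.mk' H₀
  have hker : ∀ {z : L}, π z = 1 ↔ z ∈ H₀ := fun {z} => QuotientGroup.eq_one_iff z
  let N : Subgroup L := H₁ ⊓ (Subgroup.centralizer {π u}).comap π
  have hN : ∀ h, h ∈ N ↔ h ∈ H₁ ∧ u * h * u⁻¹ * h⁻¹ ∈ H₀ := by
    intro h
    have e : π (u * h * u⁻¹ * h⁻¹) = 1 ↔ π h * π u = π u * π h := by
      rw [map_mul, map_inv, mul_inv_eq_one, map_mul, map_mul, map_inv, mul_inv_eq_iff_eq_mul]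
      exact eq_comm
    rw [← hker, e]
    exact and_congr Iff.rfl Subgroup.mem_centralizer_singleton_iff
  have hH₀N : H₀ ≤ N := fun h hh => (hN h).2 ⟨D.H₀_le hh,
    H₀.mul_mem (S.H₀_normal.conj_mem h hh u) (H₀.inv_mem hh)⟩
  have hNle : N ≤ H₁ := fun h hh => ((hN h).1 hh).1
  have hmul := Subgroup.relIndex_mul_relIndex H₀ N H₁ hH₀N hNle
  rw [D.relIndex] at hmul
  rcases (Nat.dvd_prime S.prime_p).1 (Dvd.intro _ hmul) with h1 | h1
  · exact hy0 (Subgroup.relIndex_eq_one.1 h1 ((hN y).2 ⟨hy, hfix⟩))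
  · rw [h1] at hmul
    have : N.relIndex H₁ = 1 := (Nat.mul_eq_left S.prime_p.ne_zero).1 hmul
    exact hbad ((hN x₀).1 (Subgroup.relIndex_eq_one.1 this hx₀)).2

/-- `lam` is non-trivial on the line of `w`. -/
def Supp (lam : Lin H H₀) (w : W₁) : Prop := (resTo D.le_H (twist (w : L) lam)).1 ≠ 1

theorem conj_mem_C₁ {lam : Lin H H₀} {w : W₁} (hw : Supp D lam w) {u : L} (hu : u ∈ stab U lam) :
    (w : L)⁻¹ * u * w ∈ C₁ := by
  refine S.mem_C₁_of_fixes D hw ⟨?_, ?_⟩
  · simpa using S.conj_mem_U (W₁.inv_mem w.2) hu.1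
  · rw [twist_mul, twist_mul, ← twist_mul (w : L) (w : L)⁻¹, mul_inv_cancel, twist_one, hu.2]

omit S in
theorem _root_.Cfsg.Agent.Lib.OddOrder.PF9Char.LineData.mem_of_lines (N : Subgroup L) (h : ∀ w : W₁, ∀ x ∈ H₁, (w : L) * x * (w : L)⁻¹ ∈ N) :
    H ≤ N := by
  rw [← D.generates, iSup_le_iff]
  rintro w _ ⟨x, hx, rfl⟩
  exact h w x hx

/-- An element of `U` lying in every conjugate of `C₁` lies in `C`. -/
theorem mem_C_of_forall {u : L} (hu : u ∈ U) (h : ∀ w : W₁, (w : L)⁻¹ * u * w ∈ C₁) : u ∈ C := by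
  refine (S.mem_C u).2 ⟨hu, fun x hx => ?_⟩
  set π := QuotientGroup.mk' H₀
  have hker : ∀ {z : L}, π z = 1 ↔ z ∈ H₀ := fun {z} => QuotientGroup.eq_one_iff z
  let N : Subgroup L := (Subgroup.centralizer {π u}).comap π
  have hN : ∀ z, z ∈ N ↔ u * z * u⁻¹ * z⁻¹ ∈ H₀ := by
    intro z
    have e : π (u * z * u⁻¹ * z⁻¹) = 1 ↔ π z * π u = π u * π z := by
      rw [map_mul, map_inv, mul_inv_eq_one, map_mul, map_mul, map_inv, mul_inv_eq_iff_eq_mul]
      exact eq_comm
    rw [← hker, e]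
    exact Subgroup.mem_centralizer_singleton_iff
  refine (hN x).1 (D.mem_of_lines N (fun w y hy => (hN _).2 ?_) hx)
  have h1 := S.H₀_normal.conj_mem _ (((D.mem_C₁ _).1 (h w)).2 y hy) w
  convert h1 using 1
  group

theorem stab_of_forall {lam : Lin H H₀} {u : L} (hu : u ∈ U)
    (h : ∀ w : W₁, Supp D lam w → (w : L)⁻¹ * u * w ∈ C₁) : u ∈ stab U lam := by
  refine ⟨hu, Subtype.ext (MonoidHom.ext fun x => ?_)⟩
  let N : Subgroup L := ((twist u lam).1.eqLocus lam.1).map H.subtype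
  suffices hx : (x : L) ∈ N by
    obtain ⟨y, hy, he⟩ := hx
    rw [show x = y from Subtype.ext he.symm]
    exact hy
  refine D.mem_of_lines N (fun w y hy => ?_) x.2
  set z : ↥H := ⟨(w : L) * y * (w : L)⁻¹, S.conj_mem_H w (D.le_H hy)⟩
  refine ⟨z, ?_, rfl⟩
  show (twist u lam).1 z = lam.1 z
  rw [twist_apply]
  have key : ∀ y' : ↥H₁, lam.1 ⟨(w : L) * y' * (w : L)⁻¹, S.conj_mem_H w (D.le_H y'.2)⟩ =
      (resTo D.le_H (twist (w : L) lam)).1 y' := fun y' => by rw [resTo_apply, twist_apply]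
  by_cases hs : Supp D lam w
  · have h1 := ((D.mem_C₁ _).1 (h w hs)).2 y hy
    have h2 := S.H₀_normal.conj_mem _ h1 w
    have h3 := lam.2 (⟨u * z * u⁻¹, S.conj_mem_H u z.2⟩ * z⁻¹) (by convert h2 using 1; simp [z]; group)
    rwa [map_mul, map_inv, mul_inv_eq_one] at h3
  · set v := (w : L)⁻¹ * u * w
    have hv : v * y * v⁻¹ ∈ H₁ := (Subgroup.mem_normalizer_iff.1 (D.normalizes
      (by simpa [v] using S.conj_mem_U (W₁.inv_mem w.2) hu)) y).1 hy
    have e1 : (⟨u * z * u⁻¹, S.conj_mem_H u z.2⟩ : ↥H) =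
        ⟨(w : L) * (v * y * v⁻¹) * (w : L)⁻¹, S.conj_mem_H w (D.le_H hv)⟩ :=
      Subtype.ext (by simp [z, v, mul_assoc])
    unfold Supp at hs
    rw [not_not] at hs
    exact (congrArg lam.1 e1).trans ((key ⟨_, hv⟩).trans
      ((DFunLike.congr_fun hs _).trans (((key ⟨y, hy⟩).trans (DFunLike.congr_fun hs _)).symm)))

/-- A linear character of `H / H₀` amounts to one on each line. -/
theorem lines_bijective [Finite W₁] :
    Function.Bijective fun (lam : Lin H H₀) (w : W₁) => resTo D.le_H (twist (w : L) lam) := by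
  obtain ⟨hfin, hcard⟩ := S.card_Lin
  obtain ⟨hfin1, hcard1⟩ := card_lin (A := H₁) (B := H₀) (fun a _ b hb => S.H₀_normal.conj_mem b hb a)
    (S.comm_mem_mono D.le_H)
  rw [D.relIndex] at hcard1
  refine (Nat.bijective_iff_injective_and_card _).2 ⟨fun lam lam' he => ?_, ?_⟩
  · refine Subtype.ext (MonoidHom.ext fun x => ?_)
    let N : Subgroup L := (lam.1.eqLocus lam'.1).map H.subtype
    suffices hx : (x : L) ∈ N by
      obtain ⟨y, hy, he'⟩ := hx
      rw [show x = y from Subtype.ext he'.symm]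
      exact hy
    refine D.mem_of_lines N (fun w y hy => ?_) x.2
    refine ⟨⟨(w : L) * y * (w : L)⁻¹, S.conj_mem_H w (D.le_H hy)⟩, ?_, rfl⟩
    have h1 := DFunLike.congr_fun (congrArg Subtype.val (congrFun he w)) ⟨y, hy⟩
    simp only [resTo_apply, twist_apply] at h1
    exact h1
  · rw [hcard, Nat.card_fun, hcard1, S.card_W₁]

end Setting

end Setting

end Cfsg.Agent.Lib.OddOrder.PF9Char
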