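import Cfsg.Agent.Lib.OddOrder.PF9IrreducibleQU
import Cfsg.Agent.S1492

/-!
# Peterfalvi (9.11): the members of `S(H₀ C')` and their degrees
-/

set_option autoImplicit false
set_option linter.style.haveILetI false
set_option linter.unusedSectionVars false

namespace Cfsg.Agent.Lib.OddOrder.PF9Char

open scoped Pointwise ComplexConjugate
open Cfsg.Agent.Lib.Clifford.Basic (conjC)
open Cfsg.Agent.Lib.Induced.Basic Cfsg.Agent.Lib.Characters.Basic

universe u

theorem seqS_mono {L : Type u} [Group L] [Fintype L] {K H A B : Subgroup L} (hAB : A ≤ B) :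
    seqS K H B ⊆ seqS K H A :=
  fun _ ⟨θ, h1, h2, h3, h4⟩ => ⟨θ, h1, fun a ha => h2 a (hAB ha), h3, h4⟩

variable {L : Type u} [Group L] [Fintype L] {K H U W₁ W₂ H₀ C : Subgroup L} {p q : ℕ} [K.Normal]
  [H.Normal] [H₀.Normal] [Fintype ↥K] (S : Setting K H U W₁ W₂ H₀ C p q)

include S

namespace Setting

theorem conj_mem_commutator {v : L} (hv : v ∈ U) {a : L} (ha : a ∈ ⁅C, C⁆) :
    v * a * v⁻¹ ∈ ⁅C, C⁆ := by
  have hle : (⁅C, C⁆ : Subgroup L).map (MulAut.conj v).toMonoidHom ≤ ⁅C, C⁆ := by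
    rw [Subgroup.map_commutator]
    have hC : C.map (MulAut.conj v).toMonoidHom ≤ C := by
      rintro _ ⟨c, hc, rfl⟩
      exact S.C_conj_U hv hc
    exact Subgroup.commutator_mono hC hC
  exact hle ⟨a, ha, rfl⟩

/-- `(H C)' ≤ H₀ C'`. -/
theorem commutator_HC {x y : L} (hx : x ∈ H ⊔ C) (hy : y ∈ H ⊔ C) :
    x * y * x⁻¹ * y⁻¹ ∈ H₀ ⊔ ⁅C, C⁆ := by
  obtain ⟨h, hh, c, hc, rfl⟩ := Subgroup.mem_sup_of_normal_left.1 hx
  obtain ⟨k, hk, d, hd, rfl⟩ := Subgroup.mem_sup_of_normal_left.1 hy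
  set π := QuotientGroup.mk' H₀
  have hker : ∀ {z : L}, π z = 1 ↔ z ∈ H₀ := fun {z} => QuotientGroup.eq_one_iff z
  have hcm : ∀ {e z : L}, e ∈ C → z ∈ H → π e * π z = π z * π e := fun {e z} he hz => by
    have h1 := ((S.mem_C e).1 he).2 z hz
    rwa [← hker, map_mul, map_inv, mul_inv_eq_one, map_mul, map_mul, map_inv,
      mul_inv_eq_iff_eq_mul] at h1
  have hhk : π h * π k = π k * π h := by
    have h1 := S.commutator_mem h hh k hk
    rwa [← hker, map_mul, map_inv, mul_inv_eq_one, map_mul, map_mul, map_inv,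
      mul_inv_eq_iff_eq_mul] at h1
  have key : π (h * c * (k * d) * (h * c)⁻¹ * (k * d)⁻¹) = π (c * d * c⁻¹ * d⁻¹) := by
    have e1 : h * c * (k * d) * (h * c)⁻¹ * (k * d)⁻¹ =
        h * (c * k * c⁻¹) * (c * d * c⁻¹) * h⁻¹ * d⁻¹ * k⁻¹ := by group
    rw [e1]
    simp only [map_mul, map_inv]
    have e2 : π c * π k * (π c)⁻¹ = π k := by rw [hcm hc hk, mul_inv_cancel_right]
    have hcd : c * d * c⁻¹ ∈ C := C.mul_mem (C.mul_mem hc hd) (C.inv_mem hc)
    have e3 : π c * π d * (π c)⁻¹ * (π h)⁻¹ = (π h)⁻¹ * (π c * π d * (π c)⁻¹) := by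
      rw [← map_inv π h, ← map_inv π c, ← map_mul, ← map_mul]
      exact hcm hcd (H.inv_mem hh)
    have e4 : (π d)⁻¹ * (π k)⁻¹ = (π k)⁻¹ * (π d)⁻¹ := by
      rw [← map_inv π d, ← map_inv π k]
      exact hcm (C.inv_mem hd) (H.inv_mem hk)
    rw [e2]
    calc π h * π k * (π c * π d * (π c)⁻¹) * (π h)⁻¹ * (π d)⁻¹ * (π k)⁻¹
        = π h * π k * ((π c * π d * (π c)⁻¹) * (π h)⁻¹) * ((π d)⁻¹ * (π k)⁻¹) := by group
      _ = π k * π h * ((π h)⁻¹ * (π c * π d * (π c)⁻¹)) * ((π k)⁻¹ * (π d)⁻¹) := by rw [hhk, e3, e4]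
      _ = π k * ((π c * π d * (π c)⁻¹) * (π k)⁻¹) * (π d)⁻¹ := by group
      _ = π k * ((π k)⁻¹ * (π c * π d * (π c)⁻¹)) * (π d)⁻¹ := by
          rw [show π c * π d * (π c)⁻¹ * (π k)⁻¹ = (π k)⁻¹ * (π c * π d * (π c)⁻¹) by
            rw [← map_inv π k, ← map_inv π c, ← map_mul, ← map_mul]
            exact hcm hcd (H.inv_mem hk)]
      _ = π c * π d * (π c)⁻¹ * (π d)⁻¹ := by group
  have h1 : (h * c * (k * d) * (h * c)⁻¹ * (k * d)⁻¹) * (c * d * c⁻¹ * d⁻¹)⁻¹ ∈ H₀ :=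
    hker.1 (by rw [map_mul, map_inv, key, mul_inv_cancel])
  have h2 : c * d * c⁻¹ * d⁻¹ ∈ ⁅C, C⁆ := by
    simpa [commutatorElement_def] using Subgroup.commutator_mem_commutator hc hd
  have := (H₀ ⊔ ⁅C, C⁆).mul_mem (Subgroup.mem_sup_left h1) (Subgroup.mem_sup_right h2)
  rwa [inv_mul_cancel_right] at this

/-- Degrees of the characters of `K / H₀ C'` are at most `|U : C|`. -/
theorem theta_degree_le {θ : ↥K → ℂ} (hθ : Cfsg.IsIrrCharacter ↥K θ)
    (hker : ∀ a : ↥K, (a : L) ∈ H₀ ⊔ ⁅C, C⁆ → θ a = θ 1) :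
    ∃ k : ℕ, 0 < k ∧ θ 1 = (k : ℂ) ∧ k ≤ C.relIndex U := by
  obtain ⟨k, hk0, hk⟩ := exists_degree_pos ⟨θ, hθ⟩
  refine ⟨k, hk0, hk, ?_⟩
  set D := (H ⊔ C).subgroupOf K with hD
  set B := (H₀ ⊔ ⁅C, C⁆).subgroupOf K
  have hBD : B ≤ D := fun x hx => Subgroup.mem_subgroupOf.2
    (sup_le_sup S.H₀_le (Subgroup.commutator_le_self C) (Subgroup.mem_subgroupOf.1 hx))
  have hb := Cfsg.Agent.S1492.result θ hθ B D D hBD le_rfl
    (fun c _ b hb => Subgroup.mem_subgroupOf.2 (S.conj_mem_sup (Subgroup.commutator_le_self C)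
      (fun v hv a ha => S.conj_mem_commutator hv ha) c.2 (Subgroup.mem_subgroupOf.1 hb)))
    (fun d hd c hc => Subgroup.mem_subgroupOf.2
      (S.commutator_HC (Subgroup.mem_subgroupOf.1 hd) (Subgroup.mem_subgroupOf.1 hc)))
    (fun b hb => hker b (Subgroup.mem_subgroupOf.1 hb))
  have hidx : D.index = C.relIndex U := S.index_sup S.C_le
  rw [← D.card_mul_index, hidx, show θ 1 = (k : ℂ) from hk, Complex.norm_natCast] at hb
  push_cast at hb
  have hD0 : (0 : ℝ) < Nat.card D := by exact_mod_cast Nat.card_pos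
  have h1 : (k : ℝ) ^ 2 ≤ (C.relIndex U : ℝ) ^ 2 := by
    refine le_of_mul_le_mul_right ?_ (mul_pos hD0 hD0)
    calc (k : ℝ) ^ 2 * ((Nat.card D : ℝ) * Nat.card D)
        = (k : ℝ) ^ 2 * Nat.card D * Nat.card D := by ring
      _ ≤ _ := hb
      _ = _ := by ring
  have h2 : k ^ 2 ≤ C.relIndex U ^ 2 := by exact_mod_cast h1
  exact le_of_pow_le_pow_left₀ two_ne_zero (Nat.zero_le _) h2

theorem indFun_degree {θ : ↥K → ℂ} {k : ℕ} (hk : θ 1 = (k : ℂ)) :
    Cfsg.indFun K θ 1 = ((q * k : ℕ) : ℂ) := by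
  rw [indFun_one, S.index_K, hk, Nat.cast_mul]

theorem mem_of_mem_sup {X : Subgroup L} (hX : X ≤ U) {c : L} (hc : c ∈ U) (h : c ∈ H ⊔ X) :
    c ∈ X := by
  obtain ⟨h₀, hh₀, x, hx, he⟩ := Subgroup.mem_sup_of_normal_left.1 h
  have h1 : h₀ ∈ H ⊓ U := ⟨hh₀, by
    have := U.mul_mem hc (U.inv_mem (hX hx))
    rwa [← he, mul_inv_cancel_right] at this⟩
  rw [S.H_inf_U, Subgroup.mem_bot] at h1
  rwa [← he, h1, one_mul]

variable (hD : Dichotomy H U W₁ H₀ p)

include hD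

/-- A fixed character has degree `u`. -/
theorem not_fixed_of_degree {w : L} (hw : w ∈ W₁) (hw1 : w ≠ 1) {θ : ↥K → ℂ}
    (hθ : Cfsg.IsIrrCharacter ↥K θ) (hker : ∀ a : ↥K, (a : L) ∈ H₀ → θ a = θ 1)
    (hH : ∃ x : ↥K, (x : L) ∈ H ∧ θ x ≠ θ 1) (hne : θ 1 ≠ (C.relIndex U : ℂ)) :
    conjC K w θ ≠ θ := fun hfix => by
  obtain ⟨T, -, hT, hall⟩ := S.exists_fixed_family hD hw hw1
  obtain ⟨-, -, -, -, lam, ν, -, -, -, -, he⟩ := hT θ (hall θ hθ hker hfix hH)
  exact hne (he ▸ S.thetaFun_one ν S.C_le)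

theorem isIrr_of_degree {θ : ↥K → ℂ} (hθ : Cfsg.IsIrrCharacter ↥K θ)
    (hker : ∀ a : ↥K, (a : L) ∈ H₀ → θ a = θ 1)
    (hH : ∃ x : ↥K, (x : L) ∈ H ∧ θ x ≠ θ 1) (hne : θ 1 ≠ (C.relIndex U : ℂ)) :
    Cfsg.IsIrrCharacter L (Cfsg.indFun K θ) := by
  obtain ⟨w, hw, hw1⟩ := S.exists_W₁
  exact isIrr_indFun_of_prime_index K (S.index_K ▸ S.prime_q) hθ
    (S.not_fixed_of_degree hD hw hw1 hθ hker hH hne)

variable {H₁ C₁ : Subgroup L} {a : ℕ} (D : LineData H U W₁ H₀ H₁ C₁ p a)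

omit hD in
include D in
theorem relIndex_C_eq : C.relIndex U = C.relIndex C₁ * a := by
  rw [← D.index_C₁]
  exact (Subgroup.relIndex_mul_relIndex C C₁ U (S.C_le_C₁ D) D.C₁_le).symm

include D

/-- The members of degree `q a` coming from a single line. -/
theorem exists_small_members (hau : a ≠ C.relIndex U) :
    ∃ T' : Finset (L → ℂ), (p - 1) * C.relIndex C₁ ≤ a * T'.card ∧
      ∀ φ ∈ T', φ ∈ seqS K H (H₀ ⊔ C) ∧ Cfsg.IsIrrCharacter L φ ∧ φ 1 = ((q * a : ℕ) : ℂ) ∧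
        ∃ f : ↥(H ⊔ C₁) → ℂ, φ = Cfsg.indFun (H ⊔ C₁) f := by
  classical
  obtain ⟨hfinL, -⟩ := S.card_Lin
  haveI := Fintype.ofFinite (Lin H H₀)
  obtain ⟨hfin1, hcard1⟩ := card_lin (A := H₁) (B := H₀) (fun a _ b hb => S.H₀_normal.conj_mem b hb a)
    (S.comm_mem_mono D.le_H)
  rw [D.relIndex] at hcard1
  haveI := Fintype.ofFinite (Lin H₁ H₀)
  set Λ : Finset (Lin H H₀) := Finset.univ.filter fun lam =>
    ∀ v : W₁, Setting.Supp D lam v ↔ (v : L) = 1 with hΛ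
  have hΛcard : p - 1 ≤ Λ.card := by
    let one₁ : Lin H₁ H₀ := ⟨1, fun _ _ => rfl⟩
    have hsur := (S.lines_bijective D).2
    have hlam : ∀ x : {x : Lin H₁ H₀ // x ≠ one₁}, ∃ lam : Lin H H₀, lam ∈ Λ ∧
        resTo D.le_H (twist ((1 : W₁) : L) lam) = x.1 := fun x => by
      obtain ⟨lam, hlam⟩ := hsur fun v => if (v : L) = 1 then x.1 else one₁
      refine ⟨lam, Finset.mem_filter.2 ⟨Finset.mem_univ _, fun v => ?_⟩, ?_⟩
      · have h := congrFun hlam v
        simp only at h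
        unfold Setting.Supp
        rw [h]
        split_ifs with hv
        · exact iff_of_true (fun e => x.2 (Subtype.ext e)) hv
        · exact iff_of_false (fun e => e rfl) hv
      · have h := congrFun hlam 1
        simp only at h
        rw [h, if_pos (OneMemClass.coe_one W₁)]
    choose f hf hf' using hlam
    have h1 : Nat.card {x : Lin H₁ H₀ // x ≠ one₁} ≤ Λ.card := by
      rw [show Λ.card = Nat.card Λ by rw [Nat.card_eq_fintype_card, Fintype.card_coe]]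
      refine Nat.card_le_card_of_injective (fun x => (⟨f x, hf x⟩ : Λ)) fun x y e => Subtype.ext ?_
      rw [← hf' x, ← hf' y, show f x = f y from congrArg Subtype.val e]
    rw [Nat.card_eq_fintype_card, Fintype.card_subtype_compl (fun x => x = one₁),
      Fintype.card_subtype_eq, Fintype.card_eq_nat_card, hcard1] at h1
    exact h1
  have hne : ∀ lam ∈ Λ, lam.1 ≠ 1 := fun lam hl e => by
    refine ((Finset.mem_filter.1 hl).2 1).2 (OneMemClass.coe_one W₁) ?_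
    refine MonoidHom.ext fun t => ?_
    rw [resTo_apply, twist_apply, e]
    rfl
  have hfix : ∀ lam ∈ Λ, C₁ ≤ stab U lam := fun lam hl c hc =>
    S.stab_of_forall D (D.C₁_le hc) fun v hv => by
      rw [((Finset.mem_filter.1 hl).2 v).1 hv]
      simpa using hc
  have hstab : ∀ lam ∈ Λ, stab U lam ≤ C₁ := fun lam hl c hc => by
    have := S.conj_mem_C₁ D (((Finset.mem_filter.1 hl).2 1).2 (OneMemClass.coe_one W₁)) hc
    simpa using this
  obtain ⟨T, hTcard, hT⟩ := S.exists_thetas Λ D.C₁_le (S.C_le_C₁ D) hne hfix hstab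
  rw [D.index_C₁] at hTcard
  -- the lines other than the first lie in the kernel
  have hline : ∀ θ ∈ T, ∀ v : W₁, (v : L) ≠ 1 → ∀ x ∈ H₁, ∀ y : ↥K,
      (y : L) = (v : L) * x * (v : L)⁻¹ → θ y = θ 1 := by
    intro θ hθ v hv x hx y hy
    obtain ⟨-, -, -, -, lam, hl, ν, hν, rfl⟩ := hT θ hθ
    refine S.thetaFun_ker ν D.C₁_le (S.C_le_C₁ D) fun k => ?_
    have hyH : (y : L) ∈ H := hy ▸ S.conj_mem_H v (D.le_H hx)
    refine ⟨Subgroup.mem_sup_left (S.conj_mem_H k hyH), ?_⟩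
    refine (hν ⟨(k : L) * y * (k : L)⁻¹, S.conj_mem_H k hyH⟩).trans ?_
    obtain ⟨h', hh', u, hu, hk⟩ := S.exists_mul k.2
    set u' := (v : L)⁻¹ * u * v with hu'
    have hu'U : u' ∈ U := by simpa [hu'] using S.conj_mem_U (W₁.inv_mem v.2) hu
    have hns : ¬ Setting.Supp D lam v := fun h => hv (((Finset.mem_filter.1 hl).2 v).1 h)
    unfold Setting.Supp at hns
    rw [not_not] at hns
    have e1 : resTo D.le_H (twist u' (twist (v : L) lam)) =
        resTo D.le_H (twist u' (⟨1, fun _ _ => rfl⟩ : Lin H H₀)) :=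
      S.resTo_twist_congr D (Subtype.ext (hns.trans (MonoidHom.ext fun _ => rfl))) hu'U
    have e2 : lam.1 ⟨(k : L) * y * (k : L)⁻¹, S.conj_mem_H k hyH⟩ =
        (twist (k : L) lam).1 ⟨y, hyH⟩ := (twist_apply (k : L) lam (⟨y, hyH⟩ : ↥H)).symm
    rw [e2, ← hk, twist_mul, S.twist_of_mem_H hh']
    have e3 : (twist u lam).1 ⟨y, hyH⟩ = (resTo D.le_H (twist (v : L) (twist u lam))).1 ⟨x, hx⟩ := by
      rw [resTo_apply, twist_apply (v : L)]
      exact congrArg (twist u lam).1 (Subtype.ext hy)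
    rw [e3, ← twist_mul, show u * (v : L) = (v : L) * u' by rw [hu']; group, twist_mul, e1,
      resTo_apply, twist_apply]
    rfl
  have hirrT : ∀ θ ∈ T, Cfsg.IsIrrCharacter L (Cfsg.indFun K θ) := fun θ hθ => by
    obtain ⟨h1, h2, h3, h4, -⟩ := hT θ hθ
    refine S.isIrr_of_degree hD h1 (fun z hz => h3 z (Subgroup.mem_sup_left hz)) h4 ?_
    rw [h2, D.index_C₁]
    exact fun e => hau (Nat.cast_injective e)
  refine ⟨T.image (Cfsg.indFun K), ?_, fun φ hφ => ?_⟩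
  · rw [Finset.card_image_of_injOn]
    · exact (Nat.mul_le_mul_right _ hΛcard).trans hTcard
    · intro θ hθ η hη he
      obtain ⟨hθ1, -, -, ⟨x, hx, hxne⟩, -⟩ := hT θ hθ
      obtain ⟨hη1, -, -, -, -⟩ := hT η hη
      obtain ⟨g, hg⟩ := conj_of_indFun_eq K hθ1 hη1 he
      obtain ⟨k, hk, v, hv, rfl⟩ := S.exists_mul_W g
      rw [Clifford.Basic.conjC_mul, Clifford.Basic.conjC_of_mem K (isClassFunction_irr ⟨η, hη1⟩) hk] at hg
      by_cases hv1 : v = 1
      · rw [hv1, Clifford.Basic.conjC_one] at hg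
        exact hg.symm
      refine absurd ?_ hxne
      let N : Subgroup L :=
        (Characters.Kernel.charKer (IsCharacter_of_isIrrCharacter hθ1)).map K.subtype
      have hN : ∀ y : ↥K, θ y = θ 1 → (y : L) ∈ N := fun y hy =>
        ⟨y, (Characters.Kernel.mem_charKer _ y).2 hy, rfl⟩
      obtain ⟨y, hy, hye⟩ := D.mem_of_lines N (fun w z hz => by
        set y : ↥K := ⟨(w : L) * z * (w : L)⁻¹, S.H_le (S.conj_mem_H w (D.le_H hz))⟩
        refine hN y ?_
        by_cases hw1 : (w : L) = 1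
        · rw [← hg, Clifford.Basic.conjC_apply, Clifford.Basic.conjC_apply]
          refine (hline η hη ⟨v, hv⟩ hv1 z hz _ ?_).trans (congrArg η (Subtype.ext (by simp)))
          show v * ((w : L) * z * (w : L)⁻¹) * v⁻¹ = _
          rw [hw1]; simp
        · exact hline θ hθ w hw1 z hz y rfl) hx
      rw [show x = y from Subtype.ext hye.symm]
      exact (Characters.Kernel.mem_charKer _ y).1 hy
  · obtain ⟨θ, hθ, rfl⟩ := Finset.mem_image.1 hφ
    obtain ⟨h1, h2, h3, h4, lam, -, ν, -, he⟩ := hT θ hθ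
    exact ⟨⟨θ, h1, h3, h4, rfl⟩, hirrT θ hθ, S.indFun_degree (h2.trans (by rw [D.index_C₁])),
      fun y => (ν y : ℂ), he ▸ S.indFun_thetaFun D.C₁_le _⟩

/-- Either `C₁` meets its conjugate in `C` or some member has degree strictly between `q a` and
`q u`. -/
theorem inf_eq_or_between (hau : a ≠ C.relIndex U) {v : W₁} (hv : (v : L) ≠ 1) :
    C₁ ⊓ Cw C₁ (v : L) = C ∨ ∃ φ ∈ seqS K H (H₀ ⊔ C), ∃ k : ℕ,
      φ 1 = ((q * k : ℕ) : ℂ) ∧ a < k ∧ k < C.relIndex U := by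
  classical
  set X := C₁ ⊓ Cw C₁ (v : L) with hXdef
  have hXU : X ≤ U := inf_le_left.trans D.C₁_le
  have hCX : C ≤ X := fun c hc => ⟨S.C_le_C₁ D hc, mem_Cw.2 (by
    have := S.C_conj_W (W₁.inv_mem v.2) hc
    rw [inv_inv] at this
    exact S.C_le_C₁ D this)⟩
  by_cases hXC : X.relIndex U = C.relIndex U
  · left
    refine le_antisymm ?_ hCX
    have h := Subgroup.relIndex_mul_relIndex C X U hCX hXU
    rw [← hXC] at h
    exact Subgroup.relIndex_eq_one.1
      ((Nat.mul_eq_right Subgroup.index_ne_zero_of_finite).1 h)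
  right
  -- a character supported on the two lines
  obtain ⟨hfin1, hcard1⟩ := card_lin (A := H₁) (B := H₀) (fun a _ b hb => S.H₀_normal.conj_mem b hb a)
    (S.comm_mem_mono D.le_H)
  rw [D.relIndex] at hcard1
  haveI := Fintype.ofFinite (Lin H₁ H₀)
  let one₁ : Lin H₁ H₀ := ⟨1, fun _ _ => rfl⟩
  obtain ⟨x, hx⟩ : ∃ x : Lin H₁ H₀, x ≠ one₁ := Fintype.exists_ne_of_one_lt_card (by
    rw [Fintype.card_eq_nat_card, hcard1]; exact S.prime_p.one_lt) one₁
  obtain ⟨lam, hlam⟩ := (S.lines_bijective D).2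
    fun w => if (w : L) = 1 ∨ w = v then x else one₁
  have hsupp : ∀ w : W₁, Setting.Supp D lam w ↔ ((w : L) = 1 ∨ w = v) := fun w => by
    have h := congrFun hlam w
    simp only at h
    unfold Setting.Supp
    rw [h]
    split_ifs with hw
    · exact iff_of_true (fun e => hx (Subtype.ext e)) hw
    · exact iff_of_false (fun e => e rfl) hw
  have hne : lam.1 ≠ 1 := fun e => (hsupp 1).2 (Or.inl (OneMemClass.coe_one W₁)) (by
    refine MonoidHom.ext fun t => ?_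
    rw [resTo_apply, twist_apply, e]
    rfl)
  have hfix : X ≤ stab U lam := fun c hc => S.stab_of_forall D (hXU hc) fun w hw => by
    rcases (hsupp w).1 hw with h | h
    · rw [h]; simpa using hc.1
    · rw [h]; exact mem_Cw.1 hc.2
  have hstab : stab U lam ≤ X := fun c hc => ⟨by
    have := S.conj_mem_C₁ D ((hsupp 1).2 (Or.inl (OneMemClass.coe_one W₁))) hc
    simpa using this, mem_Cw.2 (S.conj_mem_C₁ D ((hsupp v).2 (Or.inr rfl)) hc)⟩
  obtain ⟨T, hTcard, hT⟩ := S.exists_thetas {lam} hXU hCX (by simpa using hne) (by simpa using hfix)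
    (by simpa using hstab)
  obtain ⟨θ, hθ⟩ : T.Nonempty := by
    rw [← Finset.card_pos]
    refine Nat.pos_of_ne_zero fun h0 => ?_
    rw [h0, mul_zero, Finset.card_singleton, one_mul, Nat.le_zero] at hTcard
    exact Subgroup.index_ne_zero_of_finite hTcard
  obtain ⟨h1, h2, h3, h4, -⟩ := hT θ hθ
  refine ⟨_, ⟨θ, h1, h3, h4, rfl⟩, X.relIndex U, S.indFun_degree h2, ?_, ?_⟩
  · -- `X` is a proper subgroup of `C₁`
    have hmul := Subgroup.relIndex_mul_relIndex X C₁ U inf_le_left D.C₁_le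
    rw [D.index_C₁] at hmul
    have hne1 : X.relIndex C₁ ≠ 1 := fun e => by
      have hC₁v : C₁ ≤ Cw C₁ (v : L) := (Subgroup.relIndex_eq_one.1 e).trans inf_le_right
      have hall : ∀ j : ℕ, ∀ c ∈ C₁, ((v : L) ^ j)⁻¹ * c * (v : L) ^ j ∈ C₁ := by
        intro j
        induction j with
        | zero => intro c hc; simpa using hc
        | succ j ih =>
          intro c hc
          have := ih _ (mem_Cw.1 (hC₁v hc))
          rw [pow_succ']
          simpa [mul_assoc] using this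
      refine hau ?_
      have hC : C₁ = C := le_antisymm (fun c hc => S.mem_C_of_forall D (D.C₁_le hc) fun w => by
        obtain ⟨j, hj⟩ := mem_powers_iff_mem_zpowers.2
          (show (w : L) ∈ Subgroup.zpowers (v : L) from (S.zpowers_W₁ v.2 hv).symm ▸ w.2)
        simp only at hj
        rw [← hj]
        exact hall j c hc) (S.C_le_C₁ D)
      rw [← D.index_C₁, hC]
    have hpos : 0 < X.relIndex C₁ := Nat.pos_of_ne_zero Subgroup.index_ne_zero_of_finite
    have ha := D.one_lt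
    calc a = 1 * a := (one_mul a).symm
      _ < X.relIndex C₁ * a := Nat.mul_lt_mul_of_pos_right (by omega) (by omega)
      _ = X.relIndex U := hmul
  · refine lt_of_le_of_ne ?_ hXC
    have hmul := Subgroup.relIndex_mul_relIndex C X U hCX hXU
    rw [← hmul]
    exact Nat.le_mul_of_pos_left _ (Nat.pos_of_ne_zero Subgroup.index_ne_zero_of_finite)

/-- The irreducible members of degree `q u` from the characters with full support. -/
theorem exists_large_members :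
    ∃ Ξ : Finset (L → ℂ), (p - 1) ^ q ≤ C.relIndex U * (q * Ξ.card + (p - 1)) ∧
      ∀ φ ∈ Ξ, φ ∈ seqS K H (H₀ ⊔ C) ∧ Cfsg.IsIrrCharacter L φ ∧
        φ 1 = ((q * C.relIndex U : ℕ) : ℂ) ∧ ∃ f : ↥(H ⊔ C) → ℂ, φ = Cfsg.indFun (H ⊔ C) f := by
  classical
  obtain ⟨w, hw, hw1⟩ := S.exists_W₁
  obtain ⟨hfinL, -⟩ := S.card_Lin
  haveI := Fintype.ofFinite (Lin H H₀)
  obtain ⟨hfin1, hcard1⟩ := card_lin (A := H₁) (B := H₀) (fun a _ b hb => S.H₀_normal.conj_mem b hb a)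
    (S.comm_mem_mono D.le_H)
  rw [D.relIndex] at hcard1
  haveI := Fintype.ofFinite (Lin H₁ H₀)
  haveI := Fintype.ofFinite W₁
  set Λ : Finset (Lin H H₀) := Finset.univ.filter fun lam => ∀ v : W₁, Setting.Supp D lam v with hΛ
  have hΛcard : (p - 1) ^ q ≤ Λ.card := by
    let one₁ : Lin H₁ H₀ := ⟨1, fun _ _ => rfl⟩
    have hsur := (S.lines_bijective D).2
    have hlam : ∀ f : W₁ → {x : Lin H₁ H₀ // x ≠ one₁}, ∃ lam : Lin H H₀, lam ∈ Λ ∧
        ∀ v : W₁, resTo D.le_H (twist (v : L) lam) = (f v).1 := fun f => by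
      obtain ⟨lam, hlam⟩ := hsur fun v => (f v).1
      refine ⟨lam, Finset.mem_filter.2 ⟨Finset.mem_univ _, fun v => ?_⟩, congrFun hlam⟩
      have h := congrFun hlam v
      simp only at h
      unfold Setting.Supp
      rw [h]
      exact fun e => (f v).2 (Subtype.ext e)
    choose g hg hg' using hlam
    have h1 : Nat.card (W₁ → {x : Lin H₁ H₀ // x ≠ one₁}) ≤ Λ.card := by
      rw [show Λ.card = Nat.card Λ by rw [Nat.card_eq_fintype_card, Fintype.card_coe]]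
      refine Nat.card_le_card_of_injective (fun f => (⟨g f, hg f⟩ : Λ)) fun f f' e =>
        funext fun v => Subtype.ext ?_
      rw [← hg' f v, ← hg' f' v, show g f = g f' from congrArg Subtype.val e]
    rwa [Nat.card_fun, S.card_W₁, Nat.card_eq_fintype_card,
      Fintype.card_subtype_compl (fun x => x = one₁),
      Fintype.card_subtype_eq, Fintype.card_eq_nat_card, hcard1] at h1
  have hne : ∀ lam ∈ Λ, lam.1 ≠ 1 := fun lam hl e => (Finset.mem_filter.1 hl).2 1 (by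
    refine MonoidHom.ext fun t => ?_
    rw [resTo_apply, twist_apply, e]
    rfl)
  have hstab : ∀ lam ∈ Λ, stab U lam ≤ C := fun lam hl c hc =>
    S.mem_C_of_forall D hc.1 fun v => S.conj_mem_C₁ D ((Finset.mem_filter.1 hl).2 v) hc
  obtain ⟨T, hTcard, hT⟩ := S.exists_thetas Λ S.C_le le_rfl hne
    (fun lam _ => S.C_le_stab lam) hstab
  rw [Subgroup.relIndex_self, mul_one] at hTcard
  obtain ⟨F, hF, hFp, hall⟩ := S.exists_fixed_family hD hw hw1
  obtain ⟨Ξ, hΞcard, hΞ⟩ := S.exists_members (H₀ ⊔ C) (T \ F) fun θ hθ => by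
    obtain ⟨hθT, hθF⟩ := Finset.mem_sdiff.1 hθ
    obtain ⟨h1, -, h3, h4, -⟩ := hT θ hθT
    exact ⟨h1, h3, h4, w, fun hfix => hθF (hall θ h1 (fun z hz => h3 z (Subgroup.mem_sup_left hz))
      hfix h4)⟩
  refine ⟨Ξ, ?_, fun φ hφ => ?_⟩
  · calc (p - 1) ^ q ≤ C.relIndex U * T.card := hΛcard.trans hTcard
      _ ≤ C.relIndex U * (q * Ξ.card + (p - 1)) := by
          refine Nat.mul_le_mul_left _ ?_
          calc T.card ≤ (T \ F).card + F.card := Finset.card_le_card_sdiff_add_card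
            _ ≤ q * Ξ.card + (p - 1) := by omega
  · obtain ⟨h1, h2, θ, hθ, rfl⟩ := hΞ φ hφ
    obtain ⟨-, h2', -, -, lam, -, ν, -, he⟩ := hT θ (Finset.mem_sdiff.1 hθ).1
    exact ⟨h1, h2, S.indFun_degree h2', fun y => (ν y : ℂ), he ▸ S.indFun_thetaFun S.C_le _⟩

end Setting

end Cfsg.Agent.Lib.OddOrder.PF9Char
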