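import Cfsg.Agent.Lib.OddOrder.PF9Degrees
import Cfsg.Agent.S1496

/-!
# Peterfalvi (9.8)(c), (9.9)(a): the reducible members of `S(H₀)`
-/

set_option autoImplicit false
set_option linter.style.haveILetI false
set_option linter.unusedSectionVars false

namespace Cfsg.Agent.Lib.OddOrder.PF9Char

open scoped Pointwise ComplexConjugate
open Cfsg.Agent.Lib.Clifford.Basic (conjC)
open Cfsg.Agent.Lib.Induced.Basic Cfsg.Agent.Lib.Characters.Basic

universe u

variable {L : Type u} [Group L] [Fintype L] {K H U W₁ W₂ H₀ C : Subgroup L} {p q : ℕ} [K.Normal]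
  [H.Normal] [H₀.Normal] [Fintype ↥K] (S : Setting K H U W₁ W₂ H₀ C p q)

include S

namespace Setting

theorem orderOf_W₁ {w : L} (hw : w ∈ W₁) (hw1 : w ≠ 1) : orderOf w = q :=
  (((Nat.dvd_prime S.prime_q).1 (S.card_W₁ ▸ Subgroup.orderOf_dvd_natCard _ hw)).resolve_left
    fun h => hw1 (orderOf_eq_one_iff.1 h))

theorem zpowers_W₁ {w : L} (hw : w ∈ W₁) (hw1 : w ≠ 1) : Subgroup.zpowers w = W₁ :=
  Subgroup.eq_of_le_of_card_ge (Subgroup.zpowers_le.2 hw)
    (by rw [Nat.card_zpowers, S.orderOf_W₁ hw hw1, S.card_W₁])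

theorem exists_W₁ : ∃ w ∈ W₁, w ≠ 1 := by
  by_contra hcon
  push Not at hcon
  have : W₁ = ⊥ := (Subgroup.eq_bot_iff_forall _).2 hcon
  exact S.prime_q.ne_one (S.card_W₁ ▸ this ▸ Subgroup.card_bot)

/-- A coset of `N ≤ K` fixed by `w` contains a point of `W₂`. -/
theorem lift_fixed {N : Subgroup L} (hN : N ≤ K) {w : L} (hw : w ∈ W₁) (hw1 : w ≠ 1)
    (hwN : ∀ n ∈ N, w * n * w⁻¹ ∈ N) {k : L} (hk : k ∈ K) {n : L} (hn : n ∈ N)
    (he : k⁻¹ * w * k = n * w) : ∃ x ∈ N, k * x⁻¹ ∈ W₂ := by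
  have hnorm : w ∈ Subgroup.normalizer (N : Set L) :=
      (Subgroup.mem_normalizer_iff.2 fun m => ⟨hwN m, fun hm => by
        haveI : Finite L := inferInstance
        have hpow : ∀ j : ℕ, ∀ m ∈ N, w ^ j * m * (w ^ j)⁻¹ ∈ N := by
          intro j
          induction j with
          | zero => simp
          | succ j ih => intro m hm; rw [pow_succ]; simpa [mul_assoc] using ih _ (hwN m hm)
        have h := hpow (orderOf w - 1) _ hm
        have hpos := orderOf_pos w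
        have hinv : w ^ (orderOf w - 1) = w⁻¹ := by
          rw [eq_inv_iff_mul_eq_one, ← pow_succ, Nat.sub_add_cancel hpos, pow_orderOf_eq_one]
        rw [hinv] at h
        simpa [mul_assoc] using h⟩)
  have hcopK : ∀ {y : L}, y ∈ K → (orderOf y).Coprime q := fun hy =>
    S.coprime_W₁.symm.coprime_dvd_left (Subgroup.orderOf_dvd_natCard _ hy)
  obtain ⟨x, hx, c, hc, hcomm, hxe⟩ := Cfsg.Agent.S1496.result N w hnorm (by
    rw [S.orderOf_W₁ hw hw1]
    exact S.coprime_W₁.coprime_dvd_right (Subgroup.card_dvd_of_le hN)) n hn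
  have hq1 : (c * w) ^ q = 1 := by
    rw [← hxe, ← he]
    have e : x * (k⁻¹ * w * k) * x⁻¹ = (x * k⁻¹) * w * (x * k⁻¹)⁻¹ := by group
    rw [e, conj_pow, ← S.orderOf_W₁ hw hw1, pow_orderOf_eq_one, mul_one, mul_inv_cancel]
  have hwq : w ^ q = 1 := by rw [← S.orderOf_W₁ hw hw1, pow_orderOf_eq_one]
  rw [(show Commute c w from hcomm).mul_pow, hwq, mul_one] at hq1
  have hc1 : c = 1 := orderOf_eq_one_iff.1 (Nat.eq_one_of_dvd_coprimes (hcopK (hN hc)) dvd_rfl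
    (orderOf_dvd_of_pow_eq_one hq1))
  rw [hc1, one_mul, ← he] at hxe
  refine ⟨x, hx, ?_⟩
  rw [← S.centralizer_W₁ w hw hw1]
  refine ⟨K.mul_mem hk (K.inv_mem (hN hx)), Subgroup.mem_centralizer_singleton_iff.2 ?_⟩
  calc k * x⁻¹ * w = k * x⁻¹ * (x * (k⁻¹ * w * k) * x⁻¹) := by rw [hxe]
    _ = w * (k * x⁻¹) := by group

/-- At most `p` irreducible characters of `K / H₀` are fixed by `w ∈ W₁#`. -/
theorem card_invariant_le {w : L} (hw : w ∈ W₁) (hw1 : w ≠ 1) (T : Finset (↥K → ℂ))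
    (hT : ∀ θ ∈ T, Cfsg.IsIrrCharacter ↥K θ ∧ (∀ a : ↥K, (a : L) ∈ H₀ → θ a = θ 1) ∧
      conjC K w θ = θ) : T.card ≤ p := by
  classical
  haveI hn : (H₀.subgroupOf K).Normal := Subgroup.Normal.subgroupOf inferInstance K
  set B := H₀.subgroupOf K with hB
  set π := QuotientGroup.mk' B
  have hmap : B.map (MulAut.conjNormal w : MulAut ↥K).toMonoidHom = B := by
    ext a
    constructor
    · rintro ⟨b, hb, rfl⟩
      rw [hB, Subgroup.mem_subgroupOf, MulEquiv.coe_toMonoidHom, MulAut.conjNormal_apply]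
      exact S.H₀_normal.conj_mem _ (Subgroup.mem_subgroupOf.1 hb) w
    · intro ha
      refine ⟨(MulAut.conjNormal w : MulAut ↥K).symm a, ?_, by simp⟩
      show (MulAut.conjNormal w : MulAut ↥K).symm a ∈ B
      rw [hB, Subgroup.mem_subgroupOf, MulAut.conjNormal_symm_apply]
      simpa using S.H₀_normal.conj_mem _ (Subgroup.mem_subgroupOf.1 ha) w⁻¹
  set α : (↥K ⧸ B) ≃* (↥K ⧸ B) := QuotientGroup.congr B B (MulAut.conjNormal w) hmap with hα
  have hαπ : ∀ k : ↥K, α (π k) = π ((MulAut.conjNormal w : MulAut ↥K) k) := fun k => rfl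
  have hbound : Nat.card {y : ↥K ⧸ B // α y = y} ≤ p := by
    set M := ((W₂ ⊔ H₀).subgroupOf K).map π
    have hle : W₂ ⊔ H₀ ≤ K := _root_.sup_le (S.W₂_le.trans S.H_le) (S.H₀_le.trans S.H_le)
    have hM : Nat.card M = p := by
      have h1 := Subgroup.relIndex_map_map π ⊥ ((W₂ ⊔ H₀).subgroupOf K)
      rw [Subgroup.map_bot, Subgroup.relIndex_bot_left, QuotientGroup.ker_mk', bot_sup_eq,
        sup_of_le_left (show B ≤ (W₂ ⊔ H₀).subgroupOf K from fun z hz => Subgroup.mem_subgroupOf.2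
          (Subgroup.mem_sup_right (Subgroup.mem_subgroupOf.1 hz)))] at h1
      rw [h1, ← S.W₂_quot]
      exact Subgroup.relIndex_subgroupOf hle
    rw [← hM]
    refine Nat.card_le_card_of_injective (fun y => ⟨y.1, ?_⟩) fun a b e => Subtype.ext
      (congrArg Subtype.val e :)
    obtain ⟨k, hk⟩ := QuotientGroup.mk'_surjective B y.1
    have hfix := y.2
    rw [← hk, hαπ, QuotientGroup.mk'_apply, QuotientGroup.mk'_apply, eq_comm, QuotientGroup.eq,
      hB, Subgroup.mem_subgroupOf] at hfix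
    rw [← hk]
    obtain ⟨x, hx, hxW⟩ := S.lift_fixed (S.H₀_le.trans S.H_le) hw hw1
      (fun n hn => S.H₀_normal.conj_mem n hn w) k.2 (n := (k : L)⁻¹ * w * k * w⁻¹) (by
        simpa [mul_assoc] using hfix) (by group)
    refine ⟨k, Subgroup.mem_subgroupOf.2 ?_, rfl⟩
    have := (W₂ ⊔ H₀).mul_mem (Subgroup.mem_sup_left hxW) (Subgroup.mem_sup_right hx)
    rwa [inv_mul_cancel_right] at this
  haveI : Fintype (↥K ⧸ B) := Fintype.ofFinite _
  -- a fixed class contains a fixed point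
  have hclass : Nat.card {c : ConjClasses (↥K ⧸ B) // ConjClasses.map α.toMonoidHom c = c} ≤ p := by
    haveI := Finite.of_surjective _ (ConjClasses.mk_surjective (α := ↥K ⧸ B))
    refine le_trans ?_ hbound
    refine Nat.card_le_card_of_surjective (fun y => ⟨ConjClasses.mk y.1, ?_⟩) ?_
    · show ConjClasses.mk (α y.1) = _
      rw [y.2]
    · rintro ⟨c, hc⟩
      obtain ⟨c₀, rfl⟩ := ConjClasses.mk_surjective c
      have hmem : ∀ z : {z : ↥K ⧸ B // IsConj c₀ z}, IsConj c₀ (α z.1) := fun z => by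
        have h1 : IsConj (α c₀) c₀ := ConjClasses.mk_eq_mk_iff_isConj.1 hc
        exact h1.symm.trans (α.toMonoidHom.map_isConj z.2)
      let σ₀ : {z : ↥K ⧸ B // IsConj c₀ z} → {z : ↥K ⧸ B // IsConj c₀ z} := fun z => ⟨α z.1, hmem z⟩
      let σ : Equiv.Perm {z : ↥K ⧸ B // IsConj c₀ z} := Equiv.ofBijective σ₀
        (Finite.injective_iff_bijective.1 fun a b e => Subtype.ext (α.injective (congrArg Subtype.val e :)))
      have hpow : ∀ (j : ℕ) (z), ((σ ^ j) z).1 = (α : MulAut (↥K ⧸ B)) ^ j • z.1 := by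
        intro j
        induction j with
        | zero => intro z; rfl
        | succ j ih => intro z; rw [pow_succ, pow_succ, Equiv.Perm.mul_apply, mul_smul]; exact ih _
      have hαq : ∀ y : ↥K ⧸ B, (α : MulAut (↥K ⧸ B)) ^ q • y = y := by
        intro y
        obtain ⟨k, rfl⟩ := QuotientGroup.mk'_surjective B y
        have e : ∀ j : ℕ, (α : MulAut (↥K ⧸ B)) ^ j • π k =
            π ((MulAut.conjNormal (w ^ j) : MulAut ↥K) k) := by
          intro j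
          induction j with
          | zero => rw [pow_zero, one_smul, pow_zero, map_one]; rfl
          | succ j ih =>
            rw [pow_succ', mul_smul, ih, MulAut.smul_def, hαπ, pow_succ' w, map_mul, MulAut.mul_apply]
        rw [e, ← S.orderOf_W₁ hw hw1, pow_orderOf_eq_one, map_one]
        rfl
      haveI : Fintype {z : ↥K ⧸ B // IsConj c₀ z} := Fintype.ofFinite _
      haveI := Fact.mk S.prime_q
      obtain ⟨z, hz⟩ := Equiv.Perm.exists_fixed_point_of_prime (p := q) (n := 1) (σ := σ) (by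
        rw [← Nat.card_eq_fintype_card]
        intro hd
        have h1 := Dvd.dvd.trans hd (Dvd.intro _
          (Characters.Complete.card_conjugates_mul_centralizer c₀))
        have h2 : Nat.card (↥K ⧸ B) ∣ Nat.card K := Subgroup.card_quotient_dvd_card B
        exact S.prime_q.ne_one (Nat.dvd_one.1 (S.coprime_W₁ ▸
          Nat.dvd_gcd dvd_rfl (h1.trans h2)))) (by
        rw [pow_one]
        exact Equiv.ext fun z => Subtype.ext ((hpow q z).trans (hαq _)))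
      exact ⟨⟨z.1, congrArg Subtype.val hz⟩, Subtype.ext (ConjClasses.mk_eq_mk_iff_isConj.2 z.2.symm)⟩
  rw [Induced.Mackey.card_fixed_classes_eq α] at hclass
  refine le_trans ?_ hclass
  have hdesc : ∀ θ : T, ∃ χ : Cfsg.IrrCharacter (↥K ⧸ B), (χ : ↥K ⧸ B → ℂ) ∘ π = θ.1 := fun θ => by
    obtain ⟨h1, h2, -⟩ := hT θ.1 θ.2
    obtain ⟨φ, -, hφ, hirr⟩ := Characters.Kernel.exists_descend B (IsCharacter_of_isIrrCharacter h1)
      fun g hg => h2 g (Subgroup.mem_subgroupOf.1 hg)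
    exact ⟨⟨φ, hirr h1⟩, hφ⟩
  choose χ hχ using hdesc
  rw [show T.card = Nat.card T by rw [Nat.card_eq_fintype_card, Fintype.card_coe]]
  refine Nat.card_le_card_of_injective (fun θ => ⟨χ θ, ?_⟩) fun a b e => ?_
  · refine (QuotientGroup.mk'_surjective B).injective_comp_right ?_
    funext k
    show (χ θ : ↥K ⧸ B → ℂ) (α (π k)) = _
    rw [hαπ]
    have h3 := congrFun (hT θ.1 θ.2).2.2 k
    rw [← hχ θ, Clifford.Basic.conjC_apply] at h3
    exact (congrArg (fun m => (χ θ : ↥K ⧸ B → ℂ) (π m))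
      (Subtype.ext (MulAut.conjNormal_apply w k))).trans h3
  · apply Subtype.ext
    rw [← hχ a, ← hχ b, show χ a = χ b from congrArg Subtype.val e]

/-- The `w`-fixed members of `Lin H H₀` number at least `p`. -/
theorem card_fixed_lin_ge {w : L} (hw : w ∈ W₁) (hw1 : w ≠ 1) :
    p ≤ Nat.card {lam : Lin H H₀ // twist w lam = lam} := by
  classical
  set π := QuotientGroup.mk' H₀
  have hker : ∀ {z : L}, π z = 1 ↔ z ∈ H₀ := fun {z} => QuotientGroup.eq_one_iff z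
  have hcm : ∀ {x y : L}, x ∈ H → y ∈ H → π x * π y = π y * π x := fun {x y} hx hy => by
    rw [← map_mul, ← map_mul, ← mul_inv_eq_one, ← map_inv, ← map_mul, hker, mul_inv_rev,
      show x * y * (x⁻¹ * y⁻¹) = x * y * x⁻¹ * y⁻¹ by group]
    exact S.commutator_mem x hx y hy
  have hmul : ∀ x y : ↥H, π (w * ((x * y : ↥H) : L) * w⁻¹ * ((x * y : ↥H) : L)⁻¹) =
      π (w * x * w⁻¹ * (x : L)⁻¹) * π (w * y * w⁻¹ * (y : L)⁻¹) := fun x y => by
    rw [← map_mul]
    have e : w * ((x * y : ↥H) : L) * w⁻¹ * ((x * y : ↥H) : L)⁻¹ =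
        w * x * w⁻¹ * ((w * y * w⁻¹ * (y : L)⁻¹) * (x : L)⁻¹) := by push_cast; group
    rw [e, map_mul, map_mul π (w * y * w⁻¹ * (y : L)⁻¹),
      hcm (H.mul_mem (S.conj_mem_H w y.2) (H.inv_mem y.2)) (H.inv_mem x.2), ← mul_assoc,
      ← map_mul, ← map_mul]
  let g : ↥H →* L ⧸ H₀ := MonoidHom.mk' (fun x => π (w * x * w⁻¹ * (x : L)⁻¹)) hmul
  have hW₂ : (W₂ ⊔ H₀).subgroupOf H ≤ g.ker := by
    intro x hx
    obtain ⟨a, ha, b, hb, he⟩ := Subgroup.mem_sup_of_normal_right.1 (Subgroup.mem_subgroupOf.1 hx)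
    rw [MonoidHom.mem_ker]
    show π (w * x * w⁻¹ * (x : L)⁻¹) = 1
    rw [← he, hker]
    have hc : w * a = a * w := by
      have := (S.centralizer_W₁ w hw hw1).ge ha
      exact (Subgroup.mem_centralizer_singleton_iff.1 this.2).symm
    rw [show w * (a * b) * w⁻¹ * (a * b)⁻¹ = (w * a) * b * w⁻¹ * b⁻¹ * a⁻¹ by group, hc,
      show a * w * b * w⁻¹ * b⁻¹ * a⁻¹ = a * ((w * b * w⁻¹) * b⁻¹) * a⁻¹ by group]
    exact S.H₀_normal.conj_mem _ (H₀.mul_mem (S.H₀_normal.conj_mem b hb w) (H₀.inv_mem hb)) a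
  set D := g.range.comap π
  have hD₀ : H₀ ≤ D := fun z hz => by
    show π z ∈ g.range
    rw [hker.2 hz]; exact one_mem _
  have hDH : D ≤ H := by
    rintro z ⟨x, hx⟩
    have : (w * x * w⁻¹ * (x : L)⁻¹)⁻¹ * z ∈ H₀ := QuotientGroup.eq.1 hx
    have := H.mul_mem (H.mul_mem (S.conj_mem_H w x.2) (H.inv_mem x.2)) (S.H₀_le this)
    rwa [mul_inv_cancel_left] at this
  have h1 : H₀.relIndex D = Nat.card g.range := by
    have h := Subgroup.relIndex_map_map π ⊥ D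
    rw [Subgroup.map_bot, Subgroup.relIndex_bot_left, QuotientGroup.ker_mk', bot_sup_eq,
      sup_of_le_left hD₀, Subgroup.map_comap_eq_self_of_surjective (QuotientGroup.mk'_surjective H₀)] at h
    exact h.symm
  have h2 : Nat.card g.range * p ≤ p ^ q := by
    rw [← Subgroup.index_ker, ← S.H₀_relIndex]
    have e1 := Subgroup.relIndex_mul_relIndex H₀ (W₂ ⊔ H₀) H le_sup_right
      (_root_.sup_le S.W₂_le S.H₀_le)
    rw [S.W₂_quot] at e1
    rw [← e1, mul_comm]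
    exact Nat.mul_le_mul_left p (Nat.le_of_dvd (Nat.pos_of_ne_zero Subgroup.index_ne_zero_of_finite)
      (Subgroup.index_dvd_of_le hW₂))
  have h3 := Subgroup.relIndex_mul_relIndex H₀ D H hD₀ hDH
  rw [h1, S.H₀_relIndex] at h3
  obtain ⟨hfin, hcard⟩ := card_lin (A := H) (B := D) (fun a ha b hb => by
      have := D.mul_mem (hD₀ (S.commutator_mem a ha b (hDH hb))) hb
      rwa [inv_mul_cancel_right] at this)
    (fun x hx y hy => hD₀ (S.commutator_mem x hx y hy))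
  have hpD : p ≤ Nat.card (Lin H D) := by
    rw [hcard]
    refine Nat.le_of_mul_le_mul_left ?_ (Nat.card_pos (α := g.range))
    rw [h3]; exact h2
  obtain ⟨hfin', -⟩ := S.card_Lin
  refine hpD.trans (Nat.card_le_card_of_injective
    (fun lam => (⟨⟨lam.1, fun x hx => lam.2 x (hD₀ hx)⟩, ?_⟩ : {lam : Lin H H₀ // twist w lam = lam}))
    fun a b e => Subtype.ext (congrArg (fun z => z.1.1) e :))
  refine Subtype.ext (MonoidHom.ext fun x => ?_)
  rw [twist_apply]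
  show lam.1 _ = lam.1 x
  rw [← mul_inv_eq_one, ← map_inv, ← map_mul]
  exact lam.2 _ ⟨x, rfl⟩

omit S in
theorem _root_.Cfsg.Agent.Lib.OddOrder.PF9Char.twist_eq_of_mem_zpowers {w g : L} {lam : Lin H H₀}
    (hfix : twist w lam = lam) (hg : g ∈ Subgroup.zpowers w) : twist g lam = lam := by
  have : Subgroup.zpowers w ≤ stab ⊤ lam := Subgroup.zpowers_le.2 ⟨Subgroup.mem_top w, hfix⟩
  exact (this hg).2

variable (hD : Dichotomy H U W₁ H₀ p)

include hD

/-- A non-trivial `w`-fixed linear character of `H / H₀` has stabiliser `C` in `U`. -/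
theorem stab_fixed {w : L} (hw : w ∈ W₁) (hw1 : w ≠ 1) {lam : Lin H H₀} (hne : lam.1 ≠ 1)
    (hfix : twist w lam = lam) : stab U lam = C := by
  rcases hD with hgal | ⟨H₁, C₁, a, D⟩
  · exact S.galois_stab_eq hgal hne
  · refine le_antisymm (fun u hu => S.mem_C_of_forall D hu.1 fun w' => S.conj_mem_C₁ D ?_ hu)
      (S.C_le_stab lam)
    have hall : ∀ v : W₁, twist (v : L) lam = lam := fun v =>
      twist_eq_of_mem_zpowers hfix (S.zpowers_W₁ hw hw1 ▸ v.2)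
    obtain ⟨w₀, hw₀⟩ := S.exists_supp D hne
    unfold Setting.Supp at hw₀ ⊢
    rw [hall w₀] at hw₀
    rw [hall w']
    exact hw₀

/-- The fixed characters of `K` coming from the fixed linear characters of `H / H₀`. -/
theorem exists_fixed_theta {w : L} (hw : w ∈ W₁) (hw1 : w ≠ 1) {lam : Lin H H₀} (hne : lam.1 ≠ 1)
    (hfix : twist w lam = lam) : ∃ ν : ↥(H ⊔ C) →* ℂˣ,
      (Extends ν lam ∧ ∀ c : ↥C, ν ⟨c, Subgroup.mem_sup_right c.2⟩ = 1) ∧
      Cfsg.IsIrrCharacter ↥K (thetaFun (K := K) fun x => (ν x : ℂ)) ∧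
      (∀ a : ↥K, (a : L) ∈ H₀ ⊔ C →
        thetaFun (K := K) (fun x => (ν x : ℂ)) a = thetaFun (K := K) (fun x => (ν x : ℂ)) 1) ∧
      (∃ x : ↥K, (x : L) ∈ H ∧
        thetaFun (K := K) (fun y => (ν y : ℂ)) x ≠ thetaFun (K := K) (fun y => (ν y : ℂ)) 1) ∧
      conjC K w (thetaFun (K := K) fun x => (ν x : ℂ)) = thetaFun (K := K) fun x => (ν x : ℂ) := by
  classical
  have hst := S.stab_fixed hD hw hw1 hne hfix
  obtain ⟨ν, hν, hνC⟩ := exists_ext (S.disjoint S.C_le) (fun x _ h hh => S.conj_mem_H x hh) lam.1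
    (1 : ↥C →* ℂˣ) fun x hx h => S.fixes_of_mem_C hx lam h _ rfl
  have hνw : ∀ (m : ↥(H ⊔ C)) (hm : w * m * w⁻¹ ∈ H ⊔ C), ν ⟨_, hm⟩ = ν m := by
    intro m hm
    obtain ⟨h, hh, c, hc, he⟩ := Subgroup.mem_sup_of_normal_left.1 m.2
    have e1 : m = ⟨h, Subgroup.mem_sup_left hh⟩ * ⟨c, Subgroup.mem_sup_right hc⟩ :=
      Subtype.ext he.symm
    have e2 : (⟨w * m * w⁻¹, hm⟩ : ↥(H ⊔ C)) =
        ⟨w * h * w⁻¹, Subgroup.mem_sup_left (S.conj_mem_H w hh)⟩ *
          ⟨w * c * w⁻¹, Subgroup.mem_sup_right (S.C_conj_W hw hc)⟩ :=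
      Subtype.ext (by simp [← he, mul_assoc])
    rw [e2, map_mul, e1, map_mul, hν ⟨h, hh⟩, hνC ⟨c, hc⟩, hν ⟨_, S.conj_mem_H w hh⟩,
      hνC ⟨_, S.C_conj_W hw hc⟩, MonoidHom.one_apply, MonoidHom.one_apply]
    exact congrArg (· * 1) (twist_eq_iff.1 hfix ⟨h, hh⟩ _ rfl)
  have hw' : ∀ m ∈ H ⊔ C, w * m * w⁻¹ ∈ H ⊔ C := fun m hm => by
    obtain ⟨h, hh, c, hc, rfl⟩ := Subgroup.mem_sup_of_normal_left.1 hm
    rw [show w * (h * c) * w⁻¹ = (w * h * w⁻¹) * (w * c * w⁻¹) by group]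
    exact (H ⊔ C).mul_mem (Subgroup.mem_sup_left (S.conj_mem_H w hh))
      (Subgroup.mem_sup_right (S.C_conj_W hw hc))
  have hw'' : ∀ m, w * m * w⁻¹ ∈ H ⊔ C → m ∈ H ⊔ C := fun m hm => by
    have h1 : ∀ j : ℕ, w ^ j * (w * m * w⁻¹) * (w ^ j)⁻¹ ∈ H ⊔ C := by
      intro j
      induction j with
      | zero => simpa using hm
      | succ j ih =>
        have := hw' _ ih
        rw [pow_succ']
        simpa [mul_assoc] using this
    have h2 := h1 (orderOf w - 1)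
    have hinv : w ^ (orderOf w - 1) = w⁻¹ := by
      rw [eq_inv_iff_mul_eq_one, ← pow_succ, Nat.sub_add_cancel (orderOf_pos w), pow_orderOf_eq_one]
    rw [hinv] at h2
    simpa [mul_assoc] using h2
  refine ⟨ν, ⟨hν, fun c => hνC c⟩, S.isIrr_thetaFun ν lam S.C_le le_rfl hν hst.le, fun a ha =>
    S.thetaFun_ker ν S.C_le le_rfl fun k => ?_, S.thetaFun_not_ker ν S.C_le le_rfl hν hne, ?_⟩
  · have hm := S.conj_mem_sup (le_refl C) (fun v hv c hc => S.C_conj_U hv hc) k.2 ha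
    obtain ⟨h₀, hh₀, c, hc, he⟩ := Subgroup.mem_sup_of_normal_left.1 hm
    refine ⟨_root_.sup_le (S.H₀_le.trans le_sup_left) le_sup_right hm, ?_⟩
    have e : (⟨(k : L) * a * (k : L)⁻¹, _root_.sup_le (S.H₀_le.trans le_sup_left) le_sup_right hm⟩ :
        ↥(H ⊔ C)) = ⟨h₀, Subgroup.mem_sup_left (S.H₀_le hh₀)⟩ * ⟨c, Subgroup.mem_sup_right hc⟩ :=
      Subtype.ext he.symm
    rw [e, map_mul, hν ⟨h₀, S.H₀_le hh₀⟩, hνC ⟨c, hc⟩, lam.2 _ hh₀, one_mul]
    rfl
  · funext k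
    rw [Clifford.Basic.conjC_apply]
    simp only [thetaFun, Cfsg.indFun]
    congr 1
    refine (Fintype.sum_equiv (MulAut.conjNormal w : MulAut ↥K).toEquiv _ _ fun x => ?_).symm
    set α : MulAut ↥K := MulAut.conjNormal w
    show _ = Cfsg.extendByZero _ _ ((α x)⁻¹ * _ * α x)
    have e : (α x)⁻¹ * ⟨w * k * w⁻¹, S.K_normal.conj_mem k k.2 w⟩ * α x = α (x⁻¹ * k * x) := by
      rw [map_mul, map_mul, map_inv]
      exact congrArg (fun z => (α x)⁻¹ * z * α x) (Subtype.ext (MulAut.conjNormal_apply w k).symm)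
    rw [e]
    by_cases hmem : x⁻¹ * k * x ∈ (H ⊔ C).subgroupOf K
    · have hm2 : α (x⁻¹ * k * x) ∈ (H ⊔ C).subgroupOf K := by
        rw [Subgroup.mem_subgroupOf, MulAut.conjNormal_apply]
        exact hw' _ (Subgroup.mem_subgroupOf.1 hmem)
      rw [extendByZero_of_mem _ _ hmem, extendByZero_of_mem _ _ hm2]
      exact congrArg Units.val ((hνw ⟨_, Subgroup.mem_subgroupOf.1 hmem⟩ (hw' _ (Subgroup.mem_subgroupOf.1 hmem))).symm.trans
        (congrArg ν (Subtype.ext (MulAut.conjNormal_apply (H := K) w (x⁻¹ * k * x)).symm)))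
    · have hm2 : α (x⁻¹ * k * x) ∉ (H ⊔ C).subgroupOf K := by
        rw [Subgroup.mem_subgroupOf, MulAut.conjNormal_apply]
        exact fun h => hmem (Subgroup.mem_subgroupOf.2 (hw'' _ h))
      rw [extendByZero_of_not_mem _ _ hmem, extendByZero_of_not_mem _ _ hm2]

/-- Two `w`-fixed linear characters conjugate under `U` are equal, by an element of `C`. -/
theorem fixed_twist_eq {w : L} (hw : w ∈ W₁) (hw1 : w ≠ 1) {lam lam' : Lin H H₀} (hne : lam.1 ≠ 1)
    (hfix : twist w lam = lam) (hfix' : twist w lam' = lam') {u : L} (hu : u ∈ U)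
    (ht : twist u lam' = lam) : u ∈ C ∧ lam = lam' := by
  have hinv : twist u⁻¹ lam = lam' := by rw [← ht, ← twist_mul, mul_inv_cancel, twist_one]
  have hwi : twist w⁻¹ lam = lam := twist_eq_of_mem_zpowers hfix ((Subgroup.zpowers w).inv_mem
    (Subgroup.mem_zpowers w))
  have hn : u⁻¹ * w * u * w⁻¹ ∈ C := by
    rw [← S.stab_fixed hD hw hw1 hne hfix]
    refine ⟨?_, by rw [twist_mul, twist_mul, twist_mul, hinv, hfix', ht, hwi]⟩
    simpa [mul_assoc] using U.mul_mem (U.inv_mem hu) (S.conj_mem_U hw hu)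
  obtain ⟨x, hx, hxW⟩ := S.lift_fixed (S.C_le.trans S.U_le) hw hw1 (fun c hc => S.C_conj_W hw hc)
    (S.U_le hu) (n := u⁻¹ * w * u * w⁻¹) hn (by group)
  have h1 : u * x⁻¹ ∈ H ⊓ U := ⟨S.W₂_le hxW, U.mul_mem hu (U.inv_mem (S.C_le hx))⟩
  rw [S.H_inf_U, Subgroup.mem_bot, mul_inv_eq_one] at h1
  refine ⟨h1 ▸ hx, ?_⟩
  rw [← ht, twist_eq_iff.2 (S.fixes_of_mem_C (h1 ▸ hx) lam')]

/-- Distinct fixed linear characters give distinct characters of `K`. -/
theorem fixed_theta_inj {w : L} (hw : w ∈ W₁) (hw1 : w ≠ 1) {lam lam' : Lin H H₀} (hne : lam.1 ≠ 1)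
    (hfix : twist w lam = lam) (_hne' : lam'.1 ≠ 1) (hfix' : twist w lam' = lam')
    {ν ν' : ↥(H ⊔ C) →* ℂˣ} (hν : Extends ν lam) (hν' : Extends ν' lam')
    (he : thetaFun (K := K) (fun x => (ν x : ℂ)) = thetaFun (K := K) fun x => (ν' x : ℂ)) :
    lam = lam' := by
  classical
  haveI := S.normal_subgroupOf S.C_le le_rfl
  obtain ⟨g, hg⟩ := conj_of_indFun_eq ((H ⊔ C).subgroupOf K)
    (θ := fun x => (pull K ν x : ℂ)) (η := fun x => (pull K ν' x : ℂ))
    (Characters.Linear.linChar (pull K ν)).2 (Characters.Linear.linChar (pull K ν')).2 he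
  have ht := S.exists_twist ν' lam' S.C_le le_rfl hν' hν hg
  obtain ⟨h, hh, u, hu, hgu⟩ := S.exists_mul g.2
  rw [← hgu, twist_mul, S.twist_of_mem_H hh] at ht
  exact (S.fixed_twist_eq hD hw hw1 hne hfix hfix' hu ht).2

omit hD in
/-- The reducible members of `S(H₀)` are the characters induced from the `w`-fixed ones of `K`. -/
theorem conjC_fixed_of_not_irr {w : L} (_hw : w ∈ W₁) {θ : ↥K → ℂ} (hθ : Cfsg.IsIrrCharacter ↥K θ)
    (hn : ¬ Cfsg.IsIrrCharacter L (Cfsg.indFun K θ)) : conjC K w θ = θ := by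
  by_contra hne
  exact hn (isIrr_indFun_of_prime_index K (S.index_K ▸ S.prime_q) hθ hne)

omit hD in
theorem classInner_of_fixed {w : L} (hw : w ∈ W₁) (hw1 : w ≠ 1) {θ : ↥K → ℂ}
    (hθ : Cfsg.IsIrrCharacter ↥K θ) (hfix : conjC K w θ = θ) :
    Cfsg.classInner (Cfsg.indFun K θ) (Cfsg.indFun K θ) = (q : ℂ) := by
  have hall : ∀ g : L, conjC K g θ = θ := fun g => by
    obtain ⟨k, hk, v, hv, rfl⟩ := S.exists_mul_W g
    have hv' : v ∈ Clifford.Basic.inertia K θ :=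
      (Subgroup.zpowers_le.2 (show w ∈ Clifford.Basic.inertia K θ from hfix))
        (S.zpowers_W₁ hw hw1 ▸ hv)
    rw [Clifford.Basic.conjC_mul, Clifford.Basic.conjC_of_mem K (isClassFunction_irr ⟨θ, hθ⟩) hk]
    exact hv'
  have h1 := Induced.Mackey.card_mul_classInner_indFun K hθ hθ
  rw [show Nat.card {g : L // conjC K g θ = θ} = Nat.card L from
    Nat.card_congr (Equiv.subtypeUnivEquiv hall), ← K.card_mul_index, S.index_K, Nat.cast_mul] at h1
  exact mul_left_cancel₀ (subgroup_card_ne_zero K) h1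

/-- The `w`-fixed characters of `K / H₀` with `H` outside the kernel: `p - 1` of them, induced from
the `w`-fixed linear characters of `H / H₀` extended trivially to `C`. -/
theorem exists_fixed_family {w : L} (hw : w ∈ W₁) (hw1 : w ≠ 1) :
    ∃ T : Finset (↥K → ℂ), T.card = p - 1 ∧
      (∀ θ ∈ T, Cfsg.IsIrrCharacter ↥K θ ∧ (∀ a : ↥K, (a : L) ∈ H₀ ⊔ C → θ a = θ 1) ∧
        (∃ x : ↥K, (x : L) ∈ H ∧ θ x ≠ θ 1) ∧ conjC K w θ = θ ∧
        ∃ (lam : Lin H H₀) (ν : ↥(H ⊔ C) →* ℂˣ), twist w lam = lam ∧ lam.1 ≠ 1 ∧ Extends ν lam ∧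
          (∀ c : ↥C, ν ⟨c, Subgroup.mem_sup_right c.2⟩ = 1) ∧
          θ = thetaFun (K := K) fun x => (ν x : ℂ)) ∧
      ∀ θ : ↥K → ℂ, Cfsg.IsIrrCharacter ↥K θ → (∀ a : ↥K, (a : L) ∈ H₀ → θ a = θ 1) →
        conjC K w θ = θ → (∃ x : ↥K, (x : L) ∈ H ∧ θ x ≠ θ 1) → θ ∈ T := by
  classical
  have hlam : ∀ lam : {lam : Lin H H₀ // twist w lam = lam ∧ lam.1 ≠ 1},
      ∃ ν : ↥(H ⊔ C) →* ℂˣ, (Extends ν lam.1 ∧ ∀ c : ↥C, ν ⟨c, Subgroup.mem_sup_right c.2⟩ = 1) ∧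
      Cfsg.IsIrrCharacter ↥K (thetaFun (K := K) fun x => (ν x : ℂ)) ∧
      (∀ a : ↥K, (a : L) ∈ H₀ ⊔ C →
        thetaFun (K := K) (fun x => (ν x : ℂ)) a = thetaFun (K := K) (fun x => (ν x : ℂ)) 1) ∧
      (∃ x : ↥K, (x : L) ∈ H ∧
        thetaFun (K := K) (fun y => (ν y : ℂ)) x ≠ thetaFun (K := K) (fun y => (ν y : ℂ)) 1) ∧
      conjC K w (thetaFun (K := K) fun x => (ν x : ℂ)) = thetaFun (K := K) fun x => (ν x : ℂ) :=
    fun lam => S.exists_fixed_theta hD hw hw1 lam.2.2 lam.2.1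
  choose ν hν hirr hker hH hfix using hlam
  obtain ⟨hfinL, -⟩ := S.card_Lin
  haveI := Fintype.ofFinite (Lin H H₀)
  let θ₀ : {lam : Lin H H₀ // twist w lam = lam ∧ lam.1 ≠ 1} → ↥K → ℂ :=
    fun lam => thetaFun (K := K) fun x => (ν lam x : ℂ)
  obtain ⟨T, hT⟩ : ∃ T : Finset (↥K → ℂ), T = Finset.univ.image θ₀ := ⟨_, rfl⟩
  have hinjθ : Function.Injective θ₀ := fun a b he =>
    Subtype.ext (S.fixed_theta_inj hD hw hw1 a.2.2 a.2.1 b.2.2 b.2.1 (hν a).1 (hν b).1 he)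
  have hcardT : p - 1 ≤ T.card := by
    rw [hT, Finset.card_image_of_injective _ hinjθ, Finset.card_univ, Fintype.card_eq_nat_card]
    have h1 := S.card_fixed_lin_ge hw hw1
    have h2 : Nat.card {lam : Lin H H₀ // twist w lam = lam} ≤
        Nat.card {lam : Lin H H₀ // twist w lam = lam ∧ lam.1 ≠ 1} + 1 := by
      rw [Nat.card_eq_fintype_card, Nat.card_eq_fintype_card, ← Fintype.card_option]
      refine Fintype.card_le_of_injective
        (fun lam => if h : lam.1.1 = 1 then none else some ⟨lam.1, lam.2, h⟩) fun a b he => ?_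
      simp only at he
      split_ifs at he with ha hb
      · exact Subtype.ext (Subtype.ext (ha.trans hb.symm))
      · exact Subtype.ext (Subtype.ext_iff.1 (Option.some.inj he) :)
    omega
  have hone : (fun _ : ↥K => (1 : ℂ)) ∉ T := by
    intro h
    obtain ⟨lam, -, he⟩ := Finset.mem_image.1 (hT ▸ h)
    obtain ⟨x, -, hx⟩ := hH lam
    apply hx
    rw [show thetaFun (K := K) (fun y => (ν lam y : ℂ)) = θ₀ lam from rfl, he]
  have hprop : ∀ η ∈ insert (fun _ : ↥K => (1 : ℂ)) T, Cfsg.IsIrrCharacter ↥K η ∧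
      (∀ a : ↥K, (a : L) ∈ H₀ → η a = η 1) ∧ conjC K w η = η := fun η hη => by
    rcases Finset.mem_insert.1 hη with rfl | hη
    · exact ⟨(oneChar ↥K).2, fun _ _ => rfl, rfl⟩
    obtain ⟨lam, -, rfl⟩ := Finset.mem_image.1 (hT ▸ hη)
    exact ⟨hirr lam, fun a ha => hker lam a (Subgroup.mem_sup_left ha), hfix lam⟩
  have hb := S.card_invariant_le hw hw1 (insert (fun _ => 1) T) hprop
  rw [Finset.card_insert_of_notMem hone] at hb
  refine ⟨T, by omega, fun θ hθ => ?_, fun θ h1 h2 h3 ⟨x, _, hx⟩ => ?_⟩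
  · obtain ⟨lam, -, rfl⟩ := Finset.mem_image.1 (hT ▸ hθ)
    exact ⟨hirr lam, hker lam, hH lam, hfix lam, lam.1, ν lam, lam.2.1, lam.2.2, (hν lam).1,
      (hν lam).2, rfl⟩
  · by_contra hnot
    have hb' := S.card_invariant_le hw hw1 (insert θ (insert (fun _ => 1) T)) fun η hη => by
      rcases Finset.mem_insert.1 hη with rfl | hη
      · exact ⟨h1, h2, h3⟩
      · exact hprop η hη
    rw [Finset.card_insert_of_notMem, Finset.card_insert_of_notMem hone] at hb'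
    · omega
    · rw [Finset.mem_insert, not_or]
      exact ⟨fun e => hx (by rw [e]), hnot⟩

end Setting

/-- (9.8)(c), (9.9)(a): the reducible members of `S(H₀)`. -/
theorem reducible (hD : Dichotomy H U W₁ H₀ p) : Reducible K H U H₀ C p q := by
  classical
  obtain ⟨w, hw, hw1⟩ := S.exists_W₁
  obtain ⟨T, hcard, hT, hall⟩ := S.exists_fixed_family hD hw hw1
  have hq1 : (q : ℂ) ≠ 1 := by exact_mod_cast S.prime_q.ne_one
  have hmem : ∀ φ : L → ℂ, φ ∈ seqS K H H₀ ∧ ¬ Cfsg.IsIrrCharacter L φ ↔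
      ∃ θ ∈ T, φ = Cfsg.indFun K θ := by
    intro φ
    constructor
    · rintro ⟨⟨θ, h1, h2, h3, rfl⟩, h4⟩
      exact ⟨θ, hall θ h1 h2 (S.conjC_fixed_of_not_irr hw h1 h4) h3, rfl⟩
    · rintro ⟨θ, hθ, rfl⟩
      obtain ⟨h1, h2, h3, h4, -⟩ := hT θ hθ
      refine ⟨⟨θ, h1, fun a ha => h2 a (Subgroup.mem_sup_left ha), h3, rfl⟩, fun hi => hq1 ?_⟩
      rw [← S.classInner_of_fixed hw hw1 h1 h4]
      exact classInner_self_irr ⟨_, hi⟩
  let e : {θ // θ ∈ T} → {φ : L → ℂ // φ ∈ seqS K H H₀ ∧ ¬ Cfsg.IsIrrCharacter L φ} :=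
    fun θ => ⟨Cfsg.indFun K θ.1, (hmem _).2 ⟨θ.1, θ.2, rfl⟩⟩
  have he : Function.Bijective e := by
    refine ⟨fun a b he => ?_, fun ⟨φ, hφ⟩ => ?_⟩
    · obtain ⟨ha1, -, -, -, -⟩ := hT a.1 a.2
      obtain ⟨hb1, -, -, hb4, -⟩ := hT b.1 b.2
      obtain ⟨g, hg⟩ := conj_of_indFun_eq K ha1 hb1 (congrArg Subtype.val he :)
      obtain ⟨k, hk, v, hv, rfl⟩ := S.exists_mul_W g
      have hv' : v ∈ Clifford.Basic.inertia K b.1 :=
        (Subgroup.zpowers_le.2 ((Clifford.Basic.mem_inertia K).2 hb4))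
          (S.zpowers_W₁ hw hw1 ▸ hv)
      rw [Clifford.Basic.conjC_mul, Clifford.Basic.conjC_of_mem K (isClassFunction_irr ⟨_, hb1⟩) hk,
        (Clifford.Basic.mem_inertia K).1 hv'] at hg
      exact Subtype.ext hg.symm
    · obtain ⟨θ, hθ, rfl⟩ := (hmem φ).1 hφ
      exact ⟨⟨θ, hθ⟩, rfl⟩
  refine ⟨?_, fun φ hφ hn => ?_⟩
  · rw [← Nat.card_eq_of_bijective e he, Nat.card_eq_fintype_card, Fintype.card_coe, hcard]
  · obtain ⟨θ, hθ, rfl⟩ := (hmem φ).1 ⟨hφ, hn⟩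
    obtain ⟨h1, h2, h3, h4, lam, ν, -, -, -, -, rfl⟩ := hT θ hθ
    exact ⟨⟨_, h1, h2, h3, rfl⟩, S.indFun_thetaFun_one ν S.C_le,
      S.classInner_of_fixed hw hw1 h1 h4, ν, S.indFun_thetaFun S.C_le _⟩

end Cfsg.Agent.Lib.OddOrder.PF9Char
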