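import Cfsg.Agent.Lib.OddOrder.PF9Members

/-!
# Peterfalvi (9.11): supports, and the character induced from the principal one of `H C₁`
-/

set_option autoImplicit false
set_option linter.style.haveILetI false
set_option linter.unusedSectionVars false

namespace Cfsg.Agent.Lib.OddOrder.PF9Char

open scoped Pointwise ComplexConjugate
open Cfsg.Agent.Lib.Clifford.Basic (conjC)
open Cfsg.Agent.Lib.Induced.Basic Cfsg.Agent.Lib.Characters.Basic

universe u

/-- If `θ` is a constituent of a character `r`, it has the kernel of `r` in its kernel. -/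
theorem constituent_apply {G : Type u} [Group G] [Fintype G] {r θ : G → ℂ} (hr : Cfsg.IsCharacter G r)
    (hθ : Cfsg.IsIrrCharacter G θ) (hne : Cfsg.classInner r θ ≠ 0) {x : G} (hx : r x = r 1) :
    θ x = θ 1 := by
  obtain ⟨k, r', hr', hk, -, hdec⟩ := Clifford.Basic.exists_eq_nsmul_add hr ⟨θ, hθ⟩
  have hk0 : k ≠ 0 := fun h => hne (by rw [h, Nat.cast_zero] at hk; exact hk)
  obtain ⟨d, -, hd⟩ := exists_degree_pos ⟨θ, hθ⟩
  replace hd : θ 1 = (d : ℂ) := hd
  obtain ⟨t, ht⟩ := exists_degree hr'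
  have h1 : r x = (k • θ + r') x := congrFun hdec x
  have h2 : r 1 = (k • θ + r') 1 := congrFun hdec 1
  rw [hx, h2] at h1
  simp only [Pi.add_apply, nsmul_eq_mul, Pi.mul_apply, Pi.natCast_apply, hd, ht] at h1
  have e := congrArg Complex.re h1
  simp only [Complex.add_re, Complex.mul_re, Complex.natCast_re, Complex.natCast_im, zero_mul,
    sub_zero] at e
  have na := norm_apply_le (IsCharacter_of_isIrrCharacter hθ) x
  have nr := (Complex.re_le_norm (r' x)).trans (norm_apply_le hr' x)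
  rw [hd, Complex.norm_natCast] at na
  rw [ht, Complex.norm_natCast] at nr
  have hkpos : (1 : ℝ) ≤ k := by exact_mod_cast Nat.one_le_iff_ne_zero.2 hk0
  have hre : (θ x).re = d := le_antisymm ((Complex.re_le_norm _).trans na) (by nlinarith)
  rw [hd]
  refine Complex.ext (by rw [Complex.natCast_re]; exact hre) ?_
  rw [Complex.natCast_im]
  have h3 : Complex.normSq (θ x) ≤ (d : ℝ) ^ 2 := by
    rw [Complex.normSq_eq_norm_sq]; exact pow_le_pow_left₀ (norm_nonneg _) na 2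
  rw [Complex.normSq_apply, hre] at h3
  nlinarith [mul_self_nonneg (θ x).im]

variable {L : Type u} [Group L] [Fintype L] {K H U W₁ W₂ H₀ C : Subgroup L} {p q : ℕ} [K.Normal]
  [H.Normal] [H₀.Normal] [Fintype ↥K] (S : Setting K H U W₁ W₂ H₀ C p q)
  {H₁ C₁ : Subgroup L} {a : ℕ} (D : LineData H U W₁ H₀ H₁ C₁ p a)

include S D

namespace Setting

/-- A function induced from `H X`, `X ≤ C₁`, vanishes off `A ∪ {1}`. -/
theorem indFun_vanish {A : Set L}
    (hA : ∀ x ∈ K, x ≠ 1 → (∃ h ∈ H, h ≠ 1 ∧ x * h = h * x) → x ∈ A)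
    {X : Subgroup L} (hX : X ≤ C₁) (f : ↥(H ⊔ X) → ℂ) {y : L} (hy1 : y ≠ 1) (hy : y ∉ A) :
    Cfsg.indFun (H ⊔ X) f y = 0 := by
  refine indFun_eq_zero_of_forall_not_mem _ _ fun g hg => hy ?_
  obtain ⟨h, hh, c, hc, he⟩ := Subgroup.mem_sup_of_normal_left.1 hg
  obtain ⟨h₁, h₁H, h₁0⟩ : ∃ h₁ ∈ H₁, h₁ ∉ H₀ := by
    by_contra hcon
    push Not at hcon
    have h1 := Subgroup.relIndex_eq_one.2 (show H₁ ≤ H₀ from hcon)
    rw [D.relIndex] at h1
    exact S.prime_p.ne_one h1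
  set z := g⁻¹ * y * g with hz
  have hzH : ∀ m, m ∈ H → z * m * z⁻¹ ∈ H := fun m hm => S.conj_mem_H z hm
  obtain ⟨h', hh', h'1, hcomm⟩ := exists_fixed S.H₀_le hzH (D.le_H h₁H) h₁0 (by
    rw [← he, show h * c * h₁ * (h * c)⁻¹ * h₁⁻¹ =
      h * (c * h₁ * c⁻¹ * h₁⁻¹) * h⁻¹ * (h * h₁ * h⁻¹ * h₁⁻¹) by group]
    exact H₀.mul_mem (S.H₀_normal.conj_mem _ (((D.mem_C₁ c).1 (hX hc)).2 h₁ h₁H) h)
      (S.commutator_mem h hh h₁ (D.le_H h₁H)))
  have hzK : z ∈ K := by
    rw [← he]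
    exact K.mul_mem (S.H_le hh) (S.U_le (D.C₁_le (hX hc)))
  have hy' : y = g * z * g⁻¹ := by rw [hz]; group
  refine hA y (hy' ▸ S.K_normal.conj_mem z hzK g) hy1
    ⟨g * h' * g⁻¹, S.conj_mem_H g hh', fun e => h'1 ?_, ?_⟩
  · rwa [mul_inv_eq_one, mul_eq_left] at e
  · rw [hy', show g * z * g⁻¹ * (g * h' * g⁻¹) = g * (z * h') * g⁻¹ by group, hcomm]
    group

/-- The character induced from the principal character of `H C₁`, when `C₁` meets its proper
conjugates in `C`. -/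
theorem exists_phi (hinter : ∀ v : W₁, (v : L) ≠ 1 → C₁ ⊓ Cw C₁ (v : L) = C) :
    ∃ (φ : L → ℂ) (N : ℝ), Cfsg.IsCharacter L φ ∧ φ 1 = ((q * a : ℕ) : ℂ) ∧
      (∃ f : ↥(H ⊔ C₁) → ℂ, φ = Cfsg.indFun (H ⊔ C₁) f) ∧ Cfsg.classInner φ φ = (N : ℂ) ∧
      N * (C.relIndex C₁ : ℝ) ≤ (a : ℝ) * (C.relIndex C₁ : ℝ) + ((q : ℝ) - 1) * a ∧
      ∀ θ : ↥K → ℂ, Cfsg.IsIrrCharacter ↥K θ → (∃ x : ↥K, (x : L) ∈ H ∧ θ x ≠ θ 1) →
        Cfsg.classInner φ (Cfsg.indFun K θ) = 0 := by
  classical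
  haveI := S.normal_subgroupOf D.C₁_le (S.C_le_C₁ D)
  set ν : ↥(H ⊔ C₁) →* ℂˣ := 1 with hν
  set θ₀ : ↥K → ℂ := thetaFun (K := K) fun x => (ν x : ℂ) with hθ₀
  have hθ₀1 : θ₀ 1 = (a : ℂ) := by rw [hθ₀, S.thetaFun_one ν D.C₁_le, D.index_C₁]
  set P : Subgroup ↥K := (H ⊔ C₁).subgroupOf K with hP
  have hval : ∀ k : ↥K, θ₀ k = if k ∈ P then (a : ℂ) else 0 := by
    intro k
    split_ifs with hk
    · rw [← hθ₀1]
      refine S.thetaFun_ker ν D.C₁_le (S.C_le_C₁ D) fun g => ⟨?_, rfl⟩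
      have := (inferInstance : P.Normal).conj_mem k hk g
      simpa [hP, Subgroup.mem_subgroupOf] using this
    · exact S.thetaFun_eq_zero D.C₁_le (S.C_le_C₁ D) _ fun h => hk (Subgroup.mem_subgroupOf.2 h)
  have hchar₀ : Cfsg.IsCharacter ↥K θ₀ := by
    rw [hθ₀]
    exact Induced.Character.isCharacter_indFun _
      (isCharacter_irr (Characters.Linear.linChar (pull K ν)))
  set φ := Cfsg.indFun K θ₀ with hφ
  have hφc : Cfsg.IsCharacter L φ := Induced.Character.isCharacter_indFun K hchar₀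
  have hres : ∀ k : ↥K, φ k = (Nat.card K : ℂ)⁻¹ *
      ∑ x : L, if (MulAut.conjNormal x : MulAut ↥K) k ∈ P then (a : ℂ) else 0 := by
    intro k
    rw [hφ, Clifford.Basic.indFun_apply_normal]
    congr 1
    refine Finset.sum_congr rfl fun x _ => ?_
    rw [Clifford.Basic.conjC_apply, hval]
    refine if_congr ?_ rfl rfl
    rw [show (MulAut.conjNormal x : MulAut ↥K) k = ⟨x * k * x⁻¹, S.K_normal.conj_mem k k.2 x⟩ from
      Subtype.ext (MulAut.conjNormal_apply x k)]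
  set Q : Finset (L × ↥K) :=
    Finset.univ.filter fun z => z.2 ∈ P ∧ (MulAut.conjNormal z.1 : MulAut ↥K) z.2 ∈ P with hQ
  refine ⟨φ, (a : ℝ) ^ 2 * Q.card / (Nat.card K : ℝ) ^ 2, hφc, ?_, ⟨_, S.indFun_thetaFun D.C₁_le _⟩,
    ?_, ?_, fun θ hθ hH => ?_⟩
  · exact S.indFun_degree hθ₀1
  · conv_lhs => arg 1; rw [hφ]
    rw [frobenius_reciprocity K θ₀ (isClassFunction_of_isCharacter hφc), Cfsg.classInner]
    have hterm : ∀ k : ↥K, θ₀ k * conj (φ (k : L)) = (Nat.card K : ℂ)⁻¹ * ((a : ℂ) ^ 2 *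
        ∑ x : L, if k ∈ P ∧ (MulAut.conjNormal x : MulAut ↥K) k ∈ P then (1 : ℂ) else 0) := by
      intro k
      rw [hval, hres, map_mul, map_inv₀, map_natCast, map_sum, Finset.mul_sum, Finset.mul_sum,
        Finset.mul_sum, Finset.mul_sum]
      refine Finset.sum_congr rfl fun x _ => ?_
      by_cases h1 : k ∈ P <;> by_cases h2 : (MulAut.conjNormal x : MulAut ↥K) k ∈ P <;>
        simp [h1, h2] <;> ring
    rw [Finset.sum_congr rfl fun k _ => hterm k, ← Finset.mul_sum, ← Finset.mul_sum]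
    have hcount : ∑ k : ↥K, ∑ x : L,
        (if k ∈ P ∧ (MulAut.conjNormal x : MulAut ↥K) k ∈ P then (1 : ℂ) else 0) = (Q.card : ℂ) := by
      rw [hQ, ← Finset.sum_boole, Fintype.sum_prod_type, Finset.sum_comm]
    rw [hcount]
    push_cast
    ring
  · -- the count
    set Kf : Finset L := Finset.univ.filter fun x => x ∈ K
    set Pf : Finset ↥K := Finset.univ.filter fun k => k ∈ P
    set Cf : Finset ↥K := Finset.univ.filter fun k => k ∈ (H ⊔ C).subgroupOf K
    have hsub : Q ⊆ (Kf ×ˢ Pf) ∪ (Kfᶜ ×ˢ Cf) := by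
      intro z hz
      obtain ⟨h1, h2⟩ := (Finset.mem_filter.1 hz).2
      rw [Finset.mem_union, Finset.mem_product, Finset.mem_product, Finset.mem_compl]
      by_cases hx : z.1 ∈ K
      · exact Or.inl ⟨Finset.mem_filter.2 ⟨Finset.mem_univ _, hx⟩,
          Finset.mem_filter.2 ⟨Finset.mem_univ _, h1⟩⟩
      refine Or.inr ⟨fun h => hx (Finset.mem_filter.1 h).2,
        Finset.mem_filter.2 ⟨Finset.mem_univ _, Subgroup.mem_subgroupOf.2 ?_⟩⟩
      rw [hP, Subgroup.mem_subgroupOf, MulAut.conjNormal_apply] at h2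
      obtain ⟨k', hk', v, hv, hxe⟩ := S.exists_mul_W z.1
      have hv1 : v ≠ 1 := fun e => hx (by rw [← hxe, e, mul_one]; exact hk')
      obtain ⟨h, hh, c, hc, hkc⟩ := Subgroup.mem_sup_of_normal_left.1 (Subgroup.mem_subgroupOf.1 h1)
      have hn := S.normal_subgroupOf D.C₁_le (S.C_le_C₁ D)
      have h3 : v * (z.2 : L) * v⁻¹ ∈ H ⊔ C₁ := by
        have := (Subgroup.normal_subgroupOf_iff (S.sup_le D.C₁_le)).1 hn _ k'⁻¹ h2 (K.inv_mem hk')
        rw [← hxe] at this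
        simpa [mul_assoc] using this
      have h4 : v * c * v⁻¹ ∈ H ⊔ C₁ := by
        have := (H ⊔ C₁).mul_mem (Subgroup.mem_sup_left (H.inv_mem (S.conj_mem_H v hh))) h3
        rw [← hkc] at this
        simpa [mul_assoc] using this
      have h5 : v * c * v⁻¹ ∈ C₁ :=
        S.mem_of_mem_sup D.C₁_le (S.conj_mem_U hv (D.C₁_le hc)) h4
      have h6 : c ∈ C := by
        rw [← hinter ⟨v⁻¹, W₁.inv_mem hv⟩ (fun e => hv1 (inv_eq_one.1 e))]
        exact ⟨hc, mem_Cw.2 (by simpa using h5)⟩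
      rw [← hkc]
      exact (H ⊔ C).mul_mem (Subgroup.mem_sup_left hh) (Subgroup.mem_sup_right h6)
    have hle : Q.card ≤ Kf.card * Pf.card + Kfᶜ.card * Cf.card := by
      refine (Finset.card_le_card hsub).trans ((Finset.card_union_le _ _).trans (le_of_eq ?_))
      rw [Finset.card_product, Finset.card_product]
    have hKf : Kf.card = Nat.card K := by
      rw [Nat.card_eq_fintype_card]; exact (Fintype.card_subtype _).symm
    have hPf : Pf.card = Nat.card P := by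
      rw [Nat.card_eq_fintype_card]; exact (Fintype.card_subtype _).symm
    have hCf : Cf.card = Nat.card ((H ⊔ C).subgroupOf K) := by
      rw [Nat.card_eq_fintype_card]; exact (Fintype.card_subtype _).symm
    have hKc : Kfᶜ.card + Nat.card K = Nat.card K * q := by
      rw [← hKf, Finset.card_compl_add_card, hKf, ← S.index_K, K.card_mul_index,
        Nat.card_eq_fintype_card]
    rw [hKf, hPf, hCf] at hle
    have eP := P.card_mul_index
    rw [S.index_sup D.C₁_le, D.index_C₁] at eP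
    have eC := ((H ⊔ C).subgroupOf K).card_mul_index
    rw [S.index_sup S.C_le, S.relIndex_C_eq D] at eC
    have hK0 : (0 : ℝ) < Nat.card K := by exact_mod_cast Nat.card_pos
    have hle' : (Q.card : ℝ) ≤ (Nat.card K : ℝ) * Nat.card P +
        (Kfᶜ.card : ℝ) * Nat.card ((H ⊔ C).subgroupOf K) := by exact_mod_cast hle
    have hKc' : (Kfᶜ.card : ℝ) = (Nat.card K : ℝ) * ((q : ℝ) - 1) := by
      have : (Kfᶜ.card : ℝ) + Nat.card K = (Nat.card K : ℝ) * q := by exact_mod_cast hKc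
      linarith
    have eP' : (Nat.card P : ℝ) * a = Nat.card K := by exact_mod_cast eP
    have eC' : (Nat.card ((H ⊔ C).subgroupOf K) : ℝ) * ((C.relIndex C₁ : ℝ) * a) = Nat.card K := by
      exact_mod_cast eC
    rw [div_mul_eq_mul_div, div_le_iff₀ (by positivity)]
    calc (a : ℝ) ^ 2 * Q.card * (C.relIndex C₁ : ℝ)
        ≤ (a : ℝ) ^ 2 * ((Nat.card K : ℝ) * Nat.card P +
            (Kfᶜ.card : ℝ) * Nat.card ((H ⊔ C).subgroupOf K)) * (C.relIndex C₁ : ℝ) := by gcongr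
      _ = (a : ℝ) * (C.relIndex C₁ : ℝ) * Nat.card K * ((Nat.card P : ℝ) * a) +
            (a : ℝ) * Nat.card K * ((q : ℝ) - 1) *
              ((Nat.card ((H ⊔ C).subgroupOf K) : ℝ) * ((C.relIndex C₁ : ℝ) * a)) := by
          rw [hKc']; ring
      _ = _ := by rw [eP', eC']; ring
  · rw [frobenius_reciprocity' K θ (isClassFunction_of_isCharacter hφc)]
    by_contra hne
    obtain ⟨x, hx, hxne⟩ := hH
    refine hxne (constituent_apply (isCharacter_comp K.subtype hφc) hθ hne ?_)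
    show φ (x : L) = φ ((1 : ↥K) : L)
    rw [hres, hres]
    congr 1
    refine Finset.sum_congr rfl fun g _ => ?_
    rw [if_pos, if_pos]
    · rw [map_one]; exact P.one_mem
    · rw [hP, Subgroup.mem_subgroupOf, MulAut.conjNormal_apply]
      exact Subgroup.mem_sup_left (S.conj_mem_H g hx)

end Setting

end Cfsg.Agent.Lib.OddOrder.PF9Char
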