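import Cfsg.Agent.Lib.OddOrder.PLengthSetup

/-!
# BG 10.6: `p`-length one, given the fixed point criterion for `[H, R]`
-/

set_option autoImplicit false
set_option linter.style.haveILetI false
set_option linter.unusedSectionVars false

open scoped commutatorElement

namespace Cfsg.Agent.Lib.OddOrder.PLengthProper

open Cfsg.Agent.Lib.OddOrder.MinSimple

universe u

/-- The criterion used: `[K, R]` has `p`-length one. -/
def Criterion : Prop :=
  ∀ {H : Type u} [Group H] [Finite H] [Group.IsSolvable H], Odd (Nat.card H) →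
    ∀ (K R R₀ : Subgroup H) [K.Normal], (Nat.card K).Coprime K.index →
      Subgroup.IsComplement' K R → R₀ ≤ R → (Nat.card R₀).Prime →
      IsZGroup ↥(K ⊓ Subgroup.centralizer (R₀ : Set H)) →
      ∀ (p : ℕ) [Fact p.Prime], Cfsg.PLengthLE p 1 ↥⁅K, R⁆

variable {G : Type u} [Group G] [Finite G] {p : ℕ} [hp : Fact p.Prime]

theorem exists_prime_not_sigma (hG : Cfsg.IsMinSimpleOddOrder G) {M : Subgroup G}
    (hM : IsCoatom M) : ∃ r : ℕ, r.Prime ∧ r ∣ Nat.card M ∧ r ∉ Cfsg.sigma M := by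
  by_contra hcon
  push Not at hcon
  haveI := solvable_of_ne_top hG hM.1
  haveI : Nontrivial M := (Subgroup.nontrivial_iff_ne_bot M).2 (coatom_ne_bot hG hM)
  refine (Group.IsSolvable.commutator_lt_top_of_nontrivial M).ne (top_le_iff.1 ?_)
  refine Coprime.le_of_forall_sylow (K := (⊤ : Subgroup M)) fun q hq => ?_
  haveI := Fact.mk hq
  obtain ⟨Q⟩ : Nonempty (Sylow q (⊤ : Subgroup M)) := inferInstance
  refine ⟨Q, ?_⟩
  set Q₁ := (Q : Subgroup (⊤ : Subgroup M)).map (⊤ : Subgroup M).subtype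
  have hQ₁ : IsPGroup q Q₁ := Q.2.map _
  obtain ⟨S, hS⟩ := hQ₁.exists_le_sylow
  by_cases hd : q ∣ Nat.card M
  · exact hS.trans (AlphaCore.sylow_le_commutator hG hM (hcon q hq hd) S)
  · obtain ⟨n, hn⟩ := IsPGroup.iff_card.1 hQ₁
    rcases n with _ | n
    · rw [Subgroup.card_eq_one.1 (hn.trans (pow_zero q))]
      exact bot_le
    · exact absurd (((dvd_pow_self q n.succ_ne_zero).trans hn.symm.dvd).trans
        (Subgroup.card_subgroup_dvd_card _)) hd

/-- BG 10.6. -/
theorem pLengthLE_one (hS : Criterion.{u}) (hG : Cfsg.IsMinSimpleOddOrder G) {H : Subgroup G}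
    (hH : H ≠ ⊤) : Cfsg.PLengthLE p 1 H := by
  obtain ⟨M, hM, hHM⟩ := exists_coatom_ge hG hH
  refine PSolvable.pLengthLE_of_injective (Subgroup.inclusion hHM)
    (Subgroup.inclusion_injective hHM) ?_
  haveI := solvable_of_ne_top hG hM.1
  by_cases hr : Cfsg.PRankLE p 2 M
  · by_cases hpM : p ∣ Nat.card M
    · exact PLengthSetup.pLengthLE_one_of_index (RankTwoGroup.main (odd_card hG M)
        (ne_two_of_dvd hG (hpM.trans M.card_subgroup_dvd_card)) hr).2.2.2.2.2
    · exact PSolvable.pLengthLE_mono zero_le_one (PSolvable.pLengthLE_zero_iff.2 hpM)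
  have hpα : p ∈ Cfsg.alpha M := ⟨hp.out, hr⟩
  obtain ⟨⟨hle, hpi, hrel⟩, -, -, -, -⟩ := AlphaCore.alphaCore_spec hG hM
  obtain ⟨r, hr', hrM, hrs⟩ := exists_prime_not_sigma hG hM
  haveI := Fact.mk hr'
  have hrα : r ∉ Cfsg.alpha M := fun h => hrs (AlphaCore.alpha_subset_sigma hG hM h)
  obtain ⟨R⟩ : Nonempty (Sylow r M) := inferInstance
  obtain ⟨x, hx, hxo, hxZ, -⟩ := SigmaComplement.exists_bad_central hG hM hrM hrs R
  have hxM : x ∈ M := by
    obtain ⟨y, -, rfl⟩ := hx
    exact y.2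
  set K : Subgroup M := Cfsg.piCore (Cfsg.alpha M) M with hK
  have hKπ : ∀ q : ℕ, q.Prime → q ∣ Nat.card K → q ∈ Cfsg.alpha M := Cores.piCore_isPiGroup _
  have hKidx : ∀ q : ℕ, q.Prime → q ∈ Cfsg.alpha M → ¬ q ∣ K.index := fun q hq hqa => by
    have := hrel q hq hqa
    rwa [Cfsg.alphaCore, Basic.relIndex_map_subtype] at this
  have hcopK : (Nat.card K).Coprime K.index :=
    Nat.coprime_of_dvd fun q hq h1 h2 => hKidx q hq (hKπ q hq h1) h2
  set x' : M := ⟨x, hxM⟩ with hx'
  have hx'o : orderOf x' = r := by rw [← hxo, ← Subgroup.orderOf_coe]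
  set α' : Set ℕ := {q | q ∉ Cfsg.alpha M} with hα'
  obtain ⟨E, hE, -, hxE⟩ := Hall.Coprime.exists_invariant_ge (A := (⊥ : Subgroup M))
    (K := (⊤ : Subgroup M)) bot_le (by rw [Subgroup.card_bot]; exact Nat.coprime_one_left _)
    (Group.isSolvable_of_surjective (f := (Subgroup.topEquiv (G := M)).symm.toMonoidHom)
      (Subgroup.topEquiv (G := M)).symm.surjective) α' (U := Subgroup.zpowers x') le_top bot_le
    (fun q hq hd => by
      rw [Nat.card_zpowers, hx'o] at hd
      rwa [(Nat.prime_dvd_prime_iff_eq hq hr').1 hd])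
  have hEidx : ∀ q : ℕ, q.Prime → q ∈ α' → ¬ q ∣ E.index := fun q hq hqa => by
    have := hE.2.2 q hq hqa
    rwa [Subgroup.relIndex_top_right] at this
  have hcopKE : (Nat.card K).Coprime (Nat.card E) :=
    Nat.coprime_of_dvd fun q hq h1 h2 => hE.2.1 q hq h2 (hKπ q hq h1)
  have hcard : Nat.card K * Nat.card E = Nat.card M := by
    have h1 : Nat.card E = K.index := by
      apply Nat.dvd_antisymm
      · exact hcopKE.symm.dvd_of_dvd_mul_left (K.card_mul_index.symm ▸ E.card_subgroup_dvd_card)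
      · refine Nat.Coprime.dvd_of_dvd_mul_right ?_ (E.card_mul_index.symm ▸ K.index_dvd_card)
        refine Nat.coprime_of_dvd fun q hq h1 h2 => hEidx q hq (fun h => hKidx q hq h h1) h2
    rw [h1, K.card_mul_index]
  have hcompl : Subgroup.IsComplement' K E :=
    Subgroup.isComplement'_of_coprime hcard hcopKE
  have hZ : IsZGroup ↥(K ⊓ Subgroup.centralizer (Subgroup.zpowers x' : Set M)) := by
    haveI := hxZ
    have hmem : ∀ y : ↥(K ⊓ Subgroup.centralizer (Subgroup.zpowers x' : Set M)),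
        ((y : M) : G) ∈ Cfsg.alphaCore M ⊓ Subgroup.centralizer ({x} : Set G) := fun y =>
      ⟨⟨(y : M), y.2.1, rfl⟩, Subgroup.mem_centralizer_singleton_iff.2
        (congrArg Subtype.val (Subgroup.mem_centralizer_iff.1 y.2.2 x'
          (Subgroup.mem_zpowers x'))).symm⟩
    refine IsZGroup.of_injective (f := (M.subtype.comp
      (K ⊓ Subgroup.centralizer (Subgroup.zpowers x' : Set M)).subtype).codRestrict _ hmem) ?_
    intro a b h
    exact Subtype.ext (Subtype.ext (congrArg Subtype.val h :))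
  have h1 := hS (odd_card hG M) K E (Subgroup.zpowers x') hcopK hcompl hxE
    (by rw [Nat.card_zpowers, hx'o]; exact hr') hZ p
  have hKE : ⁅K, E⁆ = K := PLengthSetup.commutator_eq_left hcompl.sup_eq_top hcopKE
    fun q hq hqK S => by
      haveI := Fact.mk hq
      exact AlphaCore.sylow_le_commutator hG hM (AlphaCore.alpha_subset_sigma hG hM (hKπ q hq hqK)) S
  refine PLengthSetup.pLengthLE_one_of_normal (K := K)
    (PSolvable.pLengthLE_congr (MulEquiv.subgroupCongr hKE) h1) ?_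
  exact ((hp.out.coprime_iff_not_dvd).2 (hKidx p hp.out hpα)).symm

end Cfsg.Agent.Lib.OddOrder.PLengthProper
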