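import Cfsg.Agent.Lib.OddOrder.TauThreeMover
import Cfsg.Agent.Lib.OddTau.Regular

/-!
# BG 13.10: prime action of subgroups of order `p ∉ σ(M)` with fixed points on `M_σ`
-/

set_option autoImplicit false
set_option linter.style.haveILetI false
set_option linter.unusedSectionVars false

open scoped Pointwise commutatorElement

namespace Cfsg.Agent.Lib.OddOrder.PrimeAction

open Cfsg.Agent.Lib.OddOrder.MinSimple

universe u

variable {G : Type u} [Group G] [Finite G] {p : ℕ} [hp : Fact p.Prime]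

/-- `C_{M_σ}(P)` is centralized by the elements of prime order of `C_M(P)` outside `M_σ`. -/
theorem fixed_le (hG : Cfsg.IsMinSimpleOddOrder G) {M P : Subgroup G} (hM : IsCoatom M)
    (hps : p ∉ Cfsg.sigma M) (hr1 : Cfsg.PRankLE p 1 M) (hPc : Nat.card P = p) (hPM : P ≤ M)
    (hfix : Cfsg.sigmaCore M ⊓ Subgroup.centralizer (P : Set G) ≠ ⊥) {r : ℕ} [hr : Fact r.Prime]
    {f : G} (hfo : orderOf f = r) (hfM : f ∈ M) (hfP : f ∈ Subgroup.centralizer (P : Set G))
    (hrσ : r ∉ Cfsg.sigma M) :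
    Cfsg.sigmaCore M ⊓ Subgroup.centralizer (P : Set G) ≤ Subgroup.centralizer ({f} : Set G) := by
  have hPp := ComplementLines.isPGroup_of_card hPc
  have hP1 := ComplementLines.ne_bot_of_card hPc
  obtain ⟨H, hH, hNH⟩ := exists_coatom_ge hG (normalizer_ne_top hG hP1 (pgroup_ne_top hG hPp))
  have hnc := MaximalBasics.not_conj_of_normalizer hG hM hps (fun h => h.2.2.2 hr1) hPp hP1 hNH
  have hCH : Subgroup.centralizer (P : Set G) ≤ H :=
    (Subgroup.centralizer_le_normalizer _).trans hNH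
  have hPH : P ≤ H := Subgroup.le_normalizer.trans hNH
  have hfH : f ∈ H := hCH hfP
  have hpH := NormalizerSigma.sigma_of_fixed hG hM hps hr1 hPc hPM hfix hH hNH
  have hPσ := OddTau.Basic.pgroup_le_sigmaCore hG hH hpH hPp hPH
  have hXC := Subgroup.le_centralizer_iff.1 (SigmaMeet.centralizes hG hM hH hnc hps hPp
    (le_inf hPM hPH) (Sigma.le_derived hG hH hpH hPp hPH))
  refine (inf_le_inf_left _ hCH).trans ?_
  set X := Cfsg.sigmaCore M ⊓ H with hX
  refine Coprime.le_of_forall_sylow fun q hq => ?_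
  haveI := Fact.mk hq
  obtain ⟨Q₀, -, hfQ⟩ := Coprime.exists_invariant_sylow_ge (K := X)
    (SigmaMeet.le_normalizer_inf (Subgroup.zpowers_le.2 (Subgroup.mem_inf.2 ⟨hfM, hfH⟩)))
    ((OddTau.Basic.coprime_sigmaCore (SigmaDisjoint.zpowers_isPGroup hfo) hrσ).coprime_dvd_right
      (Subgroup.card_dvd_of_le inf_le_left))
    (Or.inl inferInstance) q ⊥ bot_le IsPGroup.of_bot
    (fun g _ => Subgroup.mem_normalizer_iff.2 fun z => by simp)
  refine ⟨Q₀, ?_⟩
  set Q := (Q₀ : Subgroup X).map X.subtype with hQ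
  have hQX : Q ≤ X := Subgroup.map_subtype_le _
  have hQp : IsPGroup q Q := Q₀.2.map _
  by_cases hQ1 : Q = ⊥
  · rw [hQ1]; exact bot_le
  have hqd : q ∣ Nat.card Q := SigmaEmbedding.ne_one_of_pgroup hQp hQ1
  have hqM : q ∈ Cfsg.sigma M := (SigmaHall.sigmaCore_isPiHallOf hG hM).2.1 q hq
    (hqd.trans (Subgroup.card_dvd_of_le (hQX.trans inf_le_left)))
  have hqH := TauTwoPartner.not_sigma hG hM hH hnc hqM
  obtain ⟨⟨x, hxQ⟩, hxo⟩ := exists_prime_orderOf_dvd_card' (G := Q) q hqd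
  rw [← Subgroup.orderOf_coe] at hxo
  simp only at hxo
  have hxX : x ∈ X := hQX hxQ
  have hPx : P ≤ Subgroup.centralizer ({x} : Set G) := fun b hb =>
    Subgroup.mem_centralizer_singleton_iff.2 (Subgroup.mem_centralizer_iff.1 (hXC hxX) b hb)
  have hqr : Cfsg.PRankLE q 1 H := by
    by_contra h
    have h2 : Cfsg.PRankLE q 2 H := by
      by_contra h3
      exact hqH (AlphaCore.alpha_subset_sigma hG hH ⟨hq, h3⟩)
    refine hP1 (le_bot_iff.1 ?_)
    rw [← TauTwoMeet.fixed_inf_eq_bot hG hM hH hqM ⟨hq, hqH, h2, h⟩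
      (OddTau.Basic.sigmaCore_le M hxX.1) hxX.2 hxo]
    exact le_inf (le_inf hPσ hPx) hPM
  haveI := SigmaCompl.isCyclic_of_prankLE_one hG (hQX.trans inf_le_right) hqr hQp
  have hx1 : x ≠ 1 := fun e => hq.ne_one (by rw [← hxo, e, orderOf_one])
  have hXc : Nat.card (Subgroup.zpowers x) = q := by rw [Nat.card_zpowers, hxo]
  have hfN : f ∈ Subgroup.normalizer (Subgroup.zpowers x : Set G) := by
    refine Subgroup.mem_normalizer_iff_map_conj_eq.2 (Cyclic.eq_of_card_eq_of_isCyclic (W := Q)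
      ?_ (Subgroup.zpowers_le.2 hxQ) (Subgroup.card_map_of_injective (MulAut.conj f).injective))
    rintro _ ⟨b, hb, rfl⟩
    exact (Subgroup.mem_normalizer_iff.1 (hfQ (Subgroup.mem_zpowers f)) b).1
      (Subgroup.zpowers_le.2 hxQ hb)
  have hfx : Commute f x := by
    have h := TauThreeMover.centralizes_of_prime hG hH hqH hqr hXc
      (Subgroup.zpowers_le.2 hxX.2) (fun e => hP1 (le_bot_iff.1 (e ▸ le_inf hPσ (by
        rw [SigmaDisjoint.centralizer_zpowers]; exact hPx)))) hfo hfH hfN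
    exact (Subgroup.mem_centralizer_iff.1 h x (Subgroup.mem_zpowers x)).symm
  intro v hv
  refine Subgroup.mem_centralizer_singleton_iff.2 (Eq.symm ?_)
  refine (UniqueAux.centralizes_cyclic_of_fixed (ne_two_of_dvd hG
    (hqd.trans Q.card_subgroup_dvd_card)) inferInstance hQp (hfQ (Subgroup.mem_zpowers f)) ?_ hxQ
    hx1 hfx v hv).eq
  rw [hfo]
  exact (Nat.coprime_primes hr.out hq).2 fun e => hrσ (e ▸ hqM)

/-- BG 13.10: a `σ(M)'`-subgroup of rank one normalizing `P` acts in prime manner on `M_σ`. -/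
theorem semiprime (hG : Cfsg.IsMinSimpleOddOrder G) {M P K : Subgroup G} (hM : IsCoatom M)
    (hPc : Nat.card P = p) (hPK : P ≤ K) (hKM : K ≤ M)
    (hKN : K ≤ Subgroup.normalizer (P : Set G))
    (hK : ∀ r : ℕ, r.Prime → r ∣ Nat.card K → r ∉ Cfsg.sigma M ∧ Cfsg.PRankLE r 1 M)
    (hfix : Cfsg.sigmaCore M ⊓ Subgroup.centralizer (P : Set G) ≠ ⊥) :
    Cfsg.sigmaCore M ⊓ Subgroup.centralizer (K : Set G) =
        Cfsg.sigmaCore M ⊓ Subgroup.centralizer (P : Set G) ∧
      ∀ k ∈ K, k ≠ 1 → Cfsg.sigmaCore M ⊓ Subgroup.centralizer ({k} : Set G) =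
        Cfsg.sigmaCore M ⊓ Subgroup.centralizer (K : Set G) := by
  have h5 := TauTwoFacts.tauTwo hG
  obtain ⟨hps, hr1⟩ := hK p hp.out (hPc ▸ Subgroup.card_dvd_of_le hPK)
  -- elements of prime order of `K` centralize `P`
  have hcen : ∀ (r : ℕ) [Fact r.Prime], ∀ f ∈ K, orderOf f = r →
      f ∈ Subgroup.centralizer (P : Set G) := fun r _ f hf ho =>
    TauThreeMover.centralizes_of_prime hG hM hps hr1 hPc (hPK.trans hKM) hfix ho (hKM hf) (hKN hf)
  set Ks := Cfsg.sigmaCore M ⊓ Subgroup.centralizer (P : Set G) with hKs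
  have hKC : K ≤ Subgroup.centralizer (Ks : Set G) := by
    intro k hk
    refine OddLocal.DerivedFitting.mem_of_primePow_parts fun r hr y hy ⟨j, hj⟩ => ?_
    haveI := Fact.mk hr
    rcases j with _ | j
    · rw [pow_zero, orderOf_eq_one_iff] at hj
      exact hj ▸ one_mem _
    have hyK : y ∈ K := Subgroup.zpowers_le.2 hk hy
    have hrK : r ∣ Nat.card K :=
      ((dvd_pow_self r j.succ_ne_zero).trans hj.symm.dvd).trans (K.orderOf_dvd_natCard hyK)
    obtain ⟨hrσ, hrr⟩ := hK r hr hrK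
    have h0o := ComplementLines.orderOf_pow_prime hr hj
    set y₀ := y ^ r ^ j with hy₀
    have h1 : Ks ≤ Subgroup.centralizer ({y₀} : Set G) :=
      fixed_le hG hM hps hr1 hPc (hPK.trans hKM) hfix h0o (hKM (pow_mem hyK _))
        (hcen r y₀ (pow_mem hyK _) h0o) hrσ
    rw [← SigmaDisjoint.centralizer_zpowers] at h1
    have h2 := SigmaMeet.prime_action h5 hG hM hrσ hrr (P := Subgroup.zpowers y₀)
      (S := Subgroup.zpowers y) (by rw [Nat.card_zpowers, h0o])
      (Subgroup.zpowers_le.2 (hKM (pow_mem hyK _)))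
      (IsPGroup.of_card (n := j + 1) (by rw [Nat.card_zpowers, hj]))
      (Subgroup.zpowers_le.2 (Subgroup.mem_inf.2 ⟨hKM hyK, by
        rw [SigmaDisjoint.centralizer_zpowers]
        exact Subgroup.mem_centralizer_singleton_iff.2 ((Commute.refl y).pow_right _).eq⟩))
    exact Subgroup.le_centralizer_iff.1 ((le_inf inf_le_left h1).trans h2)
      (Subgroup.mem_zpowers y)
  have heq : Cfsg.sigmaCore M ⊓ Subgroup.centralizer (K : Set G) = Ks :=
    le_antisymm (inf_le_inf_left _ (Subgroup.centralizer_le (SetLike.coe_subset_coe.2 hPK)))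
      (le_inf inf_le_left (Subgroup.le_centralizer_iff.1 hKC))
  refine ⟨heq, fun k hk hk1 => ?_⟩
  rw [heq]
  refine le_antisymm (le_inf inf_le_left ?_) (le_inf inf_le_left ?_)
  swap
  · exact (Subgroup.le_centralizer_iff.1 hKC).trans
      (Subgroup.centralizer_le (Set.singleton_subset_iff.2 hk))
  obtain ⟨r, hr, hd⟩ := Nat.exists_prime_and_dvd fun h1 => hk1 (orderOf_eq_one_iff.1 h1)
  haveI := Fact.mk hr
  obtain ⟨hrσ, hrr⟩ := hK r hr (hd.trans (K.orderOf_dvd_natCard hk))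
  have h0o := OddTau.Regular.exists_pow_prime_order hd
  set k₀ := k ^ (orderOf k / r) with hk₀
  have hk₀K : k₀ ∈ K := pow_mem hk _
  obtain ⟨a, ha, ha1⟩ := P.bot_or_exists_ne_one.resolve_left (ComplementLines.ne_bot_of_card hPc)
  have hao : orderOf a = p := by
    rw [← Nat.card_zpowers, ComplementLines.zpowers_eq_of_card hPc ha ha1, hPc]
  have hfix₀ : Cfsg.sigmaCore M ⊓ Subgroup.centralizer (Subgroup.zpowers k₀ : Set G) ≠ ⊥ :=
    ne_bot_of_le_ne_bot hfix (le_inf inf_le_left ((Subgroup.le_centralizer_iff.1 hKC).trans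
      (Subgroup.centralizer_le (SetLike.coe_subset_coe.2 (Subgroup.zpowers_le.2 hk₀K)))))
  have hle := fixed_le hG hM hrσ hrr (P := Subgroup.zpowers k₀) (by rw [Nat.card_zpowers, h0o])
    (Subgroup.zpowers_le.2 (hKM hk₀K)) hfix₀ hao (hKM (hPK ha)) (by
      rw [SigmaDisjoint.centralizer_zpowers]
      exact Subgroup.mem_centralizer_singleton_iff.2
        (Subgroup.mem_centralizer_iff.1 (hcen r k₀ hk₀K h0o) a ha)) hps
  rw [SigmaDisjoint.centralizer_zpowers] at hle
  rw [← ComplementLines.zpowers_eq_of_card hPc ha ha1, SigmaDisjoint.centralizer_zpowers]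
  refine (le_inf inf_le_left (fun z hz => ?_)).trans hle
  exact Subgroup.mem_centralizer_singleton_iff.2 ((show Commute z k from
    Subgroup.mem_centralizer_singleton_iff.1 (Subgroup.mem_inf.1 hz).2).pow_right _).eq

end Cfsg.Agent.Lib.OddOrder.PrimeAction
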