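import Mathlib.Tactic.NoncommRing
import Cfsg.Agent.Lib.Coprime.Glauberman
import Cfsg.Agent.Lib.Coprime.Commutator

/-!
# Quadratic action in groups of odd order (elementary form of `p`-stability)

In a finite group of odd order acting on a module in which `2` and the order of `Y` are invertible,
an element `a` with `(a - 1)² = 0` normalizing `Y` of order prime to that of `a` acts on `Y` trivially
modulo the kernel.
-/

set_option autoImplicit false
set_option linter.style.haveILetI false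

open scoped commutatorElement

namespace Cfsg.Agent.Lib.OddOrder.Quadratic

universe u v

variable {R : Type v} [Ring R] {Γ : Type u} [Group Γ] [Finite Γ]

theorem map_inv_of_quadratic {ρ : Γ →* R} {a : Γ} (ha : (ρ a - 1) * (ρ a - 1) = 0) :
    ρ a⁻¹ = 1 - (ρ a - 1) := by
  have h1 : ρ a * (1 - (ρ a - 1)) = 1 := by
    calc ρ a * (1 - (ρ a - 1)) = 1 - (ρ a - 1) * (ρ a - 1) := by noncomm_ring
      _ = 1 := by rw [ha, sub_zero]
  calc ρ a⁻¹ = ρ a⁻¹ * (ρ a * (1 - (ρ a - 1))) := by rw [h1, mul_one]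
    _ = 1 - (ρ a - 1) := by rw [← mul_assoc, ← map_mul, inv_mul_cancel, map_one, one_mul]

theorem quadratic_conj {ρ : Γ →* R} {a : Γ} (ha : (ρ a - 1) * (ρ a - 1) = 0) (y : Γ) :
    (ρ (y * a * y⁻¹) - 1) * (ρ (y * a * y⁻¹) - 1) = 0 := by
  have h : ρ (y * a * y⁻¹) - 1 = ρ y * (ρ a - 1) * ρ y⁻¹ := by
    rw [map_mul, map_mul, mul_sub, sub_mul, mul_one, ← map_mul ρ y y⁻¹, mul_inv_cancel, map_one]
  rw [h]
  have h2 : ρ y⁻¹ * ρ y = 1 := by rw [← map_mul, inv_mul_cancel, map_one]
  calc ρ y * (ρ a - 1) * ρ y⁻¹ * (ρ y * (ρ a - 1) * ρ y⁻¹)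
      = ρ y * ((ρ a - 1) * (ρ y⁻¹ * ρ y) * (ρ a - 1)) * ρ y⁻¹ := by noncomm_ring
    _ = 0 := by rw [h2, mul_one, ha, mul_zero, zero_mul]

/-- The key identity: for `g = a⁻¹ (y a y⁻¹)`, `g + g⁻¹` commutes with `a`. -/
theorem trace_commute {ρ : Γ →* R} {a b : Γ} (ha : (ρ a - 1) * (ρ a - 1) = 0)
    (hb : (ρ b - 1) * (ρ b - 1) = 0) :
    ρ a * (ρ (a⁻¹ * b) + ρ (a⁻¹ * b)⁻¹) = (ρ (a⁻¹ * b) + ρ (a⁻¹ * b)⁻¹) * ρ a := by
  rw [mul_inv_rev, inv_inv, map_mul, map_mul, map_inv_of_quadratic ha, map_inv_of_quadratic hb]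
  set u := ρ a - 1 with hu
  set w := ρ b - 1 with hw
  have ea : ρ a = 1 + u := by rw [hu]; noncomm_ring
  have eb : ρ b = 1 + w := by rw [hw]; noncomm_ring
  rw [ea, eb]
  have h : u * ((1 - u) * (1 + w) + (1 - w) * (1 + u)) =
      ((1 - u) * (1 + w) + (1 - w) * (1 + u)) * u := by
    calc u * ((1 - u) * (1 + w) + (1 - w) * (1 + u))
        = u * 2 + u * u * (1 - 1 - w) - u * w * u := by noncomm_ring
      _ = u * 2 - u * w * u := by rw [ha, zero_mul, add_zero]
      _ = 2 * u + (1 - w - 1) * (u * u) - u * w * u := by rw [ha, mul_zero, add_zero]; noncomm_ring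
      _ = ((1 - u) * (1 + w) + (1 - w) * (1 + u)) * u := by noncomm_ring
  calc (1 + u) * ((1 - u) * (1 + w) + (1 - w) * (1 + u))
      = ((1 - u) * (1 + w) + (1 - w) * (1 + u)) +
          u * ((1 - u) * (1 + w) + (1 - w) * (1 + u)) := by noncomm_ring
    _ = _ := by rw [h]; noncomm_ring

theorem isUnit_natCast_of_dvd {m n : ℕ} (h : IsUnit (n : R)) (hmn : m ∣ n) : IsUnit (m : R) := by
  obtain ⟨k, rfl⟩ := hmn
  rw [Nat.cast_mul] at h
  exact ((Nat.cast_commute m (k : R)).isUnit_mul_iff.1 h).1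

/-- Fixed-point-free case: no averaging group survives. -/
theorem map_eq_one_of_fpf {ρ : Γ →* R} (hodd : Odd (Nat.card Γ)) {a : Γ}
    (ha : (ρ a - 1) * (ρ a - 1) = 0) {Y : Subgroup Γ}
    (haY : a ∈ Subgroup.normalizer (Y : Set Γ)) (hfix : ∀ y ∈ Y, a * y = y * a → y = 1)
    (hu : IsUnit (Nat.card Y : R)) : ∀ y ∈ Y, ρ y = 1 := by
  classical
  haveI := Fintype.ofFinite Y
  have hconj : ∀ y : Γ, y ∈ Y → a⁻¹ * y * a ∈ Y := fun y hy =>
    (Subgroup.mem_normalizer_iff''.1 haY y).1 hy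
  let β : Y → Y := fun z => ⟨a⁻¹ * z * a * (z : Γ)⁻¹, Y.mul_mem (hconj z z.2) (Y.inv_mem z.2)⟩
  have hβ : Function.Bijective β := Finite.injective_iff_bijective.1 (by
    intro z w h
    have h' : a⁻¹ * z * a * (z : Γ)⁻¹ = a⁻¹ * w * a * (w : Γ)⁻¹ := congrArg Subtype.val h
    have h2 : (z : Γ) * a * (z : Γ)⁻¹ = (w : Γ) * a * (w : Γ)⁻¹ := by
      have := congrArg (a * ·) h'
      simpa [mul_assoc] using this
    have h3 := hfix _ (Y.mul_mem (Y.inv_mem w.2) z.2) (by
      calc a * ((w : Γ)⁻¹ * z) = (w : Γ)⁻¹ * ((w : Γ) * a * (w : Γ)⁻¹) * z := by group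
        _ = (w : Γ)⁻¹ * ((z : Γ) * a * (z : Γ)⁻¹) * z := by rw [h2]
        _ = (w : Γ)⁻¹ * z * a := by group)
    exact Subtype.ext (inv_mul_eq_one.1 h3).symm)
  have hquad : ∀ y : Y, (ρ (a * y) - 1) * (ρ (a * y) - 1) = 0 := by
    intro y
    obtain ⟨z, rfl⟩ := hβ.2 y
    have : a * ((β z : Y) : Γ) = (z : Γ) * a * (z : Γ)⁻¹ := by
      show a * (a⁻¹ * z * a * (z : Γ)⁻¹) = _
      group
    rw [this]
    exact quadratic_conj ha z
  let γ : Y → Y := fun z => ⟨a⁻¹ * z * a * z, Y.mul_mem (hconj z z.2) z.2⟩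
  have hγ : Function.Bijective γ := Finite.injective_iff_bijective.1 (by
    intro y z h
    have h' : a⁻¹ * y * a * (y : Γ) = a⁻¹ * z * a * (z : Γ) := congrArg Subtype.val h
    set w : Γ := (z : Γ)⁻¹ * y with hw
    -- `x := z a⁻¹` inverts `w`
    set x : Γ := (z : Γ)⁻¹ * a⁻¹ with hx
    have h1 : x * w * x⁻¹ = w⁻¹ := by
      have e : a⁻¹ * (z : Γ)⁻¹ * y * a = (z : Γ) * (y : Γ)⁻¹ := by
        calc a⁻¹ * (z : Γ)⁻¹ * y * a = (a⁻¹ * (z : Γ)⁻¹ * a) * (a⁻¹ * y * a * y) * (y : Γ)⁻¹ := by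
              group
          _ = (a⁻¹ * (z : Γ)⁻¹ * a) * (a⁻¹ * z * a * z) * (y : Γ)⁻¹ := by rw [h']
          _ = (z : Γ) * (y : Γ)⁻¹ := by group
      calc x * w * x⁻¹ = (z : Γ)⁻¹ * (a⁻¹ * (z : Γ)⁻¹ * y * a) * z := by rw [hx, hw]; group
        _ = (z : Γ)⁻¹ * ((z : Γ) * (y : Γ)⁻¹) * z := by rw [e]
        _ = w⁻¹ := by rw [hw]; group
    have hsq : x * x * w * (x * x)⁻¹ = w := by
      calc x * x * w * (x * x)⁻¹ = x * (x * w * x⁻¹) * x⁻¹ := by group
        _ = x * w⁻¹ * x⁻¹ := by rw [h1]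
        _ = (x * w * x⁻¹)⁻¹ := by group
        _ = w := by rw [h1, inv_inv]
    obtain ⟨k, hk⟩ := (Odd.of_dvd_nat hodd (orderOf_dvd_natCard x))
    have hxsq : x = (x * x) ^ (k + 1) := by
      rw [← pow_two, ← pow_mul, show 2 * (k + 1) = orderOf x + 1 by omega, pow_succ,
        pow_orderOf_eq_one, one_mul]
    have hcomm : Commute x w := by
      rw [hxsq]
      exact Commute.pow_left (by
        calc x * x * w = x * x * w * (x * x)⁻¹ * (x * x) := by group
          _ = w * (x * x) := by rw [hsq]) _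
    have hw2 : w⁻¹ = w := by rw [← h1, hcomm.eq, mul_inv_cancel_right]
    have hww : w * w = 1 := by nth_rewrite 1 [← hw2]; exact inv_mul_cancel w
    obtain ⟨m, hm⟩ := (Odd.of_dvd_nat hodd (orderOf_dvd_natCard w))
    have : w = 1 := by
      have hp := pow_orderOf_eq_one w
      rw [hm, pow_succ, pow_mul, pow_two, hww, one_pow, one_mul] at hp
      exact hp
    exact Subtype.ext (inv_mul_eq_one.1 this).symm)
  set S : R := ∑ y : Y, ρ y with hS
  have key : ρ (a * a) * S - 2 * (ρ a * S) + (Nat.card Y : R) = 0 := by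
    have h0 : ∑ y : Y, (ρ (a * y) - 1) * (ρ (a * y) - 1) = 0 :=
      Finset.sum_eq_zero fun y _ => hquad y
    have h1 : ∀ y : Y, (ρ (a * y) - 1) * (ρ (a * y) - 1) =
        ρ (a * a) * ρ (γ y : Γ) - 2 * (ρ a * ρ y) + 1 := by
      intro y
      have : ρ (a * y) * ρ (a * y) = ρ (a * a) * ρ (γ y : Γ) := by
        rw [← map_mul, ← map_mul]
        congr 1
        show _ = a * a * (a⁻¹ * y * a * y)
        group
      rw [← this, map_mul]
      noncomm_ring
    have h2 : ∑ y : Y, ρ (γ y : Γ) = S :=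
      Fintype.sum_bijective γ hγ _ _ (fun _ => rfl)
    rw [Finset.sum_congr rfl (fun y _ => h1 y), Finset.sum_add_distrib, Finset.sum_sub_distrib,
      ← Finset.mul_sum, ← Finset.mul_sum, ← Finset.mul_sum, h2, Finset.sum_const,
      Finset.card_univ, ← Nat.card_eq_fintype_card, nsmul_one] at h0
    exact h0
  intro z hz
  have hSz : S * ρ z = S := by
    rw [hS, Finset.sum_mul]
    exact Fintype.sum_bijective (· * (⟨z, hz⟩ : Y)) (Group.mulRight_bijective _) _ _
      fun y => (map_mul ρ _ _).symm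
  have h3 : (Nat.card Y : R) * (1 - ρ z) = 0 := by
    have hzero : (ρ (a * a) * S - 2 * (ρ a * S) + (Nat.card Y : R)) * (1 - ρ z) = 0 := by
      rw [key, zero_mul]
    have he : S * (1 - ρ z) = 0 := by rw [mul_sub, mul_one, hSz, sub_self]
    calc (Nat.card Y : R) * (1 - ρ z)
        = (ρ (a * a) * S - 2 * (ρ a * S) + (Nat.card Y : R)) * (1 - ρ z)
          - ρ (a * a) * (S * (1 - ρ z)) + 2 * (ρ a * (S * (1 - ρ z))) := by noncomm_ring
      _ = 0 := by rw [hzero, he]; simp
  exact (sub_eq_zero.1 (hu.mul_right_eq_zero.1 h3)).symm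

/-- A faithful quadratic element centralizes a `q`-group that it normalizes. -/
theorem commute_of_qgroup {ρ : Γ →* R} (hinj : Function.Injective ρ) (hodd : Odd (Nat.card Γ))
    (h2 : IsUnit (2 : R)) {a : Γ} (ha : (ρ a - 1) * (ρ a - 1) = 0) {q : ℕ} [Fact q.Prime] :
    ∀ n : ℕ, ∀ Y : Subgroup Γ, Nat.card Y = n → IsPGroup q Y →
      a ∈ Subgroup.normalizer (Y : Set Γ) → (orderOf a).Coprime (Nat.card Y) →
      IsUnit (Nat.card Y : R) → ∀ y ∈ Y, a * y = y * a := by
  intro n
  induction n using Nat.strong_induction_on with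
  | _ n ih =>
    intro Y hn hY haY hcop hu
    by_contra hcon
    have sub : ∀ W : Subgroup Γ, W < Y → a ∈ Subgroup.normalizer (W : Set Γ) →
        ∀ y ∈ W, a * y = y * a := by
      intro W hW haW
      have hd : Nat.card W ∣ Nat.card Y := Subgroup.card_dvd_of_le hW.le
      refine ih (Nat.card W) (hn ▸ lt_of_le_of_ne (Nat.le_of_dvd Nat.card_pos hd) ?_) W rfl
        (hY.to_le hW.le) haW (hcop.coprime_dvd_right hd) (isUnit_natCast_of_dvd hu hd)
      exact fun h => hW.ne (Subgroup.eq_of_le_of_card_ge hW.le h.ge)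
    set A := Subgroup.zpowers a with hA
    have hAY : A ≤ Subgroup.normalizer (Y : Set Γ) := Subgroup.zpowers_le.2 haY
    have hcA : (Nat.card A).Coprime (Nat.card Y) := by rw [hA, Nat.card_zpowers]; exact hcop
    have hs : Group.IsSolvable A ∨ Group.IsSolvable Y :=
      Or.inl (Coprime.isSolvable_zpowers a)
    have hcent : ∀ W : Subgroup Γ, (∀ y ∈ W, a * y = y * a) →
        A ≤ Subgroup.centralizer (W : Set Γ) := fun W h => Subgroup.zpowers_le.2
      (Subgroup.mem_centralizer_iff.2 fun y hy => (h y hy).symm)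
    have hYA : ⁅Y, A⁆ = Y := by
      by_contra h
      have hlt : ⁅Y, A⁆ < Y := lt_of_le_of_ne (Coprime.commutator_le_of_le_normalizer hAY) h
      have h1 := sub _ hlt (Coprime.right_le_normalizer_commutator Y A (Subgroup.mem_zpowers a))
      have h2 : ⁅⁅Y, A⁆, A⁆ = ⊥ :=
        Subgroup.commutator_eq_bot_iff_le_centralizer.2 (fun y hy =>
          Subgroup.le_centralizer_iff.1 (hcent _ h1) hy)
      rw [Coprime.commutator_commutator_eq hAY hcA hs] at h2
      refine hcon fun y hy => ?_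
      have := (Subgroup.commutator_eq_bot_iff_le_centralizer.1 h2) hy
      exact Subgroup.mem_centralizer_iff.1 this a (Subgroup.mem_zpowers a)
    rcases em (∀ x ∈ Y, ∀ y ∈ Y, x * y = y * x) with hab | hnab
    · haveI : IsMulCommutative Y := ⟨⟨fun x y => Subtype.ext (hab x x.2 y y.2)⟩⟩
      have hfix : ∀ y ∈ Y, a * y = y * a → y = 1 := by
        intro y hy hay
        have := Coprime.centralizer_inf_commutator_eq_bot hAY hcA
        rw [Subgroup.eq_bot_iff_forall] at this
        refine this y ⟨⟨hy, Subgroup.mem_centralizer_iff.2 fun b hb => ?_⟩, by rw [hYA]; exact hy⟩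
        obtain ⟨k, rfl⟩ := Subgroup.mem_zpowers_iff.1 hb
        exact (Commute.zpow_left hay k).eq
      refine hcon fun y hy => ?_
      rw [hinj ((map_eq_one_of_fpf hodd ha haY hfix hu y hy).trans (map_one ρ).symm), mul_one,
        one_mul]
    set D := ⁅Y, Y⁆ with hD
    have hDY : D ≤ Y := Subgroup.commutator_le.2 fun x hx y hy =>
      Y.mul_mem (Y.mul_mem (Y.mul_mem hx hy) (Y.inv_mem hx)) (Y.inv_mem hy)
    have hDlt : D < Y := by
      refine lt_of_le_of_ne hDY fun h => ?_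
      haveI := hY.isNilpotent
      haveI : Nontrivial Y := (Subgroup.nontrivial_iff_ne_bot Y).2 fun hb => hcon fun y hy => by
        rw [hb, Subgroup.mem_bot] at hy
        rw [hy, mul_one, one_mul]
      refine (Group.IsSolvable.commutator_lt_top_of_nontrivial Y).ne ?_
      apply Subgroup.map_injective Y.subtype_injective
      rw [Subgroup.map_subtype_commutator, ← MonoidHom.range_eq_map, Subgroup.range_subtype]
      exact h
    have haD : a ∈ Subgroup.normalizer (D : Set Γ) := by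
      apply Coprime.mem_normalizer_of_conj_smul_eq
      rw [hD, Coprime.conj_smul_eq_map, Subgroup.map_commutator, ← Coprime.conj_smul_eq_map,
        Coprime.conj_smul_eq_self_of_mem_normalizer haY]
    have hDA := hcent D (sub D hDlt haD)
    -- `D` is central in `Y`
    have hcentral : ⁅Y, D⁆ = ⊥ := by
      have h1 : ⁅⁅A, D⁆, Y⁆ = ⊥ := by
        rw [Subgroup.commutator_eq_bot_iff_le_centralizer.2 hDA, Subgroup.commutator_bot_left]
      have h2 : ⁅⁅D, Y⁆, A⁆ = ⊥ := by
        rw [Subgroup.commutator_eq_bot_iff_le_centralizer]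
        refine le_trans ?_ (Subgroup.le_centralizer_iff.1 hDA)
        rw [hD]
        exact Subgroup.commutator_mono hDY le_rfl
      have h3 := Subgroup.commutator_commutator_eq_bot_of_rotate h1 h2
      rwa [hYA] at h3
    have hcen : ∀ d ∈ D, ∀ y ∈ Y, d * y = y * d := fun d hd y hy =>
      Subgroup.mem_centralizer_iff.1
        ((Subgroup.commutator_eq_bot_iff_le_centralizer.1 hcentral) hy) d hd
    have haz : ∀ d ∈ D, a * d = d * a := sub D hDlt haD
    -- each `g = a⁻¹ y a y⁻¹` commutes with its conjugates under powers of `a`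
    have hg : ∀ y ∈ Y, a * (a⁻¹ * (y * a * y⁻¹)) = (a⁻¹ * (y * a * y⁻¹)) * a := by
      intro y hy
      obtain ⟨g, hgdef⟩ : ∃ g, g = a⁻¹ * (y * a * y⁻¹) := ⟨_, rfl⟩
      rw [← hgdef]
      have hgY : g ∈ Y := by
        rw [hgdef, show a⁻¹ * (y * a * y⁻¹) = (a⁻¹ * y * a) * y⁻¹ by group]
        exact Y.mul_mem ((Subgroup.mem_normalizer_iff''.1 haY y).1 hy) (Y.inv_mem hy)
      set t := ρ g + ρ g⁻¹ with ht
      have hta : ρ a * t = t * ρ a := by
        rw [ht, hgdef]; exact trace_commute ha (quadratic_conj ha y)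
      have hconjt : ∀ h : Γ, ρ h * t = t * ρ h →
          ρ (h * g * h⁻¹) + ρ (h * g * h⁻¹)⁻¹ = t := by
        intro h hh
        have e : ρ h * ρ h⁻¹ = 1 := by rw [← map_mul, mul_inv_cancel, map_one]
        rw [show (h * g * h⁻¹)⁻¹ = h * g⁻¹ * h⁻¹ by group]
        simp only [map_mul]
        rw [← add_mul, ← mul_add, ← ht, hh, mul_assoc, e, mul_one]
      set T : Subgroup Γ :=
        { carrier := {h | ρ h * t = t * ρ h}
          mul_mem' := fun {x y} hx hy => by
            show ρ (x * y) * t = t * ρ (x * y)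
            rw [map_mul, mul_assoc, hy, ← mul_assoc, hx, mul_assoc]
          one_mem' := by show ρ 1 * t = t * ρ 1; rw [map_one, one_mul, mul_one]
          inv_mem' := fun {x} hx => by
            show ρ x⁻¹ * t = t * ρ x⁻¹
            have e1 : ρ x⁻¹ * ρ x = 1 := by rw [← map_mul, inv_mul_cancel, map_one]
            have e2 : ρ x * ρ x⁻¹ = 1 := by rw [← map_mul, mul_inv_cancel, map_one]
            calc ρ x⁻¹ * t = ρ x⁻¹ * (t * ρ x) * ρ x⁻¹ := by rw [mul_assoc, mul_assoc, e2, mul_one]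
              _ = ρ x⁻¹ * (ρ x * t) * ρ x⁻¹ := by rw [hx]
              _ = t * ρ x⁻¹ := by rw [← mul_assoc (ρ x⁻¹), e1, one_mul] } with hT
      have hAT : A ≤ T := Subgroup.zpowers_le.2 hta
      set gs : Set Γ := {h | ∃ x ∈ A, h = x * g * x⁻¹} with hgs
      have hgsY : gs ⊆ Y := by
        rintro _ ⟨x, hx, rfl⟩
        exact (Subgroup.mem_normalizer_iff.1 (hAY hx) g).1 hgY
      have hgsT : gs ⊆ T := by
        rintro h ⟨x, hx, rfl⟩
        show ρ (x * g * x⁻¹) * t = t * ρ (x * g * x⁻¹)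
        have e := hconjt x (hAT hx)
        set k := x * g * x⁻¹
        have e1 : ρ k * ρ k⁻¹ = 1 := by rw [← map_mul, mul_inv_cancel, map_one]
        have e2 : ρ k⁻¹ * ρ k = 1 := by rw [← map_mul, inv_mul_cancel, map_one]
        rw [← e, mul_add, add_mul, e1, e2]
      have hcomm0 : ∀ h ∈ gs, h * g = g * h := by
        intro h hh
        obtain ⟨z, hzdef⟩ : ∃ z, z = h * g * h⁻¹ * g⁻¹ := ⟨_, rfl⟩
        have hzD : z ∈ D := hzdef ▸ Subgroup.commutator_mem_commutator (hgsY hh) hgY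
        have hzg : h * g * h⁻¹ = z * g := by rw [hzdef]; group
        have hzcg := hcen z hzD g hgY
        have hzch := hcen z hzD h (hgsY hh)
        have e := hconjt h (hgsT hh)
        rw [hzg, show (z * g)⁻¹ = z⁻¹ * g⁻¹ by
          rw [hzcg, mul_inv_rev], map_mul, map_mul, ht] at e
        set Z := ρ z with hZ
        set X := ρ g with hX
        have eZ : Z * ρ z⁻¹ = 1 := by rw [hZ, ← map_mul, mul_inv_cancel, map_one]
        have eX : ρ g⁻¹ * X = 1 := by rw [hX, ← map_mul, inv_mul_cancel, map_one]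
        have hw : (Z - 1) * (Z * (X * X)) = Z - 1 := by
          have e' : (Z - 1) * X = (1 - ρ z⁻¹) * ρ g⁻¹ := by
            have := sub_eq_zero.2 e
            rw [← sub_eq_zero]
            calc (Z - 1) * X - (1 - ρ z⁻¹) * ρ g⁻¹
                = Z * X + ρ z⁻¹ * ρ g⁻¹ - (X + ρ g⁻¹) := by noncomm_ring
              _ = 0 := this
          calc (Z - 1) * (Z * (X * X)) = Z * ((Z - 1) * X) * X := by noncomm_ring
            _ = Z * ((1 - ρ z⁻¹) * ρ g⁻¹) * X := by rw [e']
            _ = (Z - Z * ρ z⁻¹) * (ρ g⁻¹ * X) := by noncomm_ring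
            _ = Z - 1 := by rw [eZ, eX, mul_one]
        -- conjugate by `h`
        set W := Z * (X * X) with hW
        have ehz : ρ h * Z * ρ h⁻¹ = Z := by
          rw [hZ, ← map_mul, ← map_mul, ← hzch, mul_inv_cancel_right]
        have eh : ρ h⁻¹ * ρ h = 1 := by rw [← map_mul, inv_mul_cancel, map_one]
        have ehW : ρ h * W * ρ h⁻¹ = Z * (Z * W) := by
          rw [hW, hZ, hX]
          simp only [← map_mul]
          congr 1
          calc h * (z * (g * g)) * h⁻¹ = (h * z * h⁻¹) * (h * g * h⁻¹) * (h * g * h⁻¹) := by group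
            _ = z * (z * g) * (z * g) := by rw [← hzch, mul_inv_cancel_right, hzg]
            _ = z * ((z * g) * z) * g := by group
            _ = z * (z * (z * g)) * g := by rw [mul_assoc z g z, ← hzcg]
            _ = z * (z * (z * (g * g))) := by group
        have hw2 : (Z - 1) * (Z * (Z * W)) = Z - 1 := by
          calc (Z - 1) * (Z * (Z * W)) = (ρ h * Z * ρ h⁻¹ - 1) * (ρ h * W * ρ h⁻¹) := by
                rw [ehz, ehW]
            _ = ρ h * Z * (ρ h⁻¹ * ρ h) * W * ρ h⁻¹ - ρ h * W * ρ h⁻¹ := by noncomm_ring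
            _ = ρ h * ((Z - 1) * W) * ρ h⁻¹ := by rw [eh]; noncomm_ring
            _ = ρ h * Z * ρ h⁻¹ - ρ h * ρ h⁻¹ := by rw [hw]; noncomm_ring
            _ = Z - 1 := by rw [ehz, ← map_mul, mul_inv_cancel, map_one]
        have hz3 : (Z + 1) * ((Z - 1) * (Z - 1)) = 0 := by
          calc (Z + 1) * ((Z - 1) * (Z - 1))
              = Z * Z * (Z - 1) - (Z - 1) := by noncomm_ring
            _ = Z * Z * ((Z - 1) * W) - (Z - 1) := by rw [hw]
            _ = (Z - 1) * (Z * (Z * W)) - (Z - 1) := by noncomm_ring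
            _ = 0 := by rw [hw2, sub_self]
        have hunit : IsUnit (Z + 1) := by
          obtain ⟨k, hk⟩ := Odd.of_dvd_nat hodd (orderOf_dvd_natCard z)
          have hzn : Z ^ orderOf z = 1 := by rw [hZ, ← map_pow, pow_orderOf_eq_one, map_one]
          have hcz : Commute (Z + 1) (∑ i ∈ Finset.range (orderOf z), (-Z) ^ i) :=
            Commute.sum_right _ _ _ fun i _ => ((Commute.refl Z).add_left (Commute.one_left Z)).neg_right.pow_right i
          have hprod : (Z + 1) * (∑ i ∈ Finset.range (orderOf z), (-Z) ^ i) = 2 := by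
            have hg' := mul_neg_geom_sum (-Z) (orderOf z)
            rw [sub_neg_eq_add, add_comm 1 Z, Odd.neg_pow ⟨k, hk⟩, hzn, sub_neg_eq_add,
              one_add_one_eq_two] at hg'
            exact hg'
          exact (hcz.isUnit_mul_iff.1 (hprod ▸ h2)).1
        have hz2 : (Z - 1) * (Z - 1) = 0 := hunit.mul_right_eq_zero.1 hz3
        have hpow : ∀ m : ℕ, Z ^ m = 1 + (m : R) * (Z - 1) := by
          intro m
          induction m with
          | zero => simp
          | succ m ihm =>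
            rw [pow_succ, ihm, Nat.cast_succ]
            calc (1 + (m : R) * (Z - 1)) * Z
                = 1 + ((m : R) + 1) * (Z - 1) + (m : R) * ((Z - 1) * (Z - 1)) := by noncomm_ring
              _ = _ := by rw [hz2, mul_zero, add_zero]
        have hZ1 : Z = 1 := by
          have hm := hpow (orderOf z)
          rw [hZ, ← map_pow, pow_orderOf_eq_one, map_one, ← hZ, eq_comm, add_eq_left] at hm
          have hdvd : orderOf z ∣ Nat.card Y := Subgroup.orderOf_dvd_natCard _ (hDY hzD)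
          exact sub_eq_zero.1 ((isUnit_natCast_of_dvd hu hdvd).mul_right_eq_zero.1 hm)
        have hz1 : z = 1 := hinj (hZ1.trans (map_one ρ).symm)
        rw [hz1, one_mul] at hzg
        calc h * g = h * g * h⁻¹ * h := by group
          _ = g * h := by rw [hzg]
      -- `gs` generates an `a`-invariant abelian subgroup
      set G₀ := Subgroup.closure gs with hG₀
      have hG₀Y : G₀ ≤ Y := (Subgroup.closure_le Y).2 hgsY
      have hgg : g ∈ gs := ⟨1, one_mem _, by group⟩
      have hG₀ab : ∀ x ∈ G₀, ∀ y ∈ G₀, x * y = y * x := by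
        have hpair : ∀ h₁ ∈ gs, ∀ h₂ ∈ gs, h₁ * h₂ = h₂ * h₁ := by
          rintro _ ⟨x₁, hx₁, rfl⟩ _ ⟨x₂, hx₂, rfl⟩
          have := hcomm0 ((x₂⁻¹ * x₁) * g * (x₂⁻¹ * x₁)⁻¹)
            ⟨_, A.mul_mem (A.inv_mem hx₂) hx₁, rfl⟩
          calc x₁ * g * x₁⁻¹ * (x₂ * g * x₂⁻¹)
              = x₂ * ((x₂⁻¹ * x₁) * g * (x₂⁻¹ * x₁)⁻¹ * g) * x₂⁻¹ := by group
            _ = x₂ * (g * ((x₂⁻¹ * x₁) * g * (x₂⁻¹ * x₁)⁻¹)) * x₂⁻¹ := by rw [this]
            _ = x₂ * g * x₂⁻¹ * (x₁ * g * x₁⁻¹) := by group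
        intro x hx y hy
        have hx' : x ∈ Subgroup.centralizer (G₀ : Set Γ) := by
          refine (Subgroup.closure_le _).2 (fun h₁ hh₁ => ?_) hx
          rw [SetLike.mem_coe, hG₀, Subgroup.centralizer_closure, Subgroup.mem_centralizer_iff]
          exact fun h₂ hh₂ => hpair h₂ hh₂ h₁ hh₁
        exact (Subgroup.mem_centralizer_iff.1 hx' y hy).symm
      have hG₀lt : G₀ < Y := lt_of_le_of_ne hG₀Y fun h => hnab fun x hx y hy =>
        hG₀ab x (h ▸ hx) y (h ▸ hy)
      have haG₀ : a ∈ Subgroup.normalizer (G₀ : Set Γ) := by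
        apply Coprime.mem_normalizer_of_conj_smul_eq
        refine le_antisymm ?_ ?_
        · rw [hG₀, Coprime.conj_smul_eq_map, MonoidHom.map_closure, Subgroup.closure_le]
          rintro _ ⟨_, ⟨x, hx, rfl⟩, rfl⟩
          exact Subgroup.subset_closure ⟨a * x, A.mul_mem (Subgroup.mem_zpowers a) hx, by
            simp; group⟩
        · rw [hG₀, Subgroup.closure_le]
          rintro _ ⟨x, hx, rfl⟩
          rw [SetLike.mem_coe, Coprime.mem_conj_smul]
          exact Subgroup.subset_closure ⟨a⁻¹ * x, A.mul_mem (A.inv_mem (Subgroup.mem_zpowers a)) hx,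
            by group⟩
      exact sub G₀ hG₀lt haG₀ g (Subgroup.subset_closure hgg)
    -- so `[Y,a]` is centralized by `a`
    have hfin : ⁅⁅Y, A⁆, A⁆ = ⊥ := by
      set C := Y ⊓ Subgroup.centralizer (A : Set Γ) with hC
      rw [Subgroup.commutator_eq_bot_iff_le_centralizer]
      rw [Subgroup.commutator_le]
      intro y hy b hb
      obtain ⟨m, rfl⟩ := mem_powers_iff_mem_zpowers.2 hb
      have hmem : ∀ w ∈ Y, a⁻¹ * (w * a * w⁻¹) ∈ Subgroup.centralizer (A : Set Γ) := by
        intro w hw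
        rw [Subgroup.mem_centralizer_iff]
        intro x hx
        obtain ⟨k, rfl⟩ := Subgroup.mem_zpowers_iff.1 hx
        exact (Commute.zpow_left (hg w hw) k).eq
      set c := a⁻¹ * (y * a * y⁻¹) with hcdef
      have hca : Commute a c := hg y hy
      have : ⁅y, a ^ m⁆ = c ^ m := by
        have e1 : y * a * y⁻¹ = a * c := by rw [hcdef]; group
        have e2 : y * a ^ m * y⁻¹ = a ^ m * c ^ m := by
          rw [← conj_pow, e1, hca.mul_pow]
        rw [commutatorElement_def, e2, (hca.pow_pow m m).eq, mul_inv_cancel_right]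
      rw [this]
      exact Subgroup.pow_mem _ (hmem y hy) m
    rw [hYA] at hfin
    exact hcon fun y hy => Subgroup.mem_centralizer_iff.1
      (Subgroup.commutator_eq_bot_iff_le_centralizer.1 hfin hy) a (Subgroup.mem_zpowers a)

end Cfsg.Agent.Lib.OddOrder.Quadratic
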