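import Cfsg.Agent.Lib.OddOrder.Quadratic
import Cfsg.Agent.Lib.OddOrder.Basic
import Mathlib.Algebra.Group.End

/-!
# Quadratic action in groups of odd order: group-theoretic forms
-/

set_option autoImplicit false
set_option linter.style.haveILetI false

open scoped commutatorElement

namespace Cfsg.Agent.Lib.OddOrder.QuadraticAct

open Cfsg.Agent.Lib.OddOrder.Quadratic

universe u v

/-- A faithful quadratic element centralizes a subgroup of order prime to its own that it
normalizes. -/
theorem commute_of_coprime {R : Type v} [Ring R] {Γ : Type u} [Group Γ] [Finite Γ] {ρ : Γ →* R}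
    (hinj : Function.Injective ρ) (hodd : Odd (Nat.card Γ)) (h2 : IsUnit (2 : R)) {a : Γ}
    (ha : (ρ a - 1) * (ρ a - 1) = 0) {Y : Subgroup Γ} (haY : a ∈ Subgroup.normalizer (Y : Set Γ))
    (hcop : (orderOf a).Coprime (Nat.card Y)) (hu : IsUnit (Nat.card Y : R)) :
    ∀ y ∈ Y, a * y = y * a := by
  set A := Subgroup.zpowers a with hA
  set C := Y ⊓ Subgroup.centralizer (A : Set Γ) with hC
  have hcA : (Nat.card A).Coprime (Nat.card Y) := by rw [hA, Nat.card_zpowers]; exact hcop
  have hdvd : Nat.card Y ∣ Nat.card C := by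
    rw [← Nat.factorization_le_iff_dvd Nat.card_pos.ne' Nat.card_pos.ne']
    intro r
    by_cases hr : r.Prime
    · haveI : Fact r.Prime := ⟨hr⟩
      obtain ⟨P, hP⟩ := Coprime.exists_invariant_sylow (Subgroup.zpowers_le.2 haY) hcA
        (Or.inl (Coprime.isSolvable_zpowers a)) r
      set P' := (P : Subgroup Y).map Y.subtype with hP'
      have hPY : P' ≤ Y := Subgroup.map_subtype_le _
      have hPC : P' ≤ C := by
        refine le_inf hPY fun y hy => ?_
        have hay := commute_of_qgroup hinj hodd h2 ha _ P' rfl (P.isPGroup'.map _)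
          (hP (Subgroup.mem_zpowers a)) (hcop.coprime_dvd_right (Subgroup.card_dvd_of_le hPY))
          (isUnit_natCast_of_dvd hu (Subgroup.card_dvd_of_le hPY)) y hy
        rw [Subgroup.mem_centralizer_iff]
        intro b hb
        obtain ⟨k, rfl⟩ := Subgroup.mem_zpowers_iff.1 hb
        exact (Commute.zpow_left hay k).eq
      have := Subgroup.card_dvd_of_le hPC
      rw [hP', Coprime.card_sylow_map] at this
      exact (hr.pow_dvd_iff_le_factorization Nat.card_pos.ne').1 this
    · simp [Nat.factorization_eq_zero_of_not_prime _ hr]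
  have heq : C = Y := Subgroup.eq_of_le_of_card_ge inf_le_left (Nat.le_of_dvd Nat.card_pos hdvd)
  intro y hy
  exact Subgroup.mem_centralizer_iff.1 ((heq ▸ hy : y ∈ C).2) a (Subgroup.mem_zpowers a)

/-- Not necessarily faithful version. -/
theorem map_commute {R : Type v} [Ring R] {Γ : Type u} [Group Γ] [Finite Γ] (ρ : Γ →* R)
    (hodd : Odd (Nat.card Γ)) (h2 : IsUnit (2 : R)) {a : Γ} (ha : (ρ a - 1) * (ρ a - 1) = 0)
    {Y : Subgroup Γ} (haY : a ∈ Subgroup.normalizer (Y : Set Γ))
    (hcop : (orderOf a).Coprime (Nat.card Y)) (hu : IsUnit (Nat.card Y : R)) :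
    ∀ y ∈ Y, ρ a * ρ y = ρ y * ρ a := by
  set f := ρ.toHomUnits with hf
  haveI : Finite f.range := Finite.of_surjective _ f.rangeRestrict_surjective
  let σ : f.range →* R := (Units.coeHom R).comp f.range.subtype
  have hσ : Function.Injective σ := fun x y h => Subtype.ext (Units.ext h)
  intro y hy
  have hdY : Nat.card (Y.map f.rangeRestrict) ∣ Nat.card Y := Subgroup.card_map_dvd _ _
  have h := commute_of_coprime hσ (hodd.of_dvd_nat (Subgroup.card_range_dvd f)) h2
    (a := f.rangeRestrict a) ha (Y := Y.map f.rangeRestrict)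
    (Subgroup.le_normalizer_map _ ⟨a, haY, rfl⟩)
    ((hcop.coprime_dvd_left (orderOf_map_dvd _ a)).coprime_dvd_right hdY)
    (isUnit_natCast_of_dvd hu hdY) (f.rangeRestrict y) ⟨y, hy, rfl⟩
  have := congrArg σ h
  rw [map_mul, map_mul] at this
  exact this

variable {G : Type u} [Group G] [Finite G]

/-- Quadratic action on an abelian `p`-subgroup: `[Y, a]` centralizes it. -/
theorem commutator_mem_centralizer (hodd : Odd (Nat.card G)) {V : Subgroup G}
    [IsMulCommutative V] {a : G} (haV : a ∈ Subgroup.normalizer (V : Set G))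
    (hquad : ∀ v ∈ V, a * (a * v * a⁻¹ * v⁻¹) * a⁻¹ = a * v * a⁻¹ * v⁻¹)
    {Y : Subgroup G} (hYV : Y ≤ Subgroup.normalizer (V : Set G))
    (haY : a ∈ Subgroup.normalizer (Y : Set G))
    (hcop : (orderOf a).Coprime (Nat.card Y)) (hcV : (Nat.card Y).Coprime (Nat.card V)) :
    ∀ y ∈ Y, a⁻¹ * y⁻¹ * a * y ∈ Subgroup.centralizer (V : Set G) := by
  set N := Subgroup.normalizer (V : Set G) with hN
  letI : CommGroup V := { mul_comm := fun x y => mul_comm' x y }
  let ρ : N →* AddMonoid.End (Additive V) :=
    { toFun := fun n => MonoidHom.toAdditive ((V.normalizerMonoidHom n).toMonoidHom)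
      map_one' := by
        apply AddMonoidHom.ext
        intro v
        show Additive.ofMul ((V.normalizerMonoidHom 1) (Additive.toMul v)) = v
        rw [map_one]
        rfl
      map_mul' := fun x y => by
        apply AddMonoidHom.ext
        intro v
        show Additive.ofMul ((V.normalizerMonoidHom (x * y)) (Additive.toMul v)) =
          Additive.ofMul (V.normalizerMonoidHom x (V.normalizerMonoidHom y (Additive.toMul v)))
        rw [map_mul]
        rfl }
  have hunit : ∀ n : ℕ, n.Coprime (Nat.card V) → IsUnit (n : AddMonoid.End (Additive V)) := by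
    intro n hn
    have hbij : Function.Bijective (n : AddMonoid.End (Additive V)) := by
      have h := (powCoprime (G := V) hn.symm).bijective
      exact h
    refine ⟨⟨_, (AddEquiv.ofBijective (n : AddMonoid.End (Additive V)) hbij).symm.toAddMonoidHom,
      ?_, ?_⟩, rfl⟩
    · exact AddMonoidHom.ext fun x =>
        (AddEquiv.ofBijective (n : AddMonoid.End (Additive V)) hbij).apply_symm_apply x
    · exact AddMonoidHom.ext fun x =>
        (AddEquiv.ofBijective (n : AddMonoid.End (Additive V)) hbij).symm_apply_apply x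
  have h2 : IsUnit ((2 : ℕ) : AddMonoid.End (Additive V)) :=
    hunit 2 (Nat.coprime_two_left.2 (hodd.of_dvd_nat V.card_subgroup_dvd_card))
  set a' : N := ⟨a, haV⟩ with ha'
  have ha : (ρ a' - 1) * (ρ a' - 1) = 0 := by
    apply AddMonoidHom.ext
    intro v
    apply Additive.toMul.injective
    apply Subtype.ext
    set w := (Additive.toMul v : V) with hw
    have hd : ∀ x : Additive V, ((Additive.toMul ((ρ a' - 1) x) : V) : G) =
        a * (Additive.toMul x : V) * a⁻¹ * ((Additive.toMul x : V) : G)⁻¹ := by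
      intro x
      show ((Additive.toMul (ρ a' x - x) : V) : G) = _
      rw [toMul_sub, div_eq_mul_inv]
      rfl
    show ((Additive.toMul ((ρ a' - 1) ((ρ a' - 1) v)) : V) : G) = 1
    rw [hd, hd, hquad w w.2, mul_inv_cancel]
  intro y hy
  have hcard : Nat.card (Y.subgroupOf N) = Nat.card Y :=
    Nat.card_congr (Subgroup.subgroupOfEquivOfLe hYV).toEquiv
  have h := map_commute ρ (hodd.of_dvd_nat N.card_subgroup_dvd_card) (by exact_mod_cast h2) ha
    (Y := Y.subgroupOf N) (a := a') ?_ ?_ ?_ ⟨y, hYV hy⟩ hy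
  · rw [Subgroup.mem_centralizer_iff]
    intro v hv
    have h' := congrArg (fun φ : AddMonoid.End (Additive V) =>
      ((Additive.toMul (φ (Additive.ofMul (⟨v, hv⟩ : V))) : V) : G)) h
    replace h' : a * (y * v * y⁻¹) * a⁻¹ = y * (a * v * a⁻¹) * y⁻¹ := h'
    calc v * (a⁻¹ * y⁻¹ * a * y) = a⁻¹ * y⁻¹ * (y * (a * v * a⁻¹) * y⁻¹) * (a * y) := by group
      _ = a⁻¹ * y⁻¹ * (a * (y * v * y⁻¹) * a⁻¹) * (a * y) := by rw [h']
      _ = a⁻¹ * y⁻¹ * a * y * v := by group
  · rw [Subgroup.mem_normalizer_iff]
    intro x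
    exact Subgroup.mem_normalizer_iff.1 haY x
  · rw [hcard]
    exact hcop.coprime_dvd_left (by rw [← Subgroup.orderOf_coe])
  · rw [hcard]
    exact hunit _ hcV

end Cfsg.Agent.Lib.OddOrder.QuadraticAct
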