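import Cfsg.Agent.Lib.OddOrder.OddGL2
import Cfsg.Agent.Lib.OddLocal.CoprimeFix
import Cfsg.Agent.Lib.Transfer.Critical
import Cfsg.Agent.Lib.PGroupTheory.RankTwoLarge
import Cfsg.Agent.Lib.Coprime.Commutator
import Cfsg.Agent.Lib.CharP.FStar
import Cfsg.Agent.Lib.PGroups.MaxAbelian
import Cfsg.Agent.Lib.OddOrder.Rank

/-!
# An odd order group acting on a `p`-group of rank two (BG 4.20/4.18)
-/

set_option autoImplicit false
set_option linter.style.haveILetI false

open scoped commutatorElement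

namespace Cfsg.Agent.Lib.OddOrder.RankTwoAction

universe u

variable {p : ℕ} [hp : Fact p.Prime]

/-- A characteristic subgroup of exponent `p` whose centralizer among `p'`-automorphisms is
trivial. -/
theorem exists_char_exponent (hp2 : p ≠ 2) {R : Type u} [Group R] [Finite R] (hR : IsPGroup p R) :
    ∃ H D : Subgroup R, H.Characteristic ∧ D.Characteristic ∧ D ≤ H ∧
      Subgroup.centralizer (H : Set R) ≤ H ∧
      (∀ x ∈ D, x ^ p = 1) ∧ ∀ x ∈ H, x ^ p = 1 → x ∈ D := by
  obtain ⟨H, hH, hC, hpow, hcomm⟩ := Transfer.Critical.exists_critical hR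
  have hmul : ∀ x ∈ H, ∀ y ∈ H, x ^ p = 1 → y ^ p = 1 → (x * y) ^ p = 1 := by
    intro x hx y hy hxp hyp
    have hc := hcomm y hy x
    have hcx : Commute x ⁅y, x⁆ := Subgroup.mem_centralizer_iff.1 hc.2 x hx
    have hcy : Commute y ⁅y, x⁆ := Subgroup.mem_centralizer_iff.1 hc.2 y hy
    rw [PGroups.mul_pow_of_central_commutator x y hcx hcy, hxp, hyp, one_mul, one_mul]
    have h1 : ⁅y, x⁆ ^ p = 1 := by
      rw [← PGroups.commutatorElement_pow_left_of_central y x hcy, hyp]
      simp [commutatorElement_def]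
    obtain ⟨k, hk⟩ : p ∣ p.choose 2 :=
      hp.out.dvd_choose_self two_ne_zero (lt_of_le_of_ne hp.out.two_le (Ne.symm hp2))
    rw [hk, pow_mul, h1, one_pow]
  let D : Subgroup R :=
    { carrier := {x | x ∈ H ∧ x ^ p = 1}
      one_mem' := ⟨one_mem _, one_pow _⟩
      mul_mem' := fun ⟨hx, hxp⟩ ⟨hy, hyp⟩ => ⟨mul_mem hx hy, hmul _ hx _ hy hxp hyp⟩
      inv_mem' := fun ⟨hx, hxp⟩ => ⟨inv_mem hx, by rw [inv_pow, hxp, inv_one]⟩ }
  refine ⟨H, D, hH, ?_, fun x hx => hx.1, hC, fun x hx => hx.2, fun x h1 h2 => ⟨h1, h2⟩⟩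
  rw [Subgroup.characteristic_iff_le_comap]
  intro φ x hx
  exact ⟨Subgroup.characteristic_iff_le_comap.1 hH φ hx.1, by
    show (φ x) ^ p = 1
    rw [← map_pow, hx.2, map_one]⟩

variable {G : Type u} [Group G] [Finite G]

theorem card_frattini_quotient_le {D : Subgroup G} (hp2 : p ≠ 2) (hD : IsPGroup p D)
    (hr : Cfsg.PRankLE p 2 D) (hexp : ∀ x ∈ D, x ^ p = 1) :
    Nat.card (D ⧸ frattini D) ≤ p ^ 2 := by
  by_cases hc : IsMulCommutative D
  · have h := Rank.prankLE_subgroup_iff.1 hr D le_rfl ⟨hc, hexp⟩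
    exact (Nat.le_of_dvd Nat.card_pos (Subgroup.card_quotient_dvd_card _)).trans h
  · have h3 := PGroupTheory.RankTwo.card_le_of_exponent hD hp2 hr
      fun g => Subtype.ext (hexp (g : G) g.2)
    have hf : frattini D ≠ ⊥ := by
      intro h
      exact hc ⟨⟨fun a b => ((PGroups.frattini_eq_bot_iff hD).1 h).1.is_comm.comm
        ⟨a, Subgroup.mem_top a⟩ ⟨b, Subgroup.mem_top b⟩ |> congrArg Subtype.val⟩⟩
    haveI : Nontrivial (frattini D) := (Subgroup.nontrivial_iff_ne_bot _).2 hf
    obtain ⟨n, hn0, hn⟩ := (hD.to_subgroup (frattini D)).nontrivial_iff_card.1 inferInstance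
    have hmul := Subgroup.card_eq_card_quotient_mul_card_subgroup (frattini D)
    have hpn : p ≤ Nat.card (frattini D) := hn ▸ Nat.le_self_pow hn0.ne' p
    have h4 : Nat.card (D ⧸ frattini D) * p ≤ p ^ 2 * p :=
      calc Nat.card (D ⧸ frattini D) * p ≤ Nat.card (D ⧸ frattini D) * Nat.card (frattini D) :=
            Nat.mul_le_mul_left _ hpn
        _ = Nat.card D := hmul.symm
        _ ≤ p ^ 3 := h3
        _ = p ^ 2 * p := pow_succ p 2
    exact Nat.le_of_mul_le_mul_right h4 hp.out.pos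

/-- The action on `D / Φ(D)`, faithful on elements of order prime to `p`. -/
theorem exists_action (hp2 : p ≠ 2) {R A : Subgroup G} (hR : IsPGroup p R)
    (hr : Cfsg.PRankLE p 2 R) (hA : A ≤ Subgroup.normalizer (R : Set G))
    (hfaith : IsPGroup p ↥(A ⊓ Subgroup.centralizer (R : Set G))) :
    ∃ (V : Type u) (_ : CommGroup V) (_ : Finite V) (f : A →* MulAut V),
      (∀ x : V, x ^ p = 1) ∧ Nat.card V ≤ p ^ 2 ∧
        ∀ a : A, f a = 1 → (orderOf a).Coprime p → a = 1 := by
  obtain ⟨H₀, D₀, hH₀, hD₀, hDH₀, hCH, hexp, hmem⟩ := exists_char_exponent hp2 hR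
  set H := H₀.map R.subtype with hH
  set D := D₀.map R.subtype with hD
  have hHR : H ≤ R := Subgroup.map_subtype_le _
  have hDR : D ≤ R := Subgroup.map_subtype_le _
  have hAH : A ≤ Subgroup.normalizer (H : Set G) :=
    hA.trans (CharP.normalizer_le_normalizer_map_char _)
  have hAD : A ≤ Subgroup.normalizer (D : Set G) :=
    hA.trans (CharP.normalizer_le_normalizer_map_char _)
  have hDp : IsPGroup p D := hR.to_le hDR
  have hDexp : ∀ x ∈ D, x ^ p = 1 := by
    rintro _ ⟨x, hx, rfl⟩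
    rw [← map_pow, hexp x hx, map_one]
  -- the action on `D / Φ(D)`
  let Φ := frattini D
  have hFn : Φ.Normal := inferInstance
  haveI := (PGroups.frattiniQuotient_elemAb (p := p) hDp).1
  letI : CommGroup (D ⧸ Φ) :=
    { (inferInstance : Group (D ⧸ Φ)) with
      mul_comm := fun a b => congrArg Subtype.val
        ((PGroups.frattiniQuotient_elemAb (p := p) hDp).1.is_comm.comm
          ⟨a, Subgroup.mem_top a⟩ ⟨b, Subgroup.mem_top b⟩) }
  have hq : ∀ x : D ⧸ Φ, x ^ p = 1 := fun x =>
    (PGroups.frattiniQuotient_elemAb (p := p) hDp).2 x (Subgroup.mem_top x)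
  let aut : A →* MulAut D := D.normalizerMonoidHom.comp (Subgroup.inclusion hAD)
  have hfix : ∀ φ : MulAut D, Φ.map φ.toMonoidHom = Φ := fun φ =>
    Subgroup.characteristic_iff_map_eq.1 inferInstance φ
  let f : A →* MulAut (D ⧸ Φ) :=
    { toFun := fun a => QuotientGroup.congr Φ Φ (aut a) (hfix _)
      map_one' := by
        apply MulEquiv.ext; intro x
        induction x using QuotientGroup.induction_on with
        | H y => show QuotientGroup.mk (aut 1 y) = _; rw [map_one]; rfl
      map_mul' := fun a b => by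
        apply MulEquiv.ext; intro x
        induction x using QuotientGroup.induction_on with
        | H y => show QuotientGroup.mk (aut (a * b) y) = _; rw [map_mul]; rfl }
  -- elements of order prime to `p` in the kernel are trivial
  have hker : ∀ a : A, f a = 1 → (orderOf a).Coprime p → a = 1 := by
    intro a ha hao
    have hao' : (orderOf (a : G)).Coprime p := by rwa [Subgroup.orderOf_coe]
    have haR : (a : G) ∈ Subgroup.normalizer (R : Set G) := hA a.2
    have h1 : Subgroup.zpowers (a : G) ≤ Subgroup.centralizer (D : Set G) := by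
      refine Coprime.le_centralizer_of_frattini
        (Subgroup.zpowers_le.2 (hAD a.2)) ?_ fun b hb k hk => ?_
      · obtain ⟨n, hn⟩ := IsPGroup.iff_card.1 (hDp.to_subgroup (frattini D))
        rw [Nat.card_zpowers, hn]
        exact hao'.pow_right n
      · obtain ⟨i, rfl⟩ := Subgroup.mem_zpowers_iff.1 hb
        have h := DFunLike.congr_fun (map_zpow f a i) (QuotientGroup.mk (⟨k, hk⟩ : D))
        rw [ha, one_zpow] at h
        replace h : (QuotientGroup.mk (aut (a ^ i) ⟨k, hk⟩) : D ⧸ Φ) = QuotientGroup.mk ⟨k, hk⟩ := h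
        rw [QuotientGroup.eq] at h
        have h' := hFn.conj_mem _ (inv_mem h) ⟨k, hk⟩
        refine ⟨_, h', ?_⟩
        show k * ((((aut (a ^ i) ⟨k, hk⟩ : D) : G)⁻¹ * k)⁻¹) * k⁻¹ = _
        rw [show ((aut (a ^ i) ⟨k, hk⟩ : D) : G) =
          (a : G) ^ i * k * ((a : G) ^ i)⁻¹ from rfl]
        group
    have h2 : ∀ h ∈ H, orderOf h = p → (a : G) * h = h * a := by
      rintro _ ⟨x, hx, rfl⟩ hxo
      have hxp : x ^ p = 1 := R.subtype_injective (by
        rw [map_pow, map_one, ← hxo, pow_orderOf_eq_one])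
      exact (Subgroup.mem_centralizer_iff.1 (h1 (Subgroup.mem_zpowers _)) _
        ⟨x, hmem x hx hxp, rfl⟩).symm
    have h3 := OddLocal.CoprimeFix.centralizes_of_omega hp2 hao' (hR.to_le hHR) (hAH a.2) h2
    have h4 : ∀ r ∈ R, (a : G) * r = r * a := by
      refine OddLocal.CoprimeFix.centralizes_of_centralizer_fixed
        (C := R ⊓ Subgroup.centralizer ({(a : G)} : Set G)) hR.isNilpotent inf_le_left haR ?_
        (fun r hr h => ⟨hr, Subgroup.mem_centralizer_iff.2 fun y hy => by
          rw [Set.mem_singleton_iff] at hy; subst hy; exact h⟩) ?_ ?_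
      · obtain ⟨n, hn⟩ := IsPGroup.iff_card.1 hR
        rw [hn]
        exact hao'.pow_right n
      · exact Subgroup.mem_centralizer_iff.2 fun c hc =>
          (Subgroup.mem_centralizer_iff.1 hc.2 _ rfl).symm
      · intro r hr hrc
        refine h3 r ⟨⟨r, hr⟩, hCH (Subgroup.mem_centralizer_iff.2 fun x hx => Subtype.ext ?_), rfl⟩
        exact Subgroup.mem_centralizer_iff.1 hrc (x : G)
          ⟨x.2, Subgroup.mem_centralizer_iff.2 fun y hy => by
            rw [Set.mem_singleton_iff] at hy; subst hy; exact h3 _ ⟨x, hx, rfl⟩⟩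
    exact Subtype.ext (CharP.eq_one_of_coprime_of_mem hfaith
      (Subgroup.mem_inf.2 ⟨a.2, Subgroup.mem_centralizer_iff.2 fun r hr => (h4 r hr).symm⟩) hao')
  exact ⟨D ⧸ Φ, inferInstance, inferInstance, f, hq,
    card_frattini_quotient_le hp2 hDp (Rank.prankLE_mono hDR hr) hDexp, hker⟩

/-- BG 4.20, with a `p`-group as kernel. -/
theorem isPGroup_commutator' (hp2 : p ≠ 2) {R A : Subgroup G} (hR : IsPGroup p R)
    (hr : Cfsg.PRankLE p 2 R) (hA : A ≤ Subgroup.normalizer (R : Set G))
    [Group.IsSolvable A] (hodd : Odd (Nat.card A))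
    (hfaith : IsPGroup p ↥(A ⊓ Subgroup.centralizer (R : Set G))) : IsPGroup p ↥⁅A, A⁆ := by
  obtain ⟨V, _, _, f, hq, hcard, hker⟩ := exists_action hp2 hR hr hA hfaith
  haveI : Group.IsSolvable f.range := Group.isSolvable_of_surjective f.rangeRestrict_surjective
  have hexpc := OddGL2.commutator_pow_eq_one_of_action p hp2
    (hodd.of_dvd_nat (Subgroup.card_dvd_of_surjective _ f.rangeRestrict_surjective)) hq
    hcard f.range.subtype f.range.subtype_injective
  have key : ∀ a ∈ commutator A, ∃ k : ℕ, a ^ p ^ k = 1 := by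
    intro a ha
    have hz : f.rangeRestrict a ∈ commutator f.range := by
      rw [commutator_def] at ha ⊢
      have h := Subgroup.mem_map_of_mem f.rangeRestrict ha
      rw [Subgroup.map_commutator] at h
      exact Subgroup.commutator_mono le_top le_top h
    have h1 : f (a ^ p) = 1 := by
      have := congrArg Subtype.val (hexpc _ hz)
      rw [map_pow]
      simpa using this
    obtain ⟨k, hk⟩ := CharP.exists_pow_coprime (p := p) (a ^ p)
    refine ⟨k + 1, ?_⟩
    rw [pow_succ', pow_mul]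
    exact hker _ (by rw [map_pow, h1, one_pow]) hk
  rw [isPGroup_iff_pow_pow_eq_one]
  rintro ⟨z, hz⟩
  have hz' : z ∈ (commutator A).map A.subtype := by
    rw [commutator_def, Subgroup.map_commutator, ← MonoidHom.range_eq_map,
      Subgroup.range_subtype]
    exact hz
  obtain ⟨w, hw, rfl⟩ := hz'
  obtain ⟨k, hk⟩ := key w hw
  exact ⟨k, Subtype.ext (by
    show (A.subtype w) ^ p ^ k = 1
    rw [← map_pow, hk, map_one])⟩

/-- BG 4.20: the derived group of an odd solvable group acting faithfully on a `p`-group of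
rank at most two is a `p`-group. -/
theorem isPGroup_commutator (hp2 : p ≠ 2) {R A : Subgroup G} (hR : IsPGroup p R)
    (hr : Cfsg.PRankLE p 2 R) (hA : A ≤ Subgroup.normalizer (R : Set G))
    [Group.IsSolvable A] (hodd : Odd (Nat.card A))
    (hfaith : A ⊓ Subgroup.centralizer (R : Set G) = ⊥) : IsPGroup p ↥⁅A, A⁆ :=
  isPGroup_commutator' hp2 hR hr hA hodd (hfaith ▸ IsPGroup.of_bot)

/-- The primes of such a group. -/
theorem prime_le_of_action (hp2 : p ≠ 2) {R A : Subgroup G} (hR : IsPGroup p R)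
    (hr : Cfsg.PRankLE p 2 R) (hA : A ≤ Subgroup.normalizer (R : Set G))
    (hodd : Odd (Nat.card A))
    (hfaith : IsPGroup p ↥(A ⊓ Subgroup.centralizer (R : Set G))) {q : ℕ} (hq : q.Prime)
    (hqA : q ∣ Nat.card A) : q ≤ p := by
  by_contra hlt
  haveI := Fact.mk hq
  obtain ⟨V, _, _, f, hexp, hcard, hker⟩ := exists_action hp2 hR hr hA hfaith
  obtain ⟨a, ha⟩ := exists_prime_orderOf_dvd_card' q hqA
  have hqp : q ≠ p := by omega
  have hf : f a ≠ 1 := fun h => hq.ne_one (by
    rw [← ha, hker a h (by rw [ha]; exact (Nat.coprime_primes hq hp.out).2 hqp), orderOf_one])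
  set φ := f a with hφ
  have hφo : orderOf φ = q := by
    refine orderOf_eq_prime ?_ hf
    rw [hφ, ← map_pow, ← ha, pow_orderOf_eq_one, map_one]
  -- the fixed points
  let F : Subgroup V := φ.toMonoidHom.eqLocus (MonoidHom.id V)
  have hA' : IsPGroup q (Subgroup.zpowers φ) :=
    IsPGroup.of_card (n := 1) (by rw [Nat.card_zpowers, hφo, pow_one])
  have hfix : MulAction.fixedPoints (Subgroup.zpowers φ) V = (F : Set V) := by
    ext v
    rw [MulAction.mem_fixedPoints]
    refine ⟨fun h => h ⟨φ, Subgroup.mem_zpowers φ⟩, fun h x => ?_⟩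
    have : Subgroup.zpowers φ ≤ MulAction.stabilizer (MulAut V) v := Subgroup.zpowers_le.2 h
    exact this x.2
  have hVp : IsPGroup p V := fun v => ⟨1, by rw [pow_one]; exact hexp v⟩
  obtain ⟨e, he⟩ := hVp.exists_card_eq
  obtain ⟨i, hi⟩ := (hVp.to_subgroup F).exists_card_eq
  have hmod := hA'.card_modEq_card_fixedPoints V
  rw [hfix, show Nat.card (F : Set V) = p ^ i from hi, he] at hmod
  have he2 : e ≤ 2 := (Nat.pow_le_pow_iff_right hp.out.one_lt).1 (he ▸ hcard)
  have hie : i ≤ e := (Nat.pow_le_pow_iff_right hp.out.one_lt).1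
    (by rw [← hi, ← he]; exact Subgroup.card_le_card_group F)
  have hne : i ≠ e := fun h => hf (MulEquiv.ext fun v => by
    have hF : F = ⊤ := Subgroup.eq_top_of_card_eq F (by rw [hi, he, h])
    exact (hF ▸ Subgroup.mem_top v : v ∈ F))
  have h1 : q ∣ p ^ i * (p ^ (e - i) - 1) := by
    rw [Nat.mul_sub, mul_one, ← pow_add, Nat.add_sub_cancel' hie]
    exact (Nat.modEq_iff_dvd' (Nat.pow_le_pow_right hp.out.pos hie)).1 hmod.symm
  rcases hq.dvd_mul.1 h1 with h2 | h2
  · exact hqp ((Nat.prime_dvd_prime_iff_eq hq hp.out).1 (hq.dvd_of_dvd_pow h2))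
  obtain ⟨k, hk⟩ := hodd.of_dvd_nat hqA
  obtain ⟨l, hl⟩ := hp.out.odd_of_ne_two hp2
  rcases (show e - i = 1 ∨ e - i = 2 by omega) with h3 | h3 <;> rw [h3] at h2
  · rw [pow_one] at h2
    have := Nat.le_of_dvd (by have := hp.out.two_le; omega) h2
    omega
  · rw [show p ^ 2 - 1 = (p + 1) * (p - 1) from Nat.sq_sub_sq p 1] at h2
    rcases hq.dvd_mul.1 h2 with h4 | h4
    · have h5 : q ∣ 2 * (l + 1) := by rwa [hl, show 2 * l + 1 + 1 = 2 * (l + 1) by ring] at h4
      rcases hq.dvd_mul.1 h5 with h6 | h6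
      · have := Nat.le_of_dvd two_pos h6; omega
      · have := Nat.le_of_dvd (by omega) h6; omega
    · have := Nat.le_of_dvd (by have := hp.out.two_le; omega) h4
      omega

end Cfsg.Agent.Lib.OddOrder.RankTwoAction
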