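import Cfsg.Agent.Lib.OddOrder.UniquenessTheorem
import Cfsg.Agent.Lib.OddOrder.RankTwoGroup
import Cfsg.Agent.Lib.Transfer.Fusion

/-!
# BG 10.1: fusion of `p`-subgroups, `p ∈ σ(M)`
-/

set_option autoImplicit false
set_option linter.style.haveILetI false
set_option linter.unusedSectionVars false

open scoped Pointwise

namespace Cfsg.Agent.Lib.OddOrder.Sigma

open Cfsg.Agent.Lib.OddOrder.MinSimple Cfsg.Agent.Lib.OddOrder.NormedConstrained

universe u

variable {G : Type u} [Group G] [Finite G] {p : ℕ} [hp : Fact p.Prime]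

theorem map_conj_le_coatom {M : Subgroup G} {X : Subgroup G} {g : G} (hg : g ∈ M) (hX : X ≤ M) :
    X.map (MulAut.conj g).toMonoidHom ≤ M := by
  rintro _ ⟨x, hx, rfl⟩
  exact mul_mem (mul_mem hg (hX hx)) (inv_mem hg)

/-- For `p ∈ σ(M)` every Sylow subgroup of `M` is one of `G`, with normalizer in `M`. -/
theorem normalizer_le {M : Subgroup G} (hp : p ∈ Cfsg.sigma M) (S : Sylow p M) :
    Subgroup.normalizer (((S : Subgroup M).map M.subtype : Subgroup G) : Set G) ≤ M := by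
  obtain ⟨-, -, S₀, h⟩ := hp
  obtain ⟨m, rfl⟩ := MulAction.exists_smul_eq M S₀ S
  have hmap : (((m • S₀ : Sylow p M) : Subgroup M).map M.subtype : Subgroup G) =
      MulAut.conj (m : G) • (S₀ : Subgroup M).map M.subtype := by
    rw [Sylow.coe_subgroup_smul]
    exact Coprime.map_conj_smul M.subtype m _
  intro x hx
  rw [hmap] at hx
  have hmn : (m : G)⁻¹ * x * m ∈
      Subgroup.normalizer (((S₀ : Subgroup M).map M.subtype : Subgroup G) : Set G) := by
    apply Coprime.mem_normalizer_of_conj_smul_eq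
    rw [Coprime.conj_smul_mul, Coprime.conj_smul_mul,
      Coprime.conj_smul_eq_self_of_mem_normalizer hx, map_inv, inv_smul_smul]
  have h2 : x = (m : G) * ((m : G)⁻¹ * x * m) * (m : G)⁻¹ := by group
  rw [h2]
  exact mul_mem (mul_mem m.2 (h hmn)) (inv_mem m.2)

theorem not_dvd_index {M : Subgroup G} (hp : p ∈ Cfsg.sigma M) (S : Sylow p M) :
    ¬ p ∣ ((S : Subgroup M).map M.subtype).index :=
  Uniqueness.not_dvd_index_of_normalizer_le S (normalizer_le hp S)

/-- A Sylow subgroup of `G` containing a given `p`-subgroup of `M` and lying in `M`. -/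
theorem exists_sylow_ge {M X : Subgroup G} (hp : p ∈ Cfsg.sigma M) (hX : IsPGroup p X)
    (hXM : X ≤ M) :
    ∃ P : Sylow p G, X ≤ P ∧ (P : Subgroup G) ≤ M ∧
      Subgroup.normalizer ((P : Subgroup G) : Set G) ≤ M := by
  obtain ⟨S, hS⟩ := (hX.comap_subtype (K := M)).exists_le_sylow
  refine ⟨(S.2.map M.subtype).toSylow (not_dvd_index hp S), fun x hx => ?_,
    Subgroup.map_subtype_le _, normalizer_le hp S⟩
  exact ⟨⟨x, hXM hx⟩, hS (show (⟨x, hXM hx⟩ : M) ∈ X.comap M.subtype from hx), rfl⟩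

theorem dvd_card_group {M : Subgroup G} (hp : p ∈ Cfsg.sigma M) : p ∣ Nat.card G :=
  hp.2.1.trans M.card_subgroup_dvd_card

theorem exists_gt_inf_normalizer {P X : Subgroup G} (hP : IsPGroup p P) (hXP : X < P) :
    X < P ⊓ Subgroup.normalizer (X : Set G) := by
  refine lt_of_le_of_ne (le_inf hXP.le Subgroup.le_normalizer) fun heq => ?_
  haveI := hP.isNilpotent
  have hlt : X.subgroupOf P < ⊤ := lt_top_iff_ne_top.2 fun e =>
    hXP.not_ge (Subgroup.subgroupOf_eq_top.1 e)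
  obtain ⟨g, hg, hgX⟩ := SetLike.exists_of_lt
    (Group.normalizerCondition_of_isNilpotent (G := P) (X.subgroupOf P) hlt)
  have h2 := Subgroup.le_normalizer_map P.subtype (Subgroup.mem_map_of_mem P.subtype hg)
  rw [Subgroup.map_subgroupOf_eq_of_le hXP.le] at h2
  exact hgX (show (g : G) ∈ X from heq ▸ ⟨g.2, h2⟩)

/-- BG 10.1: if `X` and `gXg⁻¹` are nontrivial `p`-subgroups of `M` then `g ∈ M C(X)`. -/
theorem fusion (hG : Cfsg.IsMinSimpleOddOrder G) {M : Subgroup G} (hM : IsCoatom M)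
    (hp : p ∈ Cfsg.sigma M) :
    ∀ (n : ℕ) (X : Subgroup G), Nat.card G - Nat.card X = n → IsPGroup p X → X ≠ ⊥ → X ≤ M →
      ∀ g : G, X.map (MulAut.conj g).toMonoidHom ≤ M →
        ∃ m ∈ M, ∃ c ∈ Subgroup.centralizer (X : Set G), g = m * c := by
  intro n
  induction n using Nat.strong_induction_on with
  | _ n ih =>
  intro X hn hXp hX1 hXM g hgM
  have hp2 : p ≠ 2 := ne_two_of_dvd hG (dvd_card_group hp)
  have IH : ∀ S : Subgroup G, X < S → IsPGroup p S → S ≤ M →
      ∀ g : G, S.map (MulAut.conj g).toMonoidHom ≤ M →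
        ∃ m ∈ M, ∃ c ∈ Subgroup.centralizer (S : Set G), g = m * c := by
    intro S hXS hS hSM
    refine ih _ ?_ S rfl hS ?_ hSM
    · rw [← hn]
      have h1 : Nat.card X < Nat.card S :=
        lt_of_le_of_ne (Subgroup.card_le_of_le hXS.le) fun e =>
          hXS.ne (Subgroup.eq_of_le_of_card_ge hXS.le e.ge)
      have h2 := Nat.le_of_dvd Nat.card_pos S.card_subgroup_dvd_card
      omega
    · exact fun e => hX1 (le_bot_iff.1 (e ▸ hXS.le))
  obtain ⟨P, hXP, hPM, hNP⟩ := exists_sylow_ge hp hXp hXM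
  set φ := (MulAut.conj g).toMonoidHom with hφ
  set Y := X.map φ with hY
  obtain ⟨Q, hYQ, hQM, hNQ⟩ := exists_sylow_ge hp (hXp.map φ) hgM
  by_cases hXeq : X = P
  · -- `X` is a Sylow subgroup
    have hYeq : Y = (Q : Subgroup G) := by
      refine Subgroup.eq_of_le_of_card_ge hYQ ?_
      rw [hY, Subgroup.card_map_of_injective (MulAut.conj g).injective, hXeq]
      exact (Nat.card_congr (Sylow.equiv Q P).toEquiv).le
    obtain ⟨m, hm⟩ := MulAction.exists_smul_eq M (P.subtype hPM) (Q.subtype hQM)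
    refine ⟨g, ?_, 1, one_mem _, (mul_one g).symm⟩
    have h1 : MulAut.conj (m : G) • (P : Subgroup G) = (Q : Subgroup G) := by
      have h2 := congrArg (fun S : Sylow p M => (S : Subgroup M).map M.subtype) hm
      simp only [Sylow.coe_subgroup_smul, Sylow.coe_subtype,
        Subgroup.map_subgroupOf_eq_of_le hQM] at h2
      rw [show (MulAut.conj m • (P : Subgroup G).subgroupOf M).map M.subtype =
        MulAut.conj (m : G) • (P : Subgroup G) from by
          rw [Coprime.map_conj_smul, Subgroup.map_subgroupOf_eq_of_le hPM]; rfl] at h2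
      exact h2
    have h3 : (m : G)⁻¹ * g ∈ Subgroup.normalizer ((P : Subgroup G) : Set G) := by
      apply Coprime.mem_normalizer_of_conj_smul_eq
      rw [Coprime.conj_smul_mul, ← hXeq,
        show MulAut.conj g • X = Y from rfl, hYeq, ← h1, map_inv, inv_smul_smul, hXeq]
    simpa using mul_mem m.2 (hNP h3)
  · have hXlt : X < (P : Subgroup G) := lt_of_le_of_ne hXP hXeq
    have hYlt : Y < (Q : Subgroup G) := by
      refine lt_of_le_of_ne hYQ fun e => hXeq (Subgroup.eq_of_le_of_card_ge hXP ?_)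
      have h1 : Nat.card Y = Nat.card X :=
        Subgroup.card_map_of_injective (MulAut.conj g).injective
      rw [e] at h1
      exact (Nat.card_congr (Sylow.equiv P Q).toEquiv).le.trans h1.le
    set N := Subgroup.normalizer (X : Set G) with hN
    have hNt : N ≠ ⊤ := normalizer_ne_top hG hX1 (pgroup_ne_top hG hXp)
    set S₀ := (P : Subgroup G) ⊓ N with hS₀
    have hXS₀ : X < S₀ := exists_gt_inf_normalizer P.2 hXlt
    have hS₀p : IsPGroup p S₀ := P.2.to_le inf_le_left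
    -- a Sylow subgroup of `N` inside `M`
    obtain ⟨R, hS₀R⟩ : ∃ R : Sylow p N, S₀.subgroupOf N ≤ R :=
      (hS₀p.comap_subtype (K := N)).exists_le_sylow
    set R₁ := (R : Subgroup N).map N.subtype with hR₁
    have hS₀R₁ : S₀ ≤ R₁ := fun x hx => ⟨⟨x, hx.2⟩, hS₀R (show (⟨x, hx.2⟩ : N) ∈ _ from hx), rfl⟩
    obtain ⟨P₂, hP₂⟩ := (R.2.map N.subtype).exists_le_sylow
    obtain ⟨h, hh⟩ := MulAction.exists_smul_eq G P₂ P
    have hconjR : ∀ x ∈ R₁, h * x * h⁻¹ ∈ M := fun x hx => by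
      refine hPM ?_
      rw [← hh, Sylow.coe_subgroup_smul]
      exact ⟨x, hP₂ hx, rfl⟩
    obtain ⟨m₀, hm₀, c₀, hc₀, hh₀⟩ := IH S₀ hXS₀ hS₀p (inf_le_left.trans hPM) h
      (by rintro _ ⟨x, hx, rfl⟩; exact hconjR x (hS₀R₁ hx))
    have hc₀X : c₀ ∈ Subgroup.centralizer (X : Set G) :=
      Subgroup.centralizer_le (SetLike.coe_subset_coe.2 hXS₀.le) hc₀
    have hc₀N : c₀ ∈ N := Subgroup.centralizer_le_normalizer _ hc₀X
    set c₀' : N := ⟨c₀, hc₀N⟩ with hc₀'
    set T : Sylow p N := c₀' • R with hTdef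
    set T₁ := (T : Subgroup N).map N.subtype with hT₁
    have hT₁M : T₁ ≤ M := by
      rintro _ ⟨y, hy, rfl⟩
      rw [hTdef, Sylow.coe_subgroup_smul] at hy
      obtain ⟨z, hz, rfl⟩ := hy
      have h1 := hconjR _ (Subgroup.mem_map_of_mem N.subtype hz)
      have h2 := mul_mem (mul_mem (inv_mem hm₀) h1) hm₀
      rw [hh₀] at h2
      show c₀ * (z : G) * c₀⁻¹ ∈ M
      convert h2 using 1
      simp only [Subgroup.coe_subtype]
      group
    have hS₀T₁ : S₀ ≤ T₁ := by
      intro x hx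
      refine ⟨c₀' * ⟨x, hx.2⟩ * c₀'⁻¹, ?_, ?_⟩
      · rw [hTdef, Sylow.coe_subgroup_smul]
        exact ⟨⟨x, hx.2⟩, hS₀R (show (⟨x, hx.2⟩ : N) ∈ _ from hx), rfl⟩
      · show c₀ * x * c₀⁻¹ = x
        rw [← (Subgroup.mem_centralizer_iff.1 hc₀ x hx), mul_inv_cancel_right]
    have hXT₁ : X < T₁ := hXS₀.trans_le hS₀T₁
    have hT₁p : IsPGroup p T₁ := T.2.map _
    -- `N(X) ⊆ M C(X)`
    have hfac : ∀ y ∈ N, ∃ m ∈ M, ∃ c ∈ Subgroup.centralizer (X : Set G), y = m * c := by
      by_cases hr : Cfsg.PRankLE p 2 T₁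
      · intro y hy
        haveI := solvable_of_ne_top hG hNt
        have hrN : Cfsg.PRankLE p 2 N := by
          rw [Rank.prankLE_subgroup_iff]
          intro E hEN hE
          have hEp : IsPGroup p E := fun x => ⟨1, Subtype.ext (by simpa using hE.2 x x.2)⟩
          obtain ⟨U, hU⟩ := (hEp.comap_subtype (K := N)).exists_le_sylow
          obtain ⟨k, hk⟩ := MulAction.exists_smul_eq N U T
          have hle : E.map (MulAut.conj (k : G)).toMonoidHom ≤ T₁ := by
            rintro _ ⟨x, hx, rfl⟩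
            refine ⟨k * ⟨x, hEN hx⟩ * k⁻¹, ?_, rfl⟩
            rw [← hk, Sylow.coe_subgroup_smul]
            exact ⟨⟨x, hEN hx⟩, hU (show (⟨x, hEN hx⟩ : N) ∈ E.comap N.subtype from hx), rfl⟩
          have h1 := Rank.prankLE_subgroup_iff.1 hr _ hle (PGroups.elemAb_map _ hE)
          rwa [Subgroup.card_map_of_injective (MulAut.conj (k : G)).injective] at h1
        obtain ⟨-, -, -, -, -, hidx⟩ := RankTwoGroup.main (odd_card hG N) hp2 hrN
        set Q' := Cfsg.pPrimePCore p N with hQ'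
        haveI : Q'.Normal := by rw [hQ']; infer_instance
        have hTQ : (T : Subgroup N) ≤ Q' := fun x hx => by
          rw [← QuotientGroup.eq_one_iff, ← orderOf_eq_one_iff]
          obtain ⟨j, hj⟩ := T.2 ⟨x, hx⟩
          refine Nat.eq_one_of_dvd_coprimes ((hidx.pow_right j)) (orderOf_dvd_natCard _) ?_
          exact (orderOf_map_dvd (QuotientGroup.mk' Q') x).trans
            (orderOf_dvd_of_pow_eq_one (by simpa using congrArg Subtype.val hj))
        have hfr : Cfsg.pPrimeCore p N ⊔ Subgroup.normalizer ((T : Subgroup N) : Set N) = ⊤ := by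
          have h1 := Sylow.normalizer_sup_eq_top' T hTQ
          refine top_le_iff.1 (h1 ▸ sup_le le_sup_right ?_)
          refine (Tech42.Goldschmidt.pPrimePCore_le_sup T).trans (sup_le le_sup_left ?_)
          exact inf_le_left.trans (Subgroup.le_normalizer.trans le_sup_right)
        have hmem : (⟨y, hy⟩ : N) ∈
            Subgroup.normalizer ((T : Subgroup N) : Set N) ⊔ Cfsg.pPrimeCore p N := by
          rw [sup_comm, hfr]; exact Subgroup.mem_top _
        obtain ⟨t, ht, o, ho, e⟩ := Subgroup.mem_sup_of_normal_right.1 hmem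
        have htG : (t : G) ∈ Subgroup.normalizer (T₁ : Set G) :=
          Subgroup.le_normalizer_map N.subtype ⟨t, ht, rfl⟩
        have htM : T₁.map (MulAut.conj (t : G)).toMonoidHom ≤ M := by
          rintro _ ⟨x, hx, rfl⟩
          exact hT₁M ((Subgroup.mem_normalizer_iff.1 htG x).1 hx)
        obtain ⟨m, hm, c, hc, htc⟩ := IH T₁ hXT₁ hT₁p hT₁M (t : G) htM
        refine ⟨m, hm, c * o, mul_mem (Subgroup.centralizer_le
          (SetLike.coe_subset_coe.2 hXT₁.le) hc) ?_, ?_⟩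
        · exact Subgroup.mem_centralizer_iff.2 fun x hx =>
            (PuigControl.centralizes_of_normal_pCore Subgroup.le_normalizer hXp le_rfl
              (show (o : G) ∈ pO p N from ⟨o, ho, rfl⟩) hx).symm
        · rw [← mul_assoc, ← htc]
          exact congrArg Subtype.val e.symm
      · intro y hy
        refine ⟨y, ?_, 1, one_mem _, (mul_one y).symm⟩
        have hU := UniquenessTheorem.of_rank hG (pgroup_ne_top hG hT₁p)
          (fun h2 => hr (h2 p hp.1))
        obtain ⟨L, hL, hNL⟩ := exists_coatom_ge hG hNt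
        rw [UniqueRank.eq_of_le hU hM hT₁M hL ((Subgroup.map_subtype_le _).trans hNL)]
        exact hNL hy
    -- reduction of `g`
    set S₁ := (Q : Subgroup G) ⊓ Subgroup.normalizer (Y : Set G) with hS₁
    have hYS₁ : Y < S₁ := exists_gt_inf_normalizer Q.2 hYlt
    have hS₁p : IsPGroup p S₁ := Q.2.to_le inf_le_left
    have hback : ∀ x ∈ S₁, g⁻¹ * x * g ∈ N := by
      intro x hx
      rw [hN, Subgroup.mem_normalizer_iff]
      intro w
      have h1 := Subgroup.mem_normalizer_iff.1 hx.2 (g * w * g⁻¹)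
      have hmem : ∀ u, g * u * g⁻¹ ∈ Y ↔ u ∈ X := fun u =>
        Subgroup.mem_map_iff_mem (MulAut.conj g).injective
      rw [hmem] at h1
      rw [h1, ← hmem]
      convert Iff.rfl using 2
      group
    set V := S₁.map (MulAut.conj g⁻¹).toMonoidHom with hV
    have hVN : V ≤ N := by
      rintro _ ⟨x, hx, rfl⟩
      simpa using hback x hx
    obtain ⟨U, hU⟩ := ((hS₁p.map _).comap_subtype (K := N) : IsPGroup p (V.comap N.subtype)).exists_le_sylow
    obtain ⟨k, hk⟩ := MulAction.exists_smul_eq N U T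
    have hkM : S₁.map (MulAut.conj ((k : G) * g⁻¹)).toMonoidHom ≤ M := by
      rintro _ ⟨x, hx, rfl⟩
      have hxV : MulAut.conj g⁻¹ x ∈ V := ⟨x, hx, rfl⟩
      refine hT₁M ⟨k * ⟨_, hVN hxV⟩ * k⁻¹, ?_, ?_⟩
      · rw [← hk, Sylow.coe_subgroup_smul]
        exact ⟨⟨_, hVN hxV⟩, hU (show (⟨_, hVN hxV⟩ : N) ∈ V.comap N.subtype from hxV), rfl⟩
      · simp only [Subgroup.coe_subtype, Subgroup.coe_mul, Subgroup.coe_inv, MulAut.conj_apply,
          MulEquiv.coe_toMonoidHom]
        group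
    obtain ⟨m₁, hm₁, c₁, hc₁, hkg⟩ :=
      ih _ (by
        rw [← hn]
        have h1 : Nat.card Y < Nat.card S₁ :=
          lt_of_le_of_ne (Subgroup.card_le_of_le hYS₁.le) fun e =>
            hYS₁.ne (Subgroup.eq_of_le_of_card_ge hYS₁.le e.ge)
        have h2 : Nat.card Y = Nat.card X :=
          Subgroup.card_map_of_injective (MulAut.conj g).injective
        have h3 := Nat.le_of_dvd Nat.card_pos S₁.card_subgroup_dvd_card
        omega) S₁ rfl hS₁p (fun e => hX1 (by
          have h1 : Y ≤ ⊥ := e ▸ hYS₁.le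
          exact (Subgroup.map_eq_bot_iff_of_injective X (MulAut.conj g).injective).1 (le_bot_iff.1 h1)))
        (inf_le_left.trans hQM) ((k : G) * g⁻¹) hkM
    obtain ⟨m₂, hm₂, c₂, hc₂, hk2⟩ := hfac (k : G) k.2
    have hd : g⁻¹ * c₁⁻¹ * g ∈ Subgroup.centralizer (X : Set G) := by
      refine Subgroup.mem_centralizer_iff.2 fun x hx => ?_
      have h1 := Subgroup.mem_centralizer_iff.1 (inv_mem hc₁) (g * x * g⁻¹)
        (hYS₁.le ⟨x, hx, rfl⟩)
      calc x * (g⁻¹ * c₁⁻¹ * g) = g⁻¹ * ((g * x * g⁻¹) * c₁⁻¹) * g := by group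
        _ = g⁻¹ * (c₁⁻¹ * (g * x * g⁻¹)) * g := by rw [h1]
        _ = _ := by group
    refine ⟨m₁⁻¹ * m₂, mul_mem (inv_mem hm₁) hm₂, c₂ * (g⁻¹ * c₁⁻¹ * g),
      mul_mem hc₂ hd, ?_⟩
    calc g = m₁⁻¹ * (m₁ * c₁) * g * (g⁻¹ * c₁⁻¹ * g) := by group
      _ = m₁⁻¹ * ((k : G) * g⁻¹) * g * (g⁻¹ * c₁⁻¹ * g) := by rw [hkg]
      _ = m₁⁻¹ * (k : G) * (g⁻¹ * c₁⁻¹ * g) := by group
      _ = _ := by rw [hk2]; group

/-- BG 10.1, both parts. -/
theorem fusion_and_normalizer (hG : Cfsg.IsMinSimpleOddOrder G) {M : Subgroup G} (hM : IsCoatom M)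
    (hp : p ∈ Cfsg.sigma M) {X : Subgroup G} (hXp : IsPGroup p X) (hX1 : X ≠ ⊥) (hXM : X ≤ M) :
    (∀ g : G, X.map (MulAut.conj g).toMonoidHom ≤ M →
        ∃ m ∈ M, ∃ c ∈ Subgroup.centralizer (X : Set G), g = m * c) ∧
      Subgroup.normalizer (X : Set G) =
        (M ⊓ Subgroup.normalizer (X : Set G)) ⊔ Subgroup.centralizer (X : Set G) := by
  have h1 := fusion hG hM hp _ X rfl hXp hX1 hXM
  refine ⟨h1, le_antisymm (fun g hg => ?_)
    (sup_le inf_le_right (Subgroup.centralizer_le_normalizer _))⟩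
  obtain ⟨m, hm, c, hc, rfl⟩ := h1 g (by
    rintro _ ⟨x, hx, rfl⟩
    exact hXM ((Subgroup.mem_normalizer_iff.1 hg x).1 hx))
  refine mul_mem (Subgroup.mem_sup_left ⟨hm, ?_⟩) (Subgroup.mem_sup_right hc)
  have := mul_mem hg (inv_mem (Subgroup.centralizer_le_normalizer _ hc))
  rwa [mul_inv_cancel_right] at this

/-- For `p ∈ σ(M)` the `p`-subgroups of `M` lie in `M'`. -/
theorem le_derived (hG : Cfsg.IsMinSimpleOddOrder G) {M : Subgroup G} (hM : IsCoatom M)
    (hp : p ∈ Cfsg.sigma M) {X : Subgroup G} (hXp : IsPGroup p X) (hXM : X ≤ M) : X ≤ ⁅M, M⁆ := by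
  obtain ⟨P, hXP, hPM, -⟩ := exists_sylow_ge hp hXp hXM
  refine hXP.trans fun y hy => ?_
  have h := Transfer.Fusion.commutator_inf_sylow_eq_of_controls P M hPM ?_
  · have hmem : y ∈ commutator G ⊓ (P : Subgroup G) :=
      ⟨by rw [commutator_def, commutator_eq_top hG]; exact Subgroup.mem_top y, hy⟩
    rw [h] at hmem
    exact hmem.1
  · intro x hx g hgx
    by_cases hx1 : x = 1
    · exact ⟨1, one_mem _, by simp [hx1]⟩
    obtain ⟨m, hm, c, hc, rfl⟩ := fusion hG hM hp _ (Subgroup.zpowers x) rfl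
      (P.2.to_le (Subgroup.zpowers_le.2 hx)) (by rwa [Ne, Subgroup.zpowers_eq_bot])
      (hPM.trans' (Subgroup.zpowers_le.2 hx)) g (by
        rintro _ ⟨z, ⟨i, rfl⟩, rfl⟩
        show MulAut.conj g (x ^ i) ∈ M
        rw [map_zpow]
        exact zpow_mem (hPM hgx) i)
    refine ⟨m, hm, ?_⟩
    have h2 := Subgroup.mem_centralizer_iff.1 hc x (Subgroup.mem_zpowers x)
    calc m * x * m⁻¹ = m * (x * c) * c⁻¹ * m⁻¹ := by group
      _ = m * (c * x) * c⁻¹ * m⁻¹ := by rw [h2]
      _ = _ := by group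

end Cfsg.Agent.Lib.OddOrder.Sigma
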