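import Cfsg.Agent.Lib.OddOrder.AlphaCentralizer

/-!
# BG 10.4: primes outside `σ(M)`
-/

set_option autoImplicit false
set_option linter.style.haveILetI false
set_option linter.unusedSectionVars false

namespace Cfsg.Agent.Lib.OddOrder.SigmaComplement

open Cfsg.Agent.Lib.OddOrder.MinSimple

universe u

variable {G : Type u} [Group G] [Finite G] {p : ℕ} [hp : Fact p.Prime]

theorem map_centralizer_singleton (g x : G) :
    (Subgroup.centralizer ({x} : Set G)).map (MulAut.conj g).toMonoidHom =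
      Subgroup.centralizer ({g * x * g⁻¹} : Set G) := by
  ext y
  constructor
  · rintro ⟨z, hz, rfl⟩
    have h := Subgroup.mem_centralizer_singleton_iff.1 hz
    refine Subgroup.mem_centralizer_singleton_iff.2 ?_
    show g * z * g⁻¹ * (g * x * g⁻¹) = g * x * g⁻¹ * (g * z * g⁻¹)
    calc g * z * g⁻¹ * (g * x * g⁻¹) = g * (z * x) * g⁻¹ := by group
      _ = g * (x * z) * g⁻¹ := by rw [h]
      _ = _ := by group
  · intro h
    have h' := Subgroup.mem_centralizer_singleton_iff.1 h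
    refine ⟨g⁻¹ * y * g, Subgroup.mem_centralizer_singleton_iff.2 ?_, ?_⟩
    · calc g⁻¹ * y * g * x = g⁻¹ * (y * (g * x * g⁻¹)) * g := by group
        _ = g⁻¹ * ((g * x * g⁻¹) * y) * g := by rw [h']
        _ = _ := by group
    · show g * (g⁻¹ * y * g) * g⁻¹ = y
      group

theorem isZGroup_of_rankLE_one (hodd : Odd (Nat.card G)) {H : Subgroup G}
    (h : Cfsg.RankLE 1 H) : IsZGroup H := by
  refine ⟨fun q hq Q => ?_⟩
  haveI := Fact.mk hq
  by_contra hnc
  by_cases hd : q ∣ Nat.card H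
  · have hq2 : q ≠ 2 := fun e => by
      subst e
      exact (Nat.not_even_iff_odd.2 hodd) (even_iff_two_dvd.2 (hd.trans H.card_subgroup_dvd_card))
    refine UniqueRank.not_rankLE_one_of_not_isCyclic hq2 (Q.2.map H.subtype) ?_
      (Rank.rankLE_mono (Subgroup.map_subtype_le _) h)
    intro hc
    exact hnc ((Subgroup.equivMapOfInjective _ _ H.subtype_injective).isCyclic.2 hc)
  · refine hnc ?_
    have hbot : (Q : Subgroup H) = ⊥ := by
      by_contra hne
      haveI : Nontrivial (Q : Subgroup H) := (Subgroup.nontrivial_iff_ne_bot _).2 hne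
      obtain ⟨n, hn, hnc⟩ := Q.2.nontrivial_iff_card.1 inferInstance
      exact hd (((dvd_pow_self q hn.ne').trans hnc.symm.dvd).trans
        (Subgroup.card_subgroup_dvd_card _))
    show IsCyclic (Q : Subgroup H)
    rw [hbot]
    infer_instance

/-- BG 10.4. -/
theorem exists_bad_central (hG : Cfsg.IsMinSimpleOddOrder G) {M : Subgroup G} (hM : IsCoatom M)
    (hpM : p ∣ Nat.card M) (hps : p ∉ Cfsg.sigma M) (P : Sylow p M) :
    ∃ x : G, x ∈ ((Subgroup.center ↥(P : Subgroup M)).map (P : Subgroup M).subtype).map M.subtype ∧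
      orderOf x = p ∧
      IsZGroup ↥(Cfsg.alphaCore M ⊓ Subgroup.centralizer ({x} : Set G)) ∧
      ¬ (Subgroup.centralizer ({x} : Set G) ≤ M ∧
        ∀ L : Subgroup G, IsCoatom L → Subgroup.centralizer ({x} : Set G) ≤ L → L = M) := by
  set S := (P : Subgroup M).map M.subtype with hS
  obtain ⟨g, hg, hgM⟩ : ∃ g ∈ Subgroup.normalizer (S : Set G), g ∉ M := by
    by_contra hcon
    push Not at hcon
    exact hps ⟨hp.out, hpM, P, hcon⟩
  have hP1 : (P : Subgroup M) ≠ ⊥ := fun e => P.not_dvd_index (by rw [e, Subgroup.index_bot]; exact hpM)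
  haveI : Nontrivial (P : Subgroup M) := (Subgroup.nontrivial_iff_ne_bot _).2 hP1
  haveI := P.2.center_nontrivial
  obtain ⟨n, hn, hnc⟩ :=
    (P.2.to_subgroup (Subgroup.center ↥(P : Subgroup M))).nontrivial_iff_card.1 inferInstance
  obtain ⟨z, hz⟩ := exists_prime_orderOf_dvd_card' (G := Subgroup.center ↥(P : Subgroup M)) p
    ((dvd_pow_self p hn.ne').trans hnc.symm.dvd)
  set Z := ((Subgroup.center ↥(P : Subgroup M)).map (P : Subgroup M).subtype).map M.subtype with hZ
  have hZS : ∀ y ∈ Z, y ∈ S ∧ ∀ s ∈ S, s * y = y * s := by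
    rintro _ ⟨_, ⟨w, hw, rfl⟩, rfl⟩
    refine ⟨⟨(w : M), w.2, rfl⟩, ?_⟩
    rintro _ ⟨s, hs, rfl⟩
    exact congrArg (fun v : (P : Subgroup M) => ((v : M) : G))
      (Subgroup.mem_center_iff.1 hw ⟨s, hs⟩)
  have hZmem : ∀ y ∈ S, (∀ s ∈ S, s * y = y * s) → y ∈ Z := by
    rintro _ ⟨w, hw, rfl⟩ h
    refine ⟨w, ⟨⟨w, hw⟩, Subgroup.mem_center_iff.2 fun s => ?_, rfl⟩, rfl⟩
    exact Subtype.ext (Subtype.ext (h _ ⟨(s : M), s.2, rfl⟩))
  -- some central element of order `p` has `M` not unique over its centralizer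
  obtain ⟨x, hxZ, hxo, hbad⟩ : ∃ x ∈ Z, orderOf x = p ∧
      ¬ (Subgroup.centralizer ({x} : Set G) ≤ M ∧
        ∀ L : Subgroup G, IsCoatom L → Subgroup.centralizer ({x} : Set G) ≤ L → L = M) := by
    by_contra hcon
    push Not at hcon
    set x : G := (((z : (P : Subgroup M)) : M) : G) with hx
    have hxZ : x ∈ Z := ⟨_, ⟨_, z.2, rfl⟩, rfl⟩
    have hxo : orderOf x = p := by
      rw [hx, Subgroup.orderOf_coe, Subgroup.orderOf_coe, Subgroup.orderOf_coe, hz]
    have hyZ : g * x * g⁻¹ ∈ Z := by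
      refine hZmem _ ((Subgroup.mem_normalizer_iff.1 hg x).1 (hZS x hxZ).1) fun s hs => ?_
      have h1 : g⁻¹ * s * g⁻¹⁻¹ ∈ S := (Subgroup.mem_normalizer_iff.1 (inv_mem hg) s).1 hs
      have h2 := (hZS x hxZ).2 _ h1
      calc s * (g * x * g⁻¹) = g * ((g⁻¹ * s * g⁻¹⁻¹) * x) * g⁻¹ := by group
        _ = g * (x * (g⁻¹ * s * g⁻¹⁻¹)) * g⁻¹ := by rw [h2]
        _ = _ := by group
    obtain ⟨hxM, -⟩ := hcon x hxZ hxo
    obtain ⟨-, hyU⟩ := hcon _ hyZ (by rw [← MulAut.conj_apply g, MulEquiv.orderOf_eq, hxo])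
    have hgM' := hyU _ (((MulAut.conj g).mapSubgroup.isCoatom_iff M).2 hM)
      (map_centralizer_singleton g x ▸ Subgroup.map_mono hxM)
    refine hgM (normalizer_coatom hG hM ▸ ?_)
    refine Coprime.mem_normalizer_of_conj_smul_eq ?_
    exact hgM'
  refine ⟨x, hxZ, hxo, ?_, hbad⟩
  have hx1 : x ≠ 1 := fun e => hp.out.one_lt.ne (by rw [← hxo, e, orderOf_one])
  have hxM : x ∈ M := Subgroup.map_subtype_le _ (hZS x hxZ).1
  refine isZGroup_of_rankLE_one hG.1 ?_
  by_contra hr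
  have hpa : p ∉ Cfsg.alpha M := fun h => hps (AlphaCore.alpha_subset_sigma hG hM h)
  have hC : Subgroup.centralizer ((Subgroup.zpowers x : Subgroup G) : Set G) =
      Subgroup.centralizer ({x} : Set G) := by
    rw [Subgroup.zpowers_eq_closure, Subgroup.centralizer_closure]
  have hU := AlphaCentralizer.inUniqueMaximal hG hM (Subgroup.zpowers_le.2 hxM) (fun q hq hd => by
    rw [Nat.card_zpowers, hxo] at hd
    rwa [(Nat.prime_dvd_prime_iff_eq hq hp.out).1 hd]) (by rwa [hC])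
  rw [hC] at hU
  obtain ⟨L, hL, hCL⟩ := exists_coatom_ge hG (centralizer_singleton_ne_top hG hx1)
  have huniq : ∀ L : Subgroup G, IsCoatom L → Subgroup.centralizer ({x} : Set G) ≤ L → L = M :=
    fun L hL hCL => UniqueRank.eq_of_le hU hL (inf_le_right.trans hCL) hM inf_le_left
  exact hbad ⟨huniq L hL hCL ▸ hCL, huniq⟩

end Cfsg.Agent.Lib.OddOrder.SigmaComplement
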