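import Cfsg.Agent.Lib.OddOrder.MaximalBasics

/-!
# BG 13.1 and the first part of 13.3
-/

set_option autoImplicit false
set_option linter.style.haveILetI false
set_option linter.unusedSectionVars false

open scoped Pointwise commutatorElement

namespace Cfsg.Agent.Lib.OddOrder.SigmaMeet

open Cfsg.Agent.Lib.OddOrder.MinSimple

universe u

variable {G : Type u} [Group G] [Finite G] {p : ℕ} [hp : Fact p.Prime] {M H : Subgroup G}

theorem le_normalizer_inf {P : Subgroup G} (hPD : P ≤ M ⊓ H) :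
    P ≤ Subgroup.normalizer ((Cfsg.sigmaCore M ⊓ H : Subgroup G) : Set G) :=
  Coprime.le_normalizer_inf ((hPD.trans inf_le_left).trans (Basic.le_normalizer_map_subtype M _))
    ((hPD.trans inf_le_right).trans Subgroup.le_normalizer)

/-- BG 13.1(a). -/
theorem centralizes (hG : Cfsg.IsMinSimpleOddOrder G) (hM : IsCoatom M) (hH : IsCoatom H)
    (hnc : ∀ g : G, H ≠ M.map (MulAut.conj g).toMonoidHom) (hps : p ∉ Cfsg.sigma M)
    {P : Subgroup G} (hP : IsPGroup p P) (hPD : P ≤ M ⊓ H) (hPd : P ≤ ⁅H, H⁆) :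
    P ≤ Subgroup.centralizer ((Cfsg.sigmaCore M ⊓ H : Subgroup G) : Set G) := by
  have hσ := SigmaHall.sigmaCore_isPiHallOf hG hM
  set X := Cfsg.sigmaCore M ⊓ H with hX
  have hn : P ≤ Subgroup.normalizer (X : Set G) := le_normalizer_inf hPD
  have hXπ : ∀ r : ℕ, r.Prime → r ∣ Nat.card X → r ∈ Cfsg.sigma M := fun r hr hd =>
    hσ.2.1 r hr (hd.trans (Subgroup.card_dvd_of_le inf_le_left))
  have hXP : ⁅X, P⁆ ≤ X := Coprime.commutator_le_of_le_normalizer hn
  have hcop : (Nat.card P).Coprime (Nat.card X) := Nat.coprime_of_dvd fun r hr h1 h2 => by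
    rw [Hall.prime_dvd_pgroup hp.out hr hP h1] at h2
    exact hps (hXπ p hp.out h2)
  have h0 : X ⊓ Cfsg.alphaCore H = ⊥ := MaximalBasics.inf_alphaCore_eq_bot hG hH fun r hr hd =>
    MaximalBasics.not_alpha_of_sigma hG hM hH hnc (hXπ r hr hd)
  have hd1 : ⁅X, P⁆ ≤ ⁅H, H⁆ :=
    Subgroup.commutator_mono inf_le_right (hPD.trans inf_le_right)
  refine Coprime.le_centralizer_of_commutator_commutator
    (hcop.coprime_dvd_right (Subgroup.card_dvd_of_le hXP)) (le_bot_iff.1 (h0 ▸ le_inf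
      ((Subgroup.commutator_mono hXP le_rfl).trans hXP) ?_))
  rw [Subgroup.commutator_le]
  intro a ha b hb
  refine MaximalBasics.commutator_mem_alphaCore hG hH (hd1 ha) (hPd hb) ?_
  exact ((hcop.symm.coprime_dvd_left (X.orderOf_dvd_natCard (hXP ha))).coprime_dvd_right
    (P.orderOf_dvd_natCard hb))

/-- A prime dividing `|[M_σ ∩ H, T]|`. -/
theorem exists_prime (hG : Cfsg.IsMinSimpleOddOrder G) (hM : IsCoatom M) {T : Subgroup G}
    (hT : T ≤ M ⊓ H) (hne : ⁅Cfsg.sigmaCore M ⊓ H, T⁆ ≠ ⊥) :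
    ∃ q : ℕ, q.Prime ∧ q ∈ Cfsg.sigma M ∧ q ∣ Nat.card ↥⁅H, H⁆ := by
  obtain ⟨q, hq, hd⟩ := Nat.exists_prime_and_dvd (mt Subgroup.card_eq_one.1 hne)
  refine ⟨q, hq, (SigmaHall.sigmaCore_isPiHallOf hG hM).2.1 q hq (hd.trans
    (Subgroup.card_dvd_of_le ((Coprime.commutator_le_of_le_normalizer
      (le_normalizer_inf hT)).trans inf_le_left))),
    hd.trans (Subgroup.card_dvd_of_le (Subgroup.commutator_mono inf_le_right ?_))⟩
  exact hT.trans inf_le_right

/-- BG 13.1(b). -/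
theorem not_tau2 (h5 : SigmaSubgroup.TauTwo G) (hG : Cfsg.IsMinSimpleOddOrder G)
    (hM : IsCoatom M) (hH : IsCoatom H)
    (hnc : ∀ g : G, H ≠ M.map (MulAut.conj g).toMonoidHom) (hpM : p ∣ Nat.card M)
    (hps : p ∉ Cfsg.sigma M) {T : Subgroup G} (hT : T ≤ M ⊓ H)
    (hne : ⁅Cfsg.sigmaCore M ⊓ H, T⁆ ≠ ⊥) : p ∉ Cfsg.tau2 H := by
  rintro ⟨-, hpσ, hr2, hr1⟩
  haveI := solvable_of_ne_top hG hH.1
  obtain ⟨q, hq, hqσ, hqd⟩ := exists_prime hG hM hT hne
  haveI := Fact.mk hq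
  have hσH := SigmaHall.sigmaCore_isPiHallOf hG hH
  obtain ⟨A, hAH, hA, hAc⟩ := RankTwoPrime.exists_elemAb_sq (H := H) hr2 hr1
  -- a nontrivial `q`-subgroup of `H` whose normalizer in `H` covers `H / H_σ`
  obtain ⟨R, hRq, hR1, hRH, hsup⟩ : ∃ R : Subgroup G, IsPGroup q R ∧ R ≠ ⊥ ∧ R ≤ H ∧
      ∃ D : Subgroup G, D ≤ H ⊓ Subgroup.normalizer (R : Set G) ∧ Cfsg.sigmaCore H ⊔ D = H := by
    by_cases hqH : q ∈ Cfsg.sigma H
    · obtain ⟨S⟩ : Nonempty (Sylow q H) := inferInstance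
      set R := (S : Subgroup H).map H.subtype with hR
      have hRH : R ≤ H := Subgroup.map_subtype_le _
      have hRσ : R ≤ Cfsg.sigmaCore H := SigmaSubgroup.le_sigmaCore hG hH hRH fun r hr hd =>
        Hall.prime_dvd_pgroup hq hr (S.2.map _) hd ▸ hqH
      refine ⟨R, S.2.map _, ?_, hRH, _, le_rfl,
        RankTwoKey.sup_normalizer_of_normal hσH.1 (Basic.le_normalizer_map_subtype H _) hRσ
          (S.2.map _) fun h => S.not_dvd_index ?_⟩
      · rw [Ne, hR, Subgroup.map_eq_bot_iff_of_injective _ H.subtype_injective]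
        exact S.ne_bot_of_dvd_card hqH.2.1
      · rw [← Basic.relIndex_map_subtype H (S : Subgroup H)]
        exact h.trans (Dvd.intro _ (Subgroup.relIndex_mul_relIndex R _ H hRσ hσH.1))
    · obtain ⟨E, hE⟩ := MaximalBasics.exists_compl hG hH
      have hd := (SigmaCompl.dvd_derived hE hq hqH).1 hqd
      haveI := SigmaCompl.isNilpotent_derived hG hH hE
      have hR1 : (Cfsg.pCore q ↥⁅E, E⁆).map (⁅E, E⁆ : Subgroup G).subtype ≠ ⊥ := by
        rw [Ne, Subgroup.map_eq_bot_iff_of_injective _ (⁅E, E⁆ : Subgroup G).subtype_injective]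
        obtain ⟨S⟩ : Nonempty (Sylow q ↥⁅E, E⁆) := inferInstance
        haveI hSn : (S : Subgroup ↥⁅E, E⁆).Normal :=
          Sylow.normal_of_normalizerCondition Group.normalizerCondition_of_isNilpotent S
        exact fun e => S.ne_bot_of_dvd_card hd (le_bot_iff.1 (e ▸ Cores.le_pCore S.2))
      refine ⟨_, (Cores.pCore_isPGroup (G := ↥⁅E, E⁆) q).map _, hR1,
        (Subgroup.map_subtype_le _).trans ((MaximalBasics.derived_le_self E).trans hE.1), E,
        le_inf hE.1 (le_trans ?_ (Balance.le_normalizer_map_characteristic _)),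
        by rw [sup_comm]; exact Basic.isComplIn_sup hE⟩
      rw [← Subgroup.map_subtype_commutator]
      exact Basic.le_normalizer_map_subtype E _
  obtain ⟨D, hD, hsup⟩ := hsup
  have hb := (SigmaSubgroup.bound h5 hG hM hR1
    (fun r hr hd => Hall.prime_dvd_pgroup hq hr hRq hd ▸ hqσ) hH hnc hRH hpM hps
    (RankTwoPrime.not_ideal hG hH hr2 hr1)).1
  obtain ⟨k, -, hk⟩ := SigmaSubgroup.exists_conj_le_of_sup (π := ({p} : Set ℕ))
    (solvable_of_ne_top hG hH.1) hσH.1 (Basic.le_normalizer_map_subtype H _)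
    (hD.trans inf_le_left) hsup hAH (Transitivity.inv_of_isPGroup (IsPGroup.of_card hAc))
    (fun r hr hd e => hpσ ((Set.mem_singleton_iff.1 e) ▸ hσH.2.1 r hr hd))
  have h2 := Rank.prankLE_subgroup_iff.1 hb _ (hk.trans hD) (PGroups.elemAb_map _ hA)
  rw [Subgroup.card_map_of_injective (MulAut.conj k).injective, hAc, pow_one] at h2
  nlinarith [hp.out.two_le]

/-- BG 13.1(c). -/
theorem mem_ideal (h5 : SigmaSubgroup.TauTwo G) (hG : Cfsg.IsMinSimpleOddOrder G)
    (hM : IsCoatom M) (hH : IsCoatom H)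
    (hnc : ∀ g : G, H ≠ M.map (MulAut.conj g).toMonoidHom) (hτ : p ∈ Cfsg.tau1 M)
    (hpd : p ∣ Nat.card ↥⁅H, H⁆) {T : Subgroup G} (hT : T ≤ M ⊓ H)
    (hne : ⁅Cfsg.sigmaCore M ⊓ H, T⁆ ≠ ⊥) : Cfsg.IsIdealPrime p G := by
  by_contra hni
  obtain ⟨q, hq, hqσ, hqd⟩ := exists_prime hG hM hT hne
  haveI := Fact.mk hq
  obtain ⟨S⟩ : Nonempty (Sylow q ↥⁅H, H⁆) := inferInstance
  set R := (S : Subgroup ↥⁅H, H⁆).map (⁅H, H⁆ : Subgroup G).subtype with hR
  have hR1 : R ≠ ⊥ := by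
    rw [Ne, hR, Subgroup.map_eq_bot_iff_of_injective _ (⁅H, H⁆ : Subgroup G).subtype_injective]
    exact S.ne_bot_of_dvd_card hqd
  have hsup := BetaFrattini.sup_normalizer hG hH (S.2.map _) (Subgroup.map_subtype_le _) fun h =>
    S.not_dvd_index (by rwa [← Basic.relIndex_map_subtype])
  have hb := (SigmaSubgroup.bound h5 hG hM hR1
    (fun r hr hd => Hall.prime_dvd_pgroup hq hr (S.2.map _) hd ▸ hqσ) hH hnc
    ((Subgroup.map_subtype_le _).trans (MaximalBasics.derived_le_self H)) hτ.2.2.1 hτ.2.1 hni).2 hτ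
  have hle := MaximalBasics.derived_le_of_sup (piCoreOf_le _ _) (piCoreOf_normal _ _) inf_le_left hsup
  rcases SigmaSubgroup.relIndex_sup_right_le p hp.out (hpd.trans (Subgroup.card_dvd_of_le hle))
    (((MaximalBasics.derived_le_self _).trans inf_le_left).trans (piCoreOf_normal _ _)) with h | h
  · exact hni (piCoreOf_isPiGroup _ _ p hp.out h).2
  · exact hb h

/-- BG 13.3(a): for `p ∉ σ(M)` with `r_p(M) ≤ 1` and `P ≤ M` of order `p`, `p`-subgroups of
`C_M(P)` centralize `C_{M_σ}(P)`. -/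
theorem prime_action (h5 : SigmaSubgroup.TauTwo G) (hG : Cfsg.IsMinSimpleOddOrder G)
    (hM : IsCoatom M) (hps : p ∉ Cfsg.sigma M) (hr1 : Cfsg.PRankLE p 1 M) {P S : Subgroup G}
    (hPc : Nat.card P = p) (hPM : P ≤ M) (hS : IsPGroup p S)
    (hSM : S ≤ M ⊓ Subgroup.centralizer (P : Set G)) :
    Cfsg.sigmaCore M ⊓ Subgroup.centralizer (P : Set G) ≤ Subgroup.centralizer (S : Set G) := by
  have hP1 : P ≠ ⊥ := fun e => hp.out.ne_one (by rw [← hPc, e, Subgroup.card_bot])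
  have hPp : IsPGroup p P := IsPGroup.of_card (n := 1) (by rw [hPc, pow_one])
  obtain ⟨H, hH, hNH⟩ := exists_coatom_ge hG (normalizer_ne_top hG hP1 (pgroup_ne_top hG hPp))
  have hnc := MaximalBasics.not_conj_of_normalizer hG hM hps (fun h => h.2.2.2 hr1) hPp hP1 hNH
  have hCH : Subgroup.centralizer (P : Set G) ≤ H :=
    (Subgroup.centralizer_le_normalizer _).trans hNH
  have hpM : p ∣ Nat.card M := hPc ▸ Subgroup.card_dvd_of_le hPM
  have hSD : S ≤ M ⊓ H := hSM.trans (inf_le_inf_left _ hCH)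
  refine (inf_le_inf_left _ hCH).trans (Subgroup.le_centralizer_iff.1 ?_)
  rcases SigmaEmbedding.mem_sigma_or_tau2 hG hH hPp hP1 hNH with hσ | hτ
  · exact centralizes hG hM hH hnc hps hS hSD
      (Sigma.le_derived hG hH hσ hS (hSD.trans inf_le_right))
  · rw [Subgroup.le_centralizer_iff, ← Subgroup.commutator_eq_bot_iff_le_centralizer]
    by_contra hne
    exact not_tau2 h5 hG hM hH hnc hpM hps hSD hne hτ

end Cfsg.Agent.Lib.OddOrder.SigmaMeet
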