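import Cfsg.Agent.Lib.OddOrder.MaximalBasics

/-!
# A complement of a Sylow subgroup in its normalizer, fixed points, prime-order subgroups
-/

set_option autoImplicit false
set_option linter.style.haveILetI false
set_option linter.unusedSectionVars false

open scoped Pointwise commutatorElement

namespace Cfsg.Agent.Lib.OddOrder.SylowFixed

open Cfsg.Agent.Lib.OddOrder.MinSimple

universe u

variable {G : Type u} [Group G] [Finite G] {p : ℕ} [hp : Fact p.Prime]

/-- A complement of `S` in `N(S)` over a given `p'`-subgroup; it satisfies `[S, V] = S`. -/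
theorem exists_compl_sylow (hG : Cfsg.IsMinSimpleOddOrder G) (S : Sylow p G)
    (hS1 : (S : Subgroup G) ≠ ⊥) {U : Subgroup G}
    (hUN : U ≤ Subgroup.normalizer ((S : Subgroup G) : Set G))
    (hU : ∀ s : ℕ, s.Prime → s ∣ Nat.card U → s ≠ p) :
    ∃ V : Subgroup G, V ≤ Subgroup.normalizer ((S : Subgroup G) : Set G) ∧ U ≤ V ∧
      (Nat.card V).Coprime (Nat.card (S : Subgroup G)) ∧
      ⁅(S : Subgroup G), V⁆ = (S : Subgroup G) := by
  set N := Subgroup.normalizer ((S : Subgroup G) : Set G) with hN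
  haveI hNs : Group.IsSolvable N :=
    solvable_of_ne_top hG (normalizer_ne_top hG hS1 (pgroup_ne_top hG S.2))
  obtain ⟨V, ⟨hVN, hVπ, hVi⟩, -, hUV⟩ := Hall.Coprime.exists_invariant_ge (A := (⊥ : Subgroup G))
    (K := N) bot_le (by rw [Subgroup.card_bot]; exact Nat.coprime_one_left _) hNs
    {s : ℕ | s ≠ p} hUN bot_le hU
  have hSN : (S : Subgroup G) ≤ N := Subgroup.le_normalizer
  have hcopSV : (Nat.card (S : Subgroup G)).Coprime (Nat.card V) :=
    Nat.coprime_of_dvd fun s hs h1 h2 => hVπ s hs h2 (Hall.prime_dvd_pgroup hp.out hs S.2 h1)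
  have hVc : Cfsg.IsComplIn (S : Subgroup G) V N := by
    refine Basic.isComplIn_of_card hSN hVN (Basic.inf_eq_bot_of_coprime hcopSV)
      (Nat.dvd_antisymm ?_ (hcopSV.mul_dvd_of_dvd_of_dvd (Subgroup.card_dvd_of_le hSN)
        (Subgroup.card_dvd_of_le hVN)))
    have h1 := Subgroup.relIndex_mul_relIndex (⊥ : Subgroup G) _ N bot_le hSN
    have h2 := Subgroup.relIndex_mul_relIndex (⊥ : Subgroup G) V N bot_le hVN
    rw [Subgroup.relIndex_bot_left, Subgroup.relIndex_bot_left] at h1 h2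
    have h3 : ((S : Subgroup G).relIndex N).Coprime (V.relIndex N) := by
      refine Nat.coprime_of_dvd fun s hs a b => hVi s hs ?_ b
      rintro rfl
      exact S.not_dvd_index (a.trans (Subgroup.relIndex_mul_index hSN ▸ dvd_mul_right _ _))
    rw [← h1]
    refine Nat.mul_dvd_mul_left _ (h3.dvd_of_dvd_mul_right ?_)
    exact h2.symm ▸ h1 ▸ dvd_mul_left _ _
  exact ⟨V, hVN, hUV, hcopSV.symm, (SylowNormalizer.commutator_eq hG
    (fun K hK => PLengthOne.of_ne_top hG p K hK) S hVc).symm⟩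

omit hp in
/-- If `[S, V] = S` with `V` of coprime order then `C_S(V) ≤ S'`. -/
theorem fixed_le_derived {S V : Subgroup G} (hVS : V ≤ Subgroup.normalizer (S : Set G))
    (hcop : (Nat.card V).Coprime (Nat.card S)) (hSV : ⁅S, V⁆ = S) :
    S ⊓ Subgroup.centralizer (V : Set G) ≤ ⁅S, S⁆ := by
  set N := Subgroup.normalizer (S : Set G) with hN
  have hSN : S ≤ N := Subgroup.le_normalizer
  set S₀ := S.subgroupOf N with hS₀
  set V₀ := V.subgroupOf N with hV₀
  haveI hS₀n : S₀.Normal := (Subgroup.normal_subgroupOf_iff_le_normalizer hSN).2 le_rfl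
  have hmapS : S₀.map N.subtype = S := Subgroup.map_subgroupOf_eq_of_le hSN
  have hmapV : V₀.map N.subtype = V := Subgroup.map_subgroupOf_eq_of_le hVS
  have hSV₀ : ⁅S₀, V₀⁆ = S₀ := by
    apply Subgroup.map_injective N.subtype_injective
    rw [Subgroup.map_commutator, hmapS, hmapV, hSV]
  set C := ⁅S₀, S₀⁆ with hC
  haveI : C.Normal := Subgroup.commutator_normal _ _
  set f := QuotientGroup.mk' C with hf
  haveI : (S₀.map f).Normal :=
    Subgroup.Normal.map inferInstance f (QuotientGroup.mk'_surjective C)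
  haveI hab : IsMulCommutative (S₀.map f) := by
    refine ⟨⟨fun a b => Subtype.ext ?_⟩⟩
    obtain ⟨a', ha', hea⟩ := a.2
    obtain ⟨b', hb', heb⟩ := b.2
    show (a : N ⧸ C) * b = b * a
    rw [← hea, ← heb]
    refine commutatorElement_eq_one_iff_mul_comm.1 ?_
    rw [← map_commutatorElement, hf, QuotientGroup.mk'_apply, QuotientGroup.eq_one_iff]
    exact Subgroup.commutator_mem_commutator ha' hb'
  intro x hx
  have hx0 : (⟨x, hSN hx.1⟩ : N) ∈ S₀ := hx.1
  have hmem : f ⟨x, hSN hx.1⟩ ∈ S₀.map f ⊓ Subgroup.centralizer (V₀.map f : Set (N ⧸ C)) := by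
    refine Subgroup.mem_inf.2 ⟨Subgroup.mem_map_of_mem f hx0, Subgroup.mem_centralizer_iff.2 ?_⟩
    rintro _ ⟨e, he, rfl⟩
    rw [← map_mul, ← map_mul]
    exact congrArg f (Subtype.ext (Subgroup.mem_centralizer_iff.1 hx.2 _ he))
  have hcop' : (Nat.card (V₀.map f)).Coprime (Nat.card (S₀.map f)) :=
    (hcop.coprime_dvd_left ((Subgroup.card_map_dvd _ _).trans
      (NormedConstrained.card_subgroupOf_eq hVS).dvd)).coprime_dvd_right
      ((Subgroup.card_map_dvd _ _).trans (NormedConstrained.card_subgroupOf_eq hSN).dvd)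
  have h := Coprime.centralizer_inf_commutator_eq_bot
    (Subgroup.le_normalizer_of_normal : V₀.map f ≤ Subgroup.normalizer (S₀.map f : Set (N ⧸ C))) hcop'
  rw [← Subgroup.map_commutator, hSV₀] at h
  have h1 := h ▸ Subgroup.mem_inf.2 ⟨hmem, hmem.1⟩
  rw [Subgroup.mem_bot, hf, QuotientGroup.mk'_apply, QuotientGroup.eq_one_iff] at h1
  have h2 := Subgroup.mem_map_of_mem N.subtype h1
  rwa [hC, Subgroup.map_commutator, hmapS] at h2

/-- `N(P)' ≤ C(P)` for `P` of prime order. -/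
theorem derived_le_centralizer_of_card {P : Subgroup G} (hP : Nat.card P = p) :
    ⁅Subgroup.normalizer (P : Set G), Subgroup.normalizer (P : Set G)⁆ ≤
      Subgroup.centralizer (P : Set G) := by
  rw [Subgroup.commutator_le]
  intro g hg h hh
  refine Subgroup.mem_centralizer_iff.2 fun y hy => ?_
  haveI : IsCyclic P := isCyclic_of_prime_card hP
  obtain ⟨⟨u, huP⟩, hu⟩ := IsCyclic.exists_generator (α := P)
  have hrep : ∀ w ∈ P, ∃ i : ℤ, w = u ^ i := fun w hw => by
    obtain ⟨i, hi⟩ := hu ⟨w, hw⟩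
    exact ⟨i, by simpa using (congrArg Subtype.val hi).symm⟩
  obtain ⟨i, hi⟩ := hrep _ ((Subgroup.mem_normalizer_iff.1 hg u).1 huP)
  obtain ⟨j, hj⟩ := hrep _ ((Subgroup.mem_normalizer_iff.1 hh u).1 huP)
  obtain ⟨k, rfl⟩ := hrep y hy
  have h1 : g * (h * u * h⁻¹) * g⁻¹ = h * (g * u * g⁻¹) * h⁻¹ := by
    rw [hi, hj, ← conj_zpow, ← conj_zpow, hi, hj, ← zpow_mul, ← zpow_mul, mul_comm i j]
  have h2 : Commute ⁅g, h⁆ u := by
    refine mul_inv_eq_iff_eq_mul.1 ?_
    calc ⁅g, h⁆ * u * ⁅g, h⁆⁻¹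
        = g * (h * (g⁻¹ * (h⁻¹ * u * h) * g) * h⁻¹) * g⁻¹ := by
          simp only [commutatorElement_def]; group
      _ = h * (g * (g⁻¹ * (h⁻¹ * u * h) * g) * g⁻¹) * h⁻¹ := by
          obtain ⟨n, hn⟩ := hrep (g⁻¹ * (h⁻¹ * u * h) * g)
            ((Subgroup.mem_normalizer_iff''.1 hg _).1 ((Subgroup.mem_normalizer_iff''.1 hh u).1 huP))
          rw [hn, ← conj_zpow, ← conj_zpow, h1, ← conj_zpow, ← conj_zpow]
      _ = u := by group
  exact (h2.zpow_right k).eq.symm

end Cfsg.Agent.Lib.OddOrder.SylowFixed
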