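import Cfsg.Agent.Lib.OddOrder.MoverFixed
import Cfsg.Agent.Lib.OddTau.Regular

/-!
# Elements of prime order centralize the subgroups of order `p ∉ σ(M)` with fixed points on `M_σ`
-/

set_option autoImplicit false
set_option linter.style.haveILetI false
set_option linter.unusedSectionVars false

open scoped Pointwise commutatorElement

namespace Cfsg.Agent.Lib.OddOrder.TauThreeMover

open Cfsg.Agent.Lib.OddOrder.MinSimple

universe u

variable {G : Type u} [Group G] [Finite G]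

/-- In a solvable group with two primes and rank-one Sylow subgroups one of two subgroups of prime
order is normalized by the other. -/
theorem normal_pair {s s' : ℕ} [hs : Fact s.Prime] [hs' : Fact s'.Prime] {K : Subgroup G}
    (hKs : Group.IsSolvable K)
    (hK : ∀ r : ℕ, r.Prime → r ∣ Nat.card K → r = s ∨ r = s')
    (hcyc : ∀ (r : ℕ), r = s ∨ r = s' → ∀ Q : Subgroup G, Q ≤ K → IsPGroup r Q → IsCyclic Q)
    {u v : G} (hu : u ∈ K) (hv : v ∈ K) (huo : orderOf u = s) (hvo : orderOf v = s') :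
    v ∈ Subgroup.normalizer (Subgroup.zpowers u : Set G) ∨
      u ∈ Subgroup.normalizer (Subgroup.zpowers v : Set G) := by
  haveI := hKs
  haveI : Nontrivial K := ⟨⟨⟨u, hu⟩, 1, fun e => hs.out.ne_one (by
    rw [← huo, show u = 1 from congrArg Subtype.val e, orderOf_one])⟩⟩
  obtain ⟨r, N₀, hr, hN₀, hne, -, hNr⟩ := Hall.exists_normal_abelian_pgroup (G := K)
  haveI := Fact.mk hr
  haveI := hN₀
  set N₁ := N₀.map K.subtype with hN₁
  have hN₁K : N₁ ≤ K := Subgroup.map_subtype_le _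
  have hKN : K ≤ Subgroup.normalizer (N₁ : Set G) := Basic.le_normalizer_map_subtype K N₀
  have hN₁ne : N₁ ≠ ⊥ := by
    rwa [Ne, hN₁, Subgroup.map_eq_bot_iff_of_injective _ K.subtype_injective]
  have hrN : r ∣ Nat.card N₁ := SigmaEmbedding.ne_one_of_pgroup (hNr.map _) hN₁ne
  -- the line of order `r` lies in `N₁` and is normalized by `K`
  have key : ∀ w ∈ K, orderOf w = r → (r = s ∨ r = s') →
      K ≤ Subgroup.normalizer (Subgroup.zpowers w : Set G) := by
    intro w hw hwo hrs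
    have hWN : Subgroup.zpowers w ≤ Subgroup.normalizer (N₁ : Set G) :=
      Subgroup.zpowers_le.2 (hKN hw)
    haveI := hcyc r hrs (N₁ ⊔ Subgroup.zpowers w) (sup_le hN₁K (Subgroup.zpowers_le.2 hw))
      (IsPGroup.to_sup_of_normal_left' (hNr.map _) (SigmaDisjoint.zpowers_isPGroup hwo) hWN)
    obtain ⟨⟨z, hz⟩, hzo⟩ := exists_prime_orderOf_dvd_card' (G := N₁) r hrN
    rw [← Subgroup.orderOf_coe] at hzo
    have heq : Subgroup.zpowers w = Subgroup.zpowers z :=
      Cyclic.eq_of_card_eq_of_isCyclic (W := N₁ ⊔ Subgroup.zpowers w) le_sup_right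
        ((Subgroup.zpowers_le.2 hz).trans le_sup_left)
        (by rw [Nat.card_zpowers, Nat.card_zpowers, hwo, hzo])
    intro k hk
    refine Subgroup.mem_normalizer_iff_map_conj_eq.2 (Cyclic.eq_of_card_eq_of_isCyclic
      (W := N₁ ⊔ Subgroup.zpowers w) ?_ le_sup_right
      (Subgroup.card_map_of_injective (MulAut.conj k).injective))
    rintro _ ⟨b, hb, rfl⟩
    rw [heq] at hb
    exact Subgroup.mem_sup_left
      ((Subgroup.mem_normalizer_iff.1 (hKN hk) b).1 (Subgroup.zpowers_le.2 hz hb))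
  rcases hK r hr (hrN.trans (Subgroup.card_dvd_of_le hN₁K)) with h | h
  · exact Or.inl (key u hu (huo.trans h.symm) (Or.inl h) hv)
  · exact Or.inr (key v hv (hvo.trans h.symm) (Or.inr h) hu)

/-- `M = M_σ E` with `E ≤ K` leaves no fixed element of order `s ∈ σ(K)`, `s ∉ σ(M)`, in `M`. -/
theorem false_of_fixed_compl (hG : Cfsg.IsMinSimpleOddOrder G) {M K E : Subgroup G}
    (hM : IsCoatom M) (hK : IsCoatom K) (hE : Cfsg.IsComplIn E (Cfsg.sigmaCore M) M)
    (hEK : E ≤ K) {y : G} (hyE : y ∈ E)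
    (hbot : Cfsg.sigmaCore K ⊓ M ⊓ Subgroup.centralizer ({y} : Set G) = ⊥)
    {s : ℕ} [hs : Fact s.Prime] (hsK : s ∈ Cfsg.sigma K) (hsM : s ∉ Cfsg.sigma M) {h : G}
    (hho : orderOf h = s) (hhM : h ∈ M) (hhy : Commute h y) : False := by
  have hEN : E ≤ Subgroup.normalizer (Cfsg.sigmaCore M : Set G) :=
    hE.1.trans (OddTau.Basic.le_normalizer_sigmaCore M)
  obtain ⟨e, he, a, ha, hea⟩ := Set.mem_mul.1
    (by rw [← Subgroup.coe_mul_of_left_le_normalizer_right _ _ hEN, Basic.isComplIn_sup hE]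
        exact hhM : h ∈ (E : Set G) * (Cfsg.sigmaCore M : Set G))
  have hey : Commute e y := by
    have h1 : a * (y⁻¹ * a⁻¹ * y) ∈ E ⊓ Cfsg.sigmaCore M := by
      refine Subgroup.mem_inf.2 ⟨?_, mul_mem ha ?_⟩
      · have h2 : e⁻¹ * y⁻¹ * e * y = a * (y⁻¹ * a⁻¹ * y) := by
          have h3 : y⁻¹ * (e * a) = e * a * y⁻¹ := by rw [hea]; exact hhy.inv_right.eq.symm
          calc e⁻¹ * y⁻¹ * e * y = e⁻¹ * (y⁻¹ * (e * a)) * a⁻¹ * y := by group
            _ = _ := by rw [h3]; group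
        rw [← h2]
        exact mul_mem (mul_mem (mul_mem (inv_mem he) (inv_mem hyE)) he) hyE
      · have h4 := (Subgroup.mem_normalizer_iff.1 (hEN (inv_mem hyE)) _).1 (inv_mem ha)
        rwa [inv_inv] at h4
    rw [hE.2.2.1, Subgroup.mem_bot, mul_eq_one_iff_eq_inv] at h1
    have h5 : e * a * y = y * (e * a) := by rw [hea]; exact hhy.eq
    have h6 : a * y = y * a := by
      conv_rhs => rw [h1]
      group
    show e * y = y * e
    refine mul_right_cancel (b := a) ?_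
    rw [mul_assoc, ← h6, ← mul_assoc, h5, mul_assoc]
  have heM : e ∈ M := hE.1 he
  have hes : e ^ s = 1 := by
    have h7 := OddTau.Regular.pow_mul_inv_mem (N := Cfsg.sigmaCore M) (k := e * a * e⁻¹)
      ((Subgroup.mem_normalizer_iff.1 (hEN he) a).1 ha) (hEN he) s
    rw [inv_mul_cancel_right, hea, orderOf_dvd_iff_pow_eq_one.1 hho.dvd, one_mul] at h7
    have h8 : (e ^ s)⁻¹ ∈ E ⊓ Cfsg.sigmaCore M := Subgroup.mem_inf.2 ⟨inv_mem (pow_mem he s), h7⟩
    rwa [hE.2.2.1, Subgroup.mem_bot, inv_eq_one] at h8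
  have he1 : e ≠ 1 := by
    intro e1
    rw [e1, one_mul] at hea
    exact hsM ((SigmaHall.sigmaCore_isPiHallOf hG hM).2.1 s hs.out
      (hho ▸ Subgroup.orderOf_dvd_natCard _ (hea ▸ ha)))
  have heσ : e ∈ Cfsg.sigmaCore K := OddTau.Basic.pgroup_le_sigmaCore hG hK hsK
    (SigmaDisjoint.zpowers_isPGroup (orderOf_eq_prime hes he1))
    (Subgroup.zpowers_le.2 (hEK he)) (Subgroup.mem_zpowers e)
  exact he1 (Subgroup.mem_bot.1 (hbot ▸ Subgroup.mem_inf.2
    ⟨Subgroup.mem_inf.2 ⟨heσ, heM⟩, Subgroup.mem_centralizer_singleton_iff.2 hey.eq⟩))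

/-- What a fixed point `u` of `y` on `M_σ` looks like in `N ≥ N(⟨y⟩)`. -/
structure Side (M N : Subgroup G) (t s : ℕ) (y u : G) : Prop where
  sig : s ∈ Cfsg.sigma M
  notSig : s ∉ Cfsg.sigma N
  rank : Cfsg.PRankLE s 1 N
  mem : u ∈ Cfsg.sigmaCore M
  memN : u ∈ N
  order : orderOf u = s
  comm : Commute u y
  norm : Subgroup.normalizer (Subgroup.zpowers u : Set G) ≤ M
  fixed : Cfsg.sigmaCore N ⊓ Subgroup.centralizer (Subgroup.zpowers u : Set G) ≠ ⊥
  dvd : t ∣ Nat.card ↥(Cfsg.sigmaCore N ⊓ M)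

/-- A fixed point of prime order of a `τ₁(M)`-element, seen from `N`. -/
theorem exists_side (hG : Cfsg.IsMinSimpleOddOrder G) {M N : Subgroup G} (hM : IsCoatom M)
    (hN : IsCoatom N) {t : ℕ} [ht : Fact t.Prime] (htM : t ∉ Cfsg.sigma M) (htN : t ∈ Cfsg.sigma N)
    {y : G} (hy : orderOf y = t) (hyM : y ∈ M)
    (hCN : Subgroup.centralizer ({y} : Set G) ≤ N)
    (hne : Cfsg.sigmaCore M ⊓ Subgroup.centralizer ({y} : Set G) ≠ ⊥) :
    ∃ (s : ℕ) (_ : Fact s.Prime) (u : G), Side M N t s y u := by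
  obtain ⟨s, hs, hsd⟩ := Nat.exists_prime_and_dvd (mt Subgroup.card_eq_one.1 hne)
  haveI := Fact.mk hs
  obtain ⟨⟨u, huσ, huy⟩, huo⟩ := exists_prime_orderOf_dvd_card'
    (G := ↥(Cfsg.sigmaCore M ⊓ Subgroup.centralizer ({y} : Set G))) s hsd
  rw [← Subgroup.orderOf_coe] at huo
  simp only at huo
  have hyN : y ∈ N := hCN (Subgroup.mem_centralizer_singleton_iff.2 rfl)
  have hyσ : y ∈ Cfsg.sigmaCore N :=
    OddTau.Basic.pgroup_le_sigmaCore hG hN htN (SigmaDisjoint.zpowers_isPGroup hy)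
      (Subgroup.zpowers_le.2 hyN) (Subgroup.mem_zpowers y)
  have hy1 : y ≠ 1 := fun e => ht.out.ne_one (by rw [← hy, e, orderOf_one])
  have hyu : y ∈ Subgroup.centralizer ({u} : Set G) := Subgroup.mem_centralizer_singleton_iff.2
    (Subgroup.mem_centralizer_singleton_iff.1 huy).symm
  have huM := OddTau.Basic.sigmaCore_le M huσ
  have hnc : ∀ g : G, N ≠ M.map (MulAut.conj g).toMonoidHom :=
    MaximalBasics.not_conj_symm (NormalizerSigma.not_conj_of_mem_sigma htN htM)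
  have hsM : s ∈ Cfsg.sigma M := (SigmaHall.sigmaCore_isPiHallOf hG hM).2.1 s hs
    (huo ▸ Subgroup.orderOf_dvd_natCard _ huσ)
  have hsN := TauTwoPartner.not_sigma hG hM hN hnc hsM
  have hsr : Cfsg.PRankLE s 1 N := by
    by_contra h
    have h2 : Cfsg.PRankLE s 2 N := by
      by_contra h3
      exact hsN (AlphaCore.alpha_subset_sigma hG hN ⟨hs, h3⟩)
    exact hy1 (Subgroup.mem_bot.1 (TauTwoMeet.fixed_inf_eq_bot hG hM hN hsM
      ⟨hs, hsN, h2, h⟩ huM (hCN huy) huo ▸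
        Subgroup.mem_inf.2 ⟨Subgroup.mem_inf.2 ⟨hyσ, hyu⟩, hyM⟩))
  have hfix : Cfsg.sigmaCore N ⊓ Subgroup.centralizer ({u} : Set G) ≠ ⊥ :=
    fun e => hy1 (Subgroup.mem_bot.1 (e ▸ Subgroup.mem_inf.2 ⟨hyσ, hyu⟩))
  exact ⟨s, inferInstance, u, hsM, hsN, hsr, huσ, hCN huy, huo,
    Subgroup.mem_centralizer_singleton_iff.1 huy,
    NormalizerSigma.normalizer_le hG hM hN huo hsM huM (hCN huy) hsN hsr hfix,
    by rwa [SigmaDisjoint.centralizer_zpowers],
    hy ▸ Subgroup.orderOf_dvd_natCard _ (Subgroup.mem_inf.2 ⟨hyσ, hyM⟩)⟩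

/-- An element of prime order of `N` normalizing `⟨u⟩` centralizes it. -/
theorem Side.centralizes (hG : Cfsg.IsMinSimpleOddOrder G) {M N : Subgroup G} (hM : IsCoatom M)
    (hN : IsCoatom N) {t s : ℕ} [hs : Fact s.Prime] (htp : t.Prime)
    (htd : ¬ t ∣ Nat.card ↥⁅M, M⁆) {y u : G} (h : Side M N t s y u) {r : ℕ} [hr : Fact r.Prime]
    {v : G} (hvo : orderOf v = r) (hvN : v ∈ N)
    (hvu : v ∈ Subgroup.normalizer (Subgroup.zpowers u : Set G)) : Commute v u := by
  have hUc : Nat.card (Subgroup.zpowers u) = s := by rw [Nat.card_zpowers, h.order]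
  by_contra hcomm
  refine htd (((MoverAlpha.mem_tau3 hG hN hM h.notSig h.rank hUc
    (Subgroup.zpowers_le.2 h.memN) h.fixed h.norm hvo hvN hvu fun hc => hcomm ?_).2
      t htp h.dvd).2.2.1)
  exact (Subgroup.mem_centralizer_iff.1 hc u (Subgroup.mem_zpowers u)).symm

/-- No conjugate by `C(y)` of a fixed point on the other side normalizes `⟨u⟩`. -/
theorem false_of_pair (hG : Cfsg.IsMinSimpleOddOrder G) {M H N E : Subgroup G} (hM : IsCoatom M)
    (hH : IsCoatom H) (hN : IsCoatom N) (hE : Cfsg.IsComplIn E (Cfsg.sigmaCore H) H)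
    (hEM : E ≤ M) {t : ℕ} [ht : Fact t.Prime] (htd : ¬ t ∣ Nat.card ↥⁅M, M⁆) {y : G} (hyE : y ∈ E)
    (hbot : Cfsg.sigmaCore M ⊓ H ⊓ Subgroup.centralizer ({y} : Set G) = ⊥)
    (hCN : Subgroup.centralizer ({y} : Set G) ≤ N)
    {s s' : ℕ} [hs : Fact s.Prime] [hs' : Fact s'.Prime] (hsH : s ∉ Cfsg.sigma H) {u u' g : G}
    (h : Side M N t s y u) (h' : Side H N t s' y u') (hg : Commute g y)
    (hv : g * u' * g⁻¹ ∈ Subgroup.normalizer (Subgroup.zpowers u : Set G)) : False := by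
  have hvy : Commute (g * u' * g⁻¹) y := ((hg.mul_left h'.comm).mul_left hg.inv_left)
  have hvo : orderOf (g * u' * g⁻¹) = s' := by
    rw [← h'.order]
    exact orderOf_injective (MulAut.conj g).toMonoidHom (MulAut.conj g).injective u'
  have hc := h.centralizes hG hM hN ht.out htd hvo
    (hCN (Subgroup.mem_centralizer_singleton_iff.2 hvy.eq)) hv
  have huH : g⁻¹ * u * g ∈ H := by
    refine h'.norm (Subgroup.centralizer_le_normalizer _ ?_)
    rw [SigmaDisjoint.centralizer_zpowers, Subgroup.mem_centralizer_singleton_iff]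
    calc g⁻¹ * u * g * u' = g⁻¹ * (u * (g * u' * g⁻¹)) * g := by group
      _ = g⁻¹ * ((g * u' * g⁻¹) * u) * g := by rw [hc.eq]
      _ = _ := by group
  refine false_of_fixed_compl hG hH hM hE hEM hyE hbot h.sig hsH ?_ huH
    ((hg.inv_left.mul_left h.comm).mul_left hg)
  rw [← h.order]
  conv_rhs => rw [← orderOf_injective (MulAut.conj g⁻¹).toMonoidHom (MulAut.conj g⁻¹).injective u]
  simp

variable {p : ℕ} [hp : Fact p.Prime]

/-- BG 13.10, key step: an element of prime order normalizing `P` centralizes it. -/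
theorem centralizes_of_prime (hG : Cfsg.IsMinSimpleOddOrder G) {M P : Subgroup G} (hM : IsCoatom M)
    (hps : p ∉ Cfsg.sigma M) (hr1 : Cfsg.PRankLE p 1 M) (hPc : Nat.card P = p)
    (hPM : P ≤ M) (hfix : Cfsg.sigmaCore M ⊓ Subgroup.centralizer (P : Set G) ≠ ⊥)
    {t : ℕ} [ht : Fact t.Prime] {y : G} (hy : orderOf y = t) (hyM : y ∈ M)
    (hyN : y ∈ Subgroup.normalizer (P : Set G)) : y ∈ Subgroup.centralizer (P : Set G) := by
  by_contra hyC
  have hPp := ComplementLines.isPGroup_of_card hPc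
  have hP1 := ComplementLines.ne_bot_of_card hPc
  have hy1 : orderOf y = t ^ (0 + 1) := by rw [hy, pow_one]
  obtain ⟨H, hH, hNH⟩ := exists_coatom_ge hG (normalizer_ne_top hG hP1 (pgroup_ne_top hG hPp))
  have hnc := MaximalBasics.not_conj_of_normalizer hG hM hps (fun h => h.2.2.2 hr1) hPp hP1 hNH
  have hPH : P ≤ H := Subgroup.le_normalizer.trans hNH
  have hyH : y ∈ H := hNH hyN
  obtain ⟨hτ, htτ, -⟩ := MoverBasics.mem_tau hG hM hps hr1 hPc hPM hfix hy1 hyM hyN hyC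
  obtain ⟨hXC, hX3⟩ := MoverAlpha.mem_tau3 hG hM hH hps hr1 hPc hPM hfix hNH hy hyM hyN hyC
  have hPσ := OddTau.Basic.pgroup_le_sigmaCore hG hH
    (NormalizerSigma.sigma_of_fixed hG hM hps hr1 hPc hPM hfix hH hNH) hPp hPH
  -- no fixed point in `M_σ ∩ H`
  have hbotX : Cfsg.sigmaCore M ⊓ H ⊓ Subgroup.centralizer ({y} : Set G) = ⊥ := by
    by_contra hne
    obtain ⟨q, hq, hqd⟩ := Nat.exists_prime_and_dvd (mt Subgroup.card_eq_one.1 hne)
    haveI := Fact.mk hq
    obtain ⟨⟨x, hxX, hxy⟩, hxo⟩ := exists_prime_orderOf_dvd_card'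
      (G := ↥(Cfsg.sigmaCore M ⊓ H ⊓ Subgroup.centralizer ({y} : Set G))) q hqd
    rw [← Subgroup.orderOf_coe] at hxo
    exact MoverFixed.false_of_commute hG hM hH hps hr1 hPc hPM hfix hNH hy hyM hyN hyC hxo hxX
      (Subgroup.mem_centralizer_singleton_iff.1 hxy)
  -- a subgroup of prime order of `M_σ ∩ H` moved by `y`
  have hX1 : Cfsg.sigmaCore M ⊓ H ≠ ⊥ := fun e => hfix (le_bot_iff.1 (e ▸
    inf_le_inf_left _ ((Subgroup.centralizer_le_normalizer _).trans hNH)))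
  obtain ⟨q, hq, hqd⟩ := Nat.exists_prime_and_dvd (mt Subgroup.card_eq_one.1 hX1)
  haveI := Fact.mk hq
  obtain ⟨R₀, -, hyR⟩ := Coprime.exists_invariant_sylow_ge
    (SigmaMeet.le_normalizer_inf (Subgroup.zpowers_le.2 (Subgroup.mem_inf.2 ⟨hyM, hyH⟩)))
    ((OddTau.Basic.coprime_sigmaCore (SigmaDisjoint.zpowers_isPGroup hy) htτ.2.1).coprime_dvd_right
      (Subgroup.card_dvd_of_le inf_le_left))
    (Or.inl inferInstance) q ⊥ bot_le IsPGroup.of_bot
    (fun g _ => Subgroup.mem_normalizer_iff.2 fun z => by simp)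
  set R := (R₀ : Subgroup _).map (Cfsg.sigmaCore M ⊓ H : Subgroup G).subtype with hR
  have hRX : R ≤ Cfsg.sigmaCore M ⊓ H := Subgroup.map_subtype_le _
  have hqτ := hX3 q hq hqd
  haveI := SigmaCompl.isCyclic_of_prankLE_one hG (hRX.trans inf_le_right) hqτ.2.2.2 (R₀.2.map _)
  obtain ⟨⟨x, hxR⟩, hxo⟩ := exists_prime_orderOf_dvd_card' (G := R) q (by
    rw [hR, Subgroup.card_map_of_injective (Subgroup.subtype_injective _)]
    exact Sylow.dvd_card_of_dvd_card R₀ hqd)
  rw [← Subgroup.orderOf_coe] at hxo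
  simp only at hxo
  set X := Subgroup.zpowers x with hXdef
  have hxX : x ∈ Cfsg.sigmaCore M ⊓ H := hRX hxR
  have hxM : x ∈ M := OddTau.Basic.sigmaCore_le M hxX.1
  have hXc : Nat.card X = q := by rw [hXdef, Nat.card_zpowers, hxo]
  have hXH : X ≤ H := Subgroup.zpowers_le.2 hxX.2
  have hyXN : y ∈ Subgroup.normalizer (X : Set G) := by
    refine Subgroup.mem_normalizer_iff_map_conj_eq.2 (Cyclic.eq_of_card_eq_of_isCyclic (W := R)
      ?_ (Subgroup.zpowers_le.2 hxR) (Subgroup.card_map_of_injective (MulAut.conj y).injective))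
    rintro _ ⟨b, hb, rfl⟩
    exact (Subgroup.mem_normalizer_iff.1 (hyR (Subgroup.mem_zpowers y)) b).1
      (Subgroup.zpowers_le.2 hxR hb)
  have hx1 : x ≠ 1 := fun e => hq.ne_one (by rw [← hxo, e, orderOf_one])
  have hyXC : y ∉ Subgroup.centralizer (X : Set G) := fun hc => hx1 (Subgroup.mem_bot.1
    (hbotX ▸ Subgroup.mem_inf.2 ⟨hxX, Subgroup.mem_centralizer_singleton_iff.2
      (Subgroup.mem_centralizer_iff.1 hc x (Subgroup.mem_zpowers x))⟩))
  have hPx : P ≤ Subgroup.centralizer ({x} : Set G) := fun b hb =>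
    Subgroup.mem_centralizer_singleton_iff.2 (Subgroup.mem_centralizer_iff.1 (hXC hxX) b hb)
  have hfixx : Cfsg.sigmaCore H ⊓ Subgroup.centralizer ({x} : Set G) ≠ ⊥ := fun e =>
    hP1 (le_bot_iff.1 (e ▸ le_inf hPσ hPx))
  have hqM : q ∈ Cfsg.sigma M := (SigmaHall.sigmaCore_isPiHallOf hG hM).2.1 q hq
    (hxo ▸ Subgroup.orderOf_dvd_natCard _ hxX.1)
  have hNxM : Subgroup.normalizer (X : Set G) ≤ M :=
    NormalizerSigma.normalizer_le hG hM hH hxo hqM hxM hxX.2 hqτ.2.1 hqτ.2.2.2 hfixx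
  have hfixX : Cfsg.sigmaCore H ⊓ Subgroup.centralizer (X : Set G) ≠ ⊥ := by
    rwa [hXdef, SigmaDisjoint.centralizer_zpowers]
  -- the same facts seen from `H`
  obtain ⟨hqτH, htτH, -⟩ :=
    MoverBasics.mem_tau hG hH hqτ.2.1 hqτ.2.2.2 hXc hXH hfixX hy1 hyH hyXN hyXC
  have hbotY : Cfsg.sigmaCore H ⊓ M ⊓ Subgroup.centralizer ({y} : Set G) = ⊥ := by
    by_contra hne
    obtain ⟨r, hr, hrd⟩ := Nat.exists_prime_and_dvd (mt Subgroup.card_eq_one.1 hne)
    haveI := Fact.mk hr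
    obtain ⟨⟨z, hzX, hzy⟩, hzo⟩ := exists_prime_orderOf_dvd_card'
      (G := ↥(Cfsg.sigmaCore H ⊓ M ⊓ Subgroup.centralizer ({y} : Set G))) r hrd
    rw [← Subgroup.orderOf_coe] at hzo
    exact MoverFixed.false_of_commute hG hH hM hqτ.2.1 hqτ.2.2.2 hXc hXH hfixX hNxM hy hyH hyXN
      hyXC hzo hzX (Subgroup.mem_centralizer_singleton_iff.1 hzy)
  -- fixed points on both sides inside `N`
  have hM1 : Cfsg.sigmaCore M ⊓ Subgroup.centralizer ({y} : Set G) ≠ ⊥ := fun e =>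
    MoverBasics.fixed_not_le hG hM hτ hPc hPM hy hyM hyN hyC (e.le.trans bot_le)
  have hH1 : Cfsg.sigmaCore H ⊓ Subgroup.centralizer ({y} : Set G) ≠ ⊥ := fun e =>
    MoverBasics.fixed_not_le hG hH hqτH hXc hXH hy hyH hyXN hyXC (e.le.trans bot_le)
  have hYc : Nat.card (Subgroup.zpowers y) = t := by rw [Nat.card_zpowers, hy]
  obtain ⟨N, hN, hNN⟩ := exists_coatom_ge hG (normalizer_ne_top hG
    (ComplementLines.ne_bot_of_card hYc)
    (pgroup_ne_top hG (ComplementLines.isPGroup_of_card hYc)))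
  have hCN : Subgroup.centralizer ({y} : Set G) ≤ N := by
    rw [← SigmaDisjoint.centralizer_zpowers]
    exact (Subgroup.centralizer_le_normalizer _).trans hNN
  have htN : t ∈ Cfsg.sigma N :=
    NormalizerSigma.sigma_of_tau1 hG hM htτ hYc (Subgroup.zpowers_le.2 hyM)
      (by rwa [SigmaDisjoint.centralizer_zpowers]) hN hNN
  obtain ⟨s, _, u, hu⟩ := exists_side hG hM hN htτ.2.1 htN hy hyM hCN hM1
  obtain ⟨s', _, u', hu'⟩ := exists_side hG hH hN htτH.2.1 htN hy hyH hCN hH1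
  have hsH : s ∉ Cfsg.sigma H := TauTwoPartner.not_sigma hG hM hH hnc hu.sig
  have hsM : s' ∉ Cfsg.sigma M :=
    TauTwoPartner.not_sigma hG hH hM (MaximalBasics.not_conj_symm hnc) hu'.sig
  -- complements inside the other subgroup
  have hyPN : Subgroup.zpowers y ≤ Subgroup.normalizer (P : Set G) := Subgroup.zpowers_le.2 hyN
  obtain ⟨EM, hEM, hPEM⟩ := BetaDerived.exists_compl_ge hG hM (Y := P ⊔ Subgroup.zpowers y)
    (sup_le hPM (Subgroup.zpowers_le.2 hyM)) fun r hr hd => by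
      rcases SigmaSubgroup.relIndex_sup_right_le r hr hd hyPN with h1 | h1
      · exact Hall.prime_dvd_pgroup hp.out hr hPp h1 ▸ hps
      · rw [hYc] at h1; exact (Nat.prime_dvd_prime_iff_eq hr ht.out).1 h1 ▸ htτ.2.1
  obtain ⟨EH, hEH, hXEH⟩ := BetaDerived.exists_compl_ge hG hH (Y := X ⊔ Subgroup.zpowers y)
    (sup_le hXH (Subgroup.zpowers_le.2 hyH)) fun r hr hd => by
      rcases SigmaSubgroup.relIndex_sup_right_le r hr hd (Subgroup.zpowers_le.2 hyXN) with h1 | h1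
      · rw [hXc] at h1; exact (Nat.prime_dvd_prime_iff_eq hr hq).1 h1 ▸ hqτ.2.1
      · rw [hYc] at h1; exact (Nat.prime_dvd_prime_iff_eq hr ht.out).1 h1 ▸ htτH.2.1
  have hEMH : EM ≤ H :=
    (ComplementLines.compl_le_normalizer hG hM hEM hτ hPc (le_sup_left.trans hPEM)).1.trans hNH
  have hEHM : EH ≤ M :=
    (ComplementLines.compl_le_normalizer hG hH hEH hqτH hXc (le_sup_left.trans hXEH)).1.trans hNxM
  have hyEM : y ∈ EM := hPEM (Subgroup.mem_sup_right (Subgroup.mem_zpowers y))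
  have hyEH : y ∈ EH := hXEH (Subgroup.mem_sup_right (Subgroup.mem_zpowers y))
  -- conjugate the two fixed points into one Hall subgroup of `C(y)`
  set C := Subgroup.centralizer ({y} : Set G) with hC
  haveI : Group.IsSolvable C :=
    haveI := solvable_of_ne_top hG hN.1
    Coprime.isSolvable_of_le hCN
  have huC : u ∈ C := Subgroup.mem_centralizer_singleton_iff.2 hu.comm.eq
  have huC' : u' ∈ C := Subgroup.mem_centralizer_singleton_iff.2 hu'.comm.eq
  have hord : ∀ {w : G} (hw : w ∈ C) {r : ℕ}, orderOf w = r →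
      Nat.card (Subgroup.zpowers (⟨w, hw⟩ : C)) = r := fun hw _ h => by
    rw [Nat.card_zpowers, ← Subgroup.orderOf_coe]; exact h
  obtain ⟨K, hK, huK⟩ := Hall.exists_isPiHall_ge (π := {r : ℕ | r = s ∨ r = s'})
    (K := Subgroup.zpowers (⟨u', huC'⟩ : C)) fun r hr hd => Or.inr
      ((Nat.prime_dvd_prime_iff_eq hr (Fact.out : s'.Prime)).1 (hord huC' hu'.order ▸ hd))
  obtain ⟨⟨g, hgC⟩, hg⟩ := Hall.exists_conj_le hK (K := Subgroup.zpowers (⟨u, huC⟩ : C))
    fun r hr hd => Or.inl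
      ((Nat.prime_dvd_prime_iff_eq hr (Fact.out : s.Prime)).1 (hord huC hu.order ▸ hd))
  have hgy : Commute g y := Subgroup.mem_centralizer_singleton_iff.1 hgC
  have hu1 : g⁻¹ * u * g ∈ K.map C.subtype := by
    have h1 := hg (Subgroup.mem_zpowers _)
    rw [Coprime.mem_conj_smul] at h1
    exact ⟨_, h1, rfl⟩
  have hu'K : u' ∈ K.map C.subtype := ⟨_, huK (Subgroup.mem_zpowers _), rfl⟩
  have hu1o : orderOf (g⁻¹ * u * g) = s := by
    rw [← hu.order]
    conv_rhs => rw [← orderOf_injective (MulAut.conj g⁻¹).toMonoidHom (MulAut.conj g⁻¹).injective u]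
    simp
  rcases normal_pair (s := s) (s' := s') (K := K.map C.subtype)
    (Coprime.isSolvable_of_le (Subgroup.map_subtype_le K))
    (fun r hr hd => hK.1 r hr (by rwa [Subgroup.card_map_of_injective C.subtype_injective] at hd))
    (fun r hr Q hQ hQr => by
      rcases hr with rfl | rfl
      · exact SigmaCompl.isCyclic_of_prankLE_one hG
          ((hQ.trans (Subgroup.map_subtype_le K)).trans hCN) hu.rank hQr
      · exact SigmaCompl.isCyclic_of_prankLE_one hG
          ((hQ.trans (Subgroup.map_subtype_le K)).trans hCN) hu'.rank hQr)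
    hu1 hu'K hu1o hu'.order with hv | hv
  · refine false_of_pair hG hM hH hN hEH hEHM htτ.2.2.2.1 hyEH hbotX hCN hsH hu hu' hgy ?_
    refine Subgroup.mem_normalizer_iff.2 fun z => ?_
    have h1 := Subgroup.mem_normalizer_iff.1 hv (g⁻¹ * z * g)
    have hz : ∀ w : G, g⁻¹ * w * g ∈ Subgroup.zpowers (g⁻¹ * u * g) ↔
        w ∈ Subgroup.zpowers u := by
      intro w
      rw [Subgroup.mem_zpowers_iff, Subgroup.mem_zpowers_iff]
      refine exists_congr fun k => ?_
      rw [show (g⁻¹ * u * g) ^ k = g⁻¹ * u ^ k * g by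
        simpa using (conj_zpow (a := g⁻¹) (b := u) (i := k))]
      exact ⟨fun h => mul_left_cancel (mul_right_cancel h), fun h => by rw [h]⟩
    rw [show u' * (g⁻¹ * z * g) * u'⁻¹ = g⁻¹ * (g * u' * g⁻¹ * z * (g * u' * g⁻¹)⁻¹) * g by group,
      hz, hz] at h1
    exact h1
  · refine false_of_pair hG hH hM hN hEM hEMH htτH.2.2.2.1 hyEM hbotY hCN hsM hu' hu
      (g := g⁻¹) hgy.inv_left ?_
    rwa [inv_inv]

end Cfsg.Agent.Lib.OddOrder.TauThreeMover
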