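import Cfsg.Agent.Lib.OddOrder.BetaDerived
import Cfsg.Agent.Lib.OddTau.RegularLocal
import Cfsg.Agent.Lib.OddTau.Context
import Cfsg.Agent.Lib.OddOrder.SigmaDisjoint
import Cfsg.Agent.Lib.OddOrder.TauTwoFacts

/-!
# Elements of `σ(M) ∩ τ₂(L)`, and planes normalizing `σ(M)`-subgroups
-/

set_option autoImplicit false
set_option linter.style.haveILetI false
set_option linter.unusedSectionVars false

open scoped Pointwise commutatorElement

namespace Cfsg.Agent.Lib.OddOrder.TauTwoMeet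

open Cfsg.Agent.Lib.OddOrder.MinSimple
open Cfsg.Agent.Lib.OddTau.Basic (Ctx)

universe u

variable {G : Type u} [Group G] [Finite G]

/-- An element of order `q ∈ σ(M) ∩ τ₂(L)` in `M ∩ L` has no fixed point on `L_σ` inside `M`. -/
theorem fixed_inf_eq_bot (hG : Cfsg.IsMinSimpleOddOrder G) {M L : Subgroup G} (hM : IsCoatom M)
    (hL : IsCoatom L) {q : ℕ} [hq : Fact q.Prime] (hσ : q ∈ Cfsg.sigma M) (hτ : q ∈ Cfsg.tau2 L)
    {x : G} (hxM : x ∈ M) (hxL : x ∈ L) (hxo : orderOf x = q) :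
    Cfsg.sigmaCore L ⊓ Subgroup.centralizer ({x} : Set G) ⊓ M = ⊥ := by
  by_contra hne
  have hLM : M ≠ L := fun e => hτ.2.1 (e ▸ hσ)
  have hXp : IsPGroup q (Subgroup.zpowers x) := SigmaDisjoint.zpowers_isPGroup hxo
  obtain ⟨P, B, hxP, hBP, hB⟩ :=
    OddTau.RegularLocal.exists_ctx_sylow hG hL hτ hXp (Subgroup.zpowers_le.2 hxL)
  have hxB : x ∈ B := (OddTau.Sylow.pow_eq_one_iff hB P hBP x (hxP (Subgroup.mem_zpowers x))).1
    (hxo ▸ pow_orderOf_eq_one x)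
  obtain ⟨hCL, -⟩ := OddTau.Context.unique_of_fixed hB (X := Subgroup.zpowers x)
    (Subgroup.zpowers_le.2 hxB) (by rw [Nat.card_zpowers, hxo]) (ne_bot_of_le_ne_bot hne
      (by rw [SigmaDisjoint.centralizer_zpowers]; exact inf_le_left))
  rw [SigmaDisjoint.centralizer_zpowers] at hCL
  obtain ⟨S, hxS, hSM, -⟩ := Sigma.exists_sylow_ge hσ hXp (Subgroup.zpowers_le.2 hxM)
  have hnc : ¬ IsCyclic (S : Subgroup G) := by
    intro hc
    obtain ⟨T, hT⟩ := hB.isPGroup.exists_le_sylow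
    haveI : IsCyclic (T : Subgroup G) := (S.equiv T).isCyclic.1 hc
    exact hB.not_isCyclic (isCyclic_of_injective (Subgroup.inclusion hT)
      (Subgroup.inclusion_injective hT))
  obtain ⟨W, hWS, hW, hWc, hxW⟩ := BetaDerived.exists_elemAb_sq_mem
    (ne_two_of_dvd hG (hxo ▸ orderOf_dvd_natCard x)) S.2 hnc (hxS (Subgroup.mem_zpowers x)) hxo
  have hWL : W ≤ L := fun w hw => hCL
    (Subgroup.mem_centralizer_singleton_iff.2 (PGroups.elemAb_comm hW hw hxW))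
  exact hLM (OddTau.Unique.eq_of_meet ⟨hG, hL, hτ, hWL, hW, hWc⟩ hM (hWS.trans hSM)
    (ne_bot_of_le_ne_bot hne (inf_le_inf_right _ inf_le_left)))

/-- No subgroup of type `(p, p)`, `p ∉ σ(M)` not ideal, normalizes a `σ(M)`-subgroup of a
non-conjugate `H`. -/
theorem no_plane (hG : Cfsg.IsMinSimpleOddOrder G) {M H : Subgroup G} (hM : IsCoatom M)
    (hH : IsCoatom H) (hnc : ∀ g : G, H ≠ M.map (MulAut.conj g).toMonoidHom) {Y : Subgroup G}
    (hY1 : Y ≠ ⊥) (hY : ∀ r : ℕ, r.Prime → r ∣ Nat.card Y → r ∈ Cfsg.sigma M) (hYH : Y ≤ H)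
    {p : ℕ} [hp : Fact p.Prime] (hpM : p ∣ Nat.card M) (hpσ : p ∉ Cfsg.sigma M)
    (hpi : ¬ Cfsg.IsIdealPrime p G) {A : Subgroup G} (hA : Cfsg.IsElementaryAbelian p A)
    (hAc : Nat.card A = p ^ 2) (hAH : A ≤ H) (hAY : A ≤ Subgroup.normalizer (Y : Set G)) :
    False := by
  have h := Rank.prankLE_subgroup_iff.1
    (SigmaSubgroup.bound (TauTwoFacts.tauTwo hG) hG hM hY1 hY hH hnc hYH hpM hpσ hpi).1 A
    (le_inf hAH hAY) hA
  rw [hAc, pow_one] at h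
  nlinarith [hp.out.two_le]

/-- The form of `no_plane` for a prime of `τ₂(L)`, `L` any maximal subgroup. -/
theorem no_plane_tau2 (hG : Cfsg.IsMinSimpleOddOrder G) {M H L : Subgroup G} (hM : IsCoatom M)
    (hH : IsCoatom H) (hL : IsCoatom L) (hnc : ∀ g : G, H ≠ M.map (MulAut.conj g).toMonoidHom)
    {Y : Subgroup G} (hY1 : Y ≠ ⊥) (hY : ∀ r : ℕ, r.Prime → r ∣ Nat.card Y → r ∈ Cfsg.sigma M)
    (hYH : Y ≤ H) {p : ℕ} [hp : Fact p.Prime] (hpM : p ∣ Nat.card M) (hpσ : p ∉ Cfsg.sigma M)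
    {A : Subgroup G} (hA : Ctx L p A) (hAH : A ≤ H)
    (hAY : A ≤ Subgroup.normalizer (Y : Set G)) : False :=
  no_plane hG hM hH hnc hY1 hY hYH hpM hpσ
    (RankTwoPrime.not_ideal hG hL hA.tau.2.2.1 hA.tau.2.2.2) hA.elem hA.card hAH hAY

end Cfsg.Agent.Lib.OddOrder.TauTwoMeet
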