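import Cfsg.Agent.Lib.OddOrder.TauTwoMeet
import Cfsg.Agent.Lib.OddOrder.SylowFixed
import Cfsg.Agent.Lib.OddOrder.NonabelianFacts
import Cfsg.Agent.Lib.OddOrder.SigmaIntersect
import Cfsg.Agent.Lib.OddTau.PlaneLines
import Cfsg.Agent.Lib.OddTau.NonabelianSylow

/-!
# BG 13.13: the case `p ∈ τ₂(H)` for `N(P) ≤ H`

If `P` of order `p` in `M`, `r_p(M) ≤ 1`, fixes some point of `M_σ` and `p ∈ τ₂(H)` for a maximal
`H ≥ N(P)`, then the Sylow `p`-subgroups of `G` are non-abelian, `P = ⟨a⟩`, and in the maximal `L`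
over such a Sylow subgroup some element centralizing a fixed point `x` moves `P`.
-/

set_option autoImplicit false
set_option linter.style.haveILetI false
set_option linter.unusedSectionVars false

open scoped Pointwise commutatorElement

namespace Cfsg.Agent.Lib.OddOrder.TauTwoPartner

open Cfsg.Agent.Lib.OddOrder.MinSimple
open Cfsg.Agent.Lib.OddTau.Basic (Ctx sigmaCore_le le_normalizer_sigmaCore)

universe u

variable {G : Type u} [Group G] [Finite G]

/-- `σ`-sets of non-conjugate maximal subgroups are disjoint (BG 13.9, packaged). -/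
theorem not_sigma (hG : Cfsg.IsMinSimpleOddOrder G) {M H : Subgroup G} (hM : IsCoatom M)
    (hH : IsCoatom H) (hnc : ∀ g : G, H ≠ M.map (MulAut.conj g).toMonoidHom) {q : ℕ}
    (hq : q ∈ Cfsg.sigma M) : q ∉ Cfsg.sigma H := fun hqH => by
  obtain ⟨g, hg⟩ := SigmaDisjoint.conj_of_sigma_inter (TauTwoFacts.tauTwo hG)
    (NonabelianFacts.nonabelianUnique hG) hG hM hH hq hqH
  exact hnc g hg

variable {p : ℕ} [hp : Fact p.Prime]

section Lines

variable {H A : Subgroup G} {S : Sylow p G} {z a g : G}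

/-- `⟨a⟩` contains every element of `A` with centralizer in `H`. -/
theorem mem_line (d : OddTau.NonabelianSylow.Data H p A S z a g) {b : G} (hb : b ∈ A)
    (hC : Subgroup.centralizer ({b} : Set G) ≤ H) : b ∈ Subgroup.zpowers a := by
  by_contra h
  exact (d.outside hb h).2 hC

/-- `H ∩ N(A)` normalizes `⟨a⟩`. -/
theorem conj_mem_line (d : OddTau.NonabelianSylow.Data H p A S z a g) {n : G} (hn : n ∈ H)
    (hnA : n ∈ Subgroup.normalizer (A : Set G)) : n * a * n⁻¹ ∈ Subgroup.zpowers a := by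
  refine mem_line d ((Subgroup.mem_normalizer_iff.1 hnA a).1 d.amem) ?_
  rw [← SigmaComplement.map_centralizer_singleton]
  exact (Subgroup.map_mono d.acen).trans (Sigma.map_conj_le_coatom hn le_rfl)

/-- `N(A)` normalizes `⟨z⟩`. -/
theorem line_invariant (d : OddTau.NonabelianSylow.Data H p A S z a g) {n : G}
    (hn : n ∈ Subgroup.normalizer (A : Set G)) : n * z * n⁻¹ ∈ Subgroup.zpowers z := by
  have h := d.ctx
  -- no conjugate of `z` under `N(A)` lies on `⟨a⟩`
  have hno : ∀ m ∈ Subgroup.normalizer (A : Set G), m * z * m⁻¹ ∉ Subgroup.zpowers a := by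
    intro m _ hza
    have hne : m * z * m⁻¹ ≠ 1 := fun e => d.zne (conj_eq_one_iff.1 e)
    have haz : a ∈ Subgroup.zpowers (m * z * m⁻¹) :=
      (OddTau.PlaneLines.zpowers_eq h d.amem hza hne) ▸ Subgroup.mem_zpowers a
    have hTM : ∀ x ∈ (S : Subgroup G), m * x * m⁻¹ ∈ H := by
      intro x hx
      refine d.acen (Subgroup.mem_centralizer_singleton_iff.2 ?_)
      obtain ⟨i, hi⟩ := haz
      have hc : Commute (m * x * m⁻¹) (m * z * m⁻¹) :=
        ((d.zcen x hx).map (MulAut.conj m).toMonoidHom)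
      exact hi ▸ (hc.zpow_right i).eq
    have hle : ((m • S : Sylow p G) : Subgroup G) ≤ H := by
      rw [Sylow.coe_subgroup_smul]
      rintro _ ⟨x, hx, rfl⟩
      exact hTM x hx
    have hc := OddTau.Abelian.sylow_comm_all h ((m • S).subtype hle)
    refine d.nab (OddTau.Abelian.isMulCommutative_of_forall fun x hx y hy => ?_)
    have hmem : ∀ (w : G) (hw : w ∈ (S : Subgroup G)), (⟨m * w * m⁻¹, hTM w hw⟩ : H) ∈
        ((m • S).subtype hle : Subgroup H) := fun w hw => by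
      rw [Sylow.coe_subtype, Subgroup.mem_subgroupOf, Sylow.coe_subgroup_smul]
      exact ⟨w, hw, rfl⟩
    have h2 : m * x * m⁻¹ * (m * y * m⁻¹) = m * y * m⁻¹ * (m * x * m⁻¹) :=
      congrArg (fun w : ((m • S).subtype hle : Subgroup H) => ((w : H) : G))
        (hc.is_comm.comm ⟨_, hmem x hx⟩ ⟨_, hmem y hy⟩)
    have h3 : m * (x * y) * m⁻¹ = m * (y * x) * m⁻¹ := by
      calc m * (x * y) * m⁻¹ = m * x * m⁻¹ * (m * y * m⁻¹) := by group
        _ = m * y * m⁻¹ * (m * x * m⁻¹) := h2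
        _ = m * (y * x) * m⁻¹ := by group
    exact mul_left_cancel (mul_right_cancel h3)
  by_contra hnz
  have hb : n * z * n⁻¹ ∈ A := (Subgroup.mem_normalizer_iff.1 hn z).1 d.zmem
  obtain ⟨s, t, hst⟩ :=
    OddTau.NonabelianSylow.exists_eq_zpow_mul h d.zmem d.zne d.amem d.anotz hb
  have ht : (t : ZMod p) ≠ 0 := fun h0 => hnz (by
    rw [ZMod.intCast_zmod_eq_zero_iff_dvd] at h0
    obtain ⟨c, rfl⟩ := h0
    rw [hst, zpow_mul, zpow_natCast, h.elem.2 a d.amem, one_zpow, mul_one]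
    exact Subgroup.zpow_mem _ (Subgroup.mem_zpowers z) s)
  obtain ⟨i, hi0, hi⟩ := d.step
  have hgn : ∀ m : ℕ, g ^ m * a * (g ^ m)⁻¹ = (z ^ i) ^ m * a := by
    intro m
    induction m with
    | zero => simp
    | succ m ih =>
      have h1 : g * (z ^ i) ^ m * g⁻¹ = (z ^ i) ^ m := by
        rw [(((d.zcen g d.gmem).zpow_right i).pow_right m).eq, mul_inv_cancel_right]
      calc g ^ (m + 1) * a * (g ^ (m + 1))⁻¹ = g * (g ^ m * a * (g ^ m)⁻¹) * g⁻¹ := by
            rw [pow_succ']; group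
        _ = (g * (z ^ i) ^ m * g⁻¹) * (g * a * g⁻¹) := by rw [ih]; group
        _ = _ := by rw [h1, hi, ← mul_assoc, ← pow_succ]
  obtain ⟨m, hm⟩ : ∃ m : ℕ, ((z ^ i) ^ m) ^ t = z ^ (-s) := by
    have hit : ((i * t : ℤ) : ZMod p) ≠ 0 := by push_cast; exact mul_ne_zero hi0 ht
    obtain ⟨m, hm⟩ := OddTau.Sylow.exists_pow_eq d.z_pow hit (-s)
    exact ⟨m, by rw [← hm, ← zpow_natCast, ← zpow_natCast, ← zpow_mul, ← zpow_mul,
      ← zpow_mul]; congr 1; ring⟩
  refine hno (g ^ m * n) (mul_mem (pow_mem d.gnorm m) hn) ?_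
  have hgz : g ^ m * z ^ s * (g ^ m)⁻¹ = z ^ s := by
    rw [(((d.zcen g d.gmem).pow_left m).zpow_right s).eq, mul_inv_cancel_right]
  have : g ^ m * n * z * (g ^ m * n)⁻¹ = a ^ t := by
    calc g ^ m * n * z * (g ^ m * n)⁻¹ = g ^ m * (n * z * n⁻¹) * (g ^ m)⁻¹ := by group
      _ = (g ^ m * z ^ s * (g ^ m)⁻¹) * (g ^ m * a * (g ^ m)⁻¹) ^ t := by
        rw [hst, conj_zpow]; group
      _ = a ^ t := by
        rw [hgz, hgn, (((h.comm d.zmem d.amem).zpow_left i).pow_left m).mul_zpow, hm,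
          ← mul_assoc, ← zpow_add, add_neg_cancel, zpow_zero, one_mul]
  rw [this]
  exact Subgroup.zpow_mem _ (Subgroup.mem_zpowers a) t

/-- `N(A)` lies in the maximal subgroup over `C(z)`. -/
theorem normalizer_le_partner (d : OddTau.NonabelianSylow.Data H p A S z a g) {L : Subgroup G}
    (hL : IsCoatom L) (hzL : Subgroup.centralizer ({z} : Set G) ≤ L) :
    Subgroup.normalizer (A : Set G) ≤ L := by
  intro n hn
  have hSz : (S : Subgroup G) ≤ Subgroup.centralizer ({z} : Set G) := fun x hx =>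
    Subgroup.mem_centralizer_singleton_iff.2 (d.zcen x hx).eq
  have hCn : n ∈ Subgroup.normalizer
      (Subgroup.centralizer (Subgroup.zpowers z : Set G) : Set G) :=
    Fitting.normalizer_le_normalizer_centralizer _
      (OddTau.PlaneLines.mem_normalizer_zpowers (line_invariant d hn))
  rw [SigmaDisjoint.centralizer_zpowers] at hCn
  have hcoat : IsCoatom (MulAut.conj n • L) :=
    (OrderIso.isCoatom_iff (MulEquiv.mapSubgroup (MulAut.conj n)) L).2 hL
  have hle : (S : Subgroup G) ≤ MulAut.conj n • L := hSz.trans (calc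
    Subgroup.centralizer ({z} : Set G)
        = MulAut.conj n • Subgroup.centralizer ({z} : Set G) :=
          (Coprime.conj_smul_eq_self_of_mem_normalizer hCn).symm
    _ ≤ MulAut.conj n • L := Subgroup.pointwise_smul_le_pointwise_smul_iff.2 hzL)
  have heq := UniqueRank.eq_of_le (OddTau.Nonabelian.inUniqueMaximal d.ctx.min S.2 d.nab)
    hcoat hle hL (hSz.trans hzL)
  exact normalizer_coatom d.ctx.min hL ▸ Coprime.mem_normalizer_of_conj_smul_eq heq

end Lines

/-- An element fixing the line `⟨a⟩` pointwise and stabilizing every line centralizes the plane. -/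
theorem exists_moved_line {H A : Subgroup G} (h : Ctx H p A) {a x : G} (ha : a ∈ A) (ha1 : a ≠ 1)
    (hxa : Commute x a) (hxA : x ∈ Subgroup.normalizer (A : Set G))
    (hx : x ∉ Subgroup.centralizer (A : Set G)) :
    ∃ b ∈ A, x * b * x⁻¹ ∉ Subgroup.zpowers b := by
  by_contra hcon
  push Not at hcon
  refine hx (Subgroup.mem_centralizer_iff.2 fun b hb => ?_)
  by_cases hba : b ∈ Subgroup.zpowers a
  · obtain ⟨i, rfl⟩ := hba
    exact (hxa.zpow_right i).eq.symm
  have hb1 : b ≠ 1 := fun e => hba (e ▸ one_mem _)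
  set u := x * b * x⁻¹ * b⁻¹ with hu
  have hub : u ∈ Subgroup.zpowers b := mul_mem (hcon b hb) (inv_mem (Subgroup.mem_zpowers b))
  have huc : u ∈ Subgroup.zpowers (a * b) := by
    have h1 := mul_mem (hcon (a * b) (mul_mem ha hb)) (inv_mem (Subgroup.mem_zpowers (a * b)))
    have h2 : x * (a * b) * x⁻¹ * (a * b)⁻¹ = a * u * a⁻¹ := by
      calc x * (a * b) * x⁻¹ * (a * b)⁻¹ = (x * a) * b * x⁻¹ * b⁻¹ * a⁻¹ := by group
        _ = a * u * a⁻¹ := by rw [hxa.eq, hu]; group
    have huA : u ∈ A := mul_mem ((Subgroup.mem_normalizer_iff.1 hxA b).1 hb) (inv_mem hb)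
    rw [h2, (h.comm ha huA).eq, mul_inv_cancel_right] at h1
    exact h1
  by_cases hu1 : u = 1
  · rw [hu, mul_inv_eq_one, mul_inv_eq_iff_eq_mul] at hu1
    exact hu1.symm
  exfalso
  have h3 := (OddTau.PlaneLines.zpowers_eq h hb hub hu1).symm.trans
    (OddTau.PlaneLines.zpowers_eq h (mul_mem ha hb) huc hu1)
  have hab : a * b ∈ Subgroup.zpowers b := h3 ▸ Subgroup.mem_zpowers (a * b)
  have hab' : a ∈ Subgroup.zpowers b := by
    have := mul_mem hab (inv_mem (Subgroup.mem_zpowers b))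
    rwa [mul_inv_cancel_right] at this
  exact hba ((OddTau.PlaneLines.zpowers_eq h hb hab' ha1).symm ▸ Subgroup.mem_zpowers b)

/-- The structure forced by `p ∈ τ₂(H)`. -/
theorem exists_partner (hG : Cfsg.IsMinSimpleOddOrder G) {M H P : Subgroup G} (hM : IsCoatom M)
    (hH : IsCoatom H) (hps : p ∉ Cfsg.sigma M) (hr1 : Cfsg.PRankLE p 1 M) (hPc : Nat.card P = p)
    (hPM : P ≤ M) (hfix : Cfsg.sigmaCore M ⊓ Subgroup.centralizer (P : Set G) ≠ ⊥)
    (hNH : Subgroup.normalizer (P : Set G) ≤ H) (hτ2 : p ∈ Cfsg.tau2 H) :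
    ∃ q : ℕ, ∃ _ : Fact q.Prime, ∃ x c : G, ∃ L : Subgroup G,
      q ∈ Cfsg.sigma M ∧ x ∈ Cfsg.sigmaCore M ∧ x ∈ Subgroup.centralizer (P : Set G) ∧
      orderOf x = q ∧ IsCoatom L ∧ p ∈ Cfsg.sigma L ∧ P ≤ Cfsg.sigmaCore L ∧ x ∈ L ∧
      q ∈ Cfsg.tau1 L ∧ c ∈ H ∧ c ∈ L ∧ c ∈ Subgroup.centralizer ({x} : Set G) ∧
      c ∈ Subgroup.normalizer (P : Set G) ∧ c ∉ Subgroup.centralizer (P : Set G) := by
  have h5 := TauTwoFacts.tauTwo hG
  have hnu := NonabelianFacts.nonabelianUnique hG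
  have hPp : IsPGroup p P := IsPGroup.of_card (n := 1) (by rw [hPc, pow_one])
  have hP1 : P ≠ ⊥ := fun e => hp.out.ne_one (by rw [← hPc, e, Subgroup.card_bot])
  have hnc := MaximalBasics.not_conj_of_normalizer hG hM hps (fun h => h.2.2.2 hr1) hPp hP1 hNH
  have hCH : Subgroup.centralizer (P : Set G) ≤ H :=
    (Subgroup.centralizer_le_normalizer _).trans hNH
  have hPH : P ≤ H := Subgroup.le_normalizer.trans hNH
  have hpM : p ∣ Nat.card M := hPc ▸ Subgroup.card_dvd_of_le hPM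
  haveI := solvable_of_ne_top hG hH.1
  -- a fixed element of prime order
  obtain ⟨q, hq, hqd⟩ := Nat.exists_prime_and_dvd fun e => hfix (Subgroup.card_eq_one.1 e)
  haveI := Fact.mk hq
  obtain ⟨⟨x, hxσ, hxP⟩, hxo'⟩ := exists_prime_orderOf_dvd_card'
    (G := ↥(Cfsg.sigmaCore M ⊓ Subgroup.centralizer (P : Set G))) q hqd
  have hxo : orderOf x = q := by rw [← hxo', ← Subgroup.orderOf_coe]
  have hqM : q ∈ Cfsg.sigma M :=
    OddTau.Basic.mem_sigma_of_dvd hq (hxo ▸ Subgroup.orderOf_dvd_natCard _ hxσ)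
  have hxM : x ∈ M := sigmaCore_le M hxσ
  have hxH : x ∈ H := hCH hxP
  have hqH : q ∉ Cfsg.sigma H := not_sigma hG hM hH hnc hqM
  have hqp : q ≠ p := fun e => hps (e ▸ hqM)
  have hxp : (orderOf x).Coprime p := hxo ▸ (Nat.coprime_primes hq hp.out).2 hqp
  -- a complement over `P` and `x`
  have hxN : Subgroup.zpowers x ≤ Subgroup.normalizer (P : Set G) :=
    Subgroup.zpowers_le.2 (Subgroup.centralizer_le_normalizer _ hxP)
  have hxq : IsPGroup q (Subgroup.zpowers x) := SigmaDisjoint.zpowers_isPGroup hxo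
  obtain ⟨E, hE, hYE⟩ := BetaDerived.exists_compl_ge hG hH
    (Y := P ⊔ Subgroup.zpowers x) (sup_le hPH (Subgroup.zpowers_le.2 hxH)) fun r hr hd => by
      rcases SigmaSubgroup.relIndex_sup_right_le r hr hd hxN with h1 | h1
      · rw [Hall.prime_dvd_pgroup hp.out hr hPp h1]; exact hτ2.2.1
      · rw [Hall.prime_dvd_pgroup hq hr hxq h1]; exact hqH
  have hxE : x ∈ E := hYE (Subgroup.mem_sup_right (Subgroup.mem_zpowers x))
  obtain ⟨B, hBE, hB⟩ := OddTau.TauTwoAbelian.exists_ctx hG hH hE hτ2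
  have hEB := OddTau.Context.le_normalizer_of_compl hB hE hBE
  have hPB : P ≤ B :=
    OddTau.Context.le_of_card_prime hB hPH ((le_sup_left.trans hYE).trans hEB) hPc
  have hxB : x ∉ Subgroup.centralizer (B : Set G) := by
    intro hc
    refine TauTwoMeet.no_plane_tau2 hG hM hH hH hnc (Y := Subgroup.zpowers x) ?_ ?_
      (Subgroup.zpowers_le.2 hxH) hpM hps hB hB.le ?_
    · rw [Ne, Subgroup.zpowers_eq_bot]
      exact fun e => hq.ne_one (by rw [← hxo, e, orderOf_one])
    · intro r hr hd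
      rw [Hall.prime_dvd_pgroup hq hr hxq hd]
      exact hqM
    · refine le_trans (fun b hb => ?_) (Subgroup.centralizer_le_normalizer _)
      rw [SigmaDisjoint.centralizer_zpowers]
      exact Subgroup.mem_centralizer_singleton_iff.2 (Subgroup.mem_centralizer_iff.1 hc b hb)
  obtain ⟨a, haP, ha1⟩ := P.bot_or_exists_ne_one.resolve_left hP1
  have hPa : Subgroup.zpowers a = P := Subgroup.eq_of_le_of_card_ge (Subgroup.zpowers_le.2 haP)
    (by rw [Nat.card_zpowers, hB.orderOf_eq (hPB haP) ha1, hPc])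
  have hxa : Commute x a := (Subgroup.mem_centralizer_iff.1 hxP a haP).symm
  obtain ⟨S₀, hBS₀⟩ := hB.isPGroup.exists_le_sylow
  by_cases hab : IsMulCommutative (S₀ : Subgroup G)
  · -- abelian Sylow subgroups: `N(B)` would normalize `P`
    exfalso
    obtain ⟨g, hg, hgH, -⟩ := OddTau.Unique.exists_moving hB
    refine hgH (hNH ?_)
    rw [← hPa]
    exact OddTau.PlaneLines.mem_normalizer_zpowers (OddTau.PlaneLines.normalizer_line hB hBS₀ hab
      (hEB hxE) (hPB haP) ha1 (by rw [hxa.eq, mul_inv_cancel_right]; exact Subgroup.mem_zpowers a)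
      (exists_moved_line hB (hPB haP) ha1 hxa (hEB hxE) hxB) hg)
  -- non-abelian Sylow subgroups
  obtain ⟨S, z, a', g, d⟩ := OddTau.NonabelianSylow.exists_data hB fun T hT => hab
    ⟨⟨fun u v => (S₀.equiv T).injective (by
      rw [map_mul, map_mul]; exact hT.is_comm.comm _ _)⟩⟩
  have haa : Subgroup.zpowers a' = P := by
    rw [← hPa]
    refine (OddTau.PlaneLines.zpowers_eq hB d.amem (mem_line d (hPB haP) ?_) ha1).symm
    rw [← SigmaDisjoint.centralizer_zpowers, hPa]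
    exact hCH
  have hHσP : Cfsg.sigmaCore H ≤ Subgroup.centralizer (P : Set G) := by
    rw [← haa, SigmaDisjoint.centralizer_zpowers]
    exact d.le_centralizer
  obtain ⟨L, hL, hLH, hSL, hpL, hzL⟩ := d.exists_maximal
  have hNBL := normalizer_le_partner d hL hzL
  have hEL : E ≤ L := hEB.trans hNBL
  have hBL : B ≤ L := d.le_sylow.trans hSL
  have hxL : x ∈ L := hEL hxE
  have hPσL : P ≤ Cfsg.sigmaCore L :=
    OddTau.Basic.pgroup_le_sigmaCore hG hL hpL hPp (hPB.trans hBL)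
  have hpi : ¬ Cfsg.IsIdealPrime p G := RankTwoPrime.not_ideal hG hH hτ2.2.2.1 hτ2.2.2.2
  have hpβL : p ∉ Cfsg.beta L := fun h => hpi h.2
  -- `L` is not conjugate to `M`
  have hncL : ∀ k : G, L ≠ M.map (MulAut.conj k).toMonoidHom := by
    intro k e
    have hBM : B.map (MulAut.conj k⁻¹).toMonoidHom ≤ M := by
      rintro _ ⟨b, hb, rfl⟩
      have h1 := hBL hb
      rw [e, OddTau.Exceptional.mem_conj] at h1
      show k⁻¹ * b * k⁻¹⁻¹ ∈ M
      rwa [inv_inv]
    exact Rank.not_prankLE_of_elemAb hBM (PGroups.elemAb_conj k⁻¹ hB.elem) (by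
      rw [Subgroup.card_map_of_injective (MulAut.conj k⁻¹).injective, hB.card, pow_one]
      exact lt_self_pow₀ hp.out.one_lt one_lt_two) hr1
  have hqL : q ∉ Cfsg.sigma L := not_sigma hG hM hL hncL hqM
  -- `q ∈ τ₁(L)`
  have hqτL : q ∈ Cfsg.tau1 L := by
    have hr2 : Cfsg.PRankLE q 2 L := by
      by_contra h1
      exact hqL (AlphaCore.alpha_subset_sigma hG hL ⟨hq, h1⟩)
    have hr1L : Cfsg.PRankLE q 1 L := by
      by_contra h1
      have h2 := TauTwoMeet.fixed_inf_eq_bot hG hM hL hqM ⟨hq, hqL, hr2, h1⟩ hxM hxL hxo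
      refine ha1 (Subgroup.mem_bot.1 (h2 ▸ Subgroup.mem_inf.2 ⟨Subgroup.mem_inf.2 ⟨hPσL haP, ?_⟩,
        hPM haP⟩))
      exact Subgroup.mem_centralizer_singleton_iff.2 hxa.eq.symm
    refine ⟨hq, hqL, hxo ▸ Subgroup.orderOf_dvd_natCard L hxL, fun hd => hxB ?_, hr1L⟩
    have hxd : x ∈ ⁅L, L⁆ := SigmaDisjoint.le_derived_of_rank_one hG hr1L hd hxq
      (Subgroup.zpowers_le.2 hxL) (Subgroup.mem_zpowers x)
    have hzp : IsPGroup p (Subgroup.zpowers z) := IsPGroup.of_card (n := 1) (by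
      rw [Nat.card_zpowers, hB.orderOf_eq d.zmem d.zne, pow_one])
    have hz := BetaDerived.derived_centralizes hG hL hpβL hzp
      (Sigma.le_derived hG hL hpL hzp (Subgroup.zpowers_le.2 (hBL d.zmem))) hxd
      (OddTau.PlaneLines.mem_normalizer_zpowers (line_invariant d (hEB hxE))) hxp
    refine Subgroup.mem_centralizer_iff.2 fun b hb => ?_
    obtain ⟨s, t, rfl⟩ :=
      OddTau.NonabelianSylow.exists_eq_zpow_mul hB d.zmem d.zne d.amem d.anotz hb
    have hc1 : Commute x z :=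
      (Subgroup.mem_centralizer_iff.1 hz z (Subgroup.mem_zpowers z)).symm
    have hc2 : Commute x a' :=
      (Subgroup.mem_centralizer_iff.1 hxP a' (haa ▸ Subgroup.mem_zpowers a')).symm
    exact ((hc1.zpow_right s).mul_right (hc2.zpow_right t)).eq.symm
  -- `q ∈ τ₁(H)`, in the weak form needed
  have hqE' : ¬ q ∣ Nat.card ↥⁅E, E⁆ := by
    intro hd
    have hr2 : Cfsg.PRankLE q 2 H := by
      by_contra h1
      exact hqH (AlphaCore.alpha_subset_sigma hG hH ⟨hq, h1⟩)
    have hr1H : Cfsg.PRankLE q 1 H := by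
      by_contra h1
      have h2 : q ∈ Cfsg.tau2 H := ⟨hq, hqH, hr2, h1⟩
      rw [d.tau2_eq hE hBE] at h2
      exact hqp h2
    have hxd : x ∈ ⁅H, H⁆ := SigmaDisjoint.le_derived_of_rank_one hG hr1H
      ((SigmaCompl.dvd_derived hE hq hqH).2 hd) hxq (Subgroup.zpowers_le.2 hxH)
      (Subgroup.mem_zpowers x)
    have hEn : ⁅E, E⁆ ≤ Subgroup.normalizer (Cfsg.sigmaCore H : Set G) :=
      (MaximalBasics.derived_le_self E).trans (hE.1.trans (le_normalizer_sigmaCore H))
    have hxd' := SigmaCompl.derived_le hE hxd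
    obtain ⟨e, he, s, hs, hes⟩ := Set.mem_mul.1
      (by rw [← Subgroup.coe_mul_of_left_le_normalizer_right _ _ hEn]; exact hxd' :
        x ∈ ((⁅E, E⁆ : Subgroup G) : Set G) * (Cfsg.sigmaCore H : Set G))
    have hs1 : s ∈ E ⊓ Cfsg.sigmaCore H := by
      refine Subgroup.mem_inf.2 ⟨?_, hs⟩
      have h1 := mul_mem (inv_mem (MaximalBasics.derived_le_self E he)) hxE
      rwa [← hes, inv_mul_cancel_left] at h1
    rw [hE.2.2.1, Subgroup.mem_bot] at hs1
    rw [hs1, mul_one] at hes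
    exact hxB (OddTau.TauTwoAbelian.derived_centralizes hG.1 hB.ne_two
      (Coprime.isSolvable_of_le hE.1) hEB hB.elem hB.card.le (hes ▸ he) hxp)
  -- an `x`-invariant Sylow subgroup `T` over `B`, inside `L`
  haveI := solvable_of_ne_top hG hL.1
  obtain ⟨T₀, hBT₀, hxT₀⟩ := Coprime.exists_invariant_sylow_ge (A := Subgroup.zpowers x)
    (K := Cfsg.sigmaCore L) ((Subgroup.zpowers_le.2 hxL).trans (le_normalizer_sigmaCore L))
    (OddTau.Basic.coprime_sigmaCore hxq hqL) (Or.inr (Coprime.isSolvable_of_le (sigmaCore_le L)))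
    p B (OddTau.Basic.pgroup_le_sigmaCore hG hL hpL hB.isPGroup hBL) hB.isPGroup
    (Subgroup.zpowers_le.2 (hEB hxE))
  obtain ⟨T, hT₀T, hTL, -⟩ := Sigma.exists_sylow_ge hpL (T₀.2.map (Cfsg.sigmaCore L).subtype)
    ((Subgroup.map_subtype_le _).trans (sigmaCore_le L))
  have hTσ := OddTau.Basic.pgroup_le_sigmaCore hG hL hpL T.2 hTL
  have hTeq : (T : Subgroup G) = (T₀ : Subgroup _).map (Cfsg.sigmaCore L).subtype := by
    have heq : (T : Subgroup G).subgroupOf (Cfsg.sigmaCore L) = (T₀ : Subgroup _) :=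
      T₀.is_maximal' T.2.comap_subtype fun w hw => hT₀T ⟨w, hw, rfl⟩
    rw [← heq, Subgroup.map_subgroupOf_eq_of_le hTσ]
  have hBT : B ≤ (T : Subgroup G) := hTeq ▸ hBT₀
  have hxT : Subgroup.zpowers x ≤ Subgroup.normalizer ((T : Subgroup G) : Set G) := hTeq ▸ hxT₀
  have hT1 : (T : Subgroup G) ≠ ⊥ := ne_bot_of_le_ne_bot hB.ne_bot hBT
  have hTd : (T : Subgroup G) ≤ ⁅L, L⁆ := Sigma.le_derived hG hL hpL T.2 hTL
  obtain ⟨V, hVN, hxV, hcopV, hTV⟩ := SylowFixed.exists_compl_sylow hG T hT1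
    (U := Subgroup.zpowers x) hxT fun r hr hd => by
      rw [Hall.prime_dvd_pgroup hq hr hxq hd]; exact hqp
  have hNTL : Subgroup.normalizer ((T : Subgroup G) : Set G) ≤ L :=
    OddTau.Exceptional.normalizer_sylow_le hpL T hTL
  -- the fixed points of `x` on `T`
  set F := (T : Subgroup G) ⊓ Subgroup.centralizer ({x} : Set G) with hF
  have haF : a ∈ F := ⟨hBT (hPB haP), Subgroup.mem_centralizer_singleton_iff.2 hxa.eq.symm⟩
  haveI hFc : IsCyclic F := by
    by_contra hnc'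
    obtain ⟨W, hWF, hW, hWc, haW⟩ := BetaDerived.exists_elemAb_sq_mem hB.ne_two
      (T.2.to_le inf_le_left) hnc' haF (hB.orderOf_eq (hPB haP) ha1)
    have hWH : W ≤ H := fun w hw => hCH (by
      rw [← hPa, SigmaDisjoint.centralizer_zpowers]
      exact Subgroup.mem_centralizer_singleton_iff.2 (PGroups.elemAb_comm hW hw haW))
    have hTH : IsPGroup p ↥((T : Subgroup G) ⊓ H) := T.2.to_le inf_le_left
    obtain ⟨Q, hQ⟩ := (hTH.comap_subtype (K := H)).exists_le_sylow
    have hQ' : (T : Subgroup G) ⊓ H ≤ (Q : Subgroup H).map H.subtype := fun w hw =>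
      ⟨⟨w, hw.2⟩, hQ (show (⟨w, hw.2⟩ : H) ∈ ((T : Subgroup G) ⊓ H).comap H.subtype from hw), rfl⟩
    have hWB : W ≤ B := fun w hw =>
      (OddTau.Sylow.pow_eq_one_iff hB Q ((le_inf hBT hB.le).trans hQ') w
        (hQ' ⟨(hWF hw).1, hWH hw⟩)).1 (hW.2 w hw)
    have hWeq := Subgroup.eq_of_le_of_card_ge hWB (by rw [hWc, hB.card])
    exact hxB (Subgroup.mem_centralizer_iff.2 fun b hb =>
      Subgroup.mem_centralizer_singleton_iff.1 (hWF (hWeq ▸ hb)).2)
  have hVP : ∀ v ∈ V, v ∈ Subgroup.normalizer (P : Set G) := by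
    intro v hv
    have hw : ⁅x, v⁆ ∈ Subgroup.centralizer ((T : Subgroup G) : Set G) := by
      have hwV : ⁅x, v⁆ ∈ V := by
        have hxV' : x ∈ V := hxV (Subgroup.mem_zpowers x)
        rw [commutatorElement_def]
        exact mul_mem (mul_mem (mul_mem hxV' hv) (inv_mem hxV')) (inv_mem hv)
      refine BetaDerived.derived_centralizes hG hL hpβL T.2 hTd
        (Subgroup.commutator_mem_commutator hxL (hNTL (hVN hv))) (hVN hwV) ?_
      refine Nat.coprime_comm.1 (hp.out.coprime_iff_not_dvd.2 fun hd => ?_)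
      have h1 := hd.trans (Subgroup.orderOf_dvd_natCard V hwV)
      exact hp.out.not_dvd_one (Nat.dvd_gcd h1 (SigmaEmbedding.ne_one_of_pgroup T.2 hT1) |>.trans
        hcopV.dvd)
    refine Subgroup.mem_normalizer_iff_map_conj_eq.2 (Cyclic.eq_of_card_eq_of_isCyclic (W := F)
      ?_ (hPa ▸ Subgroup.zpowers_le.2 haF) (Subgroup.card_map_of_injective (MulAut.conj v).injective))
    rintro _ ⟨y, hy, rfl⟩
    have hyF : y ∈ F := (hPa ▸ Subgroup.zpowers_le.2 haF : P ≤ F) hy
    have hvy : v * y * v⁻¹ ∈ (T : Subgroup G) :=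
      (Subgroup.mem_normalizer_iff.1 (hVN hv) y).1 hyF.1
    refine Subgroup.mem_inf.2 ⟨hvy, Subgroup.mem_centralizer_singleton_iff.2 ?_⟩
    show v * y * v⁻¹ * x = x * (v * y * v⁻¹)
    have hxy : y * x = x * y := Subgroup.mem_centralizer_singleton_iff.1 hyF.2
    have hwy : v * y * v⁻¹ * ⁅x, v⁆ = ⁅x, v⁆ * (v * y * v⁻¹) :=
      Subgroup.mem_centralizer_iff.1 hw _ hvy
    calc v * y * v⁻¹ * x = v * y * v⁻¹ * ⁅x, v⁆ * (v * x * v⁻¹) := by
          simp only [commutatorElement_def]; group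
      _ = ⁅x, v⁆ * v * (y * x) * v⁻¹ := by rw [hwy]; group
      _ = ⁅x, v⁆ * v * (x * y) * v⁻¹ := by rw [hxy]
      _ = x * (v * y * v⁻¹) := by simp only [commutatorElement_def]; group
  -- `a` avoids `L_σ'`
  have haL' : a ∉ ⁅Cfsg.sigmaCore L, Cfsg.sigmaCore L⁆ := by
    intro had
    have hσL : Cfsg.sigmaCore H ⊓ L = ⊥ :=
      (h5 H hH p hτ2 B hB.le hB.elem hB.card).2.2 L hL hLH hBL
    obtain ⟨k, hk, hk1⟩ := (Cfsg.sigmaCore H).bot_or_exists_ne_one.resolve_left
      (OddTau.SigmaNormal.sigmaCore_ne_bot hB)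
    have hkL : k ∉ L := fun hkL => hk1 (Subgroup.mem_bot.1 (hσL ▸ Subgroup.mem_inf.2 ⟨hk, hkL⟩))
    refine ha1 (Subgroup.mem_bot.1 ((SigmaIntersect.inf_conj hnu hG hL hkL).2.2 ▸
      Subgroup.mem_inf.2 ⟨Subgroup.mem_inf.2 ⟨hPσL haP, OddTau.Exceptional.mem_conj.2 ?_⟩, had⟩))
    rw [mul_assoc, Subgroup.mem_centralizer_iff.1 (hHσP hk) a haP, inv_mul_cancel_left]
    exact hPB.trans hBL haP
  -- an element of `C_E(x)` moving `a`
  obtain ⟨c, hcE, hcx, hca⟩ : ∃ c ∈ E, c ∈ Subgroup.centralizer ({x} : Set G) ∧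
      c ∉ Subgroup.centralizer (P : Set G) := by
    by_contra hcon
    push Not at hcon
    -- `E` would centralize `P`
    have hEP : E ≤ Subgroup.normalizer (P : Set G) := fun e he => by
      rw [← haa]
      exact OddTau.PlaneLines.mem_normalizer_zpowers (conj_mem_line d (hE.1 he) (hEB he))
    have hE' : ⁅E, E⁆ ≤ Subgroup.centralizer (P : Set G) :=
      (Subgroup.commutator_mono hEP hEP).trans (SylowFixed.derived_le_centralizer_of_card hPc)
    set K := ⁅E, E⁆ ⊔ Subgroup.zpowers x with hK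
    have hKE : K ≤ E := sup_le (MaximalBasics.derived_le_self E) (Subgroup.zpowers_le.2 hxE)
    have hEK : E ≤ Subgroup.normalizer (K : Set G) :=
      Subgroup.le_normalizer_iff_commutator_le_left.2
        ((Subgroup.commutator_mono hKE le_rfl).trans le_sup_left)
    have hidx : ¬ q ∣ (Subgroup.zpowers x).relIndex K := by
      intro hd
      have h1 := Subgroup.relIndex_mul_relIndex (⊥ : Subgroup G) (Subgroup.zpowers x) K bot_le
        le_sup_right
      rw [Subgroup.relIndex_bot_left, Subgroup.relIndex_bot_left, Nat.card_zpowers, hxo] at h1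
      have hxn : Subgroup.zpowers x ≤ Subgroup.normalizer ((⁅E, E⁆ : Subgroup G) : Set G) :=
        (Subgroup.zpowers_le.2 hxE).trans
          (Subgroup.map_subtype_commutator E ▸ Basic.le_normalizer_map_subtype E _)
      haveI : ((⁅E, E⁆ : Subgroup G).subgroupOf K).Normal :=
        (Subgroup.normal_subgroupOf_iff_le_normalizer le_sup_left).2
          (sup_le Subgroup.le_normalizer hxn)
      have h2 := Hall.card_sup_dvd ((Subgroup.zpowers x).subgroupOf K)
        ((⁅E, E⁆ : Subgroup G).subgroupOf K)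
      rw [← Subgroup.subgroupOf_sup le_sup_right le_sup_left, sup_comm, Subgroup.subgroupOf_self,
        Subgroup.card_top, NormedConstrained.card_subgroupOf_eq le_sup_right,
        NormedConstrained.card_subgroupOf_eq le_sup_left, ← h1, Nat.card_zpowers, hxo] at h2
      exact hqE' (hd.trans (Nat.dvd_of_mul_dvd_mul_left hq.pos h2))
    have hEsup := RankTwoKey.sup_normalizer_of_normal hKE hEK le_sup_right hxq hidx
    have hEC : E ≤ Subgroup.centralizer (P : Set G) := by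
      refine hEsup.ge.trans (sup_le (sup_le hE' (Subgroup.zpowers_le.2 hxP)) ?_)
      rintro n ⟨hnE, hnx⟩
      refine hcon n hnE (Subgroup.mem_centralizer_singleton_iff.2
        (commutatorElement_eq_one_iff_mul_comm.1 (Subgroup.mem_bot.1 ?_)))
      have hbot : ⁅E, E⁆ ⊓ Subgroup.zpowers x = ⊥ := Basic.inf_eq_bot_of_coprime (by
        rw [Nat.card_zpowers, hxo]
        exact (hq.coprime_iff_not_dvd.2 hqE').symm)
      rw [← hbot, Subgroup.mem_inf]
      refine ⟨Subgroup.commutator_mem_commutator hnE hxE, ?_⟩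
      rw [commutatorElement_def]
      exact mul_mem ((Subgroup.mem_normalizer_iff.1 hnx x).1 (Subgroup.mem_zpowers x))
        (inv_mem (Subgroup.mem_zpowers x))
    have hHC : H ≤ Subgroup.centralizer (P : Set G) :=
      (Basic.isComplIn_sup hE).ge.trans (sup_le hEC hHσP)
    refine haL' (Subgroup.commutator_mono hTσ hTσ (SylowFixed.fixed_le_derived hVN hcopV hTV
      (Subgroup.mem_inf.2 ⟨hBT (hPB haP), Subgroup.mem_centralizer_iff.2 fun v hv => ?_⟩)))
    exact (Subgroup.mem_centralizer_iff.1 (hHC (hNH (hVP v hv))) a haP).symm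
  refine ⟨q, inferInstance, x, c, L, hqM, hxσ, hxP, hxo, hL, hpL, hPσL, hxL, hqτL, hE.1 hcE,
    hEL hcE, hcx, ?_, hca⟩
  rw [← haa]
  exact OddTau.PlaneLines.mem_normalizer_zpowers (conj_mem_line d (hE.1 hcE) (hEB hcE))

end Cfsg.Agent.Lib.OddOrder.TauTwoPartner
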