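import Cfsg.Prelude.Def_OddOrderLocal

/-!
# Type I as printed (BG section 16, Peterfalvi (8.1)), used inside the odd order chain

`Cfsg.IsOfTypeI` asks for `O_{p'}(M)` cyclic in its third case; the books ask it for `O_{p'}(M_F)`,
which is what the local analysis gives.  `IsTypeI` is the printed notion, and `typeA`, `typeA0`,
`Supports` are the sets and relation of the Prelude formed with it.  Definitions only.
-/

set_option autoImplicit false

namespace Cfsg.Agent.Lib.OddOrder.TypeOne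

universe u

/-- Type I: Frobenius type and, with `H = M_F`, `H` is TI, or abelian of rank two, or the exponent of
`M / H` divides `p - 1` for all `p ∣ |H|` and `O_{p'}(H)` is cyclic for one of them. -/
def IsTypeI {G : Type u} [Group G] (M : Subgroup G) : Prop :=
  Cfsg.IsOfTypeF M ∧
  ( Cfsg.IsTISubset (Cfsg.fittingHallOf M : Set G) ∨
    (IsMulCommutative (Cfsg.fittingHallOf M) ∧ Cfsg.RankLE 2 (Cfsg.fittingHallOf M) ∧
      ¬ Cfsg.RankLE 1 (Cfsg.fittingHallOf M)) ∨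
    ((∀ p : ℕ, p.Prime → p ∣ Nat.card (Cfsg.fittingHallOf M) →
        Monoid.exponent (M ⧸ Cfsg.fittingHall M) ∣ p - 1) ∧
      ∃ p : ℕ, p.Prime ∧ p ∣ Nat.card (Cfsg.fittingHallOf M) ∧
        IsCyclic (Cfsg.pPrimeCore p (Cfsg.fittingHallOf M))) )

open scoped Classical in
/-- `A(M)` formed with `IsTypeI`. -/
noncomputable def typeA {G : Type u} [Group G] (M : Subgroup G) : Set G :=
  if IsTypeI M then
    {a | a ∈ M ∧ a ≠ 1 ∧ ∃ x ∈ Cfsg.fittingHallOf M, x ≠ 1 ∧ a * x = x * a}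
  else
    {a | a ∈ ⁅M, M⁆ ∧ a ≠ 1 ∧ ∃ x ∈ Cfsg.typeCore M, x ≠ 1 ∧ a * x = x * a}

open scoped Classical in
/-- `A₀(M)` formed with `IsTypeI`. -/
noncomputable def typeA0 {G : Type u} [Group G] (M : Subgroup G) : Set G :=
  typeA M ∪ {v | ¬ IsTypeI M ∧ ∃ W₁ U W₂ : Subgroup G, Cfsg.IsTypePWith M W₁ U W₂ ∧
    ∃ m ∈ M, ∃ w ∈ W₁ ⊔ W₂, w ∉ W₁ ∧ w ∉ W₂ ∧ v = m * w * m⁻¹}

/-- `L` supports `M`, with the `A₀(M)` above. -/
def Supports {G : Type u} [Group G] (L M : Subgroup G) : Prop :=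
  IsCoatom L ∧ ∃ x ∈ typeA0 M, ¬ Subgroup.centralizer ({x} : Set G) ≤ M ∧
    Subgroup.centralizer ({x} : Set G) ≤ L

end Cfsg.Agent.Lib.OddOrder.TypeOne
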