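import Cfsg.Agent.Lib.OddOrder.UniqueRank
import Cfsg.Agent.Lib.OddLocal.CoprimeFix
import Cfsg.Agent.Lib.OddLocal.NarrowRank
import Cfsg.Agent.Lib.OddLocal.NarrowAut
import Cfsg.Agent.Lib.OddOrder.Transitive
import Cfsg.Agent.Lib.Hall.Coprime

/-!
# Auxiliary facts for BG 9.5
-/

set_option autoImplicit false
set_option linter.style.haveILetI false

namespace Cfsg.Agent.Lib.OddOrder.UniqueAux

universe u

variable {G : Type u} [Group G] [Finite G]

/-- In a cyclic subgroup, membership in cyclic subgroups is decided by orders. -/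
theorem mem_zpowers_of_dvd {V : Subgroup G} (hV : IsCyclic V) {c h : G} (hc : c ∈ V) (hh : h ∈ V)
    (hdvd : orderOf h ∣ orderOf c) : h ∈ Subgroup.zpowers c := by
  classical
  haveI := hV
  haveI : Fintype V := Fintype.ofFinite V
  set c' : V := ⟨c, hc⟩
  set h' : V := ⟨h, hh⟩
  set d := orderOf c' with hd
  have hsub : (Subgroup.zpowers c' : Set V).toFinset ⊆
      (Finset.univ.filter fun a : V => a ^ d = 1) := fun x hx => by
    rw [Set.mem_toFinset] at hx
    obtain ⟨i, rfl⟩ := hx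
    simp only [Finset.mem_filter, Finset.mem_univ, true_and]
    rw [← zpow_natCast, ← zpow_mul, mul_comm, zpow_mul, zpow_natCast, hd, pow_orderOf_eq_one,
      one_zpow]
  have heq := Finset.eq_of_subset_of_card_le hsub (by
    refine le_trans (IsCyclic.card_pow_eq_one_le (orderOf_pos c')) ?_
    rw [Set.toFinset_card, ← Nat.card_eq_fintype_card, hd]
    exact (Nat.card_zpowers c').ge)
  have hmem : h' ∈ (Finset.univ.filter fun a : V => a ^ d = 1) := by
    simp only [Finset.mem_filter, Finset.mem_univ, true_and]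
    refine orderOf_dvd_iff_pow_eq_one.1 ?_
    rw [hd, ← Subgroup.orderOf_coe, ← Subgroup.orderOf_coe]
    exact hdvd
  rw [← heq, Set.mem_toFinset] at hmem
  obtain ⟨i, hi⟩ := hmem
  exact ⟨i, by simpa using congrArg Subtype.val hi⟩

/-- A coprime element fixing a nontrivial element of a cyclic `q`-group centralizes it. -/
theorem centralizes_cyclic_of_fixed {q : ℕ} [hq : Fact q.Prime] (hq2 : q ≠ 2) {V : Subgroup G}
    (hVc : IsCyclic V) (hV : IsPGroup q V) {b c : G} (hb : b ∈ Subgroup.normalizer (V : Set G))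
    (hcop : (orderOf b).Coprime q) (hc : c ∈ V) (hc1 : c ≠ 1) (hbc : Commute b c) :
    ∀ v ∈ V, Commute b v := by
  refine OddLocal.CoprimeFix.centralizes_of_omega hq2 hcop hV hb fun h hh ho => ?_
  obtain ⟨k, hk⟩ := hV ⟨c, hc⟩
  obtain ⟨i, -, hi⟩ := (Nat.dvd_prime_pow hq.out).1
    (orderOf_dvd_of_pow_eq_one (by simpa using congrArg Subtype.val hk : c ^ q ^ k = 1))
  have hi0 : i ≠ 0 := fun h0 => hc1 (orderOf_eq_one_iff.1 (by rw [hi, h0, pow_zero]))
  obtain ⟨n, rfl⟩ := mem_zpowers_of_dvd hVc hc hh (by rw [ho, hi]; exact dvd_pow_self q hi0)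
  exact (hbc.zpow_right n).eq

omit [Finite G] in
theorem isNarrow_of_isCyclic {q : ℕ} [hq : Fact q.Prime] {V : Subgroup G} [Finite V]
    (hV : IsCyclic V) : Cfsg.IsNarrow q V := by
  refine Or.inl fun A h1 h2 => ?_
  haveI := hV
  exact (Nat.le_of_dvd hq.out.pos (PGroups.elemAb_card_dvd_of_isCyclic ⟨h1, h2⟩)).trans
    (Nat.le_self_pow two_ne_zero q)

theorem not_isCyclic_of_le {H K : Subgroup G} (h : H ≤ K) (hH : ¬ IsCyclic H) : ¬ IsCyclic K := by
  intro hK
  haveI := hK
  exact hH (isCyclic_of_injective (Subgroup.inclusion h) (Subgroup.inclusion_injective h))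

/-- If an elementary abelian group of rank three acts coprimely on a noncyclic `q`-group then some
nontrivial element has noncyclic fixed points. -/
theorem exists_noncyclic_fixed {p q : ℕ} [hp : Fact p.Prime] [hq : Fact q.Prime] (hpq : p ≠ q)
    (hq2 : q ≠ 2) {E S : Subgroup G} (hE : Cfsg.IsElementaryAbelian p E)
    (hEc : p ^ 2 < Nat.card E) (hS : IsPGroup q S) (hES : E ≤ Subgroup.normalizer (S : Set G))
    (hSnc : ¬ IsCyclic S) :
    ∃ a ∈ E, a ≠ 1 ∧ ¬ IsCyclic ↥(S ⊓ Subgroup.centralizer ({a} : Set G)) := by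
  by_contra hcon
  push Not at hcon
  haveI := hE.1
  have hEp : IsPGroup p E := fun x => ⟨1, Subtype.ext (by simpa using hE.2 x x.2)⟩
  have hcop : (Nat.card E).Coprime (Nat.card S) := IsPGroup.coprime_card_of_ne p q hpq _ _ hEp hS
  -- every hyperplane has the fixed points of each of its nontrivial elements
  have hfix : ∀ B : Subgroup G, B ≤ E → S ⊓ Subgroup.centralizer (B : Set G) ≠ ⊥ →
      ∀ a ∈ B, a ≠ 1 → S ⊓ Subgroup.centralizer ({a} : Set G) =
        S ⊓ Subgroup.centralizer (B : Set G) := by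
    intro B hB hne a ha ha1
    refine le_antisymm (fun v hv => ⟨hv.1, Subgroup.mem_centralizer_iff.2 fun b hb => ?_⟩)
      (inf_le_inf_left _ (Subgroup.centralizer_le (Set.singleton_subset_iff.2 ha)))
    obtain ⟨c, hc, hc1⟩ := (Subgroup.bot_or_exists_ne_one _).resolve_left hne
    have hbn : b ∈ Subgroup.normalizer
        ((S ⊓ Subgroup.centralizer ({a} : Set G) : Subgroup G) : Set G) := by
      refine Coprime.le_normalizer_inf hES ?_ (hB hb)
      intro e he
      refine Subgroup.le_normalizer (Subgroup.mem_centralizer_singleton_iff.2 ?_)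
      exact congrArg Subtype.val (hE.1.is_comm.comm ⟨e, he⟩ ⟨a, hB ha⟩)
    refine (centralizes_cyclic_of_fixed hq2 (hcon a (hB ha) ha1) (hS.to_le inf_le_left) hbn ?_
      ⟨hc.1, Subgroup.mem_centralizer_singleton_iff.2
        (Subgroup.mem_centralizer_iff.1 hc.2 a ha).symm⟩ hc1
      (Subgroup.mem_centralizer_iff.1 hc.2 b hb) v hv).eq
    exact ((Nat.coprime_primes hp.out hq.out).2 hpq).coprime_dvd_left
      (orderOf_dvd_of_pow_eq_one (hE.2 b (hB hb)))
  set H := {B : Subgroup G | B ≤ E ∧ ∃ a ∈ E, B ⊔ Subgroup.zpowers a = E}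
  have hgen := Coprime.iSup_centralizer_cyclic_quotient_eq hES hcop
  obtain ⟨B₀, hB₀, hne₀⟩ : ∃ B ∈ H, S ⊓ Subgroup.centralizer (B : Set G) ≠ ⊥ := by
    by_contra h
    push Not at h
    refine hSnc ?_
    have : S = ⊥ := hgen ▸ le_bot_iff.1 (iSup₂_le fun B hB => (h B hB).le)
    rw [this]; infer_instance
  obtain ⟨a, ha, hEa⟩ := hB₀.2
  have hB₀c := Rank.card_le_of_sup_zpowers hE hB₀.1 ha hEa
  have hB₀1 : B₀ ≠ ⊥ := by
    rintro rfl
    rw [Subgroup.card_bot, one_mul] at hB₀c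
    exact absurd (hEc.trans_le hB₀c) (not_lt.2 (Nat.le_self_pow two_ne_zero p))
  obtain ⟨b, hb, hb1⟩ := B₀.bot_or_exists_ne_one.resolve_left hB₀1
  refine hSnc ?_
  have : S = S ⊓ Subgroup.centralizer (B₀ : Set G) := by
    refine le_antisymm ?_ inf_le_left
    calc S = _ := hgen.symm
      _ ≤ _ := iSup₂_le fun B hB => ?_
    by_cases hne : S ⊓ Subgroup.centralizer (B : Set G) = ⊥
    · rw [hne]; exact bot_le
    obtain ⟨a', ha', hEa'⟩ := hB.2
    have hBc := Rank.card_le_of_sup_zpowers hE hB.1 ha' hEa'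
    have hinf : B ⊓ B₀ ≠ ⊥ := fun h0 => by
      have h3 : Nat.card ↥(B ⊔ B₀) = Nat.card B * Nat.card B₀ :=
        Coprime.card_sup_of_disjoint (fun x hx => Subgroup.centralizer_le_normalizer _
          (Subgroup.centralizer_le (SetLike.coe_subset_coe.2 hB₀.1)
            (Subgroup.le_centralizer_iff_isMulCommutative.2 hE.1 (hB.1 hx)))) (disjoint_iff.2 h0)
      have h4 := Nat.le_of_dvd Nat.card_pos (Subgroup.card_dvd_of_le (sup_le hB.1 hB₀.1))
      rw [h3] at h4
      have h5 : Nat.card E * Nat.card E ≤ Nat.card B * Nat.card B₀ * (p * p) := by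
        calc Nat.card E * Nat.card E ≤ (Nat.card B * p) * (Nat.card B₀ * p) :=
              Nat.mul_le_mul hBc hB₀c
          _ = _ := by ring
      have h6 := Nat.le_of_mul_le_mul_left (h5.trans (Nat.mul_le_mul_right _ h4)) Nat.card_pos
      exact absurd hEc (not_lt.2 (by rwa [sq]))
    obtain ⟨x, hx, hx1⟩ := (Subgroup.bot_or_exists_ne_one _).resolve_left hinf
    rw [← hfix B hB.1 hne x hx.1 hx1, ← hfix B₀ hB₀.1 hne₀ x hx.2 hx1]
  rw [this, ← hfix B₀ hB₀.1 hne₀ b hb hb1]
  exact hcon b (hB₀.1 hb) hb1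

/-- A `p`-group in a group of odd order has rank three and no maximal elementary abelian subgroup
of order `p ^ 2` unless it is narrow. -/
theorem not_prankLE_centralizer_of_not_narrow {q : ℕ} [hq : Fact q.Prime] (hq2 : q ≠ 2)
    {S E : Subgroup G} (hS : IsPGroup q S) (hn : ¬ Cfsg.IsNarrow q S) (hES : E ≤ S)
    (hE : Cfsg.IsElementaryAbelian q E) :
    ¬ Cfsg.PRankLE q 2 ↥(S ⊓ Subgroup.centralizer (E : Set G)) := by
  intro h
  refine hn (OddLocal.NarrowRank.isNarrow_of_centralizer hq2 hS (E := E.subgroupOf S) ?_ ?_)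
  · exact ⟨⟨⟨fun a b => Subtype.ext (Subtype.ext (congrArg Subtype.val
      (hE.1.is_comm.comm ⟨_, a.2⟩ ⟨_, b.2⟩) :))⟩⟩, fun a ha => Subtype.ext (hE.2 _ ha)⟩
  · refine (SCN.prankLE_map_iff _).1 (Rank.prankLE_mono ?_ h)
    rintro _ ⟨x, hx, rfl⟩
    exact ⟨x.2, Subgroup.mem_centralizer_iff.2 fun e he =>
      congrArg Subtype.val (Subgroup.mem_centralizer_iff.1 hx ⟨e, hES he⟩ he)⟩

end Cfsg.Agent.Lib.OddOrder.UniqueAux
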