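import Cfsg.Agent.Lib.OddOrder.UniquenessFitting
import Cfsg.Agent.Lib.OddOrder.UniqueRank

/-!
# BG 9.4: rank three in a Fitting subgroup gives uniqueness subgroups
-/

set_option autoImplicit false
set_option linter.style.haveILetI false

namespace Cfsg.Agent.Lib.OddOrder.UniqueFittingRank

open Cfsg.Agent.Lib.OddOrder.MinSimple

universe u

variable {G : Type u} [Group G] [Finite G]

theorem ne_two_of_rank {p : ℕ} [hp : Fact p.Prime] (hG : Cfsg.IsMinSimpleOddOrder G)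
    {H : Subgroup G} (h : ¬ Cfsg.PRankLE p 2 H) : p ≠ 2 := by
  obtain ⟨E, -, hE, hEc⟩ := Rank.exists_elemAb_of_not_prankLE h
  exact ne_two_of_dvd hG ((Rank.elemAb_prime_dvd hE
    (lt_of_le_of_lt (Nat.one_le_pow _ _ hp.out.pos) hEc)).trans E.card_subgroup_dvd_card)

theorem not_isCyclic_of_rank {p : ℕ} [hp : Fact p.Prime] {A : Subgroup G}
    (h : ¬ Cfsg.PRankLE p 2 A) : ¬ IsCyclic A := fun hc => by
  haveI := hc
  obtain ⟨E, hEA, hE, hEc⟩ := Rank.exists_elemAb_of_not_prankLE h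
  refine Rank.elemAb_not_isCyclic hE (lt_of_le_of_lt (Nat.le_self_pow two_ne_zero p) hEc) ?_
  exact isCyclic_of_injective (Subgroup.inclusion hEA) (Subgroup.inclusion_injective hEA)

/-- BG 9.4. -/
theorem of_fitting_rank (hG : Cfsg.IsMinSimpleOddOrder G) {M : Subgroup G} (hM : IsCoatom M)
    {p : ℕ} [hp : Fact p.Prime] (hF : ¬ Cfsg.PRankLE p 2 ↥(Cfsg.fittingOf M))
    {A : Subgroup G} (hAp : IsPGroup p A) (hAc : IsMulCommutative A)
    (hA3 : ¬ Cfsg.PRankLE p 2 ↥A) : Cfsg.InUniqueMaximal A := by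
  suffices ∃ A₀ : Subgroup G, IsPGroup p A₀ ∧ IsMulCommutative A₀ ∧ ¬ Cfsg.PRankLE p 2 A₀ ∧
      Cfsg.InUniqueMaximal A₀ by
    obtain ⟨A₀, h0p, h0c, h03, h0U⟩ := this
    refine UniqueRank.of_abelian_rank_three hG h0p h0c h03 h0U hAp (not_isCyclic_of_rank hA3) ?_
    exact fun h => hA3 (Rank.prankLE_mono (Subgroup.le_centralizer_iff_isMulCommutative.2 hAc) h)
  obtain ⟨E, hEF, hE, hEc⟩ := Rank.exists_elemAb_of_not_prankLE hF
  have hEp : IsPGroup p E := fun x => ⟨1, Subtype.ext (by simpa using hE.2 x x.2)⟩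
  have hE3 : p ^ 3 ≤ Nat.card E := by
    obtain ⟨k, hk⟩ := PGroups.elemAb_card_eq_pow hE
    rw [hk] at hEc ⊢
    exact Nat.pow_le_pow_right hp.out.pos ((Nat.pow_lt_pow_iff_right hp.out.one_lt).1 hEc)
  by_cases hFp : IsPGroup p (Cfsg.fittingOf M)
  · obtain ⟨P⟩ : Nonempty (Sylow p M) := inferInstance
    set S := (P : Subgroup M).map M.subtype with hS
    have hSp : IsPGroup p S := P.2.map _
    have hFS : Cfsg.fittingOf M ≤ S := by
      refine Subgroup.map_mono ?_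
      have : IsPGroup p (Cfsg.fittingSubgroup M) :=
        hFp.of_equiv (Subgroup.equivMapOfInjective _ _ M.subtype_injective).symm
      exact this.le_sylow_of_normal P
    have hS3 : ¬ Cfsg.PRankLE p 2 S := fun h => hF (Rank.prankLE_mono hFS h)
    obtain ⟨A₀, hA₀, h03⟩ := SCN.exists_scn3 (ne_two_of_rank hG hS3) hSp hS3
    exact ⟨A₀, hSp.to_le hA₀.1, Uniqueness.isMulCommutative_of_scn hA₀, h03,
      ((UniquenessFitting.of_pgroup hG hM hFp P).2 A₀ hA₀ h03).2⟩
  · refine ⟨E, hEp, hE.1, Rank.not_prankLE_of_elemAb le_rfl hE hEc, ?_⟩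
    exact UniqueRank.of_le_centralizer hG (UniquenessFitting.of_not_pgroup hG hM hEF hE hE3 hFp)
      (Subgroup.le_centralizer_iff.1 inf_le_right)
      (UniqueRank.not_rankLE_one le_rfl hE ((Nat.pow_le_pow_right hp.out.pos (by omega)).trans hE3))

end Cfsg.Agent.Lib.OddOrder.UniqueFittingRank
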