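import Cfsg.Agent.Lib.OddOrder.UniqueFocal
import Cfsg.Agent.Lib.OddOrder.UniqueAux
import Cfsg.Agent.Lib.OddOrder.UniqueFittingRank
import Cfsg.Agent.Lib.OddLocal.DerivedFitting
import Cfsg.Agent.S1393
import Cfsg.Agent.S1395
import Cfsg.Agent.S1396
import Cfsg.Agent.S1398

/-!
# BG 9.5: members of `SCN₃` are uniqueness subgroups
-/

set_option autoImplicit false
set_option linter.style.haveILetI false
set_option linter.unusedSectionVars false

open scoped Pointwise

namespace Cfsg.Agent.Lib.OddOrder.UniqueScn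

open Cfsg.Agent.Lib.OddOrder.MinSimple Cfsg.Agent.Lib.OddOrder.Transitivity

universe u

variable {G : Type u} [Group G] [Finite G] {p : ℕ} [hp : Fact p.Prime]

/-- The standing hypotheses of the argument by contradiction. -/
structure Setup (P : Sylow p G) (A T : Subgroup G) : Prop where
  minSimple : Cfsg.IsMinSimpleOddOrder G
  scn : Cfsg.IsSCN (P : Subgroup G) A
  rank : ¬ Cfsg.PRankLE p 2 A
  notU : ¬ Cfsg.InUniqueMaximal A
  hAT : A ≤ T
  hTP : T ≤ P
  hPT : (P : Subgroup G) ≤ Subgroup.normalizer (T : Set G)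
  focal : (P : Subgroup G) ≤
    ⁅Subgroup.normalizer (T : Set G), Subgroup.normalizer (T : Set G)⁆

/-- `S` is a maximal `P`-invariant `s`-subgroup all whose noncyclic subgroups have `L` as their
only maximal overgroup. -/
structure IsOwner (P : Sylow p G) (s : ℕ) (S L : Subgroup G) : Prop where
  prime : s.Prime
  ne : s ≠ p
  coatom : IsCoatom L
  mem : S ∈ Cfsg.maxInvSubgroups ⊤ (P : Subgroup G) {s}
  le : S ≤ L
  rank : ¬ Cfsg.PRankLE s 2 S
  unique : ∀ B : Subgroup G, B ≤ S → ¬ IsCyclic B → Cfsg.InUniqueMaximal B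

namespace Setup

variable {P : Sylow p G} {A T : Subgroup G}

theorem isPGroup (h : Setup P A T) : IsPGroup p A := P.2.to_le h.scn.1

theorem comm (h : Setup P A T) : IsMulCommutative A := Uniqueness.isMulCommutative_of_scn h.scn

theorem ne_bot (h : Setup P A T) : A ≠ ⊥ := fun h1 => h.rank fun E _ _ => by
  have : Nat.card E ≤ 1 := by
    have hE : E = ⊥ := by
      subst h1
      exact Subgroup.eq_bot_of_subsingleton E
    rw [hE, Subgroup.card_bot]
  exact this.trans (Nat.one_le_pow _ _ hp.out.pos)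

theorem dvd_card (h : Setup P A T) : p ∣ Nat.card A := by
  haveI : Nontrivial A := (Subgroup.nontrivial_iff_ne_bot A).2 h.ne_bot
  obtain ⟨n, hn, hc⟩ := h.isPGroup.nontrivial_iff_card.1 inferInstance
  exact (dvd_pow_self p hn.ne').trans hc.symm.dvd

theorem dvd_card_group (h : Setup P A T) : p ∣ Nat.card G :=
  h.dvd_card.trans A.card_subgroup_dvd_card

theorem ne_two (h : Setup P A T) : p ≠ 2 := ne_two_of_dvd h.minSimple h.dvd_card_group

theorem not_dvd (h : Setup P A T) {q : ℕ} (hq : q.Prime) (hqp : q ≠ p) : ¬ q ∣ Nat.card A := by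
  obtain ⟨n, hn⟩ := IsPGroup.iff_card.1 h.isPGroup
  rw [hn]
  exact fun hd => hqp ((Nat.prime_dvd_prime_iff_eq hq hp.out).1 (hq.dvd_of_dvd_pow hd))

theorem primes_of_pgroup (h : Setup P A T) {B : Subgroup G} (hB : IsPGroup p B) :
    ∀ r : ℕ, r.Prime → r ∣ Nat.card B → r ∣ Nat.card A := by
  intro r hr hd
  obtain ⟨n, hn⟩ := IsPGroup.iff_card.1 hB
  rw [hn] at hd
  exact ((Nat.prime_dvd_prime_iff_eq hr hp.out).1 (hr.dvd_of_dvd_pow hd)) ▸ h.dvd_card

theorem rank_one (h : Setup P A T) : ¬ Cfsg.PRankLE p 1 A :=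
  fun h1 => h.rank (Rank.prankLE_mono_right hp.out.pos (by norm_num) h1)

theorem trans (h : Setup P A T) : Cfsg.TransitivityHypothesis A :=
  Cfsg.Agent.S1396.result h.minSimple p h.dvd_card_group A h.isPGroup h.comm
    (Or.inr ⟨P, h.scn, h.rank_one⟩)

theorem rank_center (h : Setup P A T) :
    ¬ Cfsg.RankLE 2 ↥(A ⊓ Subgroup.centralizer (A : Set G)) := fun h1 =>
  h.rank (Rank.prankLE_mono (le_inf le_rfl (Subgroup.le_centralizer_iff_isMulCommutative.2 h.comm))
    (h1 p hp.out))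

/-- Transitivity data for an overgroup of `A` in `P` normalizing it. -/
theorem good (h : Setup P A T) {q : ℕ} (hq : q.Prime) (hqp : q ≠ p) {B : Subgroup G}
    (hAB : A ≤ B) (hBP : B ≤ P) :
    Cfsg.maxInvSubgroups ⊤ B {q} ⊆ Cfsg.maxInvSubgroups ⊤ A {q} ∧
      ∀ Q ∈ Cfsg.maxInvSubgroups ⊤ B {q}, Subgroup.normalizer (B : Set G) =
        Cfsg.piCoreOf (piA' A) (Subgroup.centralizer (B : Set G)) ⊔
          (Subgroup.normalizer (B : Set G) ⊓ Subgroup.normalizer (Q : Set G)) := by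
  obtain ⟨-, -, h3, h4⟩ := Cfsg.Agent.S1395.result h.minSimple A h.trans q hq (h.not_dvd hq hqp) B
    (pgroup_ne_top h.minSimple (P.2.to_le hBP)) (h.primes_of_pgroup (P.2.to_le hBP)) hAB
    (((Subgroup.normal_subgroupOf_iff_le_normalizer hAB).2 (hBP.trans h.scn.2.1)).isSubnormal)
    (Cfsg.Agent.S1393.result h.minSimple A h.trans h.rank_center q hq (h.not_dvd hq hqp))
  exact ⟨h3, fun Q hQ => (h4 Q hQ).2⟩

theorem max_A (h : Setup P A T) {q : ℕ} (hq : q.Prime) (hqp : q ≠ p) {R : Subgroup G}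
    (hR : R ∈ Cfsg.maxInvSubgroups ⊤ (P : Subgroup G) {q}) :
    R ∈ Cfsg.maxInvSubgroups ⊤ A {q} :=
  (h.good hq hqp h.scn.1 le_rfl).1 hR

theorem coreC_T_le (h : Setup P A T) :
    Cfsg.piCoreOf (piA' A) (Subgroup.centralizer (T : Set G)) ≤
      Subgroup.centralizer (A : Set G) :=
  (piCoreOf_le _ _).trans (Subgroup.centralizer_le h.hAT)

/-- `P ≤ (N(T) ∩ N(R))'`. -/
theorem derived (h : Setup P A T) {q : ℕ} (hq : q.Prime) (hqp : q ≠ p) {R : Subgroup G}
    (hR : R ∈ Cfsg.maxInvSubgroups ⊤ (P : Subgroup G) {q}) :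
    (P : Subgroup G) ≤ ⁅Subgroup.normalizer (T : Set G) ⊓ Subgroup.normalizer (R : Set G),
      Subgroup.normalizer (T : Set G) ⊓ Subgroup.normalizer (R : Set G)⁆ := by
  have hRA := h.max_A hq hqp hR
  have hRT : R ∈ Cfsg.maxInvSubgroups ⊤ T {q} :=
    ⟨⟨le_top, hR.1.2.1, h.hTP.trans hR.1.2.2⟩,
      fun R' hR' hle => hRA.2 R' (mem_invSubgroups_mono h.hAT hR') hle⟩
  have hfac := (h.good hq hqp h.hAT h.hTP).2 R hRT
  set C₀ := Cfsg.piCoreOf (piA' A) (Subgroup.centralizer (T : Set G)) with hC₀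
  refine UniqueFocal.le_commutator_of_sup (p := p) (N := Subgroup.normalizer (T : Set G)) (O := C₀)
    (le_sup_left.trans hfac.ge) (Subnormal.normalizer_le_normalizer_core T _) ?_ inf_le_left
    hfac.symm P.2 (le_inf h.hPT hR.1.2.2) h.focal
  exact ((coprime_of_pi' (piCoreOf_isPiGroup _ _)).coprime_dvd_left h.dvd_card).symm

/-- An odd subgroup normalizing a narrow `q`-group with derived group over `P` makes `P`
centralize it. -/
theorem centralizes_narrow (h : Setup P A T) {q : ℕ} [hqF : Fact q.Prime] (hqp : q ≠ p)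
    {X V : Subgroup G} (hX : X ≠ ⊤) (hPX : (P : Subgroup G) ≤ ⁅X, X⁆) (hV : IsPGroup q V)
    (hn : Cfsg.IsNarrow q V) (hXV : X ≤ Subgroup.normalizer (V : Set G)) :
    (P : Subgroup G) ≤ Subgroup.centralizer (V : Set G) := by
  by_cases hV1 : V = ⊥
  · subst hV1
    intro x _
    exact Subgroup.mem_centralizer_iff.2 fun v hv => by
      rw [SetLike.mem_coe, Subgroup.mem_bot] at hv; subst hv; simp
  haveI : Nontrivial V := (Subgroup.nontrivial_iff_ne_bot V).2 hV1
  obtain ⟨n, hn0, hnc⟩ := hV.nontrivial_iff_card.1 inferInstance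
  have hq2 := ne_two_of_dvd h.minSimple
    (((dvd_pow_self q hn0.ne').trans hnc.symm.dvd).trans V.card_subgroup_dvd_card)
  haveI := solvable_of_ne_top h.minSimple hX
  intro x hx
  obtain ⟨k, hk⟩ := P.2 ⟨x, hx⟩
  refine OddLocal.NarrowAut.derived_centralizes hq2 hV hn hXV (odd_card h.minSimple X) (hPX hx) ?_
  exact (((Nat.coprime_primes hp.out hqF.out).2 hqp.symm).pow_left k).coprime_dvd_left
    (orderOf_dvd_of_pow_eq_one (by simpa using congrArg Subtype.val hk))

theorem normalizer_T_ne_top (h : Setup P A T) : Subgroup.normalizer (T : Set G) ≠ ⊤ :=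
  normalizer_ne_top h.minSimple (fun hT => h.ne_bot (le_bot_iff.1 (hT ▸ h.hAT)))
    (pgroup_ne_top h.minSimple (P.2.to_le h.hTP))

theorem not_le_centralizer (h : Setup P A T) {W B : Subgroup G} (hW : Cfsg.InUniqueMaximal W)
    (hB : B ≤ A) (hBr : ¬ Cfsg.RankLE 1 B) : ¬ B ≤ Subgroup.centralizer (W : Set G) := fun hc =>
  h.notU (UniqueRank.mono h.minSimple (UniqueRank.of_le_centralizer h.minSimple hW hc hBr) hB
    (pgroup_ne_top h.minSimple h.isPGroup))

theorem exists_E (h : Setup P A T) :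
    ∃ E : Subgroup G, E ≤ A ∧ Cfsg.IsElementaryAbelian p E ∧ p ^ 2 < Nat.card E :=
  Rank.exists_elemAb_of_not_prankLE h.rank

/-- Every maximal subgroup over an `X` with `P ≤ X'` is an owner. -/
theorem exists_owner (h : Setup P A T) {L X : Subgroup G} (hL : IsCoatom L) (hXL : X ≤ L)
    (hPX : (P : Subgroup G) ≤ ⁅X, X⁆) : ∃ s S, IsOwner P s S L := by
  have hG := h.minSimple
  haveI := solvable_of_ne_top hG hL.1
  have hPL : (P : Subgroup G) ≤ ⁅L, L⁆ := hPX.trans (Subgroup.commutator_mono hXL hXL)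
  have hLL : ⁅L, L⁆ ≤ L := Subgroup.map_subtype_commutator L ▸ Subgroup.map_subtype_le _
  have hFp : Cfsg.PRankLE p 2 ↥(Cfsg.fittingOf L) := by
    by_contra hF
    exact h.notU (UniqueFittingRank.of_fitting_rank hG hL hF h.isPGroup h.comm h.rank)
  obtain ⟨s, hs, hsF⟩ : ∃ s, s.Prime ∧ ¬ Cfsg.PRankLE s 2 ↥(Cfsg.fittingOf L) := by
    by_contra hall
    push Not at hall
    refine h.rank (Rank.prankLE_mono (h.scn.1.trans (hPL.trans ?_)) hFp)
    rw [← Subgroup.map_subtype_commutator L]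
    refine Subgroup.map_mono (OddLocal.DerivedFitting.commutator_le_fitting (odd_card hG L) ?_)
    intro q hq hq2
    haveI := Fact.mk hq
    exact Or.inl ((SCN.prankLE_map_iff _).1
      (Rank.prankLE_mono (Fitting.pCoreOf_le_fittingOf q L) (hall q hq)))
  haveI := Fact.mk hs
  have hsp : s ≠ p := fun e => hsF (e ▸ hFp)
  have hs2 : s ≠ 2 := UniqueFittingRank.ne_two_of_rank hG hsF
  obtain ⟨B₀, hB₀F, hB₀, hB₀c⟩ := Rank.exists_elemAb_of_not_prankLE hsF
  have hB₀p : IsPGroup s B₀ := fun x => ⟨1, Subtype.ext (by simpa using hB₀.2 x x.2)⟩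
  have hO : Cfsg.pCoreOf s L ∈ Cfsg.invSubgroups ⊤ (P : Subgroup G) {s} :=
    mem_inv.2 ⟨le_top, CharP.isPGroup_pCoreOf s L,
      (hPL.trans hLL).trans (CharP.le_normalizer_pCoreOf s L)⟩
  obtain ⟨S, hS, hOS⟩ := exists_max_ge hO
  have hB₀S : B₀ ≤ S := (Fitting.le_pCoreOf_of_fitting hB₀F hB₀p).trans hOS
  have hSp : IsPGroup s S := (mem_inv.1 hS.1).2.1
  have hrS : ¬ Cfsg.PRankLE s 2 S := Rank.not_prankLE_of_elemAb hB₀S hB₀ hB₀c
  have hB₀3 : ¬ Cfsg.PRankLE s 2 B₀ := Rank.not_prankLE_of_elemAb le_rfl hB₀ hB₀c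
  have hB₀U := UniqueFittingRank.of_fitting_rank hG hL hsF hB₀p hB₀.1 hB₀3
  obtain ⟨E, hEA, hE, hEc⟩ := h.exists_E
  have hEr : ¬ Cfsg.RankLE 1 E := UniqueRank.not_rankLE_one le_rfl hE hEc.le
  have hnar : ¬ Cfsg.IsNarrow s S := by
    intro hn
    have hX : Subgroup.normalizer (T : Set G) ⊓ Subgroup.normalizer (S : Set G) ≠ ⊤ :=
      fun e => h.normalizer_T_ne_top (top_le_iff.1 (e ▸ inf_le_left))
    have hc := h.centralizes_narrow hsp hX (h.derived hs hsp hS) hSp hn inf_le_right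
    exact h.not_le_centralizer hB₀U hEA hEr
      (((hEA.trans h.scn.1).trans hc).trans (Subgroup.centralizer_le hB₀S))
  have huniq : ∀ B : Subgroup G, B ≤ S → ¬ IsCyclic B → Cfsg.InUniqueMaximal B := by
    intro B hB hBnc
    obtain ⟨B', -, hB', hB'c⟩ := PGroups.exists_normal_elemAb_sq hs2 (hSp.to_le hB) hBnc
    set B₁ := B'.map B.subtype
    have hB₁ : Cfsg.IsElementaryAbelian s B₁ := PGroups.elemAb_map _ hB'
    have hB₁c : Nat.card B₁ = s ^ 2 := by
      rw [Subgroup.card_map_of_injective B.subtype_injective, hB'c]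
    have hB₁B : B₁ ≤ B := Subgroup.map_subtype_le _
    refine UniqueRank.mono hG ?_ hB₁B (pgroup_ne_top hG (hSp.to_le hB))
    refine UniqueRank.of_abelian_rank_three hG hB₀p hB₀.1 hB₀3 hB₀U (hSp.to_le (hB₁B.trans hB))
      (Rank.elemAb_not_isCyclic hB₁ ?_) fun h3 => ?_
    · rw [hB₁c, sq]
      exact lt_mul_of_one_lt_left hs.pos hs.one_lt
    · exact UniqueAux.not_prankLE_centralizer_of_not_narrow hs2 hSp hnar (hB₁B.trans hB) hB₁
        (Rank.prankLE_mono inf_le_right h3)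
  refine ⟨s, S, hs, hsp, hL, hS, ?_, hrS, huniq⟩
  -- the normalizer condition gives `S ≤ L`
  set D := S ⊓ L with hD
  have hB₀D : B₀ ≤ D := le_inf hB₀S (hB₀F.trans (Cores.fittingOf_le L))
  by_contra hSL
  have hDS : D.subgroupOf S < ⊤ := lt_top_iff_ne_top.2 fun e =>
    hSL ((Subgroup.subgroupOf_eq_top.1 e).trans inf_le_right)
  haveI := hSp.isNilpotent
  have hlt := Group.normalizerCondition_of_isNilpotent (G := S) (D.subgroupOf S) hDS
  obtain ⟨g, hg, hgD⟩ := SetLike.exists_of_lt hlt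
  have hgn : (g : G) ∈ Subgroup.normalizer (D : Set G) := by
    have h2 := Subgroup.le_normalizer_map S.subtype (Subgroup.mem_map_of_mem S.subtype hg)
    rwa [Subgroup.map_subgroupOf_eq_of_le inf_le_left] at h2
  have hDnc : ¬ IsCyclic D :=
    UniqueAux.not_isCyclic_of_le hB₀D (UniqueFittingRank.not_isCyclic_of_rank hB₀3)
  have hD1 : D ≠ ⊥ := fun e => hDnc (by rw [e]; infer_instance)
  obtain ⟨M', hM', hNM'⟩ := exists_coatom_ge hG
    (normalizer_ne_top hG hD1 (pgroup_ne_top hG (hSp.to_le inf_le_left)))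
  have hML : M' = L := UniqueRank.eq_of_le (huniq D inf_le_left hDnc) hM'
    (Subgroup.le_normalizer.trans hNM') hL inf_le_right
  exact hgD (show (g : G) ∈ D from ⟨g.2, hML ▸ hNM' hgn⟩)

end Setup

namespace IsOwner

variable {P : Sylow p G} {A T : Subgroup G} {s : ℕ} {S L : Subgroup G}

theorem isPGroup [Fact s.Prime] (o : IsOwner P s S L) : IsPGroup s S := (mem_inv.1 o.mem.1).2.1

theorem ne_two [Fact s.Prime] (o : IsOwner P s S L) (h : Setup P A T) : s ≠ 2 :=
  UniqueFittingRank.ne_two_of_rank h.minSimple o.rank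

theorem not_isCyclic [Fact s.Prime] (o : IsOwner P s S L) : ¬ IsCyclic S :=
  UniqueFittingRank.not_isCyclic_of_rank o.rank

/-- A proper subgroup over a noncyclic subgroup of `S` lies in `L`. -/
theorem le_of_noncyclic (o : IsOwner P s S L) (h : Setup P A T) {X B : Subgroup G} (hX : X ≠ ⊤)
    (hB : B ≤ S) (hBnc : ¬ IsCyclic B) (hBX : B ≤ X) : X ≤ L := by
  obtain ⟨M', hM', hXM'⟩ := exists_coatom_ge h.minSimple hX
  rwa [← UniqueRank.eq_of_le (o.unique B hB hBnc) hM' (hBX.trans hXM') o.coatom (hB.trans o.le)]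

theorem normalizer_T_le (o : IsOwner P s S L) (h : Setup P A T) :
    Subgroup.centralizer (A : Set G) ≤ L ∧ Subgroup.normalizer (T : Set G) ≤ L := by
  haveI := Fact.mk o.prime
  have hG := h.minSimple
  obtain ⟨E, hEA, hE, hEc⟩ := h.exists_E
  obtain ⟨a, ha, ha1, hnc⟩ := UniqueAux.exists_noncyclic_fixed o.ne.symm (o.ne_two h) hE hEc
    o.isPGroup ((hEA.trans h.scn.1).trans o.mem.1.2.2) o.not_isCyclic
  have hCA : Subgroup.centralizer (A : Set G) ≤ L :=
    (Subgroup.centralizer_le (Set.singleton_subset_iff.2 (hEA ha))).trans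
      (o.le_of_noncyclic h (centralizer_singleton_ne_top hG ha1) inf_le_left hnc inf_le_right)
  refine ⟨hCA, ?_⟩
  have hS1 : S ≠ ⊥ := fun e => o.not_isCyclic (by rw [e]; infer_instance)
  have hNS : Subgroup.normalizer (S : Set G) ≤ L :=
    o.le_of_noncyclic h (normalizer_ne_top hG hS1 (pgroup_ne_top hG o.isPGroup)) le_rfl
      o.not_isCyclic Subgroup.le_normalizer
  have hRA := h.max_A o.prime o.ne o.mem
  have hST : S ∈ Cfsg.maxInvSubgroups ⊤ T {s} :=
    ⟨⟨le_top, o.mem.1.2.1, h.hTP.trans o.mem.1.2.2⟩,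
      fun R' hR' hle => hRA.2 R' (mem_invSubgroups_mono h.hAT hR') hle⟩
  rw [(h.good o.prime o.ne h.hAT h.hTP).2 S hST]
  exact sup_le (h.coreC_T_le.trans hCA) (inf_le_right.trans hNS)

theorem inf_le_centralizer (o : IsOwner P s S L) (h : Setup P A T) {L' : Subgroup G}
    (hL' : IsCoatom L') (hne : L' ≠ L) (hT : Subgroup.normalizer (T : Set G) ≤ L') :
    S ⊓ L' ≤ Subgroup.centralizer ((P : Subgroup G) : Set G) := by
  haveI := Fact.mk o.prime
  have hc : IsCyclic ↥(S ⊓ L') := by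
    by_contra hnc
    exact hne (UniqueRank.eq_of_le (o.unique _ inf_le_left hnc) hL' inf_le_right o.coatom
      (inf_le_left.trans o.le))
  have hX : Subgroup.normalizer (T : Set G) ⊓ Subgroup.normalizer (S : Set G) ≠ ⊤ :=
    fun e => h.normalizer_T_ne_top (top_le_iff.1 (e ▸ inf_le_left))
  exact Subgroup.le_centralizer_iff.1 (h.centralizes_narrow o.ne hX
    (h.derived o.prime o.ne o.mem) (o.isPGroup.to_le inf_le_left)
    (UniqueAux.isNarrow_of_isCyclic hc)
    (Coprime.le_normalizer_inf inf_le_right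
      ((inf_le_left.trans hT).trans Subgroup.le_normalizer)))

theorem normalizer_zpowers_le [Fact s.Prime] (o : IsOwner P s S L) (h : Setup P A T) {v : G}
    (hv : v ∈ S) (hord : orderOf v = s) :
    Subgroup.normalizer (Subgroup.zpowers v : Set G) ≤ L := by
  have hG := h.minSimple
  have hv1 : v ≠ 1 := by rintro rfl; rw [orderOf_one] at hord; exact o.prime.one_lt.ne hord
  set C := S ⊓ Subgroup.centralizer ({v} : Set G) with hC
  have hCnc : ¬ IsCyclic C := by
    intro hc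
    have hS1 : S ≠ ⊥ := fun e => o.not_isCyclic (by rw [e]; infer_instance)
    haveI : Nontrivial S := (Subgroup.nontrivial_iff_ne_bot S).2 hS1
    haveI := o.isPGroup.center_nontrivial
    obtain ⟨n, hn, hnc⟩ := (o.isPGroup.to_subgroup (Subgroup.center S)).nontrivial_iff_card.1
      inferInstance
    obtain ⟨z, hz⟩ := exists_prime_orderOf_dvd_card' (G := Subgroup.center S) s
      ((dvd_pow_self s hn.ne').trans hnc.symm.dvd)
    have hzC : ((z : S) : G) ∈ C := ⟨(z : S).2, Subgroup.mem_centralizer_singleton_iff.2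
      (congrArg Subtype.val ((Subgroup.mem_center_iff.1 z.2) ⟨v, hv⟩).symm)⟩
    have hvz : v ∈ Subgroup.zpowers ((z : S) : G) :=
      UniqueAux.mem_zpowers_of_dvd hc hzC ⟨hv, Subgroup.mem_centralizer_singleton_iff.2 rfl⟩
        (by rw [hord, Subgroup.orderOf_coe, Subgroup.orderOf_coe, hz])
    obtain ⟨i, hi⟩ := hvz
    refine o.not_isCyclic (UniqueAux.not_isCyclic_of_le (H := S) (K := C) ?_ o.not_isCyclic hc).elim
    intro x hx
    refine ⟨hx, Subgroup.mem_centralizer_singleton_iff.2 ?_⟩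
    rw [← hi]
    exact (Commute.zpow_right
      (congrArg Subtype.val (Subgroup.mem_center_iff.1 z.2 ⟨x, hx⟩) : Commute x ((z : S) : G)) i).eq
  refine o.le_of_noncyclic h (normalizer_ne_top hG ?_ ?_) inf_le_left hCnc fun x hx =>
    Subgroup.centralizer_le_normalizer _ ?_
  · rwa [Ne, Subgroup.zpowers_eq_bot]
  · exact pgroup_ne_top hG (o.isPGroup.to_le (Subgroup.zpowers_le.2 hv))
  · rw [Subgroup.mem_centralizer_iff]
    rintro _ ⟨i, rfl⟩
    exact ((Commute.zpow_right (Subgroup.mem_centralizer_singleton_iff.1 hx.2 :) i).eq).symm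

/-- An `A`-invariant `s`-subgroup of a subgroup outside `L` is cyclic. -/
theorem isCyclic_of_invariant [Fact s.Prime] (o : IsOwner P s S L) (h : Setup P A T)
    {X Y : Subgroup G} (hX : X ≠ ⊤) (hXL : ¬ X ≤ L) (hYX : Y ≤ X) (hY : IsPGroup s Y)
    (hAY : A ≤ Subgroup.normalizer (Y : Set G)) : IsCyclic Y := by
  by_contra hnc
  obtain ⟨Q, hQ, hYQ⟩ := exists_max_ge
    (mem_inv.2 ⟨le_top, hY, hAY⟩ : Y ∈ Cfsg.invSubgroups ⊤ A {s})
  obtain ⟨k, hk, rfl⟩ := Cfsg.Agent.S1393.result h.minSimple A h.trans h.rank_center s o.prime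
    (h.not_dvd o.prime o.ne) S (h.max_A o.prime o.ne o.mem) Q hQ
  set φ := (MulAut.conj k).toMonoidHom with hφ
  have hkL : k ∈ L := (o.normalizer_T_le h).1 (piCoreOf_le _ _ hk)
  set Y₀ := Y.comap φ with hY₀
  have hY₀map : Y₀.map φ = Y := Subgroup.map_comap_eq_self_of_surjective (MulAut.conj k).surjective Y
  have hY₀S : Y₀ ≤ S := by
    refine (Subgroup.comap_mono hYQ).trans ?_
    rw [Subgroup.comap_map_eq_self_of_injective (MulAut.conj k).injective]
  have hY₀nc : ¬ IsCyclic Y₀ := by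
    intro hc
    haveI := hc
    refine hnc ?_
    rw [← hY₀map]
    exact isCyclic_of_surjective _ (φ.subgroupMap_surjective Y₀)
  have hU : Cfsg.InUniqueMaximal Y := hY₀map ▸ UniqueRank.conj (o.unique Y₀ hY₀S hY₀nc) k
  obtain ⟨M', hM', hXM'⟩ := exists_coatom_ge h.minSimple hX
  refine hXL (hXM'.trans (UniqueRank.eq_of_le hU hM' (hYX.trans hXM') o.coatom ?_).le)
  refine hYQ.trans ?_
  rintro _ ⟨x, hx, rfl⟩
  exact mul_mem (mul_mem hkL (o.le hx)) (inv_mem hkL)

end IsOwner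

end Cfsg.Agent.Lib.OddOrder.UniqueScn
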