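import Cfsg.Agent.Lib.OddOrder.UniqueScn

/-!
# BG 9.5: conclusion
-/

set_option autoImplicit false
set_option linter.style.haveILetI false
set_option linter.unusedSectionVars false

open scoped Pointwise

namespace Cfsg.Agent.Lib.OddOrder.UniqueScnMain

open Cfsg.Agent.Lib.OddOrder.MinSimple Cfsg.Agent.Lib.OddOrder.Transitivity
  Cfsg.Agent.Lib.OddOrder.UniqueScn

universe u

variable {G : Type u} [Group G] [Finite G]

theorem relIndex_trans_not_dvd {q : ℕ} [hq : Fact q.Prime] {A B C : Subgroup G} (hAB : A ≤ B)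
    (hBC : B ≤ C) (h1 : ¬ q ∣ A.relIndex B) (h2 : ¬ q ∣ B.relIndex C) : ¬ q ∣ A.relIndex C := by
  rw [← Subgroup.relIndex_mul_relIndex A B C hAB hBC]
  exact fun h => (hq.out.dvd_mul.1 h).elim h1 h2

/-- In a `{s, q}`-group, `s < q`, with cyclic Sylow `s`-subgroup the Sylow `q`-subgroup is
normal. -/
theorem le_normalizer_of_two_primes {s q : ℕ} [hs : Fact s.Prime] [hq : Fact q.Prime]
    (hsq : s < q) {H Y Q : Subgroup G}
    (hH : ∀ r : ℕ, r.Prime → r ∣ Nat.card H → r ∈ ({s, q} : Set ℕ))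
    (hY : Cfsg.IsPiHallOf {s} Y H) (hYc : IsCyclic Y) (hQ : Cfsg.IsPiHallOf {q} Q H) :
    H ≤ Subgroup.normalizer (Q : Set G) := by
  obtain ⟨hQH, hQ1, hQ2⟩ := hQ
  by_cases hsH : s ∣ Nat.card H
  swap
  · -- `H` is a `q`-group
    have hidx : Q.relIndex H = 1 := by
      by_contra h1
      obtain ⟨r, hr, hrd⟩ := Nat.exists_prime_and_dvd h1
      have hrH : r ∣ Nat.card H := hrd.trans (Subgroup.relIndex_dvd_card Q H)
      rcases hH r hr hrH with e | e
      · exact hsH (e ▸ hrH)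
      · exact hQ2 r hr e hrd
    exact le_trans (Subgroup.relIndex_eq_one.1 hidx) Subgroup.le_normalizer
  have hmin : (Nat.card H).minFac = s := by
    refine le_antisymm (Nat.minFac_le_of_dvd hs.out.two_le hsH) ?_
    have h1 : Nat.card H ≠ 1 := fun e => hs.out.ne_one (Nat.dvd_one.1 (e ▸ hsH))
    rcases hH _ (Nat.minFac_prime h1) (Nat.minFac_dvd _) with e | e
    · exact e.ge
    · rw [Set.mem_singleton_iff] at e
      rw [e]
      exact hsq.le
  have hYs : IsPGroup s (Y.subgroupOf H) :=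
    (isPGroup_of_inv hY.2.1).of_equiv (Subgroup.subgroupOfEquivOfLe hY.1).symm
  let Ys : Sylow s H := hYs.toSylow (hY.2.2 s hs.out rfl)
  have hYsc : IsCyclic Ys := by
    show IsCyclic (Y.subgroupOf H)
    exact (Subgroup.subgroupOfEquivOfLe hY.1).isCyclic.2 hYc
  have hcompl := IsCyclic.isComplement' hmin hYsc
  set K := (MonoidHom.transferSylow Ys (hYsc.normalizer_le_centralizer hmin)).ker with hK
  have hKidx : K.index = Nat.card (Ys : Subgroup H) := hcompl.symm.index_eq_card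
  have hKcard : Nat.card K = (Y.relIndex H) := hcompl.index_eq_card.symm
  have hQK : Q.subgroupOf H ≤ K := by
    intro x hx
    have hxq : (orderOf x).Coprime s := by
      refine Nat.Coprime.coprime_dvd_left ?_
        (((Nat.coprime_primes hq.out hs.out).2 hsq.ne').pow_left
          (Nat.card Q).primeFactorsList.length)
      rw [← Nat.eq_prime_pow_of_unique_prime_dvd Nat.card_pos.ne' fun {_} hr hd => hQ1 _ hr hd,
        ← Subgroup.orderOf_coe]
      exact Subgroup.orderOf_dvd_natCard Q hx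
    rw [← QuotientGroup.eq_one_iff, ← orderOf_eq_one_iff]
    obtain ⟨n, hn⟩ := IsPGroup.iff_card.1 Ys.2
    refine Nat.eq_one_of_dvd_coprimes (hxq.pow_right n) (orderOf_map_dvd (QuotientGroup.mk' K) x) ?_
    rw [← hn, ← hKidx]
    exact orderOf_dvd_natCard _
  have heq : Q.subgroupOf H = K := by
    refine Subgroup.eq_of_le_of_card_ge hQK (Nat.le_of_dvd Nat.card_pos ?_)
    have hcop : (Nat.card K).Coprime ((Q.subgroupOf H).index) := by
      refine Nat.coprime_of_dvd fun r hr h1 h2 => ?_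
      rcases hH r hr (h1.trans K.card_subgroup_dvd_card) with e | e
      · subst e
        exact hY.2.2 r hr rfl (hKcard ▸ h1)
      · exact hQ2 r hr e h2
    exact hcop.dvd_of_dvd_mul_right
      ((Subgroup.card_mul_index (Q.subgroupOf H)).symm ▸ K.card_subgroup_dvd_card)
  refine (Subgroup.normal_subgroupOf_iff_le_normalizer hQH).1 ?_
  rw [heq, hK]
  infer_instance

variable {p : ℕ} [hp : Fact p.Prime] {P : Sylow p G} {A T : Subgroup G}

theorem centralizer_inf_le {s q : ℕ} [hs : Fact s.Prime] [hq : Fact q.Prime] (h : Setup P A T)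
    (hsq : s < q) {S R L L' : Subgroup G} (os : IsOwner P s S L) (oq : IsOwner P q R L')
    {x : G} (hxA : x ∈ A) (hx1 : x ≠ 1)
    (hxL : ¬ Subgroup.centralizer ({x} : Set G) ≤ L)
    (hxL' : ¬ Subgroup.centralizer ({x} : Set G) ≤ L')
    (hR : R ⊓ Subgroup.centralizer ({x} : Set G) ≠ ⊥) :
    S ⊓ Subgroup.centralizer ({x} : Set G) ≤ L' := by
  have hG := h.minSimple
  set X := Subgroup.centralizer ({x} : Set G) with hX
  have hXt : X ≠ ⊤ := centralizer_singleton_ne_top hG hx1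
  have hAX : A ≤ X := fun a ha => Subgroup.mem_centralizer_singleton_iff.2
    (congrArg Subtype.val (h.comm.is_comm.comm ⟨a, ha⟩ ⟨x, hxA⟩))
  set O := Cfsg.piCoreOf (piA' A) X with hO
  have hOX : O ≤ X := piCoreOf_le _ _
  have hAO : A ≤ Subgroup.normalizer (O : Set G) := hAX.trans (piCoreOf_normal _ _)
  have hcop : (Nat.card A).Coprime (Nat.card O) := coprime_of_pi' (piCoreOf_isPiGroup _ _)
  haveI := solvable_of_ne_top hG hXt
  have hOs : Group.IsSolvable O := Coprime.isSolvable_of_le hOX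
  have hAS : A ≤ Subgroup.normalizer ((S ⊓ X : Subgroup G) : Set G) :=
    Coprime.le_normalizer_inf (h.scn.1.trans os.mem.1.2.2) (hAX.trans Subgroup.le_normalizer)
  have hAR : A ≤ Subgroup.normalizer ((R ⊓ X : Subgroup G) : Set G) :=
    Coprime.le_normalizer_inf (h.scn.1.trans oq.mem.1.2.2) (hAX.trans Subgroup.le_normalizer)
  have hSO : S ⊓ X ≤ O := le_piCoreOf_of_inv h.trans (h.not_dvd os.prime os.ne) hXt hAX
    (os.isPGroup.to_le inf_le_left) hAS inf_le_right
  have hRO : R ⊓ X ≤ O := le_piCoreOf_of_inv h.trans (h.not_dvd oq.prime oq.ne) hXt hAX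
    (oq.isPGroup.to_le inf_le_left) hAR inf_le_right
  obtain ⟨H, hH, hAH, hSH⟩ := Hall.Coprime.exists_invariant_ge hAO hcop hOs ({s, q} : Set ℕ) hSO hAS
    (fun r hr hd => Or.inl (inv_of_isPGroup (os.isPGroup.to_le inf_le_left) r hr hd))
  have hcopH : (Nat.card A).Coprime (Nat.card H) :=
    hcop.coprime_dvd_right (Subgroup.card_dvd_of_le hH.1)
  have hHs : Group.IsSolvable H := Coprime.isSolvable_of_le (hH.1.trans hOX)
  obtain ⟨Y, hY, hAY⟩ := Hall.Coprime.exists_invariant hAH hcopH hHs ({s} : Set ℕ)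
  obtain ⟨Q, hQ, hAQ⟩ := Hall.Coprime.exists_invariant hAH hcopH hHs ({q} : Set ℕ)
  have hYc : IsCyclic Y := os.isCyclic_of_invariant h hXt hxL ((hY.1.trans hH.1).trans hOX)
    (isPGroup_of_inv hY.2.1) hAY
  have hQc : IsCyclic Q := oq.isCyclic_of_invariant h hXt hxL' ((hQ.1.trans hH.1).trans hOX)
    (isPGroup_of_inv hQ.2.1) hAQ
  have hHQ := le_normalizer_of_two_primes hsq hH.2.1 hY hYc hQ
  obtain ⟨H₁, hH₁, hAH₁, hRH₁⟩ := Hall.Coprime.exists_invariant_ge hAO hcop hOs ({q} : Set ℕ) hRO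
    hAR (inv_of_isPGroup (oq.isPGroup.to_le inf_le_left))
  have hQO : Cfsg.IsPiHallOf {q} Q O := ⟨hQ.1.trans hH.1, hQ.2.1, fun r hr he => by
    haveI := Fact.mk hr
    exact relIndex_trans_not_dvd hQ.1 hH.1 (hQ.2.2 r hr he) (hH.2.2 r hr (Or.inr he))⟩
  obtain ⟨c, hc, hcQ⟩ := Hall.Coprime.exists_conj_fixed hAO hcop hOs hH₁ hQO hAH₁ hAQ
  have hcL : c ∈ L' := (oq.normalizer_T_le h).1 hc.2
  haveI : Nontrivial ↥(R ⊓ X) := (Subgroup.nontrivial_iff_ne_bot _).2 hR
  obtain ⟨n, hn, hnc⟩ :=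
    (oq.isPGroup.to_le (inf_le_left : R ⊓ X ≤ R)).nontrivial_iff_card.1 inferInstance
  obtain ⟨v, hv⟩ := exists_prime_orderOf_dvd_card' (G := ↥(R ⊓ X)) q
    ((dvd_pow_self q hn.ne').trans hnc.symm.dvd)
  have hvo : orderOf (v : G) = q := by rw [Subgroup.orderOf_coe, hv]
  have hvQ : c * (v : G) * c⁻¹ ∈ Q := hcQ ▸ ⟨(v : G), hRH₁ v.2, rfl⟩
  refine le_trans hSH fun g hg => ?_
  have hgn := hHQ hg
  have hmem : c⁻¹ * g * c ∈ L' := by
    refine oq.normalizer_zpowers_le h v.2.1 hvo ?_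
    rw [← Subgroup.inv_mem_iff]
    refine Subgroup.mem_normalizer_fintype fun w hw => ?_
    obtain ⟨i, rfl⟩ := hw
    have hcon : (c⁻¹ * g * c)⁻¹ * (v : G) * ((c⁻¹ * g * c)⁻¹)⁻¹ ∈ Subgroup.zpowers (v : G) := by
      have hgi : g⁻¹ * (c * (v : G) * c⁻¹) * g⁻¹⁻¹ ∈ Q :=
        (Subgroup.mem_normalizer_iff.1 (inv_mem hgn) _).1 hvQ
      obtain ⟨j, hj⟩ := UniqueAux.mem_zpowers_of_dvd hQc hvQ hgi (by
        rw [← MulAut.conj_apply g⁻¹, MulEquiv.orderOf_eq])
      refine ⟨j, ?_⟩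
      show (v : G) ^ j = _
      have e : (c * (v : G) * c⁻¹) ^ j = c * (v : G) ^ j * c⁻¹ := conj_zpow
      calc (v : G) ^ j = c⁻¹ * ((c * (v : G) * c⁻¹) ^ j) * c := by rw [e]; group
        _ = c⁻¹ * (g⁻¹ * (c * (v : G) * c⁻¹) * g⁻¹⁻¹) * c := congrArg (fun t => c⁻¹ * t * c) hj
        _ = _ := by group
    rw [← conj_zpow]
    exact zpow_mem hcon i
  have h2 : g = c * (c⁻¹ * g * c) * c⁻¹ := by group
  rw [h2]
  exact mul_mem (mul_mem hcL hmem) (inv_mem hcL)

/-- Two owners with different maximal subgroups cannot coexist. -/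
theorem false_of_owners {s q : ℕ} (h : Setup P A T) (hsq : s < q) {S R L L' : Subgroup G}
    (os : IsOwner P s S L) (oq : IsOwner P q R L') (hne : L' ≠ L) : False := by
  haveI := Fact.mk os.prime
  haveI := Fact.mk oq.prime
  have hG := h.minSimple
  obtain ⟨E, hEA, hE, hEc⟩ := h.exists_E
  haveI := hE.1
  have hEp : IsPGroup p E := h.isPGroup.to_le hEA
  have hEr : ¬ Cfsg.RankLE 1 E := UniqueRank.not_rankLE_one le_rfl hE hEc.le
  have hEP : E ≤ P := hEA.trans h.scn.1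
  have hcE : ∀ {W : Subgroup G}, W ≤ Subgroup.centralizer ((P : Subgroup G) : Set G) →
      W ≤ Subgroup.centralizer (E : Set G) := fun hW => hW.trans (Subgroup.centralizer_le hEP)
  have hSL' := hcE (os.inf_le_centralizer h oq.coatom hne (oq.normalizer_T_le h).2)
  have hRL := hcE (oq.inf_le_centralizer h os.coatom hne.symm (os.normalizer_T_le h).2)
  have hAL : A ≤ L := (Subgroup.le_centralizer_iff_isMulCommutative.2 h.comm).trans
    (os.normalizer_T_le h).1
  refine h.not_le_centralizer (os.unique S le_rfl os.not_isCyclic) hEA hEr ?_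
  rw [Subgroup.le_centralizer_iff]
  calc S = _ := (Coprime.iSup_centralizer_cyclic_quotient_eq (hEP.trans os.mem.1.2.2)
        (IsPGroup.coprime_card_of_ne p s os.ne.symm _ _ hEp os.isPGroup)).symm
    _ ≤ _ := iSup₂_le fun B hB => ?_
  obtain ⟨hBE, a, ha, hBa⟩ := hB
  have hBc := Rank.card_le_of_sup_zpowers hE hBE ha hBa
  have hBe : Cfsg.IsElementaryAbelian p B := PGroups.elemAb_mono hE hBE
  have hBp : p < Nat.card B := by
    by_contra hle
    push Not at hle
    exact absurd hEc (not_lt.2 (hBc.trans ((Nat.mul_le_mul_right p hle).trans_eq (sq p).symm)))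
  have hBnc := Rank.elemAb_not_isCyclic hBe hBp
  have hbad : ¬ ∀ b ∈ B, b ≠ 1 → Subgroup.centralizer ({b} : Set G) ≤ L := fun hall =>
    h.notU (UniqueRank.mono hG (Cfsg.Agent.S1398.result hG L os.coatom p B
      ((hBE.trans hEA).trans hAL) hBe hBnc (Or.inl hall)) (hBE.trans hEA)
      (pgroup_ne_top hG h.isPGroup))
  push Not at hbad
  obtain ⟨f, hfB, hf1, hfL⟩ := hbad
  have hsub : ∀ {b : G}, b ∈ B →
      S ⊓ Subgroup.centralizer (B : Set G) ≤ S ⊓ Subgroup.centralizer ({b} : Set G) := fun hb =>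
    inf_le_inf_left _ (Subgroup.centralizer_le (Set.singleton_subset_iff.2 hb))
  refine le_trans (le_inf inf_le_left ?_) hSL'
  by_cases hex : ∃ b ∈ B, b ≠ 1 ∧ Subgroup.centralizer ({b} : Set G) ≤ L'
  · obtain ⟨b, hb, -, hbL⟩ := hex
    exact (hsub hb).trans (inf_le_right.trans hbL)
  push Not at hex
  haveI := hBe.1
  -- some element of `B` has fixed points on `R` outside `C(E)`
  obtain ⟨b, hb, hb1, hbR⟩ : ∃ b ∈ B, b ≠ 1 ∧
      ¬ R ⊓ Subgroup.centralizer ({b} : Set G) ≤ Subgroup.centralizer (E : Set G) := by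
    by_contra hall
    push Not at hall
    refine h.not_le_centralizer (oq.unique R le_rfl oq.not_isCyclic) hEA hEr ?_
    rw [Subgroup.le_centralizer_iff]
    calc R = _ := (Coprime.iSup_centralizer_eq hBnc
          ((hBE.trans hEP).trans oq.mem.1.2.2)
          (IsPGroup.coprime_card_of_ne p q oq.ne.symm _ _ (hEp.to_le hBE) oq.isPGroup)).symm
      _ ≤ _ := iSup₂_le fun b hb => hall b hb.1 hb.2
  have hbL : ¬ Subgroup.centralizer ({b} : Set G) ≤ L := fun hle =>
    hbR ((le_inf inf_le_left (inf_le_right.trans hle)).trans hRL)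
  have hbR1 : R ⊓ Subgroup.centralizer ({b} : Set G) ≠ ⊥ := fun e => hbR (e ▸ bot_le)
  exact (hsub hb).trans (centralizer_inf_le h hsq os oq (hEA (hBE hb)) hb1 hbL (hex b hb hb1) hbR1)

/-- BG 9.5. -/
theorem inUniqueMaximal (hG : Cfsg.IsMinSimpleOddOrder G) (P : Sylow p G)
    (hA : Cfsg.IsSCN (P : Subgroup G) A) (hA3 : ¬ Cfsg.PRankLE p 2 A) :
    Cfsg.InUniqueMaximal A := by
  by_contra hU
  have hA1 : A ≠ ⊥ := fun e => UniqueFittingRank.not_isCyclic_of_rank hA3 (by rw [e]; infer_instance)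
  obtain ⟨T, hAT, hTP, hPT, hfoc⟩ := UniqueFocal.exists_derived_normalizer hG P hA1 hA.1
    (Uniqueness.isMulCommutative_of_scn hA) hA.2.1
  have h : Setup P A T := ⟨hG, hA, hA3, hU, hAT, hTP, hPT, hfoc⟩
  obtain ⟨M, hM, hNM⟩ := exists_coatom_ge hG h.normalizer_T_ne_top
  obtain ⟨s₀, S₀, o₀⟩ := h.exists_owner hM hNM hfoc
  have heq : ∀ {s : ℕ} {S L : Subgroup G}, IsOwner P s S L → L = M := by
    intro s S L o
    by_contra hne
    rcases lt_trichotomy s s₀ with hlt | rfl | hgt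
    · exact false_of_owners h hlt o o₀ (Ne.symm hne)
    · haveI := Fact.mk o.prime
      have hgood := Cfsg.Agent.S1395.result hG A h.trans s o.prime (h.not_dvd o.prime o.ne)
        (P : Subgroup G) (pgroup_ne_top hG P.2) (h.primes_of_pgroup P.2) hA.1
        (((Subgroup.normal_subgroupOf_iff_le_normalizer hA.1).2 hA.2.1).isSubnormal)
        (Cfsg.Agent.S1393.result hG A h.trans h.rank_center s o.prime (h.not_dvd o.prime o.ne))
      obtain ⟨c, hc, rfl⟩ := hgood.2.1 S₀ o₀.mem S o.mem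
      have hcM : c ∈ M := (o₀.normalizer_T_le h).1
        ((piCoreOf_le _ _).trans (Subgroup.centralizer_le hA.1) hc)
      refine hne (UniqueRank.eq_of_le (o.unique _ le_rfl o.not_isCyclic) o.coatom o.le hM ?_)
      rintro _ ⟨x, hx, rfl⟩
      exact mul_mem (mul_mem hcM (o₀.le hx)) (inv_mem hcM)
    · exact false_of_owners h hgt o₀ o hne
  refine hU (InvariantPrime.inUniqueMaximal hG hM (hA.1.trans (hPT.trans hNM)) h.isPGroup hA1
    fun Y hY hAY => InvariantPrime.inv_le_of_sylow hG P hA hA3 ?_ hY hAY)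
  intro Y hY hPY
  haveI : Group.IsNilpotent (P : Subgroup G) := P.2.isNilpotent
  obtain ⟨n, hn⟩ := IsPGroup.iff_card.1 P.2
  refine Uniqueness.le_of_inv_sylows hPY (hn ▸ hY.symm.pow_left n) fun q hq hqY Q _ hQ hPQ => ?_
  have hqp : q ≠ p := fun e => hq.out.ne_one (Nat.eq_one_of_dvd_coprimes hY hqY (e ▸ dvd_rfl))
  obtain ⟨R, hR, hQR⟩ := exists_max_ge
    (mem_inv.2 ⟨le_top, hQ, hPQ⟩ : Q ∈ Cfsg.invSubgroups ⊤ (P : Subgroup G) {q})
  refine hQR.trans ?_
  by_cases hR1 : R = ⊥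
  · exact hR1 ▸ bot_le
  obtain ⟨L, hL, hNL⟩ := exists_coatom_ge hG
    (normalizer_ne_top hG hR1 (pgroup_ne_top hG (mem_inv.1 hR.1).2.1))
  obtain ⟨s, S, o⟩ := h.exists_owner hL (inf_le_right.trans hNL) (h.derived hq.out hqp hR)
  exact heq o ▸ Subgroup.le_normalizer.trans hNL

end Cfsg.Agent.Lib.OddOrder.UniqueScnMain
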