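import Cfsg.Agent.Lib.OddOrder.Uniqueness
import Cfsg.Agent.S1457
import Cfsg.Agent.S1481
import Cfsg.Agent.S1482

/-!
# BG 8.1: uniqueness subgroups in `F(M)`
-/

set_option autoImplicit false
set_option linter.style.haveILetI false

open scoped Pointwise commutatorElement

namespace Cfsg.Agent.Lib.OddOrder.UniquenessFitting

open Cfsg.Agent.Lib.OddOrder.Fitting Cfsg.Agent.Lib.OddOrder.MinSimple
  Cfsg.Agent.Lib.OddOrder.NormedConstrained Cfsg.Agent.Lib.OddOrder.Transitivity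
  Cfsg.Agent.Lib.OddOrder.Uniqueness

universe u

variable {G : Type u} [Group G] [Finite G] {p : ℕ} [hp : Fact p.Prime]

theorem not_rankLE_center {A A₀ : Subgroup G} {k : ℕ} (h0A : A₀ ≤ A)
    (hA : A ≤ Subgroup.centralizer (A₀ : Set G)) (he : Cfsg.IsElementaryAbelian p A₀)
    (hc : p ^ k < Nat.card A₀) :
    ¬ Cfsg.RankLE k ↥(A ⊓ Subgroup.centralizer (A : Set G)) := fun h =>
  Rank.not_prankLE_of_elemAb
    (le_inf h0A fun x hx => Subgroup.mem_centralizer_iff.2 fun a ha =>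
      (Subgroup.mem_centralizer_iff.1 (hA ha) x hx).symm)
    he hc (h p hp.out)

/-- Part (a). -/
theorem of_not_pgroup (hG : Cfsg.IsMinSimpleOddOrder G) {M A₀ : Subgroup G} (hM : IsCoatom M)
    (hA₀ : A₀ ≤ Cfsg.fittingOf M) (hA₀e : Cfsg.IsElementaryAbelian p A₀)
    (hA₀3 : p ^ 3 ≤ Nat.card A₀) (hF : ¬ IsPGroup p ↥(Cfsg.fittingOf M)) :
    Cfsg.InUniqueMaximal (Cfsg.fittingOf M ⊓ Subgroup.centralizer (A₀ : Set G)) := by
  haveI hMs := solvable_of_ne_top hG hM.1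
  set F := Cfsg.fittingOf M with hFdef
  set A := F ⊓ Subgroup.centralizer (A₀ : Set G) with hA
  set n := Nat.card F with hn
  have hc : p ^ 2 < Nat.card A₀ :=
    lt_of_lt_of_le (Nat.pow_lt_pow_right hp.out.one_lt (by norm_num)) hA₀3
  have hA₀c : A₀ ≤ Subgroup.centralizer (A₀ : Set G) := fun x hx =>
    Subgroup.mem_centralizer_iff.2 fun y hy =>
      congrArg Subtype.val (hA₀e.1.is_comm.comm ⟨y, hy⟩ ⟨x, hx⟩)
  have h0A : A₀ ≤ A := le_inf hA₀ hA₀c
  have hA0ne : A₀ ≠ ⊥ := fun h => by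
    rw [h, Subgroup.card_bot] at hc
    exact absurd hc (not_lt.2 (Nat.one_le_pow _ _ hp.out.pos))
  have hZA : F ⊓ Subgroup.centralizer (F : Set G) ≤ A :=
    inf_le_inf_left _ (Subgroup.centralizer_le hA₀)
  have hCA : F ⊓ Subgroup.centralizer (A : Set G) ≤ A :=
    inf_le_inf_left _ (Subgroup.centralizer_le h0A)
  have hZr := not_rankLE_center (k := 2) h0A (inf_le_right) hA₀e hc
  have hpd : p ∣ n := (Rank.elemAb_prime_dvd hA₀e
    (lt_of_le_of_lt (Nat.one_le_pow _ _ hp.out.pos) hc)).trans (Subgroup.card_dvd_of_le hA₀)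
  have hF2 : 2 ≤ n.primeFactors.card := by
    by_contra hlt
    refine hF (IsPGroup.of_card (n := n.primeFactorsList.length)
      (Nat.eq_prime_pow_of_unique_prime_dvd Nat.card_pos.ne' fun {r} hr hrd => ?_))
    exact Finset.card_le_one.1 (by rw [← hn]; omega) r (Nat.mem_primeFactors.2 ⟨hr, hrd, Nat.card_pos.ne'⟩) p
      (Nat.mem_primeFactors.2 ⟨hp.out, hpd, Nat.card_pos.ne'⟩)
  have hπ : ∀ r : ℕ, r.Prime → r ∣ n → r ∣ Nat.card A := by
    intro r hr hrd
    haveI := Fact.mk hr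
    haveI : Nontrivial (zPart r M) :=
      (Subgroup.nontrivial_iff_ne_bot _).2 (zPart_ne_bot hrd)
    obtain ⟨k, hk0, hk⟩ := (zPart_isPGroup r M).nontrivial_iff_card.1 inferInstance
    exact (hk ▸ dvd_pow_self r hk0.ne' : r ∣ Nat.card (zPart r M)).trans
      (Subgroup.card_dvd_of_le ((zPart_le_center M).trans hZA))
  have hπ' : Cfsg.primesNotDvd (Nat.card A) = Cfsg.primesNotDvd n := by
    ext r
    exact ⟨fun h => ⟨h.1, fun hd => h.2 (hπ r h.1 hd)⟩,
      fun h => ⟨h.1, fun hd => h.2 (hd.trans (Subgroup.card_dvd_of_le inf_le_left))⟩⟩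
  have hAM : A ≤ M := inf_le_left.trans (Cores.fittingOf_le M)
  haveI : Group.IsSolvable A := Coprime.isSolvable_of_le hAM
  have hloc : Cfsg.IsLocalSubgroup M :=
    ⟨p, zPart p M, hp.out, zPart_isPGroup p M, zPart_ne_bot hpd,
      (BenderMax.normalizer_zPart hG hM hpd).symm⟩
  have hmaxloc : ∀ L : Subgroup G, Cfsg.IsLocalSubgroup L → M ≤ L → L = M := by
    rintro L ⟨r, T, hr, hT, hT1, rfl⟩ hML
    haveI := Fact.mk hr
    by_contra hne
    exact normalizer_ne_top hG hT1 (pgroup_ne_top hG hT)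
      (hM.2 _ (lt_of_le_of_ne hML (Ne.symm hne)))
  have hTH : Cfsg.TransitivityHypothesis A := by
    refine ⟨ne_bot_of_le_ne_bot hA0ne h0A, fun h => hM.1 (top_le_iff.1 (h ▸ hAM)),
      fun X hX hAX => le_antisymm (sSup_le fun Y hY => ?_) ?_⟩
    · haveI := solvable_of_ne_top hG hX
      refine le_of_inv_sylows hY.2.2 (coprime_of_pi' hY.2.1) fun q hq hqd Q hQY hQq hQA => ?_
      obtain ⟨Q', hQ', hQQ'⟩ := exists_max_ge (H := X) (B := A) (π := {q})
        (mem_inv.2 ⟨hQY.trans hY.1, hQq, hQA⟩)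
      obtain ⟨_, ⟨_, h⟩, _⟩ := Cfsg.Agent.S1481.result M hloc hmaxloc hF2 A inf_le_left hCA X
        inferInstance (hAX.trans Subgroup.le_normalizer)
        ((le_inf (inf_centralizer_fittingOf_le M) inf_le_right).trans
          (hZA.trans (hAX.trans Subgroup.le_normalizer))) q
        (fun hd => (hY.2.1 q hq.out hqd).2 (hπ q hq.out hd))
      rw [hπ']
      exact hQQ'.trans (h Q' hQ').1
    · exact le_sSup ⟨piCoreOf_le _ X, piCoreOf_isPiGroup _ X, hAX.trans (piCoreOf_normal _ X)⟩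
  refine ⟨M, ⟨hM, hAM⟩, fun L hL => Cfsg.Agent.S1482.result hG M hM hF2 A inf_le_left hZA
    (fun Y hY => inv_eq_bot hG hM hTH hZr inf_le_left hπ (hπ' ▸ hY)) L hL.1 hL.2⟩

/-- Part (b). -/
theorem of_pgroup (hG : Cfsg.IsMinSimpleOddOrder G) {M : Subgroup G} (hM : IsCoatom M)
    (hF : IsPGroup p ↥(Cfsg.fittingOf M)) (P : Sylow p M) :
    ¬ p ∣ ((P : Subgroup M).map M.subtype).index ∧
      ∀ A : Subgroup G, Cfsg.IsSCN ((P : Subgroup M).map M.subtype) A → ¬ Cfsg.PRankLE p 2 ↥A →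
        A ≤ Cfsg.fittingOf M ∧ Cfsg.InUniqueMaximal A := by
  haveI hMs := solvable_of_ne_top hG hM.1
  set F := Cfsg.fittingOf M with hFdef
  set S := (P : Subgroup M).map M.subtype with hS
  have hpG : p ∣ Nat.card G := by
    haveI : Nontrivial F := (Subgroup.nontrivial_iff_ne_bot F).2 (fittingOf_ne_bot hG hM)
    obtain ⟨k, hk0, hk⟩ := hF.nontrivial_iff_card.1 inferInstance
    exact (hk ▸ dvd_pow_self p hk0.ne' : p ∣ Nat.card F).trans (Subgroup.card_subgroup_dvd_card F)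
  have hp2 : p ≠ 2 := ne_two_of_dvd hG hpG
  have hO : pO p M = ⊥ := pO_eq_bot_of_fitting hG hM hF
  have hFS : F ≤ S := by
    intro x hx
    have h := Cores.pCore_le_sylow P (G := M)
    obtain ⟨z, hz, rfl⟩ := le_pCoreOf_of_fitting le_rfl hF hx
    exact ⟨z, h hz, rfl⟩
  have hSne : S ≠ ⊥ := ne_bot_of_le_ne_bot (fittingOf_ne_bot hG hM) hFS
  have hidx : ¬ p ∣ S.index := not_dvd_index_of_normalizer_le P
    ((PuigControl.normalizer_le_normalizer_centerIn S).trans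
      (normalizer_centerIn_eq hG hp2 hM hO P hSne).le)
  refine ⟨hidx, fun A hA hA3 => ?_⟩
  haveI hAc : IsMulCommutative A := isMulCommutative_of_scn hA
  have hSM : S ≤ M := Subgroup.map_subtype_le _
  have hAM : A ≤ M := hA.1.trans hSM
  have hAp : IsPGroup p A := (P.isPGroup'.map _).to_le hA.1
  have hAK : A ≤ BenderLocal.pOp p M := by
    intro a ha
    have h := Cfsg.Agent.S1457.result (odd_card hG M) p P (A.subgroupOf M)
      (fun x hx => by
        obtain ⟨z, hz, e⟩ := hA.1 hx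
        rwa [← M.subtype_injective e])
      ⟨⟨fun x y => Subtype.ext (Subtype.ext
        (show ((x : M) : G) * (y : M) = (y : M) * (x : M) from
          congrArg Subtype.val (hAc.is_comm.comm ⟨((x : M) : G), x.2⟩ ⟨((y : M) : G), y.2⟩)))⟩⟩
      (fun x hx => NormedConstrained.le_normalizer_subgroupOf hA.2.1
        (show x ∈ S.subgroupOf M from ⟨x, hx, rfl⟩))
    exact ⟨⟨a, hAM ha⟩, h (show (⟨a, hAM ha⟩ : M) ∈ A.subgroupOf M from ha), rfl⟩
  have hKp : IsPGroup p (BenderLocal.pOp p M) := by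
    rw [isPGroup_iff_pow_pow_eq_one]
    rintro ⟨x, hx⟩
    obtain ⟨k, hk⟩ := BenderLocal.pow_mem_pO_of_mem_pOp hx
    rw [hO, Subgroup.mem_bot] at hk
    exact ⟨k, Subtype.ext hk⟩
  have hAF : A ≤ F := hAK.trans ((CharP.le_pCoreOf hKp (Subgroup.map_subtype_le _)
    (Subgroup.le_normalizer.trans (BenderLocal.normalizer_le_normalizer_pOp p M))).trans
      (pCoreOf_le_fittingOf p M))
  obtain ⟨E, hEA, hEe, hEc⟩ := Rank.exists_elemAb_of_not_prankLE hA3
  have hA1 : A ≠ ⊥ := by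
    intro h
    rw [le_bot_iff.1 (hEA.trans h.le), Subgroup.card_bot] at hEc
    exact absurd hEc (not_lt.2 (Nat.one_le_pow _ _ hp.out.pos))
  obtain ⟨P', hP'⟩ := (P.isPGroup'.map M.subtype).exists_le_sylow
  have hP'S : (P' : Subgroup G) = S := by
    have hs : IsPGroup p S := P.isPGroup'.map _
    exact (hs.toSylow hidx).is_maximal' P'.isPGroup' hP'
  have hTH : Cfsg.TransitivityHypothesis A :=
    of_scn hG hAc P' (hP'S ▸ hA) fun h => hA3 (Rank.prankLE_mono_right hp.out.pos (by norm_num) h)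
  have hpA : p ∣ Nat.card A := (Rank.elemAb_prime_dvd hEe
    (lt_of_le_of_lt (Nat.one_le_pow _ _ hp.out.pos) hEc)).trans (Subgroup.card_dvd_of_le hEA)
  have hπ : ∀ r : ℕ, r.Prime → r ∣ Nat.card F → r ∣ Nat.card A := by
    intro r hr hrd
    obtain ⟨k, hk⟩ := IsPGroup.iff_card.1 hF
    obtain rfl := (Nat.prime_dvd_prime_iff_eq hr hp.out).1 (hr.dvd_of_dvd_pow (hk ▸ hrd))
    exact hpA
  have hAcen : A ≤ Subgroup.centralizer (E : Set G) := fun a ha =>
    Subgroup.mem_centralizer_iff.2 fun e he =>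
      congrArg Subtype.val (hAc.is_comm.comm ⟨e, hEA he⟩ ⟨a, ha⟩)
  have hZr := not_rankLE_center (k := 2) hEA hAcen hEe hEc
  refine ⟨hAF, inUniqueMaximal_of_pO hG hp2 hM hAM hAp hA1 fun L hL hAL => ?_⟩
  refine inv_eq_bot hG hM hTH hZr hAF hπ ⟨le_top, fun r hr hrd => ⟨hr, fun hrA => ?_⟩,
    hAL.trans (Basic.le_normalizer_map_subtype L _)⟩
  obtain ⟨k, hk⟩ := IsPGroup.iff_card.1 hAp
  obtain rfl := (Nat.prime_dvd_prime_iff_eq hr hp.out).1 (hr.dvd_of_dvd_pow (hk ▸ hrA))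
  exact (hr.coprime_iff_not_dvd.1 (pO_coprime L).symm) hrd

end Cfsg.Agent.Lib.OddOrder.UniquenessFitting
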